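/- The normaliser of a subgroup of order three with a normal subgroup `A₅`. -/
import Cfsg.Agent.H86.AltAut
import Cfsg.Agent.H42.L3Kit

set_option autoImplicit false

namespace H25.McX
open Subgroup Equiv H56.L3 H42.L3

abbrev S3 := Perm (Fin 3)
abbrev S5 := Perm (Fin 5)
abbrev A5 := alternatingGroup (Fin 5)
abbrev Z3 := Multiplicative (ZMod 3)

theorem mem_zp3 {X : Type*} [Group X] {z x : X} (hz : orderOf z = 3) (hx : x ∈ zpowers z) :
    x = 1 ∨ x = z ∨ x = z * z := by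
  classical
  rw [(isOfFinOrder_iff_pow_eq_one.2 ⟨3, by norm_num, hz ▸ pow_orderOf_eq_one z⟩).mem_zpowers_iff_mem_range_orderOf,
    hz, Finset.mem_image] at hx
  obtain ⟨i, hi, rfl⟩ := hx
  rw [Finset.mem_range] at hi
  interval_cases i <;> simp [pow_two]

theorem exists_theta {N : Type*} [Group N] (A : Subgroup N) [A.Normal] (e : A ≃* A5) :
    ∃ θ : N →* S5, (∀ a : A, θ a = e a) ∧ ∀ g, θ g = 1 ↔ g ∈ cn A := by
  let Φ : S5 ≃* MulAut A5 := MulEquiv.ofBijective MulAut.conjNormal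
    ⟨H86.conjNormal_injective (by simp), fun φ =>
      H86.exists_conjNormal_eq (by simp) φ (H86.isThreeCycle_aut (by simp) φ)⟩
  refine ⟨Φ.symm.toMonoidHom.comp ((MulAut.congr e).toMonoidHom.comp MulAut.conjNormal),
    fun a => ?_, fun g => ?_⟩
  · refine Φ.symm_apply_eq.2 (MulEquiv.ext fun x => Subtype.ext ?_)
    obtain ⟨x, rfl⟩ := e.surjective x
    show (e (MulAut.conjNormal (a : N) (e.symm (e x))) : S5) = e a * e x * (e a : S5)⁻¹
    rw [e.symm_apply_apply, show MulAut.conjNormal (a : N) x = a * x * a⁻¹ from rfl, map_mul,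
      map_mul, map_inv]
    rfl
  · show Φ.symm (MulAut.congr e (MulAut.conjNormal g)) = 1 ↔ _
    rw [map_eq_one_iff _ Φ.symm.injective, map_eq_one_iff _ (MulAut.congr e).injective]
    refine ⟨fun h a ha => ?_, fun h => MulEquiv.ext fun a => Subtype.ext ?_⟩
    · have := congrArg (fun φ : MulAut A => ((φ ⟨a, ha⟩ : A) : N)) h
      exact (mul_inv_eq_iff_eq_mul.1 this).symm
    · exact mul_inv_eq_iff_eq_mul.2 (h a a.2).symm

theorem s3_fact : ∀ c σ : S3, c * c * c = 1 → c ≠ 1 →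
    (σ * c = c * σ ↔ Perm.sign σ = 1) ∧ (Perm.sign σ = 1 → σ = 1 ∨ σ = c ∨ σ = c * c) := by
  decide +kernel

theorem exists_Theta {N : Type*} [Group N] [Finite N] {z : N} (hz : orderOf z = 3)
    [hn : (zpowers z).Normal] (A : Subgroup N) [A.Normal] (e : A ≃* A5) (hA : A ≤ Ce z)
    (hc : ∀ g ∈ Ce z, g ∈ cn A → g ∈ zpowers z) :
    ∃ Θ : N →* S3 × S5, Function.Injective Θ ∧ (∀ g, g ∈ Ce z ↔ Perm.sign (Θ g).1 = 1) ∧
      (∀ y : S3 × S5, Perm.sign y.1 = 1 → Perm.sign y.2 = 1 → ∃ g, Θ g = y) ∧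
      ∀ g, Perm.sign (Θ g).2 = 1 → ∃ a ∈ A, a⁻¹ * g ∈ cn A := by
  obtain ⟨θ, h1, h2⟩ := exists_theta A e
  have hz3 : z * z * z = 1 := by rw [← pow_three', ← hz, pow_orderOf_eq_one]
  have hz1 : z ≠ 1 := fun h => by rw [h, orderOf_one] at hz; omega
  have ev : ∀ g, Perm.sign (θ g) = 1 → ∃ a ∈ A, a⁻¹ * g ∈ cn A := fun g hg => by
    obtain ⟨a, ha⟩ := e.surjective ⟨θ g, hg⟩
    exact ⟨a, a.2, (h2 _).1 (by rw [map_mul, map_inv, h1, ha, inv_mul_cancel])⟩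
  have hzA : zpowers z ≤ cn A := zpowers_le_of_mem fun a ha => mem_Ce.1 (hA ha)
  have hZA : ∀ x ∈ zpowers z, x ∈ A → x = 1 := fun x hx hx' => by
    have := (h2 x).2 (hzA hx)
    rw [h1 ⟨x, hx'⟩, OneMemClass.coe_eq_one, map_eq_one_iff _ e.injective] at this
    exact congrArg Subtype.val this
  let π := QuotientGroup.mk' A
  have hπ : Function.Surjective π := QuotientGroup.mk'_surjective A
  haveI : ((zpowers z).map π).Normal := hn.map π hπ
  have hZ : Nat.card ((zpowers z).map π) = 3 := by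
    rw [MonoidHom.map_zpowers, Nat.card_zpowers]
    exact orderOf_eq_prime (by rw [← map_pow, pow_three', hz3, map_one])
      fun h => hz1 (hZA z (mem_zpowers z) ((QuotientGroup.eq_one_iff z).1 h))
  have hsq : ∀ g : N, g * g ∈ Ce z := fun g => by
    rw [mem_Ce']
    rcases mem_zp3 hz (hn.conj_mem z (mem_zpowers z) g) with h | h | h
    · exact absurd (conj_eq_one_iff.1 h) hz1
    · rw [show g * g * z * (g * g)⁻¹ = g * (g * z * g⁻¹) * g⁻¹ by group, h, h]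
    · rw [show g * g * z * (g * g)⁻¹ = g * (g * z * g⁻¹) * g⁻¹ by group, h, ← conj_mul, h,
        ← mul_assoc, hz3, one_mul]
  have h2g : IsPGroup 2 ((N ⧸ A) ⧸ (zpowers z).map π) := fun x => by
    obtain ⟨x, rfl⟩ := QuotientGroup.mk'_surjective _ x
    obtain ⟨g, rfl⟩ := hπ x
    refine ⟨1, ?_⟩
    rw [pow_one, ← map_pow, ← map_pow, pow_two]
    obtain ⟨a, ha, h3⟩ := ev (g * g) (by rw [map_mul, map_mul, Int.units_mul_self])
    refine (QuotientGroup.eq_one_iff _).2 ⟨_, hc _ (mul_mem (inv_mem (hA ha)) (hsq g)) h3, ?_⟩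
    rw [map_mul, map_inv, show π a = 1 from (QuotientGroup.eq_one_iff a).2 ha, inv_one, one_mul]
  obtain ⟨k, hk⟩ := IsPGroup.iff_card.1 h2g
  obtain ⟨H, hH⟩ := exists_right_complement'_of_coprime (N := (zpowers z).map π) (by
    rw [hZ, index_eq_card, hk]; exact Nat.Coprime.pow_right k (by norm_num))
  have hi : Nat.card ((N ⧸ A) ⧸ H) = 3 := by rw [← index_eq_card, hH.index_eq_card, hZ]
  let κ : N →* S3 := ((Finite.equivFinOfCardEq hi).permCongrHom.toMonoidHom.comp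
    (MulAction.toPermHom (N ⧸ A) ((N ⧸ A) ⧸ H))).comp π
  have hκ : ∀ g, κ g = 1 ↔ π g ∈ H.normalCore := fun g => by
    rw [normalCore_eq_ker, MonoidHom.mem_ker]
    exact map_eq_one_iff _ (Finite.equivFinOfCardEq hi).permCongrHom.injective
  have hk1 : ∀ x ∈ zpowers z, κ x = 1 → x = 1 := fun x hx h => hZA x hx
    ((QuotientGroup.eq_one_iff x).1 (hH.disjoint.le_bot
      ⟨⟨x, hx, rfl⟩, H.normalCore_le ((hκ x).1 h)⟩))
  have hkA : ∀ a ∈ A, κ a = 1 := fun a ha => (hκ a).2 (by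
    rw [show π a = 1 from (QuotientGroup.eq_one_iff a).2 ha]; exact one_mem _)
  have hcz : ∀ g, κ g * κ z = κ z * κ g → g ∈ Ce z := fun g h => by
    rw [mem_Ce', ← mul_inv_eq_one]
    refine hk1 _ (mul_mem (hn.conj_mem z (mem_zpowers z) g) (inv_mem (mem_zpowers z))) ?_
    rw [map_mul, map_mul, map_mul, h, map_inv, map_inv]
    group
  have hs := fun σ => s3_fact (κ z) σ (by rw [← map_mul, ← map_mul, hz3, map_one])
    fun h => hz1 (hk1 z (mem_zpowers z) h)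
  refine ⟨κ.prod θ, (injective_iff_map_eq_one _).2 fun g hg => ?_, fun g => ⟨fun h => ?_, fun h => ?_⟩,
    fun y hy1 hy2 => ?_, ev⟩
  · have h3 : κ g = 1 := congrArg Prod.fst hg
    exact hk1 g (hc g (hcz g (by rw [h3, one_mul, mul_one])) ((h2 g).1 (congrArg Prod.snd hg))) h3
  · exact (hs _).1.1 (by
      show κ g * κ z = κ z * κ g
      rw [← map_mul, ← map_mul, mem_Ce.1 h])
  · exact hcz g ((hs _).1.2 h)
  · obtain ⟨a, ha⟩ := e.surjective ⟨y.2, hy2⟩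
    obtain ⟨x, hx, h3⟩ : ∃ x ∈ zpowers z, κ x = y.1 := by
      rcases (hs _).2 hy1 with h | h | h
      exacts [⟨1, one_mem _, by rw [h, map_one]⟩, ⟨z, mem_zpowers z, h.symm⟩,
        ⟨z * z, mul_mem (mem_zpowers z) (mem_zpowers z), by rw [h, map_mul]⟩]
    refine ⟨x * a, Prod.ext ?_ ?_⟩
    · show κ _ = _
      rw [map_mul, h3, hkA a a.2, mul_one]
    · show θ _ = _
      rw [map_mul, (h2 x).2 (hzA hx), h1, ha, one_mul]

theorem equiv_of {N W Y : Type*} [Group N] [Group W] [Group Y] {Θ : N →* Y}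
    (hΘ : Function.Injective Θ) {Φ : W →* Y} (hΦ : Function.Injective Φ) (K : Subgroup N)
    (h : K.map Θ = Φ.range) : Nonempty (K ≃* W) :=
  ⟨(K.equivMapOfInjective Θ hΘ).trans ((MulEquiv.subgroupCongr h).trans
    (MonoidHom.ofInjective hΦ).symm)⟩

/-- the regular representation of `ℤ/3` -/
def i3 : Z3 →* S3 := MulAction.toPermHom Z3 Z3

theorem i3_inj : Function.Injective i3 := MulAction.toPerm_injective

theorem i3_range : ∀ σ : S3, Perm.sign σ = 1 ↔ ∃ i, i3 i = σ := by decide +kernel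

variable {X : Type*} [Group X] [Finite X] {z u : X} {A : Subgroup X}

theorem ce_le_nz : Ce z ≤ Nz z := fun _ hg => mem_Nz.2 (by rw [mem_Ce'.1 hg]; exact mem_zpowers z)

theorem theta_X (hz : orderOf z = 3) (e : A ≃* A5) (hA : A ≤ Ce z) (hN : Nz z ≤ nr A)
    (hc : ∀ g ∈ Ce z, g ∈ cn A → g ∈ zpowers z) :
    ∃ Θ : Nz z →* S3 × S5, Function.Injective Θ ∧
      (∀ g : Nz z, (g : X) ∈ Ce z ↔ Perm.sign (Θ g).1 = 1) ∧
      (∀ (y : S3 × S5) (g : Nz z), Perm.sign y.1 = Perm.sign (Θ g).1 →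
        Perm.sign y.2 = Perm.sign (Θ g).2 → ∃ g, Θ g = y) ∧
      ∀ g : Nz z, Perm.sign (Θ g).2 = 1 → ∃ a ∈ A, a⁻¹ * g ∈ cn A := by
  have hCN : Ce z ≤ Nz z := ce_le_nz
  let z' : Nz z := ⟨z, le_normalizer (mem_zpowers z)⟩
  have hzp : ∀ x : Nz z, x ∈ zpowers z' ↔ (x : X) ∈ zpowers z := fun x =>
    ⟨fun ⟨k, e⟩ => ⟨k, congrArg Subtype.val e⟩, fun ⟨k, e⟩ => ⟨k, Subtype.ext e⟩⟩
  have hce : ∀ x : Nz z, x ∈ Ce z' ↔ (x : X) ∈ Ce z := fun x => by
    rw [mem_Ce, mem_Ce, Subtype.ext_iff]; rfl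
  have hcn : ∀ x : Nz z, x ∈ cn (A.subgroupOf (Nz z)) → (x : X) ∈ cn A := fun x hx a ha =>
    congrArg Subtype.val (hx ⟨a, hCN (hA ha)⟩ ha)
  haveI : (zpowers z').Normal := ⟨fun x hx g => (hzp _).2
    ((mem_normalizer_iff.1 g.2 _).1 ((hzp x).1 hx))⟩
  haveI : (A.subgroupOf (Nz z)).Normal := ⟨fun x hx g => (mem_normalizer_iff.1 (hN g.2) _).1 hx⟩
  obtain ⟨Θ, h1, h2, h3, h4⟩ := exists_Theta (z := z') (by rw [orderOf_mk, hz]) (A.subgroupOf (Nz z))
    ((subgroupOfEquivOfLe (hA.trans hCN)).trans e) (fun a ha => (hce a).2 (hA ha))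
    fun g hg hg' => (hzp g).2 (hc g ((hce g).1 hg) (hcn g hg'))
  refine ⟨Θ, h1, fun g => (hce g).symm.trans (h2 g), fun y g e1 e2 => ?_, fun g hg => ?_⟩
  · obtain ⟨k, hk⟩ := h3 (y * (Θ g)⁻¹) (by simp [e1]) (by simp [e2])
    exact ⟨k * g, by rw [map_mul, hk, inv_mul_cancel_right]⟩
  · obtain ⟨a, ha, h5⟩ := h4 g hg
    exact ⟨a, ha, hcn _ h5⟩

theorem z_one (hz : orderOf z = 3) (e : A ≃* A5) (hA : A ≤ Ce z) (hN : Nz z ≤ nr A)
    (hc : ∀ g ∈ Nz z, g ∈ cn A → g ∈ zpowers z) (hu : u ∈ Nz z) (hu' : u ∉ Ce z) :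
    Nonempty (Ce z ≃* Z3 × A5) ∧ Nonempty (Nz z ≃* ((Perm.sign.comp (MonoidHom.fst S3 S5)) *
      (Perm.sign.comp (MonoidHom.snd S3 S5))).ker) := by
  have hCN : Ce z ≤ Nz z := ce_le_nz
  obtain ⟨Θ, h1, h2, h3, h4⟩ := theta_X hz e hA hN fun g hg => hc g (hCN hg)
  have k1 : ∀ g, Perm.sign (Θ g).2 = 1 → Perm.sign (Θ g).1 = 1 := fun g hg => by
    obtain ⟨a, ha, h5⟩ := h4 g hg
    have h6 := hc _ (mul_mem (inv_mem (hCN (hA ha))) g.2) h5
    exact (h2 g).1 ((mul_mem_cancel_left (inv_mem (hA ha))).1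
      (zpowers_le_of_mem (H := Ce z) (mem_Ce.2 rfl) h6))
  have ku : Perm.sign (Θ ⟨u, hu⟩).1 = -1 :=
    (Int.units_eq_one_or _).resolve_left fun h => hu' ((h2 ⟨u, hu⟩).2 h)
  have ku2 : Perm.sign (Θ ⟨u, hu⟩).2 = -1 :=
    (Int.units_eq_one_or _).resolve_left fun h => by rw [k1 _ h] at ku; exact absurd ku (by decide)
  have k2 : ∀ g, Perm.sign (Θ g).1 = Perm.sign (Θ g).2 := fun g => by
    rcases Int.units_eq_one_or (Perm.sign (Θ g).2) with h | h
    · rw [h, k1 g h]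
    · have := k1 (g * ⟨u, hu⟩) (by simp [h, ku2])
      rw [map_mul, Prod.fst_mul, map_mul, ku] at this
      rw [h, ← neg_eq_iff_eq_neg, ← this, mul_neg_one]
  constructor
  · obtain ⟨f⟩ := equiv_of h1 (Φ := i3.prodMap (alternatingGroup (Fin 5)).subtype)
      (i3_inj.prodMap (subtype_injective _)) ((Ce z).subgroupOf (Nz z)) (by
        ext y
        constructor
        · rintro ⟨g, hg, rfl⟩
          obtain ⟨i, hi⟩ := (i3_range _).1 ((h2 g).1 hg)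
          exact ⟨(i, ⟨(Θ g).2, (k2 g).symm.trans ((h2 g).1 hg)⟩), Prod.ext hi rfl⟩
        · rintro ⟨⟨i, a⟩, rfl⟩
          have e1 := (i3_range _).2 ⟨i, rfl⟩
          obtain ⟨g, hg⟩ := h3 (i3 i, a) 1 (by simpa using e1)
            ((Perm.mem_alternatingGroup.1 a.2).trans (by simp))
          exact ⟨g, (h2 g).2 (by rw [hg]; exact e1), hg⟩)
    exact ⟨(subgroupOfEquivOfLe hCN).symm.trans f⟩
  · refine ⟨(MonoidHom.ofInjective h1).trans (MulEquiv.subgroupCongr ?_)⟩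
    ext y
    rw [MonoidHom.mem_ker]
    show _ ↔ Perm.sign y.1 * Perm.sign y.2 = 1
    constructor
    · rintro ⟨g, rfl⟩
      rw [k2, Int.units_mul_self]
    · intro h
      rcases Int.units_eq_one_or (Perm.sign y.2) with h5 | h5 <;> rw [h5] at h
      · exact h3 y 1 (by simpa using h) (by simpa using h5)
      · exact h3 y _ (by rw [ku, ← neg_eq_iff_eq_neg, ← h, mul_neg_one]) (h5.trans ku2.symm)

theorem z_two {c : X} (hz : orderOf z = 3) (e : A ≃* A5) (hA : A ≤ Ce z) (hN : Nz z ≤ nr A)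
    (hc : ∀ g ∈ Ce z, g ∈ cn A → g ∈ zpowers z) (hu : u ∈ Nz z) (hu' : u ∉ Ce z)
    (h0 : c ∈ Ce z) (h0' : ∀ a ∈ A, a⁻¹ * c ∉ zpowers z) :
    Nonempty (Ce z ≃* Z3 × S5) ∧ Nonempty (Nz z ≃* S3 × S5) := by
  have hCN : Ce z ≤ Nz z := ce_le_nz
  obtain ⟨Θ, h1, h2, h3, h4⟩ := theta_X hz e hA hN hc
  have ku : Perm.sign (Θ ⟨u, hu⟩).1 = -1 :=
    (Int.units_eq_one_or _).resolve_left fun h => hu' ((h2 ⟨u, hu⟩).2 h)
  have kc : Perm.sign (Θ ⟨c, hCN h0⟩).1 = 1 := (h2 _).1 h0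
  have kc2 : Perm.sign (Θ ⟨c, hCN h0⟩).2 = -1 := (Int.units_eq_one_or _).resolve_left fun h => by
    obtain ⟨a, ha, h5⟩ := h4 _ h
    exact h0' a ha (hc _ (mul_mem (inv_mem (hA ha)) h0) h5)
  have hs : Function.Surjective Θ := fun y => by
    have k : ∀ g, Perm.sign y.1 = Perm.sign (Θ g).1 → ∃ g, Θ g = y := fun g hg => by
      by_cases h : Perm.sign y.2 = Perm.sign (Θ g).2
      · exact h3 y g hg h
      · exact h3 y (g * ⟨c, hCN h0⟩) (by simp [kc, hg]) (by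
          rw [map_mul, Prod.snd_mul, map_mul, kc2, mul_neg_one]
          exact Int.units_ne_iff_eq_neg.1 h)
    rcases Int.units_eq_one_or (Perm.sign y.1) with h | h
    exacts [k 1 (by simpa using h), k _ (h.trans ku.symm)]
  refine ⟨?_, ⟨MulEquiv.ofBijective Θ ⟨h1, hs⟩⟩⟩
  obtain ⟨f⟩ := equiv_of h1 (Φ := i3.prodMap (MonoidHom.id S5))
    (i3_inj.prodMap Function.injective_id) ((Ce z).subgroupOf (Nz z)) (by
      ext y
      constructor
      · rintro ⟨g, hg, rfl⟩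
        obtain ⟨i, hi⟩ := (i3_range _).1 ((h2 g).1 hg)
        exact ⟨(i, (Θ g).2), Prod.ext hi rfl⟩
      · rintro ⟨⟨i, a⟩, rfl⟩
        obtain ⟨g, hg⟩ := hs (i3 i, a)
        exact ⟨g, (h2 g).2 (by rw [hg]; exact (i3_range _).2 ⟨i, rfl⟩), hg⟩)
  exact ⟨(subgroupOfEquivOfLe hCN).symm.trans f⟩

end H25.McX
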