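/- The normaliser of an elementary abelian group of order nine acted on by `D₈`. -/
import Cfsg.Agent.H25.McXA
import Cfsg.Agent.H47.McLSp

set_option autoImplicit false

namespace H25.McX
open Subgroup Equiv H56.L3 H42.L3 H98

abbrev D8g := DihedralGroup 4
abbrev Gam := D8g × Multiplicative (ZMod 2)
abbrev W2 := ZMod 3 × ZMod 3

/-- rotation of order four -/
def rot (x : W2) : W2 := (x.2, -x.1)

/-- the monomial action of `D₈` -/
def act : D8g → W2 → W2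
  | .r i, x => rot^[i.val] x
  | .sr i, x => ((rot^[i.val] x).1, -(rot^[i.val] x).2)

/-- `N(D)/D` is the subgroup of `D₈ × C₂` described by `q` -/
structure XD {X : Type*} [Group X] (w : W2 → X) (D : Subgroup X) (ψ : nr D →* Gam)
    (q : Gam → Prop) : Prop where
  add : ∀ x y, w (x + y) = w x * w y
  inj : Function.Injective w
  mem : ∀ g, g ∈ D ↔ ∃ x, w x = g
  ker : ∀ n, ψ n = 1 → (n : X) ∈ D
  conj : ∀ (n : nr D) x, n * w x * (n : X)⁻¹ = w (act (ψ n).1 x)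
  ny : Nz (w (1, 0)) ≤ nr D
  cd : cn D ≤ nr D
  rg : ∀ γ, q γ ↔ ∃ n, ψ n = γ

namespace XD

variable {X : Type*} [Group X] [Finite X] {w : W2 → X} {D : Subgroup X} {ψ : nr D →* Gam}
  {q : Gam → Prop} (h : XD w D ψ q)
include h

/-- the coordinates as a homomorphism -/
def wh : Multiplicative W2 →* X := MonoidHom.mk' (fun x => w x.toAdd) fun _ _ => h.add _ _

omit [Finite X] in
theorem D_eq : D = h.wh.range := Subgroup.ext fun g => h.mem g

omit [Finite X] in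
theorem card_D : Nat.card D = 9 := by
  rw [h.D_eq, ← Nat.card_congr (MonoidHom.ofInjective (f := h.wh) h.inj).toEquiv]
  simp

omit [Finite X] in
theorem w_mem (x : W2) : w x ∈ D := (h.mem _).2 ⟨x, rfl⟩

omit [Finite X] in
theorem w_nsmul (n : ℕ) (x : W2) : w (n • x) = w x ^ n := h.wh.map_pow (.ofAdd x) n

omit [Finite X] in
theorem w_zero : w 0 = 1 := h.wh.map_one

omit [Finite X] in
theorem comm : IsMulCommutative D := ⟨⟨fun a b => Subtype.ext (by
  obtain ⟨x, hx⟩ := (h.mem _).1 a.2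
  obtain ⟨y, hy⟩ := (h.mem _).1 b.2
  show (a : X) * b = b * a
  rw [← hx, ← hy, ← h.add, ← h.add, add_comm])⟩⟩

omit [Finite X] in
theorem cube : ∀ a ∈ D, a ^ 3 = 1 := fun a ha => by
  obtain ⟨x, rfl⟩ := (h.mem _).1 ha
  rw [← h.w_nsmul, show 3 • x = 0 by clear ha; revert x; decide, h.w_zero]

omit [Finite X] in
theorem ord {x : W2} (hx : x ≠ 0) : orderOf (w x) = 3 :=
  orderOf_eq_prime (h.cube _ (h.w_mem x)) fun e => hx (h.inj (e.trans h.w_zero.symm))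

omit [Finite X] in
theorem mem_zp {x y : W2} (hx : x ≠ 0) : w y ∈ zpowers (w x) ↔ y = 0 ∨ y = x ∨ y = x + x := by
  refine ⟨fun hy => ?_, ?_⟩
  · rw [← h.inj.eq_iff, ← h.inj.eq_iff, ← h.inj.eq_iff, h.w_zero, h.add]
    exact mem_zp3 (h.ord hx) hy
  · rintro (rfl | rfl | rfl)
    exacts [h.w_zero ▸ one_mem _, mem_zpowers _, h.add x x ▸ mul_mem (mem_zpowers _) (mem_zpowers _)]

omit [Finite X] in
theorem closure_eq : closure {w (1, 0), w (1, 1)} = D := by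
  refine le_antisymm ((closure_le _).2 ?_) fun g hg => ?_
  · rintro _ (rfl | rfl) <;> exact h.w_mem _
  · obtain ⟨x, rfl⟩ := (h.mem _).1 hg
    obtain ⟨a, b, rfl⟩ : ∃ a b : Fin 3, x = a.val • ((1, 0) : W2) + b.val • (1, 1) := by
      clear hg; revert x; decide
    rw [h.add, h.w_nsmul, h.w_nsmul]
    exact mul_mem (pow_mem (subset_closure (by simp)) _) (pow_mem (subset_closure (by simp)) _)

omit [Finite X] in
theorem ker' (n : nr D) : ψ n = 1 ↔ (n : X) ∈ D := by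
  refine ⟨h.ker n, fun hn => ?_⟩
  have h1 : ψ n ^ 3 = 1 := by
    rw [← map_pow, show n ^ 3 = 1 from Subtype.ext (h.cube _ hn), map_one]
  generalize ψ n = γ at h1
  revert γ; decide

theorem sylow : ∃ P : Sylow 3 X, D = P := by
  have h3 : IsPGroup 3 D := IsPGroup.of_card (n := 2) h.card_D
  obtain ⟨P, hP⟩ := isSyl_top_iff.1 (show IsSyl 3 D ⊤ from ⟨le_top, h3, fun Q hQ h1 _ => by
    by_contra h2
    obtain ⟨x, hx, hx'⟩ := SetLike.exists_of_lt (lt_inf_normalizer hQ (lt_of_le_of_ne h1 (Ne.symm h2)))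
    obtain ⟨k, hk⟩ := isPGroup_iff_forall.1 hQ x hx.1
    refine hx' (h.ker ⟨x, hx.2⟩ (orderOf_eq_one_iff.1 (Nat.eq_one_of_dvd_coprimes
      (Nat.Coprime.pow_left k (show Nat.Coprime 3 4 by norm_num))
      (orderOf_dvd_of_pow_eq_one ?_) (orderOf_dvd_of_pow_eq_one ?_))))
    · rw [← map_pow, show (⟨x, hx.2⟩ : nr D) ^ 3 ^ k = 1 from Subtype.ext hk, map_one]
    · generalize ψ _ = γ
      revert γ; decide⟩)
  exact ⟨P, hP.symm⟩

omit [Finite X] in
theorem card_eq {K : Subgroup X} (hK : K ≤ nr D) (hD : D ≤ K) (p : Gam → Prop) [DecidablePred p]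
    [DecidablePred q] (hp : ∀ n : nr D, (n : X) ∈ K ↔ p (ψ n)) :
    Nat.card K = 9 * Fintype.card {γ // q γ ∧ p γ} := by
  rw [← (ψ.comp (inclusion hK)).ker.card_mul_index, index_ker, ← Nat.card_eq_fintype_card]
  congr 1
  · rw [← h.card_D, ← Nat.card_congr (subgroupOfEquivOfLe hD).toEquiv]
    congr 2
    ext x
    exact h.ker' _
  · refine Nat.card_congr (Equiv.subtypeEquivRight fun γ => ⟨?_, fun ⟨h1, h2⟩ => ?_⟩)
    · rintro ⟨x, rfl⟩
      exact ⟨(h.rg _).2 ⟨_, rfl⟩, (hp _).1 x.2⟩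
    · obtain ⟨n, rfl⟩ := (h.rg _).1 h1
      exact ⟨⟨n, (hp n).2 h2⟩, rfl⟩

omit [Finite X] in
theorem mem_ce (n : nr D) (x : W2) : (n : X) ∈ Ce (w x) ↔ act (ψ n).1 x = x := by
  rw [mem_Ce', h.conj, h.inj.eq_iff]

theorem mem_nz (n : nr D) {x : W2} (hx : x ≠ 0) :
    (n : X) ∈ Nz (w x) ↔ act (ψ n).1 x = 0 ∨ act (ψ n).1 x = x ∨ act (ψ n).1 x = x + x := by
  rw [mem_Nz, h.conj, h.mem_zp hx]

omit [Finite X] in
theorem mem_cn (n : nr D) : (n : X) ∈ cn D ↔ (ψ n).1 = 1 := by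
  refine ⟨fun hn => ?_, fun hn a ha => ?_⟩
  · have h1 : ∀ x, act (ψ n).1 x = x := fun x => (h.mem_ce n x).1 (mem_Ce.2 (hn _ (h.w_mem x)).symm)
    generalize (ψ n).1 = d at h1
    revert d; decide
  · obtain ⟨x, rfl⟩ := (h.mem _).1 ha
    exact (mem_Ce.1 ((h.mem_ce n x).2 (by rw [hn]; rfl))).symm

omit [Finite X] in
theorem le_cn : D ≤ cn D := haveI := h.comm; le_centralizer D

omit [Finite X] in
theorem le_ce (x : W2) : D ≤ Ce (w x) := fun _ hg => mem_Ce.2 (h.le_cn hg _ (h.w_mem x)).symm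

theorem sq_mem : ∀ g ∈ Nz (w (1, 0)), g ^ 2 ∈ D := fun g hg => by
  refine h.ker (⟨g, h.ny hg⟩ ^ 2) ?_
  have h1 := (h.mem_nz ⟨g, h.ny hg⟩ (by decide)).1 hg
  rw [map_pow]
  generalize ψ _ = γ at h1
  revert γ; decide

omit h in
theorem normal_of_le {K : Subgroup X} (hK : K ≤ nr D) : (D.subgroupOf K).Normal :=
  ⟨fun x hx g => (mem_normalizer_iff.1 (hK g.2) _).1 hx⟩

end XD

theorem quot_equiv {N Y : Type*} [Group N] [Group Y] (f : N →* Y) (hf : Function.Surjective f)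
    {K : Subgroup N} [K.Normal] (hK : ∀ n, n ∈ K ↔ f n = 1) : Nonempty (N ⧸ K ≃* Y) :=
  ⟨(QuotientGroup.quotientMulEquivOfEq (Subgroup.ext hK)).trans
    (QuotientGroup.quotientKerEquivOfSurjective f hf)⟩

universe u

variable {X : Type u} [Group X] [Finite X] {w : W2 → X} {D : Subgroup X} {ψ : nr D →* Gam}

theorem xd_one (R : H47.MC.R3329.{u}) (h : XD w D ψ fun γ => γ.2 = 1)
    (h1 : Nonempty (Ce (w (1, 1)) ≃* Z3 × A5))
    (h2 : Nonempty (Nz (w (1, 1)) ≃* ((Perm.sign.comp (MonoidHom.fst S3 S5)) *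
      (Perm.sign.comp (MonoidHom.snd S3 S5))).ker)) :
    Nonempty (X ≃* alternatingGroup (Fin 8)) := by
  obtain ⟨P, hP⟩ := h.sylow
  have hq : ∀ n, (ψ n).2 = 1 := fun n => (h.rg _).2 ⟨n, rfl⟩
  have hk : ∀ n : nr D, (n : X) ∈ D ↔ (ψ n).1 = 1 := fun n =>
    (h.ker' n).symm.trans ⟨fun e => by rw [e]; rfl, fun e => Prod.ext e (hq n)⟩
  obtain ⟨e⟩ := quot_equiv ((MonoidHom.fst _ _).comp ψ) (fun d => by
    obtain ⟨n, hn⟩ := (h.rg (d, 1)).1 rfl
    exact ⟨n, congrArg Prod.fst hn⟩) (K := D.subgroupOf (nr D)) hk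
  have hD := (h.le_ce (1, 0)).trans ce_le_nz
  haveI := XD.normal_of_le h.ny
  refine R X P D hP _ _ h.closure_eq h.comm h.card_D h.cube
    (le_antisymm (fun g hg => (hk ⟨g, h.cd hg⟩).2 ((h.mem_cn ⟨g, h.cd hg⟩).1 hg)) h.le_cn) e
    (XD.normal_of_le (ce_le_nz.trans h.ny))
    ((h.card_eq (ce_le_nz.trans h.ny) (h.le_ce _) (fun γ => act γ.1 (1, 0) = (1, 0))
      fun n => h.mem_ce n _).trans (by decide))
    _ rfl hD ?_ (fun g => ?_) h1.some h2.some
  · have h3 := (D.subgroupOf (Nz (w (1, 0)))).card_mul_index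
    rw [Nat.card_congr (subgroupOfEquivOfLe hD).toEquiv, h.card_D,
      h.card_eq h.ny hD (fun γ => act γ.1 (1, 0) = 0 ∨ act γ.1 (1, 0) = (1, 0) ∨
        act γ.1 (1, 0) = (1, 0) + (1, 0)) fun n => h.mem_nz n (by decide)] at h3
    exact (Nat.eq_of_mul_eq_mul_left (by norm_num) h3).trans (by decide)
  · obtain ⟨g, rfl⟩ := QuotientGroup.mk'_surjective _ g
    rw [← map_pow]
    exact (QuotientGroup.eq_one_iff _).2 (h.sq_mem g g.2)

theorem xd_two (R : H47.MC.R3330.{u}) (h : XD w D ψ fun _ => True)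
    (h1 : Nonempty (Ce (w (1, 1)) ≃* Z3 × S5)) (h2 : Nonempty (Nz (w (1, 1)) ≃* S3 × S5)) :
    Nonempty (X ≃* Perm (Fin 8)) ∨ ∃ N : Subgroup X, N.Normal ∧
      Nonempty (N ≃* A5 × A5) ∧ N.index = 4 := by
  obtain ⟨P, hP⟩ := h.sylow
  have hs : Function.Surjective ψ := fun γ => (h.rg γ).1 trivial
  obtain ⟨e⟩ := quot_equiv ψ hs (K := D.subgroupOf (nr D)) fun n => (h.ker' n).symm
  haveI : ((cn D).subgroupOf (nr D)).Normal := by
    rw [show (cn D).subgroupOf (nr D) = ((MonoidHom.fst _ _).comp ψ).ker from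
      Subgroup.ext h.mem_cn]
    infer_instance
  obtain ⟨e'⟩ := quot_equiv ((MonoidHom.fst _ _).comp ψ) (Prod.fst_surjective.comp hs)
    (K := (cn D).subgroupOf (nr D)) h.mem_cn
  have hD := (h.le_ce (1, 0)).trans ce_le_nz
  refine (R X P D hP _ _ h.closure_eq h.comm h.card_D h.cube
    ((h.card_eq h.cd h.le_cn (fun γ => γ.1 = 1) h.mem_cn).trans (by decide)) e e'
    (XD.normal_of_le (ce_le_nz.trans h.ny))
    ((h.card_eq (ce_le_nz.trans h.ny) (h.le_ce _) (fun γ => act γ.1 (1, 0) = (1, 0))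
      fun n => h.mem_ce n _).trans (by decide))
    (fun g hg => h.sq_mem g (ce_le_nz hg)) _ rfl (XD.normal_of_le h.ny)
    ((h.card_eq h.ny hD (fun γ => act γ.1 (1, 0) = 0 ∨ act γ.1 (1, 0) = (1, 0) ∨
        act γ.1 (1, 0) = (1, 0) + (1, 0)) fun n => h.mem_nz n (by decide)).trans (by decide))
    h.sq_mem h1.some h2.some).imp_right fun ⟨N, a, _, b, _, c, _⟩ => ⟨N, a, b, c⟩

end H25.McX
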