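/- Matrices of `N(J) ∩ C(t)` in the McL configuration. -/
import Cfsg.Agent.H25.McXB
import Cfsg.Agent.H42.McK

set_option autoImplicit false
set_option maxRecDepth 100000
set_option synthInstance.maxSize 4096
set_option synthInstance.maxHeartbeats 200000

namespace H25.McX
open H47.MC
open scoped Matrix

/-- matrices of the rotations -/
def tabR : Fin 4 → Fin 2 → Mat :=
  ![![!![1, 0, 0, 0; 0, 1, 0, 0; 0, 0, 1, 0; 0, 0, 0, 1],
    !![1, 0, 0, 0; 0, 1, 0, 0; 0, 0, 0, 1; 0, 0, -1, 0]],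
  ![!![0, 1, 0, 0; -1, 0, 0, 0; 0, 0, 1, 1; 0, 0, -1, 1],
    !![0, 1, 0, 0; -1, 0, 0, 0; 0, 0, -1, 1; 0, 0, -1, -1]],
  ![!![-1, 0, 0, 0; 0, -1, 0, 0; 0, 0, 0, -1; 0, 0, 1, 0],
    !![-1, 0, 0, 0; 0, -1, 0, 0; 0, 0, 1, 0; 0, 0, 0, 1]],
  ![!![0, -1, 0, 0; 1, 0, 0, 0; 0, 0, 1, -1; 0, 0, 1, 1],
    !![0, -1, 0, 0; 1, 0, 0, 0; 0, 0, 1, 1; 0, 0, -1, 1]]]

/-- matrices of the reflections -/
def tabS : Fin 4 → Fin 2 → Mat :=
  ![![!![1, 0, 0, 0; 0, -1, 0, 0; 0, 0, 1, 0; 0, 0, 0, -1],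
    !![1, 0, 0, 0; 0, -1, 0, 0; 0, 0, 0, 1; 0, 0, 1, 0]],
  ![!![0, 1, 0, 0; 1, 0, 0, 0; 0, 0, 1, 1; 0, 0, 1, -1],
    !![0, 1, 0, 0; 1, 0, 0, 0; 0, 0, -1, 1; 0, 0, 1, 1]],
  ![!![-1, 0, 0, 0; 0, 1, 0, 0; 0, 0, 0, -1; 0, 0, -1, 0],
    !![-1, 0, 0, 0; 0, 1, 0, 0; 0, 0, 1, 0; 0, 0, 0, -1]],
  ![!![0, -1, 0, 0; -1, 0, 0, 0; 0, 0, 1, -1; 0, 0, -1, -1],
    !![0, -1, 0, 0; -1, 0, 0, 0; 0, 0, 1, 1; 0, 0, 1, -1]]]

/-- a matrix for every element of `D₈ × C₂` -/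
def mat : Gam → Mat
  | (.r i, e) => tabR i e.toAdd
  | (.sr i, e) => tabS i e.toAdd

/-- the fixed space of `t` -/
def emb (x : W2) : V := ![x.1, x.2, 0, 0]

theorem mat_mul : ∀ a b : Gam, mat a * mat b = mat (a * b) ∨ mat a * mat b * mT = mat (a * b) := by
  decide +kernel

theorem mat_inj : ∀ a b : Gam, mat a = mat b ∨ mat a * mT = mat b → a = b := by decide +kernel

theorem mat_act : ∀ (a : Gam) (x : W2), mat a *ᵥ emb x = emb (act a.1 x) := by decide +kernel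

theorem mat_fine : ∀ a : Gam, mat a * mF = mF * mat a → act a.1 (1, -1) = (1, -1) →
    a.2 = 1 ∨ act a.1 (1, 1) = (1, 1) → a = 1 := by decide +kernel

theorem mat_neg : ∀ a : Gam, a.2 = 1 ∨ ∃ d : D8g, mat a = -mat (d, 1) ∨ mat a * mT = -mat (d, 1) := by
  decide +kernel

theorem mat_cls : ∀ δ : ZMod 3, δ ≠ 0 → ∀ a b c d : ZMod 3, a * a - c * c = δ → a * b - c * d = 0 →
    b * b - d * d = -δ → ∀ e f g h : ZMod 3, e * e + g * g = δ → e * f + g * h = 0 →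
    f * f + h * h = δ → (a * d - b * c) * (e * h - f * g) = δ →
    ∃ γ, !![a, b, 0, 0; c, d, 0, 0; 0, 0, e, f; 0, 0, g, h] = mat γ ∨
      !![a, b, 0, 0; c, d, 0, 0; 0, 0, e, f; 0, 0, g, h] * mT = mat γ := by decide +kernel

theorem mat_class {M : Mat} (h1 : M * mT = mT * M) (h2 : M.det ≠ 0)
    (h3 : M.transpose * B * M = M.det • B) : ∃ γ, M = mat γ ∨ M * mT = mat γ := by
  have z : ∀ x : ZMod 3, (x = -x → x = 0) ∧ (-x = x → x = 0) := by decide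
  have e := fun i j => congrFun (congrFun h1 i) j
  have e02 := e 0 2; have e03 := e 0 3; have e12 := e 1 2; have e13 := e 1 3
  have e20 := e 2 0; have e21 := e 2 1; have e30 := e 3 0; have e31 := e 3 1
  simp [mT, Matrix.mul_apply, Fin.sum_univ_four] at e02 e03 e12 e13 e20 e21 e30 e31
  have hM : M = !![M 0 0, M 0 1, 0, 0; M 1 0, M 1 1, 0, 0; 0, 0, M 2 2, M 2 3; 0, 0, M 3 2, M 3 3] := by
    ext i j
    fin_cases i <;> fin_cases j <;>
      simp [(z _).2 e02, (z _).2 e03, (z _).2 e12, (z _).2 e13, (z _).1 e20, (z _).1 e21,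
        (z _).1 e30, (z _).1 e31]
  have hd : M.det = (M 0 0 * M 1 1 - M 0 1 * M 1 0) * (M 2 2 * M 3 3 - M 2 3 * M 3 2) := by
    conv_lhs => rw [hM]
    simp [Matrix.det_succ_row_zero, Fin.sum_univ_succ, Fin.succAbove]
    ring
  generalize M.det = δ at h2 h3 hd
  have k := fun i j => congrFun (congrFun h3 i) j
  have k00 := k 0 0; have k01 := k 0 1; have k11 := k 1 1
  have k22 := k 2 2; have k23 := k 2 3; have k33 := k 3 3
  simp [B, Matrix.mul_apply, Fin.sum_univ_four, (z _).2 e02, (z _).2 e03, (z _).2 e12, (z _).2 e13,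
    (z _).1 e20, (z _).1 e21, (z _).1 e30, (z _).1 e31] at k00 k01 k11 k22 k23 k33
  rw [hM]
  exact mat_cls δ h2 _ _ _ _ (by linear_combination k00) (by linear_combination k01)
    (by linear_combination k11) _ _ _ _ (by linear_combination -k22) (by linear_combination -k23)
    (by linear_combination -k33) hd.symm

end H25.McX
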