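/- Jobs XA1, XA2 of `blueprints/LOCAL3C.md`: the quotient `C(t) / ⟨t⟩`. -/
import Cfsg.Agent.H25.McXM
import Cfsg.Agent.S0253
import Cfsg.Agent.H61.SL2Basic
import Cfsg.Agent.H57.SLGen

set_option autoImplicit false
set_option maxRecDepth 100000

namespace H25.McX
open Subgroup Equiv H56.L3 H42.L3 H42.MC H47.MC
open scoped Matrix

theorem exists_hom_of_rel {N Γ : Type*} [Group N] [Group Γ] (R : N → Γ → Prop)
    (ex : ∀ n, ∃ γ, R n γ) (un : ∀ n γ γ', R n γ → R n γ' → γ = γ')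
    (mul : ∀ n n' γ γ', R n γ → R n' γ' → R (n * n') (γ * γ')) :
    ∃ ψ : N →* Γ, ∀ n γ, ψ n = γ ↔ R n γ := by
  choose f hf using ex
  exact ⟨MonoidHom.mk' f fun a b => un _ _ _ (hf _) (mul _ _ _ _ (hf a) (hf b)),
    fun n γ => ⟨fun e => e ▸ hf n, un _ _ _ (hf n)⟩⟩

theorem a5_fact : ∀ b : S5, b * b * b = 1 → b ≠ 1 → ∀ a : S5, a * b = b * a → Perm.sign a = 1 →
    a * a * a = 1 := by decide +kernel

instance fact5 : Fact (Nat.Prime 5) := ⟨by norm_num⟩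

abbrev SL5 := Matrix.SpecialLinearGroup (Fin 2) (ZMod 5)

universe u

variable {G : Type u} [Group G] [Finite G] {v : V → G} {J Qa L₁ : Subgroup G} {t r τ σ f : G}
  (h : Loc v J Qa L₁ t r τ σ f) {X : Type u} [Group X] [Finite X] {π : Ce t →* X}
  (hπ : Function.Surjective π) (hk : ∀ g, π g = 1 ↔ (g : G) ∈ zpowers t)

omit [Finite G] in
theorem acts_unique (c : Coord v J) {g : G} {M N : Mat} (h1 : Acts v g M) (h2 : Acts v g N) :
    M = N := Matrix.mulVec_injective (funext fun x => c.inj ((h1 x).symm.trans (h2 x)))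

/-- `t` as an element of `C(t)` -/
abbrev tt (t : G) : Ce t := ⟨t, mem_Ce.2 rfl⟩

include h

omit [Finite G] in
theorem v_emb (x : W2) : v (emb x) ∈ Ce t :=
  mem_Ce.2 (mem_Ce.1 ((acts_mem_Ce h.toCoord h.aT).2 (by revert x; decide))).symm

omit [Finite G] in
theorem exists_emb {g : G} (h1 : g ∈ J) (h2 : g ∈ Ce t) : ∃ x, v (emb x) = g := by
  obtain ⟨y, rfl⟩ := (h.mem g).1 h1
  have := (acts_mem_Ce h.toCoord h.aT).1 (mem_Ce.2 (mem_Ce.1 h2).symm)
  obtain ⟨x, rfl⟩ : ∃ x, emb x = y := by clear h1 h2; revert y; decide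
  exact ⟨x, rfl⟩

theorem exists_mat {g : G} (h1 : g ∈ Nr J) (h2 : g ∈ Ce t) :
    ∃ γ, Acts v g (mat γ) ∨ Acts v (g * t) (mat γ) := by
  obtain ⟨M, hM, e⟩ := h.act g h1
  obtain ⟨N, hN, -⟩ := h.act g⁻¹ (inv_mem h1)
  have e1 : M * N = 1 := acts_unique h.toCoord (acts_mul hM hN) (by rw [mul_inv_cancel]; exact acts_one)
  obtain ⟨γ, e2⟩ := mat_class (acts_unique h.toCoord (acts_mul hM h.aT)
    (by rw [mem_Ce.1 h2]; exact acts_mul h.aT hM)) (fun e3 => by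
      have := congrArg Matrix.det e1
      rw [Matrix.det_mul, e3, zero_mul, Matrix.det_one] at this
      exact zero_ne_one this) e
  refine ⟨γ, e2.imp (fun e => ?_) fun e => ?_⟩ <;> rw [← e]
  exacts [hM, acts_mul hM h.aT]

omit [Finite G] in
theorem t_ne : t ≠ 1 := fun e =>
  absurd (acts_unique h.toCoord (e ▸ h.aT : Acts v 1 mT) acts_one) (by decide)

omit [Finite G] in
theorem f_mem : f ∈ Ce t := (h.Lle h.fL).1

omit [Finite G] in
theorem r_mem : r ∈ Ce t := mem_Ce.2 h.tr.symm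

omit [Finite G] in
theorem exists_elt (d : D8g) : ∃ g ∈ Ce t, Acts v g (mat (d, 1)) := by
  have h1 := acts_mul h.aR h.aF
  have m1 := mul_mem (r_mem h) (f_mem h)
  have key : ∀ i : Fin 4, Acts v ((r * f) ^ i.val) (tabR i 0) := by
    have a1 : Acts v (r * f) (tabR 1 0) := (show mR * mF = tabR 1 0 by decide) ▸ h1
    have a2 : Acts v (r * f * (r * f)) (tabR 2 0) :=
      (show tabR 1 0 * tabR 1 0 = tabR 2 0 by decide) ▸ acts_mul a1 a1
    intro i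
    fin_cases i
    · exact (show 1 = tabR 0 0 by decide) ▸ (by simpa using acts_one)
    · simpa using a1
    · simpa [pow_two] using a2
    · simpa [pow_succ] using (show tabR 2 0 * tabR 1 0 = tabR 3 0 by decide) ▸ acts_mul a2 a1
  rcases d with i | i
  · exact ⟨_, pow_mem m1 _, key i⟩
  · exact ⟨_, mul_mem (r_mem h) (pow_mem m1 _),
      (show ∀ i : Fin 4, mR * tabR i 0 = tabS i 0 by decide) i ▸ acts_mul h.aR (key i)⟩

omit [Finite G] in
theorem neg_of {g k : G} {M : Mat} (h1 : Acts v k M) (h2 : Acts v g (-M)) : Neg v :=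
  ⟨k⁻¹ * g, fun x => by
    rw [show k⁻¹ * g * v x * (k⁻¹ * g)⁻¹ = k⁻¹ * (g * v x * g⁻¹) * k by group, h2, Matrix.neg_mulVec,
      Matrix.neg_mulVec, Matrix.one_mulVec, v_neg h.toCoord, v_neg h.toCoord, ← h1]
    group⟩

include hk

omit [Finite G] [Finite X] in
theorem eq_or {a b : Ce t} (e : π a = π b) : b = a ∨ b = a * tt t := by
  obtain ⟨k, hk'⟩ := (hk (a⁻¹ * b)).1 (by rw [map_mul, map_inv, e, inv_mul_cancel])
  have h2 : t ^ (2 : ℤ) = 1 := by rw [zpow_two, h.tt]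
  rcases Int.even_or_odd' k with ⟨j, rfl | rfl⟩
  · left
    rw [eq_comm, ← inv_mul_eq_one, Subtype.ext_iff, ← hk']
    simp [zpow_mul, h2]
  · right
    rw [← inv_mul_eq_iff_eq_mul, Subtype.ext_iff, ← hk']
    simp [zpow_mul, zpow_add, h2]

omit [Finite G] [Finite X] in
theorem inj3 {a b : Ce t} (ha : (a : G) ^ 3 = 1) (hb : (b : G) ^ 3 = 1) (e : π a = π b) :
    (a : G) = b := by
  rcases eq_or h hk e with rfl | rfl
  · rfl
  · rw [coe_mul, Commute.mul_pow (mem_Ce.1 a.2), ha, one_mul, pow_three, h.tt, mul_one] at hb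
    exact absurd hb (t_ne h)

omit hk in
/-- coordinates on the image of `D` -/
def ww (π : Ce t →* X) (x : W2) : X := π ⟨v (emb x), v_emb h x⟩

omit [Finite X] in
theorem lift_nz {g : Ce t} {x : W2} (hg : π g * ww h π x * (π g)⁻¹ ∈ zpowers (ww h π x)) :
    (g : G) ∈ Nz (v (emb x)) := by
  obtain ⟨k, e⟩ := hg
  refine mem_Nz.2 ⟨k, inj3 h hk (a := ⟨v (emb x), v_emb h x⟩ ^ k)
    (b := g * ⟨v (emb x), v_emb h x⟩ * g⁻¹) ?_ ?_
    (by rw [map_zpow, map_mul, map_mul, map_inv]; exact e)⟩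
  · exact J_cube h.toCoord (zpow_mem (v_mem h.toCoord _) k)
  · show ((g : G) * v (emb x) * (g : G)⁻¹) ^ 3 = 1
    rw [conj_pow, v_cube h.toCoord, mul_one, mul_inv_cancel]

omit h hk in
/-- the image of `D` -/
abbrev DD (J : Subgroup G) (π : Ce t →* X) : Subgroup X := (J.subgroupOf (Ce t)).map π

omit hk in
theorem mem_nr_DD {g : Ce t} (hg : (g : G) ∈ Nr J) : π g ∈ nr (DD J π) :=
  mem_normalizer_fintype (by
    rintro _ ⟨j, hj, rfl⟩
    exact ⟨g * j * g⁻¹, (mem_normalizer_iff.1 hg _).1 hj, by rw [map_mul, map_mul, map_inv]⟩)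

theorem lift_nr (hy : Ce (v vy) ≤ Nr J) {g : Ce t} (hg : π g ∈ nr (DD J π)) : (g : G) ∈ Nr J := by
  refine wc1 h.toCoord h.wc (A := J ⊓ Ce t) inf_le_left (fun k hk => hy (mem_Ce.2
    (hk _ ⟨v_mem h.toCoord _, v_emb h (1, 0)⟩).symm)) (mem_normalizer_fintype fun j hj => ?_)
  obtain ⟨j', hj', e⟩ := (mem_normalizer_iff.1 hg (π ⟨j, hj.2⟩)).1 ⟨_, hj.1, rfl⟩
  have := inj3 h hk (a := j') (b := g * ⟨j, hj.2⟩ * g⁻¹) (J_cube h.toCoord hj') (by
    show ((g : G) * j * (g : G)⁻¹) ^ 3 = 1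
    rw [conj_pow, J_cube h.toCoord hj.1, mul_one, mul_inv_cancel])
    (by rw [e, map_mul, map_mul, map_inv])
  exact (show (j' : G) = g * j * (g : G)⁻¹ from this) ▸ (⟨hj', j'.2⟩ : (j' : G) ∈ J ⊓ Ce t)

include hπ

theorem exists_xd (hy : Ce (v vy) ≤ Nr J) : ∃ ψ : nr (DD J π) →* Gam,
    (∀ n γ, ψ n = γ ↔ ∃ g : Ce t, π g = n ∧ Acts v g (mat γ)) ∧
    ∀ q : Gam → Prop, (∀ γ, q γ ↔ ∃ n, ψ n = γ) → XD (ww h π) (DD J π) ψ q := by
  have ht : π (tt t) = 1 := (hk _).2 (mem_zpowers t)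
  obtain ⟨ψ, hψ⟩ := exists_hom_of_rel (N := nr (DD J π))
    (fun n γ => ∃ g : Ce t, π g = n ∧ Acts v g (mat γ)) (fun n => by
      obtain ⟨g, hg⟩ := hπ n
      obtain ⟨γ, e | e⟩ := exists_mat h (lift_nr h hk hy (hg ▸ n.2)) g.2
      exacts [⟨γ, g, hg, e⟩, ⟨γ, g * tt t, by rw [map_mul, ht, mul_one, hg], e⟩])
    (by
      rintro n γ γ' ⟨g, hg, e⟩ ⟨g', hg', e'⟩
      refine mat_inj _ _ ((eq_or h hk (hg.trans hg'.symm)).imp ?_ ?_) <;> rintro rfl
      exacts [acts_unique h.toCoord e e', acts_unique h.toCoord (acts_mul e h.aT) e'])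
    (by
      rintro n n' γ γ' ⟨g, hg, e⟩ ⟨g', hg', e'⟩
      rcases mat_mul γ γ' with m | m
      · exact ⟨g * g', by rw [map_mul, hg, hg', coe_mul], m ▸ acts_mul e e'⟩
      · exact ⟨g * g' * tt t, by rw [map_mul, ht, mul_one, map_mul, hg, hg', coe_mul],
          m ▸ acts_mul (acts_mul e e') h.aT⟩)
  refine ⟨ψ, hψ, fun q hq => ⟨fun x y => ?_, fun x y e => ?_, fun g => ⟨?_, ?_⟩, fun n hn => ?_,
    fun n x => ?_, fun n hn => ?_, centralizer_le_normalizer _, hq⟩⟩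
  · rw [ww, ww, ww, ← map_mul]
    congr 1
    exact Subtype.ext ((congrArg v (by revert x y; decide)).trans (h.add _ _))
  · have := h.inj (inj3 h hk (v_cube h.toCoord _) (v_cube h.toCoord _) e)
    exact Prod.ext (congrFun this 0) (congrFun this 1)
  · rintro ⟨j, hj, rfl⟩
    obtain ⟨x, hx⟩ := exists_emb h hj j.2
    exact ⟨x, congrArg π (Subtype.ext hx)⟩
  · rintro ⟨x, rfl⟩
    exact ⟨_, v_mem h.toCoord _, rfl⟩
  · obtain ⟨g, hg, e⟩ := (hψ n 1).1 hn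
    exact ⟨g, mem_J_of_acts h ((show mat 1 = 1 by decide) ▸ e), hg⟩
  · obtain ⟨g, hg, e⟩ := (hψ n _).1 rfl
    rw [← hg, ww, ww, ← map_inv, ← map_mul, ← map_mul]
    congr 1
    exact Subtype.ext ((e _).trans (congrArg v (mat_act _ x)))
  · obtain ⟨g, rfl⟩ := hπ n
    exact mem_nr_DD h (wc1 h.toCoord h.wc (zpowers_le_of_mem (v_mem h.toCoord _))
      (fun k hk => hy (mem_Ce.2 (hk _ (mem_zpowers _)).symm)) (lift_nz h hk (mem_Nz.1 hn)))

omit hπ in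
theorem exists_A : Nonempty (DD L₁ π ≃* A5) ∧
    ∀ g : Ce t, π g ∈ cn (DD L₁ π) → (g : G) * f = f * g := by
  obtain ⟨e⟩ := h.Liso
  have hL : L₁ ≤ Ce t := h.Lle.trans inf_le_left
  let φ : SL5 →* Ce t := (inclusion hL).comp e.symm.toMonoidHom
  have hφ : Function.Injective φ := (inclusion_injective hL).comp e.symm.injective
  have hr : φ.range = L₁.subgroupOf (Ce t) := by
    ext x
    exact ⟨fun ⟨s, hs⟩ => hs ▸ (e.symm s).2, fun hx => ⟨e ⟨x, hx⟩, Subtype.ext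
      (congrArg (fun y : L₁ => (y : G)) (e.symm_apply_apply ⟨x, hx⟩))⟩⟩
  have hc : ∀ x : Ce t, π x = 1 → x ∈ center (Ce t) := fun x hx => by
    rcases eq_or h hk ((map_one π).trans hx.symm) with rfl | rfl
    · exact one_mem _
    · exact mem_center_iff.2 fun g => by rw [one_mul]; exact Subtype.ext (mem_Ce.1 g.2)
  constructor
  · obtain ⟨s, hs⟩ : tt t ∈ φ.range := hr ▸ (h.ff ▸ mul_mem h.fL h.fL : t ∈ L₁)
    have key : ∀ x, π (φ x) = 1 → x ∈ center SL5 := fun x hx => mem_center_iff.2 fun y =>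
      hφ (by rw [map_mul, map_mul]; exact mem_center_iff.1 (hc _ hx) _)
    have ht : π (φ s) = 1 := hs ▸ (hk _).2 (mem_zpowers t)
    have h1 : s = -1 := (H61.sl_mem_center_iff.1 (key s ht)).resolve_left fun e => t_ne h (by
      rw [e, map_one] at hs; exact (congrArg Subtype.val hs).symm)
    have h2 : (π.comp φ).ker = center SL5 := by
      ext x
      refine ⟨key x, fun hx => ?_⟩
      rcases H61.sl_mem_center_iff.1 hx with rfl | rfl
      exacts [one_mem _, h1 ▸ ht]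
    obtain ⟨e5⟩ := Cfsg.Agent.S0253.result (F := ZMod 5) (by simp)
    exact ⟨(MulEquiv.subgroupCongr (by rw [MonoidHom.range_comp, hr])).trans
      ((QuotientGroup.quotientKerEquivRange (π.comp φ)).symm.trans
        ((QuotientGroup.quotientMulEquivOfEq h2).trans e5))⟩
  · intro g hg
    set L := L₁.subgroupOf (Ce t)
    have hp : ⁅L, L⁆ = L := by
      rw [← hr, MonoidHom.range_eq_map, ← map_commutator, ← _root_.commutator_def,
        H57.sl_commutator_eq_top_of_sq_ne_one (x := (2 : ZMod 5)) (by decide) (by decide)]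
    have h1 : ⁅⁅L, zpowers g⁆, L⁆ = ⊥ := by
      rw [commutator_eq_bot_iff_le_centralizer]
      refine le_trans (commutator_le.2 fun a ha b hb => hc _ ?_) (center_le_centralizer _)
      rw [map_commutatorElement, commutatorElement_eq_one_iff_mul_comm]
      exact (zpowers_le_of_mem (H := (cn (DD L₁ π)).comap π) hg hb) _ ⟨a, ha, rfl⟩
    have h2 := commutator_commutator_eq_bot_of_rotate h1 (by rwa [commutator_comm (zpowers g)])
    rw [hp, commutator_eq_bot_iff_le_centralizer] at h2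
    exact congrArg Subtype.val (h2 (show (⟨f, f_mem h⟩ : Ce t) ∈ L from h.fL) g (mem_zpowers g))

omit [Finite G] [Finite X] hk hπ in
theorem A_le : DD L₁ π ≤ Ce (ww h π (1, 1)) := by
  rintro _ ⟨a, ha, rfl⟩
  rw [mem_Ce, ww, ← map_mul, ← map_mul]
  congr 1
  exact Subtype.ext (mem_Ce.1 (h.Lle ha).2)

theorem nz_le : Nz (ww h π (1, 1)) ≤ nr (DD L₁ π) := fun n hn => by
  obtain ⟨g, rfl⟩ := hπ n
  have := h.Lnor ⟨lift_nz h hk (mem_Nz.1 hn), g.2⟩
  refine mem_normalizer_fintype ?_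
  rintro _ ⟨j, hj, rfl⟩
  exact ⟨g * j * g⁻¹, (mem_normalizer_iff.1 this _).1 hj, by rw [map_mul, map_mul, map_inv]⟩

omit [Finite G] [Finite X] hk hπ in
theorem z'_mem : ww h π (1, -1) ∈ DD L₁ π := ⟨_, h.zL, rfl⟩

omit hπ in
theorem fine {ψ : nr (DD J π) →* Gam} {q : Gam → Prop}
    (hψ : ∀ n γ, ψ n = γ ↔ ∃ g : Ce t, π g = n ∧ Acts v g (mat γ))
    (x : XD (ww h π) (DD J π) ψ q) {n : X} (h1 : n ∈ Nz (ww h π (1, 1))) (h2 : n ∈ cn (DD L₁ π))
    (h3 : (∀ n, (ψ n).2 = 1) ∨ n ∈ Ce (ww h π (1, 1))) : n ∈ zpowers (ww h π (1, 1)) := by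
  have h4 : n ∈ Ce (ww h π (1, -1)) := mem_Ce.2 (h2 _ (z'_mem h)).symm
  have hn : n ∈ nr (DD J π) := mem_normalizer_fintype fun d hd => by
    obtain ⟨y, rfl⟩ := (x.mem d).1 hd
    obtain ⟨a, b, rfl⟩ : ∃ a b : Fin 3, y = a.val • ((1, 1) : W2) + b.val • (1, -1) := by
      clear hd; revert y; decide
    rw [x.add, x.w_nsmul, x.w_nsmul, ← conj_mul, ← conj_pow, ← conj_pow, mem_Ce'.1 h4]
    exact mul_mem (pow_mem (zpowers_le_of_mem (x.w_mem _) (mem_Nz.1 h1)) _) (pow_mem (x.w_mem _) _)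
  obtain ⟨g, hg, e⟩ := (hψ ⟨n, hn⟩ _).1 rfl
  have h5 := (exists_A h hk).2 g (hg ▸ h2)
  have h6 := mat_fine _ (acts_unique h.toCoord (acts_mul e h.aF) (h5 ▸ acts_mul h.aF e))
    ((x.mem_ce ⟨n, hn⟩ _).1 h4) (h3.imp (· _) (x.mem_ce ⟨n, hn⟩ _).1)
  obtain ⟨y, rfl⟩ := (x.mem n).1 (x.ker _ h6)
  have hf := mem_nr_DD (π := π) h (g := ⟨f, f_mem h⟩) (acts_nr h.toCoord h.aF)
  have h7 := (x.mem_ce ⟨_, hf⟩ y).1 (mem_Ce.2 (h2 _ ⟨_, h.fL, rfl⟩))
  rw [(hψ ⟨_, hf⟩ (.sr 1, 1)).2 ⟨_, rfl, (show mF = mat (.sr 1, 1) by decide) ▸ h.aF⟩] at h7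
  refine (x.mem_zp (by decide)).2 ?_
  clear * - h7
  revert y; decide

theorem xa1 (R : R3329.{u}) (hy : Ce (v vy) ≤ Nr J) (hn : ¬ Neg v) :
    Nonempty (X ≃* alternatingGroup (Fin 8)) := by
  obtain ⟨ψ, hψ, hx⟩ := exists_xd h hπ hk hy
  have hq : ∀ n, (ψ n).2 = 1 := fun n => by
    obtain ⟨g, -, e⟩ := (hψ n _).1 rfl
    refine (mat_neg (ψ n)).resolve_right fun ⟨d, hd⟩ => hn ?_
    obtain ⟨k, -, a⟩ := exists_elt h d
    rcases hd with m | m
    exacts [neg_of h a (m ▸ e), neg_of h a (m ▸ acts_mul e h.aT)]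
  have x := hx (fun γ => γ.2 = 1) fun γ => ⟨fun e => by
    obtain ⟨k, hk', a⟩ := exists_elt h γ.1
    exact ⟨⟨π ⟨k, hk'⟩, mem_nr_DD h (acts_nr h.toCoord a)⟩, (hψ _ _).2 ⟨_, rfl, by
      rwa [← e] at a⟩⟩, fun ⟨n, e⟩ => e ▸ hq n⟩
  obtain ⟨u, hu⟩ := (x.rg (.r 2, 1)).1 rfl
  have := z_one (x.ord (by decide)) (exists_A h hk).1.some (A_le h) (nz_le h hπ hk)
    (fun g h1 h2 => fine h hk hψ x h1 h2 (.inl hq))
    ((x.mem_nz u (by decide)).2 (by rw [hu]; decide))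
    fun e => absurd (hu ▸ (x.mem_ce u _).1 e) (by decide)
  exact xd_one R x this.1 this.2

theorem xa2 (R : R3330.{u}) (hy : Ce (v vy) ≤ Nr J) (hn : Neg v) :
    Nonempty (X ≃* Perm (Fin 8)) ∨ ∃ N : Subgroup X, N.Normal ∧
      Nonempty (N ≃* A5 × A5) ∧ N.index = 4 := by
  obtain ⟨ψ, hψ, hx⟩ := exists_xd h hπ hk hy
  obtain ⟨ι, hι, -, hιt, -⟩ := exists_iota h hn
  have x := hx (fun _ => True) fun γ => ⟨fun _ => by
    obtain ⟨k, hk', a⟩ := exists_elt h γ.1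
    obtain ⟨k', hk'', a'⟩ := exists_elt h (γ.1 * .r 2)
    rcases (show ∀ γ : Gam, mat (γ.1, 1) = mat γ ∨ mat (γ.1 * .r 2, 1) * -1 = mat γ ∨
      mat (γ.1 * .r 2, 1) * -1 * mT = mat γ by decide +kernel) γ with m | m | m
    · exact ⟨⟨π ⟨k, hk'⟩, mem_nr_DD h (acts_nr h.toCoord a)⟩, (hψ _ _).2 ⟨_, rfl, m ▸ a⟩⟩
    · have b := acts_mul a' hι
      exact ⟨⟨π ⟨_, mul_mem hk'' (mem_Ce.2 hιt)⟩, mem_nr_DD h (acts_nr h.toCoord b)⟩,
        (hψ _ _).2 ⟨_, rfl, m ▸ b⟩⟩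
    · have b := acts_mul (acts_mul a' hι) h.aT
      exact ⟨⟨π ⟨_, mul_mem (mul_mem hk'' (mem_Ce.2 hιt)) (tt t).2⟩,
        mem_nr_DD h (acts_nr h.toCoord b)⟩, (hψ _ _).2 ⟨_, rfl, m ▸ b⟩⟩, fun _ => trivial⟩
  obtain ⟨u, hu⟩ := (x.rg (.r 2, 1)).1 trivial
  obtain ⟨c, hc⟩ := (x.rg (1, .ofAdd 1)).1 trivial
  have hcD := (x.mem_cn c).2 (by rw [hc])
  obtain ⟨e⟩ := (exists_A h hk).1
  have := z_two (c := (c : X)) (x.ord (by decide)) e (A_le h) (nz_le h hπ hk)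
    (fun g h1 h2 => fine h hk hψ x (ce_le_nz h1) h2 (.inr h1))
    ((x.mem_nz u (by decide)).2 (by rw [hu]; decide))
    (fun e => absurd (hu ▸ (x.mem_ce u _).1 e) (by decide))
    (mem_Ce.2 (hcD _ (x.w_mem _)).symm) fun a ha h1 => by
      have h2 : a⁻¹ * c ∈ DD J π := zpowers_le_of_mem (x.w_mem _) h1
      have h3 : a ∈ cn (DD J π) := inv_mem_iff.1 ((mul_mem_cancel_right hcD).1 (x.le_cn h2))
      have h4 : ψ ⟨a, x.cd h3⟩ = (1, .ofAdd 1) := by
        rw [← hc, ← inv_mul_eq_one, ← map_inv, ← map_mul]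
        exact (x.ker' _).2 h2
      have h5 : e ⟨a, ha⟩ * e ⟨a, ha⟩ * e ⟨a, ha⟩ = 1 := Subtype.ext (a5_fact (e ⟨_, z'_mem h⟩)
        (by
          rw [← coe_mul, ← coe_mul, ← map_mul, ← map_mul, OneMemClass.coe_eq_one,
            map_eq_one_iff _ e.injective]
          exact Subtype.ext ((pow_three' _).symm.trans (x.cube _ (x.w_mem _))))
        (fun e1 => absurd (x.inj ((congrArg Subtype.val ((map_eq_one_iff _ e.injective).1
          (OneMemClass.coe_eq_one.1 e1))).trans x.w_zero.symm)) (by decide)) _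
        (by
          rw [← coe_mul, ← coe_mul, ← map_mul, ← map_mul]
          exact congrArg (fun y => ((e y : A5) : S5)) (Subtype.ext (h3 _ (x.w_mem _)).symm))
        (Perm.mem_alternatingGroup.1 (e ⟨a, ha⟩).2))
      rw [← map_mul, ← map_mul, map_eq_one_iff _ e.injective] at h5
      have h6 : ψ (⟨a, x.cd h3⟩ * ⟨a, x.cd h3⟩ * ⟨a, x.cd h3⟩) = 1 := by
        rw [← map_one ψ]
        congr 1
        exact Subtype.ext (congrArg (fun y : DD L₁ π => (y : X)) h5)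
      rw [map_mul, map_mul, h4] at h6
      exact absurd h6 (by decide)
  exact xd_two R x this.1 this.2

omit h hk hπ

theorem exists_quot (t : G) : ∃ (X : Type u) (_ : Group X) (_ : Finite X) (π : Ce t →* X),
    Function.Surjective π ∧ ∀ g, π g = 1 ↔ (g : G) ∈ zpowers t := by
  haveI : ((zpowers t).subgroupOf (Ce t)).Normal := ⟨fun x hx g => by
    rw [mem_subgroupOf] at hx ⊢
    rwa [coe_mul, coe_mul, (zpowers_le_of_mem (H := Ce (g : G)) (mem_Ce.2 (mem_Ce.1 g.2).symm) hx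
      |> mem_Ce.1).symm, coe_inv, mul_inv_cancel_right]⟩
  exact ⟨_, _, inferInstance, QuotientGroup.mk' ((zpowers t).subgroupOf (Ce t)),
    QuotientGroup.mk'_surjective _, fun g => QuotientGroup.eq_one_iff g⟩

theorem jobXA1 : JobXA1.{u} := by
  intro R G _ _ v J Qa L₁ t r τ σ f h hy hn
  obtain ⟨X, _, _, π, hπ, hk⟩ := exists_quot t
  obtain ⟨e⟩ := xa1 h hπ hk R hy hn
  exact ⟨e.toMonoidHom.comp π, e.surjective.comp hπ, fun g =>
    (map_eq_one_iff e e.injective).trans (hk g)⟩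

theorem jobXA2 : JobXA2.{u} := by
  intro R G _ _ v J Qa L₁ t r τ σ f h hy hn
  obtain ⟨X, _, _, π, hπ, hk⟩ := exists_quot t
  rcases xa2 h hπ hk R hy hn with ⟨⟨e⟩⟩ | ⟨N, hN, ⟨e⟩, hi⟩
  · exact .inl ⟨e.toMonoidHom.comp π, e.surjective.comp hπ, fun g =>
      (map_eq_one_iff e e.injective).trans (hk g)⟩
  · have hle := map_subtype_le (H := Ce t) (N.comap π)
    have hm : ∀ x : (N.comap π).map (Ce t).subtype, π (inclusion hle x) ∈ N := by
      rintro ⟨_, y, hy, rfl⟩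
      exact hy
    refine .inr ⟨(N.comap π).map (Ce t).subtype, hle, ⟨tt t, ?_, rfl⟩, ?_, ?_,
      e.toMonoidHom.comp ((π.comp (inclusion hle)).codRestrict N hm), e.surjective.comp ?_,
      fun g => (map_eq_one_iff e e.injective).trans (Subtype.ext_iff.trans (hk _))⟩
    · show π (tt t) ∈ N
      rw [(hk _).2 (mem_zpowers t)]
      exact one_mem _
    · intro g hg
      refine mem_normalizer_fintype ?_
      rintro _ ⟨y, hy, rfl⟩
      exact ⟨⟨g, hg⟩ * y * ⟨g, hg⟩⁻¹, (hN.comap π).conj_mem y hy _, rfl⟩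
    · rw [relIndex, subgroupOf, comap_map_eq_self_of_injective (subtype_injective _),
        index_comap_of_surjective _ hπ, hi]
    · intro n
      obtain ⟨y, hy⟩ := hπ n
      exact ⟨⟨y, y, show π y ∈ N from hy ▸ n.2, rfl⟩, Subtype.ext hy⟩

end H25.McX
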