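import Cfsg.Agent.H48.DP1Spec
import Cfsg.Agent.H42.CI2

/-! Tower DP1 (row S3275), job Act. -/

set_option autoImplicit false

namespace H25.DPAct

open Subgroup Cfsg H98 H48.DP

universe u

variable {X : Type u} [Group X] [Finite X]

theorem real (h : ND X) {p : ℕ} (hp : p.Prime) (h3 : 3 < p) {y g : X} (e : g * y * g⁻¹ = y⁻¹) :
    ¬ p ∣ orderOf y := fun hd =>
  h.not_real hp h3 (x := y ^ (orderOf y / p)) (g := g)
    (orderOf_pow_orderOf_div (orderOf_pos y).ne' hd) (by rw [← conj_pow, e, inv_pow])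

theorem conj_inj {L : Type*} [Group L] [IsSimpleGroup L] (hc : ¬ IsMulCommutative L) :
    Function.Injective (MulAut.conj : L →* MulAut L) := by
  rw [← MonoidHom.ker_eq_bot_iff]
  refine (MonoidHom.normal_ker _).eq_bot_or_eq_top.resolve_right fun e => hc ⟨⟨fun a b => ?_⟩⟩
  have : MulAut.conj a b = b := by
    rw [MonoidHom.mem_ker.mp (e ▸ mem_top a : a ∈ (MulAut.conj : L →* MulAut L).ker)]; rfl
  exact mul_inv_eq_iff_eq_mul.mp this

theorem inner (h : ND X) {K : Subgroup X} (hK : IsComponent K) (a : Aut3 (K ⧸ center K)) :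
    ∀ g ∈ No K, ∃ l ∈ K, l⁻¹ * g ∈ Ce K := fun g hg => by
  have := (H14.comp_quasi hK).2
  rcases a (H42.SI.act K ⟨g, hg⟩) with ⟨l, e⟩ | ⟨x, l, hp, h3, e⟩
  · obtain ⟨l, rfl⟩ := QuotientGroup.mk'_surjective _ l
    exact ⟨l, l.2, H42.SI.inner (H14.comp_perfect hK) _ _ e⟩
  obtain ⟨l, rfl⟩ := QuotientGroup.mk'_surjective _ l
  obtain ⟨x, rfl⟩ := QuotientGroup.mk'_surjective _ x
  refine (((h.sub (No K)).of_surjective _ (H42.SI.act K).rangeRestrict_surjective).not_real hp h3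
    (x := (H42.SI.act K).rangeRestrict ⟨x, le_normalizer x.2⟩)
    (g := (H42.SI.act K).rangeRestrict ((⟨l, le_normalizer l.2⟩ : No K)⁻¹ * ⟨g, hg⟩)) ?_
    (Subtype.ext ?_)).elim
  · rw [← orderOf_coe, MonoidHom.coe_rangeRestrict, H42.SI.act_of_mem,
      orderOf_injective _ (conj_inj (H14.quasi_quotient_not_comm (H14.comp_quasi hK)))]
  · simp only [coe_mul, coe_inv, MonoidHom.coe_rangeRestrict, map_mul, map_inv, H42.SI.act_of_mem]
    generalize H42.SI.act K ⟨g, hg⟩ = β at e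
    generalize QuotientGroup.mk' (center K) l = l' at e
    generalize QuotientGroup.mk' (center K) x = x' at e
    have h1 : β * MulAut.conj x' * β⁻¹ = MulAut.conj (β x') := by
      ext y; simp
    calc _ = (MulAut.conj l')⁻¹ * (β * MulAut.conj x' * β⁻¹) * MulAut.conj l' := by group
      _ = _ := by rw [h1, e, map_mul, map_mul, map_inv, map_inv]; group

theorem half (h : ND X) {K : Subgroup X} (hK : IsComponent K)
    (i : ∀ g ∈ No K, ∃ l ∈ K, l⁻¹ * g ∈ Ce K) {p : ℕ} (hp : p.Prime) (h3 : 3 < p)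
    (hd : p ∣ Nat.card (K ⧸ center K)) {g : X} (hg : g * g ∈ No K) : g ∈ No K := by
  by_contra hn
  have hc := H14.commutator_eq_bot_iff_comm.mp (H14.comp_commute_of_ne hK (H14.comp_map_conj hK g)
    fun e => hn (cj_eq_self_iff.mp e.symm))
  obtain ⟨l, hl, e⟩ := i _ hg
  have := Fact.mk hp
  obtain ⟨x, hx⟩ := exists_prime_orderOf_dvd_card' p hd
  obtain ⟨x, rfl⟩ := QuotientGroup.mk'_surjective _ x
  have m1 : ∀ k ∈ K, g * l⁻¹ * k * (g * l⁻¹)⁻¹ ∈ cj g K := fun k hk => by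
    rw [show g * l⁻¹ * k * (g * l⁻¹)⁻¹ = g * (l⁻¹ * k * l) * g⁻¹ by group]
    exact conj_mem_cj (mul_mem (mul_mem (inv_mem hl) hk) hl)
  have m2 : g * l⁻¹ * (g * l⁻¹ * x * (g * l⁻¹)⁻¹) * (g * l⁻¹)⁻¹ = x := by
    have h1 := e _ (mul_mem (mul_mem (inv_mem hl) x.2) hl)
    have h2 := hc x x.2 _ (conj_mem_cj (inv_mem hl))
    calc _ = g * l⁻¹ * g⁻¹ * (l * (l⁻¹ * (g * g) * (l⁻¹ * x * l)) * (g * g)⁻¹) *
          (g * l⁻¹ * g⁻¹)⁻¹ := by group
      _ = _ := by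
        rw [← h1, show l * (l⁻¹ * x * l * (l⁻¹ * (g * g))) * (g * g)⁻¹ = x by group, ← h2]
        group
  generalize g * l⁻¹ = t at m1 m2
  have c1 : Commute (x : X) (t * x * t⁻¹) := hc _ x.2 _ (m1 _ x.2)
  refine real h hp h3 (y := x * (t * x * t⁻¹)⁻¹) (g := t) ?_ (hx ▸ orderOf_dvd_of_pow_eq_one ?_)
  · rw [show t * (x * (t * x * t⁻¹)⁻¹) * t⁻¹ = t * x * t⁻¹ * (t * (t * x * t⁻¹) * t⁻¹)⁻¹ by group,
      m2, mul_inv_rev, inv_inv]
  · have h1 := pow_orderOf_eq_one ((x : X) * (t * x * t⁻¹)⁻¹)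
    generalize orderOf ((x : X) * (t * x * t⁻¹)⁻¹) = n at h1
    rw [c1.inv_right.mul_pow, inv_pow, mul_inv_eq_one, conj_pow] at h1
    rw [← map_pow, QuotientGroup.mk'_apply, QuotientGroup.eq_one_iff, mem_center_iff]
    exact fun k => Subtype.ext (hc k k.2 _ (by rw [coe_pow, h1]; exact m1 _ (pow_mem x.2 n)))

theorem jobAct : JobAct.{u} := by
  intro a1 a2 a3 cen X _ _ h K hK h3
  have i := inner h hK (h3.elim (a1 _) fun h3 => h3.elim (a2 _) (a3 _))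
  obtain ⟨-, -, -, ⟨p, hp, h4, hd⟩, -⟩ := cen _ h3
  refine ⟨fun g hg => ?_, i⟩
  obtain ⟨k, hk⟩ := hg ⟨g, mem_zpowers g⟩
  have hk' : g ^ 2 ^ k ∈ No K := by
    rw [show g ^ 2 ^ k = 1 from congrArg Subtype.val hk]; exact one_mem _
  clear hk hg
  induction k with
  | zero => simpa using hk'
  | succ k ih => exact ih (half h hK i hp h4 hd (by rwa [← pow_two, ← pow_mul, ← pow_succ]))

end H25.DPAct
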