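import Cfsg.Agent.H15.BGSpec2
import Cfsg.Agent.H15.BGKit
import Cfsg.Agent.H99.Product

/-! BGS part 2: a kit for the coordinates on `Q = W U E`, and the jobs EC and ED. -/

set_option autoImplicit false
set_option linter.unusedSectionVars false

namespace H25.BG

open Cfsg Subgroup H98 H1.Gold H85.TW H15.BG

universe u

variable {G : Type u} [Group G] [Finite G] {k K : Type} [Field k] [Field K] [Algebra k K] [Finite k]
  [Finite K] [CharP k 2] [CharP K 2] {d : Dat G k K} {E W Q : Subgroup G} {p : G → (k × k) × K}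
  {m : k} {x y g e : G}

theorem two_ne (H : HE d E) : ∃ a ∈ E, ∃ b ∈ E, a ≠ 1 ∧ b ≠ 1 ∧ a * b ≠ 1 := by
  by_contra! c
  have h1 : (E : Set G) ⊆ {1, d.t} := fun a ha => by
    by_cases e : a = 1
    · exact .inl e
    · exact .inr (by
        rw [Set.mem_singleton_iff, eq_inv_of_mul_eq_one_left (c a ha _ H.tE e H.t1),
          inv_eq_of_mul_eq_one_right H.tt])
  have h2 := (Set.ncard_le_ncard h1).trans (Set.ncard_insert_le _ _)
  have h3 := H.fourE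
  rw [← SetLike.coe_sort_coe, Nat.card_coe_set_eq] at h3
  rw [Set.ncard_singleton] at h2
  omega

theorem C_comm (H : HE d E) (hx : x ∈ cen1 d.t) (he : e ∈ E) : x * e = e * x := by
  by_cases e1 : e = 1
  · simp [e1]
  · exact mem_cen1.1 (H.cE e he e1 ▸ hx)

theorem C_le_norE (H : HE d E) : cen1 d.t ≤ nor E := fun _ hx =>
  centralizer_le_normalizer _ fun _ he => (C_comm H hx he).symm

theorem E_le_C (H : HE d E) : E ≤ cen1 d.t := fun _ he => mem_cen1.2 (comm_of_sq H.elE he H.tE)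

theorem mem_UE (H : HE d E) : x ∈ d.U ⊔ E ↔ ∃ u ∈ d.U, ∃ e ∈ E, x = u * e :=
  mem_sup_left_norm (H.tU.trans (C_le_norE H))

theorem jobEC : JobEC.{u} := by
  intro G _ _ k K _ _ _ _ _ _ _ d E L
  have H := L.toHE
  have D := L.toUD
  by_cases h : ∀ g, ∀ e ∈ E, e ≠ 1 → g * e * g⁻¹ ∈ cen1 d.t → g ∈ nor E
  · obtain ⟨S, hS, hES⟩ := exists_isSyl_le (two_of_sq H.elE) (E_le_C H)
    refine .inl ⟨S, isSyl_of_isSyl_normalizer ⟨le_inf le_top le_normalizer, hS.isPGroup,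
      fun R hR h1 h2 => hS.eq_of_le hR h1 fun x hx => L.odd2 x (h x _ H.tE H.t1
        (hS.le (conj_mem_nor (h2 hx).2 (hES H.tE)))) (e2_of_mem hR hx)⟩, hES, fun x hx g hg => ?_⟩
    by_cases e : x = 1
    · simpa [e] using one_mem E
    · exact conj_mem_nor (h g x hx e (hS.le hg)) hx
  push Not at h
  obtain ⟨g, e, he, e1, h1, h2⟩ := h
  have h3 : cj g E ≤ cen1 d.t := by
    have : g⁻¹ * d.t * g ∈ cen1 d.t := H.cE e he e1 ▸ mem_cj.1
      (H15.BG.cj_cen1 g e ▸ mem_cen1.2 (mem_cen1.1 h1).symm)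
    rintro _ ⟨x, hx, rfl⟩
    have h4 := C_comm H this hx
    refine mem_cen1.2 ?_
    calc g * x * g⁻¹ * d.t = g * (x * (g⁻¹ * d.t * g)) * g⁻¹ := by group
      _ = d.t * (g * x * g⁻¹) := by rw [← h4]; group
  obtain ⟨c, hc, h4⟩ := H.syl _ h3 ((two_of_sq H.elE).map _)
  have h5 : cj (c * g) E ≤ cen1 d.t := cj_cj c g E ▸ cj_le_of_le_of_mem h3 hc
  have h6 : c * g ∉ nor E := fun r => h2 ((mul_mem_cancel_left (C_le_norE H hc)).1 r)
  rw [cj_cj] at h4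
  generalize c * g = j at h4 h5 h6
  have sq : ∀ a ∈ E, j * a * j⁻¹ * (j * a * j⁻¹) = 1 := fun a ha => by
    rw [conj_mul, H.elE a ha, mul_one, mul_inv_cancel]
  have e2 : ∀ a ∈ E, E2 (j * a * j⁻¹) := fun a ha => ⟨1, by rw [pow_one, pow_two, sq a ha]⟩
  obtain ⟨a, ha, a1, h7⟩ : ∃ a ∈ E, a ≠ 1 ∧ d.Tr0 (j * a * j⁻¹) := by
    obtain ⟨a, ha, b, hb, a1, b1, ab⟩ := two_ne H
    have r := fun a ha => L.inv0 _ (h4 (conj_mem_cj ha)) (e2 a ha) fun u _ => by rw [sq a ha]; simp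
    rcases r a ha with ra | ⟨y, ra⟩
    · exact ⟨a, ha, a1, ra⟩
    rcases r b hb with rb | ⟨y', rb⟩
    · exact ⟨b, hb, b1, rb⟩
    refine ⟨_, mul_mem ha hb, ab, ?_⟩
    rw [← conj_mul]
    exact (L.rr _ _ _ _ ra rb (by rw [conj_mul]; exact e2 _ (mul_mem ha hb))).1
  obtain ⟨u, hu, b, hb, e3⟩ := (mem_UE H).1
    (H.h4E _ (h5 (conj_mem_cj ha)) (h4 (conj_mem_cj ha)) (e2 a ha) h7)
  have huZ : u ∈ d.Z := D.mem_Z_of_sq hu (by
    have := sq a ha
    rwa [e3, mul_assoc, ← mul_assoc b, ← C_comm H (H.tU hu) hb, mul_assoc, H.elE b hb, mul_one] at this)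
  have hZ : d.U ⊔ E ≤ cen d.Z := sup_le L.sxU.cen fun x hx z hz => C_comm H (H.tU (D.ZU hz)) hx
  have h8 : d.U ⊔ E ≤ cen1 (j * a * j⁻¹) := fun x hx => mem_cen1.2 (by
    have c1 : Commute x u := (hZ hx u huZ).symm
    have c2 : Commute x b := C_comm H (sup_le H.tU (E_le_C H) hx) hb
    rw [e3]; exact c1.mul_right c2)
  have two : IsPGroup 2 ↥(d.U ⊔ E) :=
    L.two.to_sup_of_normal_right' (two_of_sq H.elE) (H.tU.trans (C_le_norE H))
  rw [← H15.BG.cj_cen1, H.cE a ha a1, le_cj_iff] at h8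
  obtain ⟨c, hc, h9⟩ := H.syl _ h8 (two.map _)
  have h10 := le_inf (cj_le_of_le_of_mem h8 hc) h9
  rw [cj_cj] at h10
  refine .inr ⟨c * j⁻¹, mem_normalizer_of_cj_le ?_,
    fun r => h6 (inv_mem_iff.1 ((mul_mem_cancel_left (C_le_norE H hc)).1 r))⟩
  generalize c * j⁻¹ = i at h10
  obtain ⟨z1, -⟩ := L.uc _ _ ((cj_mono i le_sup_left).trans h10) (L.sxU.cj i)
    (by rw [card_cj, L.cardZ]) (by rw [card_cj, L.cardU])
  refine L.cp _ h10 (two.map _) (by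
    conv_rhs => rw [← z1]
    exact (cj_mono i hZ).trans (cj_centralizer i _).le) ?_ ?_
  · rintro _ ⟨x, hx, rfl⟩ _ ⟨y, hy, rfl⟩
    obtain ⟨u, hu, a, ha, rfl⟩ := (mem_UE H).1 hx
    obtain ⟨v, hv, b, hb, rfl⟩ := (mem_UE H).1 hy
    rw [← z1]
    refine ⟨_, L.sxU.com u hu v hv, ?_⟩
    rw [← map_inv, ← map_inv, ← map_mul, ← map_mul, ← map_mul]
    congr 1
    have c1 : Commute a (v * b) := (Commute.symm (C_comm H (H.tU hv) ha)).mul_right (comm_of_sq H.elE ha hb)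
    have c2 : Commute b u⁻¹ := (Commute.symm (C_comm H (H.tU hu) hb)).inv_right
    calc u * v * u⁻¹ * v⁻¹ = u * (v * (u⁻¹ * b)) * b⁻¹ * v⁻¹ := by group
      _ = u * (v * b * a) * a⁻¹ * u⁻¹ * (v * b)⁻¹ := by rw [← c2.eq]; group
      _ = _ := by rw [← c1.eq]; group
  · have := H99.card_sup_mul_card_inf_of_le_normalizer (H.tU.trans (C_le_norE H))
    rw [show d.U ⊓ E = ⊥ from eq_bot_iff.2 fun x hx => H.disjE x hx.2 hx.1, card_bot, mul_one,
      L.cardU] at this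
    rw [card_cj, this, pow_succ' _ 2]
    have q := d.four
    exact Nat.mul_lt_mul_of_pos_right (Nat.mul_lt_mul_of_pos_right (by omega) (by positivity))
      Nat.card_pos

namespace PE

variable (h : PE d E W Q p m)
include h

theorem WQ : W ≤ Q := h.Q_eq ▸ le_sup_left.trans le_sup_left
theorem UQ : d.U ≤ Q := h.Q_eq ▸ le_sup_right.trans le_sup_left
theorem EQ : E ≤ Q := h.Q_eq ▸ le_sup_right
theorem ad : Ad Q p := h.p_mul

theorem p_inv (hx : x ∈ Q) : p x⁻¹ = p x := by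
  rw [(ad h).inv hx]
  ext <;> simp [CharTwo.neg_eq]

theorem pW (hx : x ∈ W) : (p x).1.2 = 0 ∧ (p x).2 = 0 := (h.memW x (WQ h hx)).1 hx

theorem pE (hx : x ∈ E) : (p x).1.1 = 0 ∧ (p x).2 = 0 := (h.memF x (EQ h hx)).1 (mem_sup_right hx)

theorem pU1 (hx : x ∈ d.U) : (p x).1 = 0 := (h.memU x (UQ h hx)).1 hx

theorem cE_ne (H : HE d E) (he : e ∈ E) (e1 : e ≠ 1) : (p e).1.2 ≠ 0 := fun c =>
  e1 (H.disjE e he ((h.memU e (EQ h he)).2 (Prod.ext (pE h he).1 c)))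

/-- Induction over `Q = W U E`. -/
theorem ind {R : G → Prop} (h1 : ∀ w ∈ W, R w) (h2 : ∀ u ∈ d.U, R u) (h3 : ∀ e ∈ E, R e)
    (h4 : ∀ x ∈ Q, ∀ y ∈ Q, R x → R y → R (x * y)) (hx : x ∈ Q) : R x := by
  let S : Submonoid G :=
    { carrier := {x | x ∈ Q ∧ R x}
      one_mem' := ⟨one_mem _, h1 1 (one_mem _)⟩
      mul_mem' := fun a b => ⟨mul_mem a.1 b.1, h4 _ a.1 _ b.1 a.2 b.2⟩ }
  let S' : Subgroup G := { S with
    inv_mem' := fun {a} ha => by
      have := S.pow_mem ha (orderOf a - 1)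
      have e : a ^ (orderOf a - 1) = a⁻¹ := eq_inv_of_mul_eq_one_left (by
        rw [← pow_succ, Nat.sub_add_cancel (orderOf_pos a), pow_orderOf_eq_one])
      rwa [e] at this }
  exact ((sup_le (sup_le (fun w hw => ⟨WQ h hw, h1 w hw⟩) fun u hu => ⟨UQ h hu, h2 u hu⟩)
    fun e he => ⟨EQ h he, h3 e he⟩ : W ⊔ d.U ⊔ E ≤ S') (h.Q_eq ▸ hx)).2

theorem exists_c (hx : x ∈ Q) : ∃ e ∈ E, (p e).1.2 = (p x).1.2 := by
  have o : (p 1).1.2 = 0 := by rw [(ad h).one]; rfl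
  refine ind h (R := fun x => ∃ e ∈ E, (p e).1.2 = (p x).1.2)
    (fun w hw => ⟨1, one_mem _, o.trans (pW h hw).1.symm⟩)
    (fun u hu => ⟨1, one_mem _, by rw [o, pU1 h hu]; rfl⟩) (fun e he => ⟨e, he, rfl⟩) ?_ hx
  rintro x hx y hy ⟨a, ha, e1⟩ ⟨b, hb, e2⟩
  exact ⟨_, mul_mem ha hb, by simp [h.p_mul a (EQ h ha) b (EQ h hb), h.p_mul x hx y hy, e1, e2]⟩

theorem exists_p (D : UD d) (a : k) (η : K) : ∃ x ∈ Q, p x = ((a, 0), η) := by
  obtain ⟨w, hw, rfl⟩ := h.surjW a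
  obtain ⟨u, hu, rfl⟩ := D.π_surj η
  refine ⟨_, mul_mem (WQ h hw) (UQ h hu), ?_⟩
  rw [h.p_mul w (WQ h hw) u (UQ h hu)]
  ext <;> simp [pW h hw, pU1 h hu, h.pU u hu]

theorem comm_iff (D : UD d) (hx : x ∈ Q) (hy : y ∈ Q) : x * y = y * x ↔ d.β (p x) (p y) = 0 := by
  rw [h.comQ x hx y hy, mul_eq_left, D.ι_eq_one]

theorem Z_cen (D : UD d) {z : G} (hz : z ∈ d.Z) (hx : x ∈ Q) : z * x = x * z := by
  have hz' := UQ h (D.ZU hz)
  rw [comm_iff h D hz' hx, (h.p_ker z hz').2 hz]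
  simp [QE.β]

theorem comm_eq (D : UD d) (hx : x ∈ Q) (hy : y ∈ Q) :
    x * y * x⁻¹ * y⁻¹ = d.ι (d.β (p x) (p y)) := by
  rw [h.comQ x hx y hy, ← Z_cen h D (D.ι_mem _) (mul_mem hy hx)]
  group

theorem fill (D : UD d) (hx : x ∈ Q) (hn : x ∉ W) (b : k) :
    ∃ y ∈ Q, (p y).1.2 = 0 ∧ d.β (p y) (p x) = b := by
  by_cases c : (p x).1.2 = 0
  · obtain ⟨η, e⟩ := d.B_surj (x := (p x).2) (fun r => hn ((h.memW x hx).2 ⟨c, r⟩)) b
    obtain ⟨y, hy, r⟩ := exists_p h D 0 η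
    exact ⟨y, hy, by rw [r], by simp [r, QE.β, d.B_comm η, e]⟩
  · obtain ⟨y, hy, r⟩ := exists_p h D (b / (p x).1.2) 0
    exact ⟨y, hy, by rw [r], by simp [r, QE.β, c]⟩

theorem norZ (D : UD d) (hg : g ∈ nor Q) : g ∈ nor d.Z := mem_normalizer_fintype fun z hz => by
  obtain ⟨b, rfl⟩ := (D.memZ z).1 hz
  obtain ⟨x, hx, e⟩ := exists_p h D 0 1
  obtain ⟨y, hy, -, rfl⟩ := fill h D hx (fun c => one_ne_zero (α := K) (by simpa [e] using (pW h c).2)) b
  have := D.ι_mem (d.β (p (g * y * g⁻¹)) (p (g * x * g⁻¹)))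
  rw [← comm_eq h D (conj_mem_nor hg hy) (conj_mem_nor hg hx)] at this
  rw [← comm_eq h D hy hx]
  show _ ∈ d.Z
  convert this using 1
  group

theorem Q_norF (D : UD d) : Q ≤ nor (d.Z ⊔ E) := fun g hg => mem_normalizer_fintype fun x hx => by
  have hx' : x ∈ Q := sup_le (D.ZU.trans (UQ h)) (EQ h) hx
  rw [SetLike.mem_coe, h.memF _ (mul_mem (mul_mem hg hx') (inv_mem hg)), (ad h).conj hg hx']
  exact (h.memF x hx').1 hx

theorem not_mem_F (D : UD d) (hg : g ∈ nor Q) (hn : g ∉ nor (d.Z ⊔ E)) (he : e ∈ E) (e1 : e ≠ 1) :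
    g * e * g⁻¹ ∉ d.Z ⊔ E := fun c => by
  obtain ⟨w, hw, r⟩ := h.lines g e he e1 c
  have h1 := inv_mem (WQ h hw)
  exact hn ((mul_mem_cancel_left (Q_norF h D h1)).1 (le_normalizer_sup (H := nor d.Z ⊓ nor E)
    inf_le_left inf_le_right ⟨norZ h D (mul_mem (le_normalizer h1) hg), r⟩))

end PE

theorem jobED : JobED.{u} := by
  intro G _ _ k K _ _ _ _ _ _ _ d E W Q p m L h
  have H := L.toHE
  have D := L.toUD
  constructor
  · rintro ⟨g, hg, hn⟩
    have hQ : ∀ a ∈ E, g * a * g⁻¹ ∈ Q := fun a ha => conj_mem_nor hg (PE.EQ h ha)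
    have sq : ∀ a ∈ E, (p (g * a * g⁻¹)).1.1 * (m + (p (g * a * g⁻¹)).1.2) +
        d.N (p (g * a * g⁻¹)).2 = 0 := fun a ha => by
      rw [← D.ι_eq_one, ← h.sqQ _ (hQ a ha), conj_mul, H.elE a ha, mul_one, mul_inv_cancel]
    have ne : ∀ a ∈ E, a ≠ 1 → (p (g * a * g⁻¹)).1.1 ≠ 0 := fun a ha a1 c => by
      have := sq a ha
      rw [c, zero_mul, zero_add, d.N_eq_zero] at this
      exact PE.not_mem_F h D hg hn ha a1 ((h.memF _ (hQ a ha)).2 ⟨c, this⟩)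
    obtain ⟨a, ha, b, hb, a1, b1, ab⟩ := two_ne H
    have key : ∀ x ∈ Q, d.β (p x) (p (g * a * g⁻¹)) = 0 → d.β (p x) (p (g * b * g⁻¹)) = 0 :=
      fun x hx r => by
        rw [← PE.comm_iff h D hx (hQ a ha), ← mem_cen1, ← H15.BG.cj_cen1, H.cE a ha a1] at r
        rwa [← PE.comm_iff h D hx (hQ b hb), ← mem_cen1, ← H15.BG.cj_cen1, H.cE b hb b1]
    have s1 := sq a ha
    have s2 := sq b hb
    have n1 := ne a ha a1
    have n2 := ne b hb b1
    have n3 := ne _ (mul_mem ha hb) ab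
    rw [← conj_mul, h.p_mul _ (hQ a ha) _ (hQ b hb)] at n3
    by_cases hW : g * a * g⁻¹ ∈ W
    · rw [(PE.pW h hW).1, (PE.pW h hW).2, d.N_zero, add_zero, add_zero] at s1
      exact (mul_eq_zero.1 s1).resolve_left n1
    have fl := PE.fill h D (hQ a ha) hW
    have c0 := PE.cE_ne h H ha a1
    obtain ⟨y, hy, y1, y2⟩ := fl ((p a).1.2 * (p (g * a * g⁻¹)).1.1)
    have k1 := key _ (mul_mem hy (PE.EQ h ha))
    rw [h.p_mul _ hy _ (PE.EQ h ha)] at k1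
    have k2 : ∀ (r : k) (η : K), d.β ((r, 0), η) (p (g * a * g⁻¹)) = 0 →
        d.β ((r, 0), η) (p (g * b * g⁻¹)) = 0 := fun r η => by
      obtain ⟨x, hx, e⟩ := PE.exists_p h D r η
      exact e ▸ key x hx
    obtain ⟨pa1, pa2⟩ := PE.pE h ha
    generalize p (g * a * g⁻¹) = s at *
    generalize p (g * b * g⁻¹) = s' at *
    obtain ⟨⟨α, c⟩, ξ⟩ := s
    obtain ⟨⟨α', c'⟩, ξ'⟩ := s'
    generalize p y = v at *
    obtain ⟨⟨r, c1⟩, η⟩ := v
    generalize p a = v at *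
    obtain ⟨⟨r0, c2⟩, η0⟩ := v
    simp only [QE.β, Prod.fst_add, Prod.snd_add] at *
    subst y1 pa1 pa2
    simp only [add_zero, zero_add, zero_mul] at *
    have k3 := k1 (by linear_combination y2 + c2 * α * CharTwo.two_eq_zero (R := k))
    have k4 : ∀ (r' : k) (η' : K), α * (r' * c' + d.B η' ξ') = α' * (r' * c + d.B η' ξ) :=
      fun r' η' => by
        obtain ⟨l, hl⟩ : ∃ l, l * (c2 * α) = r' * c + d.B η' ξ :=
          ⟨_, div_mul_cancel₀ _ (mul_ne_zero c0 n1)⟩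
        have := k2 (r' + l * r) (η' + l • η) (by
          rw [d.B_add_left, d.B_smul_left]
          linear_combination l * y2 + hl + (r' * c + d.B η' ξ) * CharTwo.two_eq_zero (R := k))
        rw [d.B_add_left, d.B_smul_left] at this
        linear_combination α * this - α * l * k3 + α' * hl
    have k5 : α * c' = α' * c := by simpa using k4 1 0
    have k6 : α • ξ' = α' • ξ := by
      rw [← CharTwo.add_eq_zero]
      refine d.eq_zero_of_B fun η' => ?_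
      rw [d.B_add_left, d.B_smul_left, d.B_smul_left, d.B_comm ξ', d.B_comm ξ, CharTwo.add_eq_zero]
      simpa using k4 0 η'
    have k7 := congrArg d.N k6
    rw [d.N_smul, d.N_smul] at k7
    have : α * α' * (α + α') * m = 0 := by
      linear_combination α ^ 2 * s2 + α' ^ 2 * s1 - α * α' * k5 - k7 -
        (α * α' ^ 2 * c + α' ^ 2 * d.N ξ) * CharTwo.two_eq_zero (R := k)
    exact (mul_eq_zero.1 this).resolve_left (mul_ne_zero (mul_ne_zero n1 n2) n3)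
  · rintro ⟨g, hg, hn⟩ c
    by_contra! hc
    refine hn (mem_normalizer_fintype fun x hx => by_contra fun r => ?_)
    have hx' := PE.WQ h hx
    have n1 : (p x).1.1 ≠ 0 := fun e => r (h.p_ker _ hx' |>.1 (Prod.ext (Prod.ext e (PE.pW h hx).1)
      (PE.pW h hx).2) |> fun z => by
        have := conj_mem_nor (PE.norZ h D hg) z
        have h1 := PE.UQ h (D.ZU this)
        exact (h.memW _ h1).2 (by rw [(h.p_ker _ h1).2 this]; exact ⟨rfl, rfl⟩))
    obtain ⟨b, hb⟩ := (D.memZ _).1 (conj_mem_nor (PE.norZ h D hg) (D.ι_mem (c * (p x).1.1)))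
    obtain ⟨y, hy, -, rfl⟩ := PE.fill h D (conj_mem_nor hg hx') r b
    have hy' := conj_mem_nor' hg hy
    rw [← PE.comm_eq h D hy (conj_mem_nor hg hx')] at hb
    have e : d.ι (d.β (p (g⁻¹ * y * g)) (p x)) = d.ι (c * (p x).1.1) := by
      rw [← PE.comm_eq h D hy' hx', ← mul_right_inj g, ← mul_left_inj g⁻¹, ← hb]
      group
    obtain ⟨e', he', r'⟩ := PE.exists_c h hy'
    have := D.ι_inj e
    rw [QE.β, (PE.pW h hx).1, (PE.pW h hx).2, mul_zero, zero_add, d.B_zero_right, add_zero] at this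
    exact hc e' he' (r'.trans (mul_right_cancel₀ n1 this))

end H25.BG
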