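import Cfsg.Agent.H25.BGED

/-! BGS part 2: the job EL (Siegel transformations of `Q = W U E`). -/

set_option autoImplicit false
set_option linter.unusedSectionVars false

namespace H25.BG

open Cfsg Subgroup H98 H1.Gold H85.TW H15.BG

universe u

variable {G : Type u} [Group G] [Finite G] {k K : Type} [Field k] [Field K] [Algebra k K] [Finite k]
  [Finite K] [CharP k 2] [CharP K 2] {d : Dat G k K} {E W Q : Subgroup G} {p : G → (k × k) × K}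
  {x y y' g e w u : G} {l δ δ' : K}

/-- `y` induces the Siegel transformation with parameter `δ`. -/
def Lc (W Q : Subgroup G) (p : G → (k × k) × K) (y : G) (δ : K) : Prop :=
  y ∈ nor Q ∧ y ∈ cen W ∧ ∀ x ∈ Q, (p (y * x * y⁻¹)).2 = (p x).2 + (p x).1.2 • δ

theorem cj_fix {X : Subgroup G} (hy : y ∈ cen X) (hx : x ∈ X) : y * x * y⁻¹ = x := by
  rw [← hy x hx, mul_inv_cancel_right]

theorem cen_of_fix {X : Subgroup G} (hy : ∀ x ∈ X, y * x * y⁻¹ = x) : y ∈ cen X :=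
  fun x hx => (mul_inv_eq_iff_eq_mul.1 (hy x hx)).symm

namespace EL

variable (L : LocE d E) (h : PE d E W Q p 0)
include L h

theorem ZW : d.Z ≤ W := fun z hz => by
  have h1 := PE.UQ h (L.ZU hz)
  exact (h.memW _ h1).2 (by rw [(h.p_ker _ h1).2 hz]; exact ⟨rfl, rfl⟩)

theorem βW (hw : w ∈ W) (v : (k × k) × K) : d.β (p w) v = (p w).1.1 * v.1.2 := by
  simp [QE.β, PE.pW h hw]

theorem cenZ (hy : y ∈ cen W) (a : k) : y * d.ι a * y⁻¹ = d.ι a :=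
  cj_fix hy (ZW L h (L.toUD.ι_mem a))

theorem c_cen (hy : y ∈ nor Q) (hc : y ∈ cen W) (hx : x ∈ Q) :
    (p (y * x * y⁻¹)).1.2 = (p x).1.2 := by
  obtain ⟨w, hw, e⟩ := h.surjW 1
  have a := PE.comm_eq h L.toUD (PE.WQ h hw) hx
  have b := PE.comm_eq h L.toUD (PE.WQ h hw) (conj_mem_nor hy hx)
  rw [βW L h hw, e, one_mul] at a b
  refine L.ι_inj ?_
  rw [← b, ← cenZ L h hc (p x).1.2, ← a]
  conv_lhs => rw [← cj_fix hc hw]
  group

theorem c_zero (hg : g ∈ nor Q) (hW : g ∈ nor W) (hx : x ∈ Q) (c : (p x).1.2 = 0) :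
    (p (g * x * g⁻¹)).1.2 = 0 := by
  obtain ⟨w, hw, e⟩ := h.surjW 1
  have hw' := conj_mem_nor' hW hw
  have a := (PE.comm_iff h L.toUD (PE.WQ h hw') hx).2 (by rw [βW L h hw', c, mul_zero])
  have b := (PE.comm_iff h L.toUD (PE.WQ h hw) (conj_mem_nor hg hx)).1 (by
    calc w * (g * x * g⁻¹) = g * (g⁻¹ * w * g * x) * g⁻¹ := by group
      _ = _ := by rw [a]; group)
  rwa [βW L h hw, e, one_mul] at b

theorem H_nor (hy : y ∈ d.H) : y ∈ nor W ∧ y ∈ nor Q :=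
  let r := h.nF y (le_normalizer_sup (H := nor d.Z ⊓ nor E) inf_le_left inf_le_right
    ⟨L.toUD.mem_nor_Z (L.Hle hy).2, C_le_norE L.toHE (L.Hle hy).1⟩)
  ⟨r.2.1, r.2.2.1⟩

theorem H_E (hy : y ∈ d.H) (he : e ∈ E) : y * e * y⁻¹ = e := by
  rw [C_comm L.toHE (L.Hle hy).1 he, mul_inv_cancel_right]

theorem H_act (hy : y ∈ d.H) (s : ∀ u ∈ d.U, d.π (y * u * y⁻¹) = l * d.π u) (hx : x ∈ Q) :
    (p (y * x * y⁻¹)).1.2 = (p x).1.2 ∧ (p (y * x * y⁻¹)).2 = l * (p x).2 := by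
  obtain ⟨n1, n2⟩ := H_nor L h hy
  refine PE.ind h (R := fun x => (p (y * x * y⁻¹)).1.2 = (p x).1.2 ∧
    (p (y * x * y⁻¹)).2 = l * (p x).2) (fun w hw => ?_) (fun u hu => ?_) (fun e he => ?_) ?_ hx
  · simp [PE.pW h hw, PE.pW h (conj_mem_nor n1 hw)]
  · have hu' := conj_mem_nor (L.Hle hy).2 hu
    rw [PE.pU1 h hu, PE.pU1 h hu', h.pU _ hu, h.pU _ hu', s u hu]
    exact ⟨rfl, rfl⟩
  · simp [H_E L h hy he, PE.pE h he]
  · rintro a ha b hb ⟨a1, a2⟩ ⟨b1, b2⟩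
    rw [← conj_mul, h.p_mul _ (conj_mem_nor n2 ha) _ (conj_mem_nor n2 hb), h.p_mul a ha b hb]
    simp [a1, a2, b1, b2, mul_add]

theorem H_Z (hy : y ∈ d.H) (s : ∀ u ∈ d.U, d.π (y * u * y⁻¹) = l * d.π u) (a : k) :
    y * d.ι a * y⁻¹ = d.ι (d.N l * a) := by
  obtain ⟨η, rfl⟩ := L.N_surj a
  obtain ⟨u, hu, rfl⟩ := L.π_surj η
  rw [← L.sq u hu, ← conj_mul, L.sq _ (conj_mem_nor (L.Hle hy).2 hu), s u hu, d.N_mul]

theorem H_cenW (hy : y ∈ d.H) (s : ∀ u ∈ d.U, d.π (y * u * y⁻¹) = l * d.π u) (n : d.N l = 1) :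
    y ∈ cen W := by
  have z : ∀ a, y * d.ι a * y⁻¹ = d.ι a := fun a => by rw [H_Z L h hy s, n, one_mul]
  obtain ⟨κ, hκ⟩ := h.linW y (L.Hle hy).1 (L.Hle hy).2 (cen_of_fix fun v hv => by
    obtain ⟨a, rfl⟩ := (L.memZ v).1 hv
    exact z a)
  have c : y * y ∈ cen W := cen_of_fix fun w hw => by
    rw [show y * y * w * (y * y)⁻¹ = y * (y * w * y⁻¹) * y⁻¹ by group, hκ w hw, ← conj_mul, hκ w hw,
      z, mul_assoc, L.toUD.Z_sq (L.toUD.ι_mem _), mul_one]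
  obtain ⟨i, hi⟩ := L.oddH.of_dvd_nat (Subgroup.orderOf_dvd_natCard _ hy)
  have := pow_mem c (i + 1)
  rwa [← pow_two, ← pow_mul, show 2 * (i + 1) = orderOf y + 1 by omega, pow_succ, pow_orderOf_eq_one,
    one_mul] at this

theorem lc_mul (a : Lc W Q p y δ) (b : Lc W Q p y' δ') : Lc W Q p (y * y') (δ + δ') :=
  ⟨mul_mem a.1 b.1, mul_mem a.2.1 b.2.1, fun x hx => by
    rw [show y * y' * x * (y * y')⁻¹ = y * (y' * x * y'⁻¹) * y⁻¹ by group,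
      a.2.2 _ (conj_mem_nor b.1 hx), b.2.2 x hx, c_cen L h b.1 b.2.1 hx, smul_add]
    abel⟩

theorem cen_cj (hg : g ∈ nor W) (hy : y ∈ cen W) : g * y * g⁻¹ ∈ cen W := cen_of_fix fun w hw => by
  rw [show g * y * g⁻¹ * w * (g * y * g⁻¹)⁻¹ = g * (y * (g⁻¹ * w * g) * y⁻¹) * g⁻¹ by group,
    cj_fix hy (conj_mem_nor' hg hw)]
  group

theorem lc_H (hg : g ∈ d.H) (s : ∀ u ∈ d.U, d.π (g * u * g⁻¹) = l * d.π u) (a : Lc W Q p y δ) :
    Lc W Q p (g * y * g⁻¹) (l * δ) := by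
  obtain ⟨n1, n2⟩ := H_nor L h hg
  refine ⟨mul_mem (mul_mem n2 a.1) (inv_mem n2), cen_cj L h n1 a.2.1, fun x hx => ?_⟩
  have hx' := conj_mem_nor' n2 hx
  obtain ⟨b1, b2⟩ := H_act L h hg s hx'
  rw [show g * (g⁻¹ * x * g) * g⁻¹ = x by group] at b1 b2
  rw [show g * y * g⁻¹ * x * (g * y * g⁻¹)⁻¹ = g * (y * (g⁻¹ * x * g) * y⁻¹) * g⁻¹ by group,
    (H_act L h hg s (conj_mem_nor a.1 hx')).2, a.2.2 _ hx', b1, b2, mul_add, mul_smul_comm]

theorem αU (hy : y ∈ nor Q) (hc : y ∈ cen W) (hu : u ∈ d.U) (he : e ∈ E)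
    (s : (p (y * u * y⁻¹)).2 = (p u).2) :
    (p e).1.2 * (p (y * u * y⁻¹)).1.1 = d.B (p (y * e * y⁻¹)).2 (p u).2 := by
  have := (PE.comm_iff h L.toUD (conj_mem_nor hy (PE.EQ h he)) (conj_mem_nor hy (PE.UQ h hu))).1 (by
    rw [conj_mul, conj_mul, C_comm L.toHE (L.tU hu) he])
  rw [QE.β, c_cen L h hy hc (PE.EQ h he), c_cen L h hy hc (PE.UQ h hu), PE.pU1 h hu, s] at this
  simpa [CharTwo.add_eq_zero] using this

theorem exists_lc (hy : y ∈ nor Q) (hc : y ∈ cen W)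
    (s : ∀ u ∈ d.U, (p (y * u * y⁻¹)).2 = (p u).2) : ∃ δ, Lc W Q p y δ := by
  have c0 := PE.cE_ne h L.toHE L.tE L.t1
  refine ⟨(p d.t).1.2⁻¹ • (p (y * d.t * y⁻¹)).2, hy, hc, fun x hx => ?_⟩
  refine PE.ind h (R := fun x => (p (y * x * y⁻¹)).2 = (p x).2 + (p x).1.2 • (p d.t).1.2⁻¹ •
    (p (y * d.t * y⁻¹)).2) (fun w hw => ?_) (fun u hu => ?_) (fun e he => ?_) ?_ hx
  · simp [cj_fix hc hw, PE.pW h hw]
  · simp [s u hu, PE.pU1 h hu]
  · rw [(PE.pE h he).2, zero_add, ← CharTwo.add_eq_zero]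
    refine d.eq_zero_of_B fun η => ?_
    obtain ⟨u, hu, rfl⟩ := L.π_surj η
    rw [d.B_add_left, d.B_smul_left, d.B_smul_left, ← h.pU u hu, ← αU L h hy hc hu he (s u hu),
      ← αU L h hy hc hu L.tE (s u hu), inv_mul_cancel_left₀ c0, CharTwo.add_self_eq_zero]
  · intro a ha b hb a1 b1
    rw [← conj_mul, h.p_mul _ (conj_mem_nor hy ha) _ (conj_mem_nor hy hb), h.p_mul a ha b hb]
    simp only [Prod.snd_add, Prod.fst_add, a1, b1, add_smul]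
    abel

theorem lc_α (a : Lc W Q p y δ) (hx : x ∈ Q) :
    (p (y * x * y⁻¹)).1.1 = (p x).1.1 + d.B δ (p x).2 + (p x).1.2 * d.N δ := by
  refine PE.ind h (R := fun x => (p (y * x * y⁻¹)).1.1 = (p x).1.1 + d.B δ (p x).2 +
    (p x).1.2 * d.N δ) (fun w hw => ?_) (fun u hu => ?_) (fun e he => ?_) ?_ hx
  · simp [cj_fix a.2.1 hw, PE.pW h hw]
  · have := αU L h a.1 a.2.1 hu L.tE (by simp [a.2.2 u (PE.UQ h hu), PE.pU1 h hu])
    rw [a.2.2 _ (PE.EQ h L.tE), (PE.pE h L.tE).2, zero_add, d.B_smul_left] at this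
    simp [PE.pU1 h hu, mul_left_cancel₀ (PE.cE_ne h L.toHE L.tE L.t1) this]
  · by_cases e1 : e = 1
    · simp [e1, (PE.ad h).one]
    have := h.sqQ _ (conj_mem_nor a.1 (PE.EQ h he))
    rw [conj_mul, L.elE e he, mul_one, mul_inv_cancel, eq_comm, L.toUD.ι_eq_one,
      c_cen L h a.1 a.2.1 (PE.EQ h he), a.2.2 _ (PE.EQ h he), (PE.pE h he).2, zero_add, zero_add,
      d.N_smul, CharTwo.add_eq_zero] at this
    simp only [PE.pE h he, d.B_zero_right, zero_add]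
    exact mul_right_cancel₀ (PE.cE_ne h L.toHE he e1) (by rw [this]; ring)
  · intro x hx x' hx' a1 b1
    rw [← conj_mul, h.p_mul _ (conj_mem_nor a.1 hx) _ (conj_mem_nor a.1 hx'), h.p_mul x hx x' hx']
    simp only [Prod.snd_add, Prod.fst_add, a1, b1, d.B_add_right]
    ring

theorem lc_zero (a : Lc W Q p y 0) : (∃ w ∈ W, ∀ e ∈ E, y * e * y⁻¹ = w * e * w⁻¹) ∧
    ∃ η, ∀ u ∈ d.U, y * u * y⁻¹ = u * d.ι (d.B η (d.π u)) := by
  have D := L.toUD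
  have pp : ∀ x ∈ Q, p (y * x * y⁻¹) = p x := fun x hx =>
    Prod.ext (Prod.ext (by simp [lc_α L h a hx]) (c_cen L h a.1 a.2.1 hx)) (by simp [a.2.2 x hx])
  have hF : y ∈ nor (d.Z ⊔ E) := mem_normalizer_fintype fun x hx => by
    have hx' : x ∈ Q := sup_le (D.ZU.trans (PE.UQ h)) (PE.EQ h) hx
    rw [SetLike.mem_coe, h.memF _ (conj_mem_nor a.1 hx'), pp x hx']
    exact (h.memF x hx').1 hx
  obtain ⟨-, -, -, w, hw, hn⟩ := h.nF y hF
  have hw' := PE.WQ h hw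
  obtain ⟨n, rfl⟩ : ∃ n, y = w * n := ⟨w⁻¹ * y, by group⟩
  rw [inv_mul_cancel_left] at hn
  have nQ : n ∈ nor Q := (mul_mem_cancel_left (le_normalizer hw')).1 a.1
  have e0 : ∀ x, w * n * x * (w * n)⁻¹ = w * (n * x * n⁻¹) * w⁻¹ := fun x => by group
  have pn : ∀ x ∈ Q, p (n * x * n⁻¹) = p x := fun x hx => by
    rw [← pp x hx, e0, (PE.ad h).conj hw' (conj_mem_nor nQ hx)]
  have nE : ∀ e ∈ E, n * e * n⁻¹ = e := fun e he => by
    have h1 := mul_mem (conj_mem_nor hn he) (inv_mem he)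
    refine mul_inv_eq_one.1 (L.disjE _ h1 (D.ZU ((h.p_ker _ (PE.EQ h h1)).1 ?_)))
    rw [h.p_mul _ (PE.EQ h (conj_mem_nor hn he)) _ (PE.EQ h (inv_mem he)), pn e (PE.EQ h he),
      (PE.ad h).inv (PE.EQ h he), add_neg_cancel]
  have nU : ∀ u ∈ d.U, n * u * n⁻¹ ∈ d.U := fun u hu =>
    (h.memU _ (conj_mem_nor nQ (PE.UQ h hu))).2 (by rw [pn u (PE.UQ h hu), PE.pU1 h hu])
  obtain ⟨v, hv, c⟩ := L.tr0 n (mem_cen1.2 (mul_inv_eq_iff_eq_mul.1 (nE _ L.tE)))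
    (mem_normalizer_fintype nU) fun u hu => by
      rw [← h.pU _ (nU u hu), pn u (PE.UQ h hu), h.pU u hu]
  refine ⟨⟨w, hw, fun e he => by rw [e0, nE e he]⟩, d.π v, fun u hu => ?_⟩
  have c1 := (PE.comm_iff h D hw' (PE.UQ h (nU u hu))).2 (by
    rw [βW L h hw, PE.pU1 h (nU u hu)]; simp)
  rw [e0, c1, mul_inv_cancel_right,
    show n * u * n⁻¹ = v * (v⁻¹ * n * u * (v⁻¹ * n)⁻¹) * v⁻¹ by group, cj_fix c hu, D.comm v hv u hu,
    mul_assoc, mul_assoc, D.Z_comm (D.ι_mem _) (inv_mem hv), mul_inv_cancel_left]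

/-- The relation fed into `FE.lin2`. -/
def Rl (d : Dat G k K) (W Q : Subgroup G) (p : G → (k × k) × K) (δ : K) (y : G) (b : k)
    (κ : k →+ k) : Prop :=
  Lc W Q p y (b • δ) ∧ ∀ u ∈ d.U, ∀ a, d.π u = a • δ → y * u * y⁻¹ = u * d.ι (κ a)

theorem exists_κ {b : k} (a : Lc W Q p y (b • δ)) : ∃ κ, Rl d W Q p δ y b κ := by
  have D := L.toUD
  have : ∀ r : k, ∃ s, ∀ u ∈ d.U, d.π u = r • δ → y * u * y⁻¹ = u * d.ι s := fun r => by
    obtain ⟨v, hv, e⟩ := D.π_surj (r • δ)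
    have hv' := PE.UQ h hv
    obtain ⟨s, hs⟩ := (D.memZ _).1 ((h.p_ker _ (mul_mem (inv_mem hv') (conj_mem_nor a.1 hv'))).1 (by
      rw [h.p_mul _ (inv_mem hv') _ (conj_mem_nor a.1 hv'), (PE.ad h).inv hv', neg_add_eq_zero]
      refine Prod.ext (Prod.ext ?_ (c_cen L h a.1 a.2.1 hv').symm) (by simp [a.2.2 v hv', PE.pU1 h hv])
      simp [lc_α L h a hv', PE.pU1 h hv, h.pU v hv, e, d.B_smul_left, d.B_smul_right, d.B_self]))
    refine ⟨s, fun u hu e' => ?_⟩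
    obtain ⟨z, hz⟩ := (D.memZ _).1 ((D.ker _ (mul_mem hu (inv_mem hv))).1 (by
      rw [D.π_mul u hu _ (inv_mem hv), D.π_inv hv, e, e', CharTwo.add_self_eq_zero]))
    rw [eq_mul_inv_iff_mul_eq] at hz
    rw [← hz, ← conj_mul, cenZ L h a.2.1, hs]
    group
  choose f hf using this
  refine ⟨AddMonoidHom.mk' f fun r r' => ?_, a, fun u hu r => hf r u hu⟩
  obtain ⟨u, hu, e⟩ := D.π_surj (r • δ)
  obtain ⟨v, hv, e'⟩ := D.π_surj (r' • δ)
  have := hf (r + r') _ (mul_mem hu hv) (by rw [D.π_mul u hu v hv, e, e', add_smul])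
  rw [← conj_mul, hf r u hu e, hf r' v hv e', mul_assoc, ← mul_assoc _ v, D.Z_comm (D.ι_mem _) hv,
    mul_assoc, ← mul_assoc, ← D.ι_add, mul_right_inj] at this
  exact D.ι_inj this.symm

theorem lin_κ (a : Lc W Q p y δ) : ∃ s, ∀ u ∈ d.U, ∀ r : k, d.π u = r • δ →
    y * u * y⁻¹ = u * d.ι (r * s) := by
  have D := L.toUD
  have sc : ∀ r : k, r ≠ 0 → ∃ g ∈ d.H, ∀ u ∈ d.U, d.π (g * u * g⁻¹) = algebraMap k K r * d.π u :=
    fun r r0 => d.lam_alg r0 ▸ L.Hlam _ ((map_ne_zero_iff _ (algebraMap k K).injective).2 r0)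
  have cj : ∀ (r b : k) g y, g ∈ d.H → (∀ u ∈ d.U, d.π (g * u * g⁻¹) = algebraMap k K r * d.π u) →
      Lc W Q p y (b • δ) → Lc W Q p (g * y * g⁻¹) ((r * b) • δ) := fun r b g y hg s a => by
    rw [mul_smul, Algebra.smul_def r]; exact lc_H L h hg s a
  have a1 : Lc W Q p y ((1 : k) • δ) := (one_smul k δ).symm ▸ a
  obtain ⟨κ, hκ⟩ := exists_κ L h a1
  have := L.lin2 (fun b κ => ∃ y, Rl d W Q p δ y b κ) (fun b => ?_) ?_ ?_ ?_ 1 κ ⟨y, hκ⟩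
  · exact ⟨κ 1, fun u hu r e => by rw [hκ.2 u hu r e, this]⟩
  · by_cases b0 : b = 0
    · exact ⟨0, 1, ⟨one_mem _, one_mem _, fun x _ => by simp [b0]⟩, fun u _ _ _ => by simp [D.ι_zero]⟩
    obtain ⟨g, hg, s⟩ := sc b b0
    obtain ⟨κ', c⟩ := exists_κ L h (cj b 1 g y hg s a1)
    exact ⟨κ', _, mul_one b ▸ c⟩
  · rintro b κ b' κ' ⟨y, y1, y2⟩ ⟨y', y1', y2'⟩
    refine ⟨y * y', add_smul b b' δ ▸ lc_mul L h y1 y1', fun u hu r e => ?_⟩
    rw [show y * y' * u * (y * y')⁻¹ = y * (y' * u * y'⁻¹) * y⁻¹ by group, y2' u hu r e, ← conj_mul,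
      y2 u hu r e, cenZ L h y1.2.1, mul_assoc, ← D.ι_add]
    rfl
  · rintro κ ⟨y, y1, y2⟩
    obtain ⟨η, e⟩ := (lc_zero L h (zero_smul k δ ▸ y1)).2
    have : ∀ r, κ r = r * d.B η δ := fun r => by
      obtain ⟨u, hu, e'⟩ := D.π_surj (r • δ)
      have := e u hu
      rw [y2 u hu r e', mul_right_inj, e', d.B_smul_right] at this
      exact D.ι_inj this
    exact fun r => by rw [this, this, one_mul]
  · rintro r b κ r0 ⟨y, y1, y2⟩
    obtain ⟨g, hg, s⟩ := sc r r0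
    obtain ⟨κ', c⟩ := exists_κ L h (cj r b g y hg s y1)
    refine ⟨κ', ⟨_, c⟩, fun x => ?_⟩
    obtain ⟨u, hu, e⟩ := D.π_surj (x • δ)
    have := c.2 _ (conj_mem_nor (L.Hle hg).2 hu) (r * x) (by rw [s u hu, e, mul_smul, Algebra.smul_def r])
    rw [show g * y * g⁻¹ * (g * u * g⁻¹) * (g * y * g⁻¹)⁻¹ = g * (y * u * y⁻¹) * g⁻¹ by group,
      y2 u hu x e, ← conj_mul, mul_right_inj, H_Z L h hg s, d.N_alg] at this
    exact (D.ι_inj this).symm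

theorem lc_eq (a : Lc W Q p y δ) : δ = 0 := by
  have D := L.toUD
  by_contra n
  obtain ⟨s, hs⟩ := lin_κ L h a
  obtain ⟨w, hw, hw'⟩ := (lc_zero L h (CharTwo.add_self_eq_zero δ ▸ lc_mul L h a a)).1
  have key : ∀ e ∈ E, e ≠ 1 → (p e).1.2 * d.N δ = (p w).1.1 + s := fun e he e1 => by
    have q := PE.EQ h he
    have q' := conj_mem_nor a.1 q
    obtain ⟨u, hu, e2⟩ := D.π_surj ((p e).1.2 • δ)
    have p1 : (p (e * (y * e * y⁻¹))).1.2 = 0 := by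
      rw [h.p_mul _ q _ q', Prod.fst_add, Prod.snd_add, c_cen L h a.1 a.2.1 q, CharTwo.add_self_eq_zero]
    have p2 : (p (e * (y * e * y⁻¹))).2 = (p e).1.2 • δ := by
      rw [h.p_mul _ q _ q', Prod.snd_add, a.2.2 e q, (PE.pE h he).2, zero_add, zero_add]
    have hv : e * (y * e * y⁻¹) * u⁻¹ ∈ W := by
      have u1 := PE.UQ h (inv_mem hu)
      rw [h.memW _ (mul_mem (mul_mem q q') u1), h.p_mul _ (mul_mem q q') _ u1, Prod.fst_add,
        Prod.snd_add, Prod.snd_add, p1, p2, PE.pU1 h (inv_mem hu), h.pU _ (inv_mem hu), D.π_inv hu, e2]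
      exact ⟨add_zero _, CharTwo.add_self_eq_zero _⟩
    have s1 := h.sqQ _ (mul_mem q q')
    have s2 := cj_fix a.2.1 hv
    have s3 := PE.comm_eq h D (PE.WQ h hw) q
    rw [p1, p2, add_zero, mul_zero, zero_add, d.N_smul] at s1
    rw [βW L h hw, ← hw' e he] at s3
    have ee := L.elE e he
    have s4 : y * (e * (y * e * y⁻¹)) * y⁻¹ = e * (y * e * y⁻¹) * d.ι ((p e).1.2 * s) := by
      rw [← inv_mul_cancel_right (e * (y * e * y⁻¹)) u, ← conj_mul, s2, hs u hu _ e2, ← mul_assoc]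
    have s5 : e * (y * e * y⁻¹) * (y * (e * (y * e * y⁻¹)) * y⁻¹) = d.ι ((p w).1.1 * (p e).1.2) := by
      calc _ = e * (y * (e * e) * y⁻¹) * (y * y * e * (y * y)⁻¹ * e⁻¹) * e := by group
        _ = _ := by
          rw [s3, ee, mul_one, mul_inv_cancel, mul_one, ← PE.Z_cen h D (D.ι_mem _) q, mul_assoc, ee,
            mul_one]
    rw [s4, ← mul_assoc, s1, ← D.ι_add] at s5
    refine mul_left_cancel₀ (PE.cE_ne h L.toHE he e1) ?_
    linear_combination D.ι_inj s5 - (p e).1.2 * s * CharTwo.two_eq_zero (R := k)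
  obtain ⟨a, ha, b, hb, a1, b1, ab⟩ := two_ne L.toHE
  have k3 := key _ (mul_mem ha hb) ab
  rw [h.p_mul a (PE.EQ h ha) b (PE.EQ h hb), Prod.fst_add, Prod.snd_add, add_mul, key b hb b1,
    add_eq_right] at k3
  exact mul_ne_zero (PE.cE_ne h L.toHE ha a1) (mt d.N_eq_zero.1 n) k3

theorem semi (hg : g ∈ nor Q) (hW : g ∈ nor W) : ∃ (l : K) (σ : K ≃+* K), l ≠ 0 ∧
    ∀ x ∈ Q, (p x).1.2 = 0 → (p (g * x * g⁻¹)).2 = l * σ (p x).2 := by
  have D := L.toUD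
  choose f f1 f2 using D.π_surj
  have c0 : ∀ η, (p (f η)).1.2 = 0 := fun η => by rw [PE.pU1 h (f1 η)]; rfl
  have wd : ∀ x ∈ Q, (p x).1.2 = 0 → (p (g * x * g⁻¹)).2 = (p (g * f (p x).2 * g⁻¹)).2 :=
    fun x hx c => by
      have q := PE.UQ h (f1 (p x).2)
      have := (PE.pW h (conj_mem_nor hW ((h.memW _ (mul_mem hx q)).2 (by
        rw [h.p_mul _ hx _ q, Prod.fst_add, Prod.snd_add, Prod.snd_add, c, c0, h.pU _ (f1 _), f2]
        exact ⟨add_zero _, CharTwo.add_self_eq_zero _⟩)))).2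
      rwa [← conj_mul, h.p_mul _ (conj_mem_nor hg hx) _ (conj_mem_nor hg q), Prod.snd_add,
        CharTwo.add_eq_zero] at this
  let φ : K →+ K := AddMonoidHom.mk' (fun η => (p (g * f η * g⁻¹)).2) fun a b => by
    have := wd _ (PE.UQ h (mul_mem (f1 a) (f1 b))) (by rw [PE.pU1 h (mul_mem (f1 a) (f1 b))]; rfl)
    rw [h.pU _ (mul_mem (f1 a) (f1 b)), D.π_mul _ (f1 a) _ (f1 b), f2, f2] at this
    rw [← this, ← conj_mul, h.p_mul _ (conj_mem_nor hg (PE.UQ h (f1 a))) _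
      (conj_mem_nor hg (PE.UQ h (f1 b))), Prod.snd_add]
  have inj : Function.Injective φ := (injective_iff_map_eq_zero φ).2 fun η e => by
    have q := PE.UQ h (f1 η)
    have := (mem_normalizer_iff.1 hW _).2
      ((h.memW _ (conj_mem_nor hg q)).2 ⟨c_zero L h hg hW q (c0 η), e⟩)
    rw [← f2 η, ← h.pU _ (f1 η), (PE.pW h this).2]
  have nZ := PE.norZ h D hg
  obtain ⟨l, σ, l0, e⟩ := L.aut (AddEquiv.ofBijective φ (Finite.injective_iff_bijective.1 inj))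
    (AddMonoidHom.mk' (lin d.ι g) (L.co.lin_add nZ)) fun η => D.ι_inj (by
      have q := PE.UQ h (f1 η)
      have := h.sqQ _ (conj_mem_nor hg q)
      rw [c_zero L h hg hW q (c0 η), add_zero, mul_zero, zero_add, conj_mul, D.sq _ (f1 η), f2,
        ← L.co.lin_spec nZ] at this
      exact this.symm)
  exact ⟨l, σ, l0, fun x hx c => (wd x hx c).trans (e _)⟩

end EL

theorem jobEL : JobEL.{u} := by
  intro G _ _ k K _ _ _ _ _ _ _ d E W Q p L h g ⟨hg, hW⟩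
  have D := L.toUD
  by_contra hn
  obtain ⟨l, σ, -, s⟩ := EL.semi L h hg hW
  obtain ⟨a, a0, a1, a2⟩ := L.eta
  have b0 : (σ a)⁻¹ ≠ 0 := inv_ne_zero ((map_ne_zero_iff _ σ.injective).2 a0)
  have sb : ∀ x, d.bar (σ x) = σ (d.bar x) := fun x => DFunLike.congr_fun (L.galc d.bar σ) x
  have b1 : d.lam (σ a)⁻¹ = (σ (d.lam a))⁻¹ := by
    simp only [QE.lam, map_mul, map_inv₀, sb, mul_inv]
  have l0 : σ (d.lam a) ≠ 0 := (map_ne_zero_iff _ σ.injective).2 (d.lam_ne_zero a0)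
  have b2 : d.N (σ (d.lam a))⁻¹ = 1 := QE.inj (K := K) (by
    rw [d.N_eq, map_inv₀, sb, ← mul_inv, ← map_mul, ← d.N_eq, a2]; simp)
  obtain ⟨η, hη, sη⟩ := L.Hlam a a0
  obtain ⟨j, hj, sj⟩ := L.Hlam _ b0
  rw [b1] at sj
  have n1 := (EL.H_nor L h hη).2
  have n2 := (EL.H_nor L h hj).2
  have hy : g * η * g⁻¹ ∈ nor Q := mul_mem (mul_mem hg n1) (inv_mem hg)
  obtain ⟨δ, c⟩ := EL.exists_lc L h (mul_mem n2 hy)
    (mul_mem (EL.H_cenW L h hj sj b2) (EL.cen_cj L h hW (EL.H_cenW L h hη sη a2))) fun u hu => by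
      have q := conj_mem_nor' hg (PE.UQ h hu)
      have c : (p (g⁻¹ * u * g)).1.2 = 0 := by
        simpa using EL.c_zero L h (inv_mem hg) (inv_mem hW) (PE.UQ h hu) (by rw [PE.pU1 h hu]; rfl)
      obtain ⟨c1, c2⟩ := EL.H_act L h hη sη q
      have c3 := s _ q c
      rw [show g * (g⁻¹ * u * g) * g⁻¹ = u by group] at c3
      rw [show j * (g * η * g⁻¹) * u * (j * (g * η * g⁻¹))⁻¹ =
        j * (g * (η * (g⁻¹ * u * g) * η⁻¹) * g⁻¹) * j⁻¹ by group,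
        (EL.H_act L h hj sj (conj_mem_nor hg (conj_mem_nor n1 q))).2,
        s _ (conj_mem_nor n1 q) (c1.trans c), c2, c3, map_mul]
      field_simp
  have q := conj_mem_nor hg (PE.EQ h L.tE)
  have e1 := c.2.2 _ q
  rw [show j * (g * η * g⁻¹) * (g * d.t * g⁻¹) * (j * (g * η * g⁻¹))⁻¹ =
    j * (g * (η * d.t * η⁻¹) * g⁻¹) * j⁻¹ by group, EL.H_E L h hη L.tE, (EL.H_act L h hj sj q).2,
    EL.lc_eq L h c, smul_zero, add_zero, mul_eq_right₀, inv_eq_one, ← map_one σ] at e1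
  · exact a1 (σ.injective e1)
  intro x0
  have sq := h.sqQ _ q
  rw [conj_mul, L.tt, mul_one, mul_inv_cancel, eq_comm, D.ι_eq_one, x0, d.N_zero, add_zero, zero_add,
    mul_eq_zero] at sq
  refine PE.not_mem_F h D hg hn L.tE L.t1 ((h.memF _ q).2 ⟨sq.resolve_right fun c => ?_, x0⟩)
  have := EL.c_zero L h (inv_mem hg) (inv_mem hW) q c
  rw [show g⁻¹ * (g * d.t * g⁻¹) * g⁻¹⁻¹ = d.t by group] at this
  exact PE.cE_ne h L.toHE L.tE L.t1 this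

end H25.BG
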