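/- Real elements: an odd order automorphism fixing the real elements of a `2`-group is trivial. -/
import Cfsg.Agent.H7.Frobenius
import Cfsg.Agent.H40.SnSyl
import Cfsg.Agent.H42.OddOrder
import Cfsg.Agent.H17.FrobSys
import Cfsg.Agent.S3861

set_option autoImplicit false

namespace H25.RealCl
open Subgroup Cfsg

universe u
variable {G : Type u} [Group G] [Finite G]

theorem fix_real {u : G} (hu : Odd (orderOf u)) (n : ℕ) : ∀ Q : Subgroup G, Nat.card Q = n →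
    IsPGroup 2 Q → (∀ x ∈ Q, u * x * u⁻¹ ∈ Q) →
    (∀ x ∈ Q, ∀ y ∈ Q, y * x * y⁻¹ = x⁻¹ → u * x * u⁻¹ = x) → ∀ x ∈ Q, u * x * u⁻¹ = x := by
  induction n using Nat.strong_induction_on with
  | _ n ih =>
  intro Q hn hQ hinv hreal
  haveI : Fact (Nat.Prime 2) := ⟨Nat.prime_two⟩
  by_contra hne
  push Not at hne
  obtain ⟨x, hx, hxu⟩ := hne
  have sub : ∀ W : Subgroup G, W ≤ Q → (∀ w ∈ W, u * w * u⁻¹ ∈ W) → ¬ Q ≤ W →
      ∀ w ∈ W, u * w * u⁻¹ = w := by
    intro W hW hWu hne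
    refine ih _ ?_ W rfl (hQ.to_le hW) hWu fun a ha b hb => hreal a (hW ha) b (hW hb)
    rw [← hn]
    exact lt_of_le_of_ne (card_le_of_le hW) fun e => hne (eq_of_le_of_card_ge hW e.ge).ge
  have star : ∀ W : Subgroup G, W ≤ Q → (∀ w ∈ W, u * w * u⁻¹ ∈ W) →
      x⁻¹ * (u * x * u⁻¹) ∈ W → (∀ y ∈ Q, y⁻¹ * (u * y * u⁻¹) ∈ W) → Q ≤ W := by
    intro W hW hWu h1 _
    by_contra hne
    have h2 := sub W hW hWu hne _ h1
    set c := x⁻¹ * (u * x * u⁻¹) with hc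
    have h3 : ∀ k : ℕ, u ^ k * x * (u ^ k)⁻¹ = x * c ^ k := by
      intro k
      induction k with
      | zero => simp
      | succ k ihk =>
        have e : u ^ (k + 1) * x * (u ^ (k + 1))⁻¹ = u * (u ^ k * x * (u ^ k)⁻¹) * u⁻¹ := by
          rw [pow_succ']; group
        have e2 : u * c ^ k * u⁻¹ = c ^ k := by rw [← conj_pow, h2]
        rw [e, ihk, pow_succ']
        calc u * (x * c ^ k) * u⁻¹ = (u * x * u⁻¹) * (u * c ^ k * u⁻¹) := by group
          _ = x * (c * c ^ k) := by rw [e2, ← mul_assoc x, hc, mul_inv_cancel_left]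
    have h4 := h3 (orderOf u)
    rw [pow_orderOf_eq_one, one_mul, inv_one, mul_one, left_eq_mul] at h4
    obtain ⟨k, hk⟩ := hQ ⟨c, hW h1⟩
    have h5 : c ^ 2 ^ k = 1 := congrArg Subtype.val hk
    have h6 : orderOf c = 1 := (Nat.coprime_self _).1 ((Nat.Coprime.pow_right k
      (Nat.coprime_two_right.2 hu)).coprime_dvd_left (orderOf_dvd_of_pow_eq_one h4)
        |>.coprime_dvd_right (orderOf_dvd_of_pow_eq_one h5))
    rw [orderOf_eq_one_iff, hc, inv_mul_eq_one] at h6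
    exact hxu h6.symm
  -- squares
  have x1 : x ≠ 1 := by rintro rfl; simp at hxu
  obtain ⟨M, -, hM, hMn, hMi⟩ := H40.Sn.exists_coatom hQ (S := ⊥) (by
    intro e
    have : (⟨x, hx⟩ : Q) ∈ (⊥ : Subgroup Q) := e ▸ mem_top _
    exact x1 (congrArg Subtype.val (mem_bot.1 this)))
  let D : Subgroup G := closure {z | ∃ y ∈ Q, z = y ^ 2}
  have DQ : D ≤ Q := (closure_le _).2 (by rintro _ ⟨y, hy, rfl⟩; exact pow_mem hy 2)
  have Dc : ∀ g : G, (∀ y ∈ Q, g * y * g⁻¹ ∈ Q) → ∀ w ∈ D, g * w * g⁻¹ ∈ D := by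
    intro g hg w hw
    have : D ≤ D.comap (MulAut.conj g).toMonoidHom := (closure_le _).2 (by
      rintro _ ⟨y, hy, rfl⟩
      exact subset_closure ⟨_, hg y hy, by simp [conj_pow]⟩)
    exact this hw
  have Dfix : ∀ w ∈ D, u * w * u⁻¹ = w := sub D DQ (Dc u hinv) fun hle => hM.1 (by
    have : D ≤ M.map Q.subtype := (closure_le _).2 (by
      rintro _ ⟨y, hy, rfl⟩
      exact ⟨⟨y, hy⟩ ^ 2, hMi ▸ M.pow_index_mem _, rfl⟩)
    rw [eq_top_iff]
    intro y _
    obtain ⟨z, hz, e⟩ := this (hle y.2)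
    exact (Subtype.ext e : z = y) ▸ hz)
  have sqD : ∀ y ∈ Q, y ^ 2 ∈ D := fun y hy => subset_closure ⟨y, hy, rfl⟩
  have cmD : ∀ a ∈ Q, ∀ b ∈ Q, a⁻¹ * (b * a * b⁻¹) ∈ D := by
    intro a ha b hb
    have : a⁻¹ * (b * a * b⁻¹) = (a⁻¹ * b) ^ 2 * (b⁻¹ * a * b) ^ 2 * b⁻¹ ^ 2 := by
      simp only [pow_two]; group
    rw [this]
    exact mul_mem (mul_mem (sqD _ (mul_mem (inv_mem ha) hb))
      (sqD _ (mul_mem (mul_mem (inv_mem hb) ha) hb))) (sqD _ (inv_mem hb))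
  have Dz : ∀ d ∈ D, ∀ y ∈ Q, y * d = d * y := by
    intro d hd
    have h1 : ∀ y ∈ Q, y⁻¹ * (u * y * u⁻¹) ∈ Q ⊓ centralizer {d} := fun y hy =>
      ⟨Q.mul_mem (Q.inv_mem hy) (hinv y hy), mem_centralizer_singleton_iff.2 (by
        have e1 := Dfix _ (Dc y (fun z hz => mul_mem (mul_mem hy hz) (inv_mem hy)) d hd)
        have e2 := Dfix d hd
        calc y⁻¹ * (u * y * u⁻¹) * d = y⁻¹ * (u * y * u⁻¹) * (u * d * u⁻¹) := by rw [e2]
          _ = y⁻¹ * (u * (y * d * y⁻¹) * u⁻¹) * (u * y * u⁻¹) := by group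
          _ = d * (y⁻¹ * (u * y * u⁻¹)) := by rw [e1]; group)⟩
    have := star (Q ⊓ centralizer {d}) inf_le_left (fun w hw => ⟨hinv w hw.1,
      mem_centralizer_singleton_iff.2 (by
        have e1 := mem_centralizer_singleton_iff.1 hw.2
        have e2 := Dfix d hd
        calc u * w * u⁻¹ * d = u * w * u⁻¹ * (u * d * u⁻¹) := by rw [e2]
          _ = u * (w * d) * u⁻¹ := by group
          _ = (u * d * u⁻¹) * (u * w * u⁻¹) := by rw [e1]; group
          _ = d * (u * w * u⁻¹) := by rw [e2])⟩) (h1 x hx) h1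
    exact fun y hy => mem_centralizer_singleton_iff.1 (this hy).2
  -- the commutators with `x`
  let B : Subgroup G :=
    { carrier := {z | ∃ y ∈ Q, z = x⁻¹ * (y * x * y⁻¹)}
      one_mem' := ⟨1, one_mem _, by simp⟩
      mul_mem' := by
        rintro _ _ ⟨a, ha, rfl⟩ ⟨b, hb, rfl⟩
        refine ⟨a * b, mul_mem ha hb, ?_⟩
        have := Dz _ (cmD x hx b hb) a⁻¹ (inv_mem ha)
        calc x⁻¹ * (a * x * a⁻¹) * (x⁻¹ * (b * x * b⁻¹))
            = x⁻¹ * (a * x) * (a⁻¹ * (x⁻¹ * (b * x * b⁻¹))) := by group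
          _ = _ := by rw [this]; group
      inv_mem' := by
        rintro _ ⟨a, ha, rfl⟩
        refine ⟨a⁻¹, inv_mem ha, ?_⟩
        have := Dz _ (cmD x hx a⁻¹ (inv_mem ha)) a⁻¹ (inv_mem ha)
        rw [inv_eq_iff_mul_eq_one]
        calc x⁻¹ * (a * x * a⁻¹) * (x⁻¹ * (a⁻¹ * x * a⁻¹⁻¹))
            = x⁻¹ * (a * x) * (a⁻¹ * (x⁻¹ * (a⁻¹ * x * a⁻¹⁻¹))) := by group
          _ = _ := by rw [this]; group }
  have BD : B ≤ D := by rintro _ ⟨y, hy, rfl⟩; exact cmD x hx y hy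
  have inv' : ∀ y ∈ Q, u⁻¹ * y * u ∈ Q := by
    have : u ∈ normalizer (Q : Set G) := mem_normalizer_fintype hinv
    intro y hy
    simpa using (mem_normalizer_iff.1 (inv_mem this) y).1 hy
  let W : Subgroup G :=
    { carrier := {w | w ∈ Q ∧ ∀ y ∈ Q, w⁻¹ * (y * w * y⁻¹) ∈ B}
      one_mem' := ⟨one_mem _, fun y _ => by simpa using B.one_mem⟩
      mul_mem' := by
        rintro a b ⟨ha, ha'⟩ ⟨hb, hb'⟩
        refine ⟨mul_mem ha hb, fun y hy => ?_⟩
        have := Dz _ (cmD a ha y hy) b⁻¹ (inv_mem hb)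
        have e : (a * b)⁻¹ * (y * (a * b) * y⁻¹) =
            a⁻¹ * (y * a * y⁻¹) * (b⁻¹ * (y * b * y⁻¹)) := by
          calc (a * b)⁻¹ * (y * (a * b) * y⁻¹)
              = (b⁻¹ * (a⁻¹ * (y * a * y⁻¹))) * (y * b * y⁻¹) := by group
            _ = _ := by rw [this]; group
        rw [e]
        exact mul_mem (ha' y hy) (hb' y hy)
      inv_mem' := by
        rintro a ⟨ha, ha'⟩
        refine ⟨inv_mem ha, fun y hy => ?_⟩
        have := Dz _ (inv_mem (cmD a ha y hy)) a ha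
        have e : a⁻¹⁻¹ * (y * a⁻¹ * y⁻¹) = (a⁻¹ * (y * a * y⁻¹))⁻¹ := by
          calc a⁻¹⁻¹ * (y * a⁻¹ * y⁻¹) = (a * (a⁻¹ * (y * a * y⁻¹))⁻¹) * a⁻¹ := by group
            _ = _ := by rw [this]; group
        rw [e]
        exact inv_mem (ha' y hy) }
  have QW : Q ≤ W := by
    by_contra hne
    refine hxu (sub W (fun w hw => hw.1) (fun w hw => ⟨hinv w hw.1, fun y hy => ?_⟩) hne x
      ⟨hx, fun y hy => ⟨y, hy, rfl⟩⟩)
    have h1 := hw.2 _ (inv' y hy)
    have h2 := Dfix _ (BD h1)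
    rw [← h2] at h1
    convert h1 using 1
    group
  have sqm : ∀ a ∈ Q, ∀ b ∈ Q, (a * b) ^ 2 = a ^ 2 * (a⁻¹ * (b * a * b⁻¹)) * b ^ 2 := by
    intro a _ b _
    simp only [pow_two]; group
  let W2 : Subgroup G :=
    { carrier := {w | w ∈ Q ∧ w ^ 2 ∈ B}
      one_mem' := ⟨one_mem _, by simpa using B.one_mem⟩
      mul_mem' := by
        rintro a b ⟨ha, ha'⟩ ⟨hb, hb'⟩
        refine ⟨mul_mem ha hb, ?_⟩
        rw [sqm a ha b hb]
        exact mul_mem (mul_mem ha' ((QW ha).2 b hb)) hb'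
      inv_mem' := by
        rintro a ⟨ha, ha'⟩
        exact ⟨inv_mem ha, by rw [inv_pow]; exact inv_mem ha'⟩ }
  have h1 : ∀ y ∈ Q, y⁻¹ * (u * y * u⁻¹) ∈ W2 := fun y hy => by
    refine ⟨mul_mem (inv_mem hy) (hinv y hy), ?_⟩
    rw [sqm _ (inv_mem hy) _ (hinv y hy), conj_pow, Dfix _ (sqD y hy)]
    have h2 := (QW (inv_mem hy)).2 _ (hinv y hy)
    have h3 := Dz _ (BD h2) (y ^ 2) (pow_mem hy 2)
    rw [mul_assoc, ← h3, ← mul_assoc, inv_pow, inv_mul_cancel, one_mul]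
    exact h2
  have QW2 := star W2 (fun w hw => hw.1) (fun w hw => ⟨hinv w hw.1, by
    rw [conj_pow, Dfix _ (sqD w hw.1)]; exact hw.2⟩) (h1 x hx) h1
  obtain ⟨y, hy, e⟩ := (QW2 (inv_mem hx)).2
  refine hxu (hreal x hx y hy ?_)
  rw [pow_two, mul_right_inj] at e
  exact e.symm

theorem even_index_of_real {x : G} (h : IsConj x x⁻¹) (h2 : x⁻¹ ≠ x) :
    Even (centralizer ({x} : Set G)).index := by
  obtain ⟨g, hg⟩ := isConj_iff.1 h
  by_contra hodd
  rw [Nat.not_even_iff_odd] at hodd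
  set C := centralizer ({x} : Set G)
  have hg' : g * x⁻¹ * g⁻¹ = x := by rw [← conj_inv, hg, inv_inv]
  have hN : g ∈ normalizer (C : Set G) := by
    refine mem_normalizer_fintype fun c hc => ?_
    have h1 : c * x⁻¹ = x⁻¹ * c := (show Commute c x from mem_centralizer_singleton_iff.1 hc).inv_right
    refine mem_centralizer_singleton_iff.2 ?_
    calc g * c * g⁻¹ * x = g * c * g⁻¹ * (g * x⁻¹ * g⁻¹) := by rw [hg']
      _ = g * (c * x⁻¹) * g⁻¹ := by group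
      _ = (g * x⁻¹ * g⁻¹) * (g * c * g⁻¹) := by rw [h1]; group
      _ = _ := by rw [hg']
  obtain ⟨k, hk⟩ := hodd.of_dvd_nat (relIndex_dvd_index_of_le (H := C) le_normalizer)
  have h3 : g ^ (2 * k + 1) ∈ C := by
    rw [← hk]
    exact (C.subgroupOf (normalizer (C : Set G))).pow_index_mem ⟨g, hN⟩
  have h4 : g ^ 2 ∈ C := mem_centralizer_singleton_iff.2 (by
    rw [← mul_inv_eq_iff_eq_mul]
    calc g ^ 2 * x * (g ^ 2)⁻¹ = g * (g * x * g⁻¹) * g⁻¹ := by rw [pow_two]; group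
      _ = x := by rw [hg, hg'])
  rw [pow_succ, pow_mul, C.mul_mem_cancel_left (pow_mem h4 k)] at h3
  apply h2
  rw [← hg, mem_centralizer_singleton_iff.1 h3, mul_inv_cancel_right]

theorem s4193 (a : ℕ) (h : ∀ x : G, IsConj x x⁻¹ → x ∉ center G →
      ((centralizer ({x} : Set G)).index).factorization 2 = a) (S : Sylow 2 G)
    (hS : ∀ s : ↥(S : Subgroup G), IsConj s s⁻¹ → s ∈ center ↥(S : Subgroup G)) :
    Group.IsSolvable G ∧ HasNormalPComplement 2 ↥(closure {g : G | ∃ k : ℕ, orderOf g = 2 ^ k}) := by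
  haveI : Fact (Nat.Prime 2) := ⟨Nat.prime_two⟩
  by_cases hc : ∀ t ∈ (S : Subgroup G), t⁻¹ = t → t ∈ center G
  · have hG : HasNormalPComplement 2 G := by
      refine H7.hasNPC_of_normalizer_centralizer_sylow S fun Q hQ _ g hg hco y hy => ?_
      refine (mul_inv_eq_iff_eq_mul.1 (fix_real (Nat.coprime_two_right.1 hco) _ Q rfl
        (S.isPGroup'.to_le hQ) (fun x hx => (mem_normalizer_iff.1 hg x).1 hx)
        (fun x hx y hy e => ?_) y hy)).symm
      have h1 := hS ⟨x, hQ hx⟩ (isConj_iff.2 ⟨⟨y, hQ hy⟩, Subtype.ext e⟩)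
      have h2 : y * x = x * y := congrArg Subtype.val (mem_center_iff.1 h1 ⟨y, hQ hy⟩)
      rw [h2, mul_inv_cancel_right] at e
      rw [mem_center_iff.1 (hc x (hQ hx) e.symm) g, mul_inv_cancel_right]
    exact ⟨H17.sol_of_hasNPC hG, H7.hasNPC_of_injective hG _ (subtype_injective _)⟩
  push Not at hc
  obtain ⟨t, ht, t2, tc⟩ := hc
  have a0 : a = 0 := by
    rw [← h t (by rw [t2]) tc]
    have h1 := hS ⟨t, ht⟩ (by rw [show (⟨t, ht⟩ : (S : Subgroup G))⁻¹ = ⟨t, ht⟩ from Subtype.ext t2])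
    have h2 : (S : Subgroup G) ≤ centralizer {t} := fun s hs =>
      mem_centralizer_singleton_iff.2 (congrArg Subtype.val (mem_center_iff.1 h1 ⟨s, hs⟩))
    exact Nat.factorization_eq_zero_of_not_dvd fun hd =>
      S.not_dvd_index (hd.trans (index_dvd_of_le h2))
  have hN : (S : Subgroup G).Normal := by
    refine (Cfsg.Agent.S3861.result S).1 fun x x1 hx hr => ?_
    have h2 : x⁻¹ ≠ x := fun e => x1 (by
      have : orderOf x ∣ 2 := orderOf_dvd_of_pow_eq_one (by rw [pow_two]; nth_rw 1 [← e]; simp)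
      rw [← orderOf_eq_one_iff]
      exact (Nat.coprime_self _).1
        ((Nat.coprime_two_right.2 hx).coprime_dvd_right this))
    have h3 := h x hr fun hz => h2 (by
      obtain ⟨g, hg⟩ := isConj_iff.1 hr
      rw [← hg, mem_center_iff.1 hz g, mul_inv_cancel_right])
    rw [a0, Nat.factorization_eq_zero_iff] at h3
    rcases h3 with h3 | h3 | h3
    · exact h3 Nat.prime_two
    · exact h3 (even_index_of_real hr h2).two_dvd
    · exact index_ne_zero_of_finite h3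
  refine ⟨?_, H7.hasNPC_of_isPGroup (S.isPGroup'.to_le ((closure_le _).2 ?_))⟩
  · have := S.isPGroup'.isNilpotent
    have : Group.IsSolvable (G ⧸ (S : Subgroup G)) :=
      H42.odd_order (Nat.odd_iff.2 (Nat.two_dvd_ne_zero.1 S.not_dvd_index))
    exact Group.isSolvable_of_ker_le_range (S : Subgroup G).subtype (QuotientGroup.mk' (S : Subgroup G)) (by simp)
  · rintro g ⟨k, hk⟩
    have h1 : IsPGroup 2 (zpowers g) := IsPGroup.of_card (by rw [Nat.card_zpowers, hk])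
    obtain ⟨T, hT⟩ := h1.exists_le_sylow
    have := S.unique_of_normal hN
    rw [Subsingleton.elim T S] at hT
    exact hT (mem_zpowers g)

end H25.RealCl
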