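import Cfsg.Agent.H88.TESpec
import Cfsg.Agent.H99.WrBase

/-! TE2: a small kit for `Fr0`, `Fr`, and the pair analysis (job P). -/

set_option autoImplicit false
set_option linter.unusedSectionVars false

namespace H25.TE

open Subgroup Cfsg H98 H14 H1.Gold H86.L34 H6 H88.AS H88.TE

universe u

variable {G : Type u} [Group G] [Finite G] {d : Dt G} {g k s x y : G} {E X : Subgroup G}

theorem cj_nor (g : G) (X : Subgroup G) : cj g (nor X) = nor (cj g X) := cj_normalizer g X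

theorem cmn (hg : g ∈ nor X) (hx : x ∈ X) : g * x * g⁻¹ ∈ X := (mem_normalizer_iff.1 hg x).1 hx

theorem cmn' (hg : g ∈ nor X) (hx : x ∈ X) : g⁻¹ * x * g ∈ X := by simpa using cmn (inv_mem hg) hx

section
variable (h : Fr0 d)
include h

theorem te : IsTightlyEmbedded d.K := h.std.2.1

theorem nK : d.N = nor d.K := h.std.2.2.2

theorem KN : d.K ≤ d.N := centralizer_le_normalizer _

theorem KAN : d.K ⊔ d.A ≤ d.N := sup_le (KN h) le_normalizer

theorem U_eq : d.U = h.hm.S := closure_eq h.hm.S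

theorem V₁_eq : d.V₁ = h.hm.A := closure_eq h.hm.A

theorem V₂_eq : d.V₂ = h.hm.B := closure_eq h.hm.B

theorem Z_eq : d.Z = h.hm.A ⊓ h.hm.B :=
  (congrArg Subgroup.closure (Set.ext fun _ => h.hm.mem_Z.symm)).trans (closure_eq (h.hm.A ⊓ h.hm.B))

theorem S_le : h.hm.S ≤ d.A := by rintro _ ⟨a, b, c, rfl⟩; exact h.uA a b c

theorem Ku (hk : k ∈ d.K) (a b c : F4) : k * d.u a b c = d.u a b c * k := (hk _ (h.uA a b c)).symm

theorem z_add (a b : F4) : d.z a * d.z b = d.z (a + b) := by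
  rw [h.hm.mul]; exact cg d.u (by simp) (by simp) (by simp)

theorem zz (a : F4) : d.z a * d.z a = 1 := by rw [z_add h, F4.add_self, ← h.hm.one]

theorem zu (e a b c : F4) : d.z e * d.u a b c = d.u a b c * d.z e := by
  rw [h.hm.mul, h.hm.mul]; exact cg d.u (by simp) (by simp) (by simp [add_comm])

theorem oz {e : F4} (he : e ≠ 0) : orderOf (d.z e) = 2 :=
  orderOf_two_of_mul_self (zz h e) fun c => he (h.hm.inj c).2.2

theorem AK (ha : x ∈ d.A) (hk : x ∈ d.K) (e : x * x = 1) : x = 1 :=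
  H99.Wr.one_of_odd_sq (h.zodd x ha hk) e

theorem AK' (ha : x ∈ cj g d.A) (hk : x ∈ cj g d.K) (e : x * x = 1) : x = 1 := by
  have := AK h (mem_cj.1 ha) (mem_cj.1 hk) (by
    rw [show g⁻¹ * x * g * (g⁻¹ * x * g) = g⁻¹ * (x * x) * g by group, e]; group)
  rwa [← inv_inv g, inv_inv g⁻¹, conj_eq_one_iff] at this

theorem nK' (g : G) : nor (cj g d.A) = nor (cj g d.K) := by
  rw [← cj_nor, ← cj_nor]; exact congrArg _ (nK h)

theorem cen_le (hs : s ∈ cj g d.K) (o : orderOf s = 2) (c : x * s = s * x) : x ∈ nor (cj g d.K) :=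
  te_centralizer_le (te_cj (te h) g) o hs (mem_cen1.2 c)

theorem mem_nor (hs : s ∈ cj g d.K) (o : orderOf s = 2) (c : x * s * x⁻¹ ∈ cj g d.K) :
    x ∈ nor (cj g d.K) :=
  te_mem_normalizer (te_cj (te h) g) ((orderOf_conj' x s).trans o) c (conj_mem_cj hs)

theorem ti (hg : g ∉ d.N) (h1 : x ∈ d.K) (h2 : x ∈ cj g d.K) (e : x * x = 1) : x = 1 := by
  by_contra c
  exact hg (nK h ▸ te_mem_normalizer (te h) (orderOf_two_of_mul_self e c) h1 h2)

end

section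
variable (h : Fr d)
include h

theorem split0 (hE : E ≤ d.N) (el : El E) (m : ∀ X ≤ d.K, El X → 16 * Nat.card X ≤ Nat.card E)
    (hx : x ∈ E) : ∃ t ∈ E ⊓ d.K, t⁻¹ * x ∈ d.A := by
  have elT : El (E ⊓ d.K) := fun a ha => el a ha.1
  have hi : E ≤ d.K ⊔ d.A := by
    by_contra c
    have := h.rkout E hE el c
    have := m _ inf_le_right elT
    have : 0 < Nat.card ↥(E ⊓ d.K) := Nat.card_pos
    omega
  obtain ⟨k, hk, a, ha, kk, -, rfl⟩ := h.dec x (hi hx) (el x hx)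
  refine ⟨k, ?_, by simpa using ha⟩
  have := m (E ⊓ d.K ⊔ zpowers k) (sup_le inf_le_right (zpowers_le.2 hk))
    (H99.Wr.El.sup elT (H99.Wr.el_zpowers kk) fun t ht b hb => by
      have c : Commute t k := by
        have c1 : t * (k * a) = k * a * t := H99.Wr.El.comm el ht.1 hx
        rw [mul_assoc, ht.2 a ha, ← mul_assoc, ← mul_assoc, mul_left_inj] at c1
        exact c1
      obtain ⟨i, rfl⟩ := hb
      exact (c.zpow_right i).eq)
  have := h.rk E hE el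
  exact (eq_of_le_of_card_ge (le_sup_left : E ⊓ d.K ≤ E ⊓ d.K ⊔ zpowers k) (by omega)).ge
    (mem_sup_right (mem_zpowers k))

theorem split (hE : E ≤ nor (cj g d.K)) (el : El E)
    (m : ∀ X ≤ d.K, El X → 16 * Nat.card X ≤ Nat.card E) (hx : x ∈ E) :
    ∃ t ∈ E ⊓ cj g d.K, t⁻¹ * x ∈ cj g d.A := by
  rw [← cj_nor, le_cj_iff] at hE
  obtain ⟨t, ⟨h1, h2⟩, h3⟩ := split0 h (nK h.toFr0 ▸ hE) (H99.Wr.El.cj el g⁻¹)
    (by rwa [card_cj]) (conj_mem_cj hx)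
  refine ⟨g * t * g⁻¹, ⟨by simpa using mem_cj.1 h1, conj_mem_cj h2⟩, ?_⟩
  convert conj_mem_cj (g := g) h3 using 1
  group

theorem exists_inner (hg : g ∉ d.N) (hs : s ∈ cj g d.K ⊓ d.N) (o : orderOf s = 2) :
    ∃ g ∉ d.N, ∃ s ∈ cj g d.K, s ∈ d.K ⊔ d.A ∧ orderOf s = 2 := by
  by_cases c : s ∈ d.K ⊔ d.A
  · exact ⟨g, hg, s, hs.1, c, o⟩
  have ss := mul_self_of_two o
  obtain ⟨x, hx, ox⟩ := h.sqd s hs.2 ss c
  have x1 : x ∈ d.A ⊓ cen1 s := (Subgroup.closure_le (d.A ⊓ cen1 s)).2 (by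
    rintro _ ⟨y, hy, rfl⟩; exact (d.A ⊓ cen1 s).mul_mem hy hy) hx
  obtain ⟨a, ha, e⟩ := h.oc s hs.2 ss c x x1.1 (mul_self_of_two ox) (mem_cen1.1 x1.2).symm
  have x2 : s * x ∈ cj (a * g) d.K := by rw [← cj_cj, ← e]; exact conj_mem_cj hs.1
  by_cases c' : g⁻¹ * (a * g) ∈ d.N
  · refine ⟨g, hg, x, (mul_mem_cancel_left (mem_inf.1 hs).1).1 ?_, mem_sup_right x1.1, ox⟩
    rwa [← mul_inv_cancel_left g (a * g), ← cj_cj, cj_eq_self ((nK h.toFr0).le c')] at x2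
  have x3 : x ∈ cj g (sqs d.N) := (Subgroup.closure_le _).2 (by
    rintro _ ⟨y, hy, rfl⟩
    have := cen_le h.toFr0 hs.1 o (mem_cen1.1 hy.2)
    rw [← cj_nor, mem_cj, ← nK h.toFr0] at this
    exact mem_cj.2 (subset_closure ⟨_, this, by group⟩)) hx
  have x4 := h.osq _ (mem_cj.1 x3)
  have x5 : (g⁻¹ * x * g) ^ 3 = g⁻¹ * x * g := by
    rw [show (g⁻¹ * x * g) ^ 3 = g⁻¹ * (x * x * x) * g by simp only [pow_succ]; group,
      mul_self_of_two ox, one_mul]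
  refine ⟨_, c', g⁻¹ * (s * x) * g⁻¹⁻¹, cj_cj g⁻¹ _ d.K ▸ conj_mem_cj x2, ?_, by
    rw [orderOf_conj', ← e, orderOf_conj', o]⟩
  convert mul_mem (mem_sup_left (mem_cj.1 hs.1)) (x5 ▸ x4) using 1
  group

theorem exists_split (hz : d.z 1 ∈ cj g d.K) {V : Subgroup G} (hV : V ≤ h.hm.S) (el : El V)
    (c : Nat.card V = 16) (hx : x ∈ V) :
    ∃ r ∈ d.K, ∃ v ∈ V, r * v ∈ cj g d.K ∧ (r * v)⁻¹ * x ∈ cj g d.A := by
  obtain ⟨R, ⟨hR, elR⟩, m⟩ := Set.Finite.exists_maximalFor (fun R : Subgroup G => Nat.card R)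
    {R | R ≤ d.K ∧ El R} (Set.toFinite _) ⟨⊥, bot_le, fun a ha => by simp [mem_bot.1 ha]⟩
  have hA := hV.trans (S_le h.toFr0)
  have cm : ∀ a ∈ R, ∀ b ∈ V, a * b = b * a := fun a ha b hb => (hR ha b (hA hb)).symm
  have nr : R ≤ nor V := fun a ha => centralizer_le_normalizer _ fun b hb => (cm a ha b hb).symm
  have cE := H99.card_sup_mul_card_inf_of_le_normalizer nr
  rw [show R ⊓ V = ⊥ from eq_bot_iff.2 fun a ha => AK h.toFr0 (hA ha.2) (hR ha.1) (el a ha.2),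
    card_bot, mul_one, c] at cE
  obtain ⟨t, ⟨t1, t2⟩, t3⟩ := split h (g := g) (E := R ⊔ V) (sup_le
    (fun a ha => cen_le h.toFr0 hz (oz h.toFr0 one_ne_zero) (Ku h.toFr0 (hR ha) ..))
    fun a ha => cen_le h.toFr0 hz (oz h.toFr0 one_ne_zero) (by
      obtain ⟨a, b, c, rfl⟩ := hV ha
      exact (zu h.toFr0 ..).symm)) (H99.Wr.El.sup elR el cm) (fun X h1 h2 => by
      have : Nat.card X ≤ Nat.card R := by
        by_contra! c
        exact c.not_ge (m ⟨h1, h2⟩ c.le)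
      omega) (mem_sup_right hx)
  obtain ⟨r, hr, v, hv, rfl⟩ := (mem_sup_left_norm nr).1 t1
  exact ⟨r, hR hr, v, hv, t2, t3⟩

theorem noKI (ha : x ∈ d.A) : ¬ KI d.K x := by
  rintro ⟨o, g, hg⟩
  have h0 := h.toFr0
  have hm := h.hm
  obtain ⟨b, -, rfl⟩ := h.cls x ha o
  have hz : d.z 1 ∈ cj (b⁻¹ * g) d.K := by
    rw [← cj_cj, mem_cj, inv_inv]; exact hg
  generalize b⁻¹ * g = g at hz
  clear hg ha o b
  have o1 := oz h0 (one_ne_zero (α := F4))
  have nU : ∀ a b c, d.u a b c ∈ nor (cj g d.K) := fun a b c => cen_le h0 hz o1 (zu h0 ..).symm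
  have cm : ∀ r ∈ d.K, ∀ a b c x y, d.u x y 0 * (r * d.u a b c) * (d.u x y 0)⁻¹ * (r * d.u a b c)⁻¹ =
      d.z (x * b + y * a) := fun r hr a b c x y => by
    rw [← mul_assoc, ← Ku h0 hr, mul_assoc r, mul_assoc r, hm.conj, Ku h0 hr, Ku h0 hr,
      mul_inv_rev, mul_assoc, mul_inv_cancel_left, hm.inv, hm.mul]
    exact cg d.u (F4.add_self a) (F4.add_self b) (by
      linear_combination (c + a * b) * F4.two_eq)
  have nA : ∀ r ∈ d.K, ∀ a b c, r * d.u a b c ∈ cj g d.A → a = 0 ∧ b = 0 := fun r hr a b c e => by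
    have : ∀ x y, x * b + y * a ≠ 1 := fun x y e' => ne_one_of_two o1 (AK' h0 (by
      rw [← e', ← cm r hr a b c]
      exact mul_mem (cmn ((nK' h0 g).ge (nU x y 0)) e) (inv_mem e)) hz (zz h0 1))
    exact ⟨by_contra fun c => this 0 a⁻¹ (by simp [c]), by_contra fun c => this b⁻¹ 0 (by simp [c])⟩
  have key : ∀ a b, a * b = 0 → (a ≠ 0 ∨ b ≠ 0) → ∀ r ∈ d.K, ∀ c, r * d.u a b c ∈ cj g d.K →
      d.u (F4.w * a) (F4.w * b) 0 ∈ cj g d.K ∧ ∀ e, d.z e ∈ cj g d.K := fun a b ab n r hr c e => by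
    have k1 : ∀ x y, d.z (x * b + y * a) ∈ cj g d.K := fun x y => by
      rw [← cm r hr a b c]
      exact mul_mem (cmn (nU x y 0) e) (inv_mem e)
    have k2 : ∀ e, d.z e ∈ cj g d.K := fun e => n.elim
      (fun c => by simpa [c] using k1 0 (e / a)) fun c => by simpa [c] using k1 (e / b) 0
    have k3 : d.h ∈ nor (cj g d.K) := mem_nor h0 hz o1 (by
      rw [h.hu, mul_zero]; exact k2 _)
    have k4 := mul_mem (cmn k3 e) (inv_mem e)
    rw [← mul_assoc, hr _ h.hA, mul_assoc r, mul_assoc r, h.hu, Ku h0 hr, Ku h0 hr,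
      mul_inv_rev, mul_assoc, mul_inv_cancel_left, hm.inv, hm.mul] at k4
    refine ⟨?_, k2⟩
    convert mul_mem k4 (k2 (F4.w * c + (c + a * b) + F4.v * a * b)) using 1
    rw [hm.mul]
    exact cg d.u (by clear * -; revert a; decide) (by clear * -; revert b; decide) (by simp)
  have c4 : Nat.card F4 = 4 := by rw [Nat.card_eq_fintype_card]; rfl
  have ow : ∀ a b, a * b = 0 → (a ≠ 0 ∨ b ≠ 0) → orderOf (d.u a b 0) = 2 := fun a b ab n =>
    orderOf_two_of_mul_self (by rw [← pow_two, hm.sq, ab, hm.one]) fun c => by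
      simp [(hm.inj c).1, (hm.inj c).2.1] at n
  have w0 : F4.w ≠ 0 := by decide
  have n1 : d.n ∈ nor (cj g d.K) := by
    obtain ⟨r, hr, _, ⟨a, c, rfl⟩, e1, e2⟩ := exists_split h hz hm.A_le
      (fun x hx => (pow_two x).symm.trans (hm.elA.2 x hx)) (by rw [hm.card_A, c4])
      (hm.mem_A.2 rfl : d.u 1 0 0 ∈ _)
    rw [mul_inv_rev, (inv_mem hr) _ (inv_mem (h.uA ..)), mul_assoc, hm.inv, hm.mul] at e2
    have := (nA _ (inv_mem hr) _ _ _ e2).1
    obtain ⟨k1, k2⟩ := key a 0 (mul_zero a) (.inl fun c => by simp [c] at this) r hr c e1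
    rw [mul_zero] at k1
    exact mem_nor h0 k1 (ow _ 0 (mul_zero _) (.inl (mul_ne_zero w0 fun c => by simp [c] at this)))
      (by rw [h.nu]; exact k2 _)
  have n2 : d.m ∈ nor (cj g d.K) := by
    obtain ⟨r, hr, _, ⟨a, c, rfl⟩, e1, e2⟩ := exists_split h hz hm.B_le
      (fun x hx => (pow_two x).symm.trans (hm.elB.2 x hx)) (by rw [← hm.swap_A, hm.swap.card_A, c4])
      (hm.mem_B.2 rfl : d.u 0 1 0 ∈ _)
    rw [mul_inv_rev, (inv_mem hr) _ (inv_mem (h.uA ..)), mul_assoc, hm.inv, hm.mul] at e2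
    have := (nA _ (inv_mem hr) _ _ _ e2).2
    obtain ⟨k1, k2⟩ := key 0 a (zero_mul a) (.inr fun c => by simp [c] at this) r hr c e1
    rw [mul_zero] at k1
    exact mem_nor h0 k1 (ow 0 _ (zero_mul _) (.inr (mul_ne_zero w0 fun c => by simp [c] at this)))
      (by rw [h.mu]; exact k2 _)
  have hA := h.gen _ (by rw [U_eq h0]; rintro _ ⟨a, b, c, rfl⟩; exact nU a b c) n1 n2
  have inv : ∀ x ∈ d.A, x * x = 1 → x ∈ cj g d.K := fun x hx e => by
    by_cases c : x = 1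
    · rw [c]; exact one_mem _
    obtain ⟨b, hb, rfl⟩ := h.cls x hx (orderOf_two_of_mul_self e c)
    exact cmn (hA hb) hz
  have hK := h.gen (cj g d.K) (by
    rw [U_eq h0, ← hm.sup]
    exact sup_le (fun x hx => inv x (S_le h0 (hm.A_le hx)) ((pow_two x).symm.trans (hm.elA.2 x hx)))
      fun x hx => inv x (S_le h0 (hm.B_le hx)) ((pow_two x).symm.trans (hm.elB.2 x hx)))
    (inv _ h.nA h.nn) (inv _ h.mA h.mm)
  refine h.std.2.2.1 g (fun e => ?_) (commutator_eq_bot_iff_le_centralizer.2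
    (hK.trans (cj_centralizer g d.A).le))
  exact ne_one_of_two o1 (AK' h0 ((show cj g d.A = d.A from e).symm ▸ h.uA ..) hz (zz h0 1))

end

theorem jobP : JobP.{u} := by
  rintro G _ _ d h ⟨g, hg, s, hs, o⟩
  have h0 := h.toFr0
  have hm := h.hm
  obtain ⟨g, hg, s, hs, hi, o⟩ := exists_inner h hg hs o
  obtain ⟨k, hk, a, ha, kk, aa, rfl⟩ := h.dec s hi (mul_self_of_two o)
  obtain ⟨b, hb, rfl⟩ := h.cls a ha (orderOf_two_of_mul_self aa fun c => by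
    rw [c, mul_one] at hs o
    exact ne_one_of_two o (ti h0 hg hk hs kk))
  have e : k * (b * d.z 1 * b⁻¹) = b * (k * d.z 1) * b⁻¹ := by
    rw [← mul_assoc, ← mul_assoc, ← hk b hb, mul_assoc b]
  rw [e, orderOf_conj'] at o
  have hz : k * d.z 1 ∈ cj (b⁻¹ * g) d.K := by rw [← cj_cj, mem_cj, inv_inv, ← e]; exact hs
  have hg' : b⁻¹ * g ∉ d.N := fun c => hg ((mul_mem_cancel_left (inv_mem (le_normalizer hb))).1 c)
  generalize b⁻¹ * g = g at hz hg'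
  clear hs hg hi e ha aa hb b
  have no : ∀ x ∈ d.A, x ∈ cj g d.K → x * x = 1 → x = 1 := fun x h1 h2 e =>
    by_contra fun c => noKI h h1 ⟨orderOf_two_of_mul_self e c, g, h2⟩
  have cs : d.U ≤ cen1 (k * d.z 1) := by
    rw [U_eq h0]
    rintro _ ⟨a, b, c, rfl⟩
    exact mem_cen1.2 (by rw [mul_assoc, zu h0, ← mul_assoc, ← mul_assoc, Ku h0 hk])
  have UN : d.U ≤ d.N := h.syl.le.trans le_normalizer
  have nX : d.U ≤ nor (cj g d.K ⊓ d.N) := le_normalizer_inf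
    (fun x hx => cen_le h0 hz o (mem_cen1.1 (cs hx))) (le_normalizer_of_le UN)
  have sX : k * d.z 1 ∈ cj g d.K ⊓ d.N := ⟨hz, mul_mem (KN h0 hk) (le_normalizer (h.uA ..))⟩
  obtain ⟨S, hS, hUS⟩ := exists_isSyl_le (H := d.U ⊔ (cj g d.K ⊓ d.N))
    (h.syl.isPGroup.to_sup_of_normal_right' (H99.Wr.el_zpowers (mul_self_of_two o)).two
      fun x hx => centralizer_le_normalizer _ fun y ⟨i, e⟩ =>
        e ▸ ((show Commute x _ from mem_cen1.1 (cs hx)).zpow_right i).eq.symm)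
    (sup_le_sup_left (zpowers_le.2 sX) _)
  have hT := hS.inf_of_le_normalizer le_sup_right (hS.le.trans (sup_le nX le_normalizer))
  have nT : d.U ≤ nor (S ⊓ (cj g d.K ⊓ d.N)) :=
    le_normalizer_inf (le_normalizer_of_le (le_sup_left.trans hUS)) nX
  have sT : k * d.z 1 ∈ S ⊓ (cj g d.K ⊓ d.N) := ⟨hUS (mem_sup_right (mem_zpowers _)), sX⟩
  generalize S ⊓ (cj g d.K ⊓ d.N) = T at hT nT sT
  have TA : T ⊓ d.A = ⊥ := eq_bot_of_no_involution (hT.isPGroup.to_le inf_le_left) fun y hy o =>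
    noKI h hy.2 ⟨o, g, (hT.le hy.1).1⟩
  have TK : T ⊓ d.K = ⊥ := eq_bot_of_no_involution (hT.isPGroup.to_le inf_le_left) fun y hy o =>
    ne_one_of_two o (ti h0 hg' hy.2 (hT.le hy.1).1 (mul_self_of_two o))
  have dec : ∀ t ∈ T, ∃ k ∈ d.K, ∃ e, t = k * d.z e := fun t ht => h.ker t (hT.le ht).2 fun a b c => by
    have : t * d.u a b c * t⁻¹ * (d.u a b c)⁻¹ ∈ T ⊓ d.A := mem_inf.2
      ⟨by simpa [mul_assoc] using mul_mem ht (cmn (nT (U_eq h0 ▸ hm.mem_S a b c)) (inv_mem ht)),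
        mul_mem (cmn (hT.le ht).2 (h.uA ..)) (inv_mem (h.uA ..))⟩
    rwa [TA, mem_bot, mul_inv_eq_one, mul_inv_eq_iff_eq_mul] at this
  have ml : ∀ a c, ∀ b ∈ d.K, ∀ c', a * d.z c * (b * d.z c') = a * b * d.z (c + c') :=
    fun a c b hb c' => by rw [← z_add h0, mul_assoc, ← mul_assoc _ b, ← Ku h0 hb]; group
  have uq : ∀ a ∈ d.K, ∀ b ∈ d.K, ∀ c, a * d.z c ∈ T → b * d.z c ∈ T → a = b := fun a ha b hb c e e' =>
    mul_inv_eq_one.1 (mem_bot.1 (TK ▸ mem_inf.2 ⟨by simpa using mul_mem e (inv_mem e'),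
      mul_mem ha (inv_mem hb)⟩))
  have sq : ∀ a ∈ d.K, ∀ c, a * d.z c ∈ T → a * a = 1 := fun a ha c e =>
    uq _ (mul_mem ha ha) _ (one_mem _) (c + c) (ml a c a ha c ▸ mul_mem e e) (by
      rw [F4.add_self, Dt.z, hm.one, one_mul]; exact one_mem _)
  let R : Subgroup G :=
    { carrier := {a | a ∈ d.K ∧ ∃ c, a * d.z c ∈ T}
      one_mem' := ⟨one_mem _, 0, by rw [Dt.z, hm.one, one_mul]; exact one_mem _⟩
      mul_mem' := by
        rintro a b ⟨ha, c, e⟩ ⟨hb, c', e'⟩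
        exact ⟨mul_mem ha hb, _, ml a c b hb c' ▸ mul_mem e e'⟩
      inv_mem' := by
        rintro a ⟨ha, c, e⟩
        exact ⟨inv_mem ha, c, by rwa [H99.Wr.inv_of_sq (sq a ha c e)]⟩ }
  have elR : El R := fun a ⟨ha, c, e⟩ => sq a ha c e
  have z0 : ∀ c, d.z c ∈ T → c = 0 := fun c e => (hm.inj (mem_bot.1 (TA ▸ mem_inf.2 ⟨e, h.uA ..⟩))).2.2
  have cT : Nat.card T ≤ Nat.card R := by
    choose f f1 e f2 using dec
    refine Nat.card_le_card_of_injective (fun t : T => (⟨f t t.2, f1 t t.2, e t t.2, f2 t t.2 ▸ t.2⟩ : R))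
      fun t t' c => Subtype.ext ?_
    have c' : f t t.2 = f t' t'.2 := congrArg Subtype.val c
    have := mul_mem t.2 t'.2
    rw [f2 t t.2, f2 t' t'.2, ml _ _ _ (f1 t' t'.2), c', sq _ (f1 t' t'.2) _ (f2 t' t'.2 ▸ t'.2),
      one_mul] at this
    rw [f2 t t.2, f2 t' t'.2, c', add_eq_zero_iff_eq_neg.1 (z0 _ this), F4.neg_eq]
  have hR : IsSyl 2 R d.K := by
    obtain ⟨P, hP, le⟩ := exists_isSyl_le (H := d.K) (H99.Wr.El.two elR) fun a ha => ha.1
    by_contra c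
    have lt := lt_inf_normalizer hP.isPGroup (le.lt_of_ne fun e => c (e ▸ hP))
    have two := hP.isPGroup.to_le (inf_le_left (b := nor R))
    obtain ⟨y, ⟨y1, c, y2⟩, oy, y3⟩ := H84.exists_central_orderOf_mem two lt.le inf_le_right fun e => by
      have : k = 1 := mem_bot.1 (e ▸ (⟨hk, 1, sT⟩ : k ∈ R))
      exact one_ne_zero (z0 1 (by simpa [this] using sT))
    have oc : orderOf (y * d.z c) = 2 := orderOf_two_of_mul_self (by
      rw [ml _ _ _ y1, mul_self_of_two oy, F4.add_self, Dt.z, hm.one, one_mul]) fun e =>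
        ne_one_of_two oy (AK h0 (by rw [eq_inv_of_mul_eq_one_left e]; exact inv_mem (h.uA ..)) y1
          (mul_self_of_two oy))
    obtain ⟨T₀, t1, t2, t3⟩ := symm' (T := P ⊓ nor R) (a := g) (b := 1) (te h0) (fun e => hg' (by
      rw [cj_one] at e; exact nK h0 ▸ cj_eq_self_iff.1 e.symm)) (fun x hx => mem_inf.2
        ⟨(cj_one d.K).ge (hP.le hx.1), cen_le h0 (hT.le y2).1 oc
          ((y3 x hx).mul_right (Ku h0 (hP.le hx.1) ..)).eq⟩) two
    rw [cj_one, ← nK h0] at t1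
    exact lt.ne (eq_of_le_of_card_ge lt.le (t3.trans ((hT.card_le t2 t1).trans cT)))
  classical
  have ph : ∀ c, Ph (decide (∃ a ∈ d.K, a * d.z F4.w ∈ T)) c ↔ ∃ a ∈ d.K, a * d.z c ∈ T := fun c => by
    have p0 : ∃ a ∈ d.K, a * d.z 0 ∈ T := ⟨1, one_mem _, R.one_mem.2.elim fun _ _ => by
      rw [Dt.z, hm.one, one_mul]; exact one_mem _⟩
    have p1 : ∀ c, (∃ a ∈ d.K, a * d.z c ∈ T) → ∃ a ∈ d.K, a * d.z (c + 1) ∈ T := fun c ⟨a, ha, e⟩ =>
      ⟨_, mul_mem ha hk, ml a c k hk 1 ▸ mul_mem e sT⟩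
    rw [Ph, decide_eq_true_iff]
    cases c
    · exact iff_of_true (.inr (.inl rfl)) p0
    · exact iff_of_true (.inr (.inr rfl)) ⟨k, hk, sT⟩
    · exact ⟨fun e => e.resolve_right (by decide), .inl⟩
    · exact ⟨fun e => p1 _ (e.resolve_right (by decide)), fun e => .inl (p1 _ e)⟩
  choose! r r1 r2 using fun c => (ph c).1
  refine ⟨_, R, r, hR, fun x => ⟨fun ⟨hx, c, e⟩ => ?_, ?_⟩, fun c c' a b => ?_, fun c a e => ?_,
    fun a => noKI h, g, hg', fun c a => (hT.le (r2 c a)).1⟩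
  · have p := (ph c).2 ⟨x, hx, e⟩
    exact ⟨c, p, uq _ (r1 c p) _ hx c (r2 c p) e⟩
  · rintro ⟨c, p, rfl⟩
    exact ⟨r1 c p, c, r2 c p⟩
  · have e := ml _ _ _ (r1 c' b) _ ▸ mul_mem (r2 c a) (r2 c' b)
    have m := mul_mem (r1 c a) (r1 c' b)
    have p := (ph _).2 ⟨_, m, e⟩
    exact uq _ (r1 _ p) _ m _ (r2 _ p) e
  · exact z0 c (by simpa [e] using r2 c a)

end H25.TE
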