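/- Coprime actions all of whose orbits have 2-power length. -/
import Cfsg.Agent.H25.Baer1
import Cfsg.Agent.H0.GWFinal
import Cfsg.Agent.H7.GWCons
import Cfsg.Agent.H3.DSQ
import Cfsg.Agent.H9.PBasic
import Cfsg.Agent.S0205

set_option autoImplicit false

namespace H25.Baer
open Subgroup MulAction

universe u

/-- the hypothesis -/
def Hyp (H V : Type u) [Group H] [CommGroup V] [MulDistribMulAction H V] : Prop :=
  (Nat.card H).Coprime (Nat.card V) ∧ ∀ v : V, ∃ k, (stabilizer H v).index = 2 ^ k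

/-- the induction hypothesis -/
def IH (n : ℕ) : Prop := ∀ (H V : Type u) [Group H] [Finite H] [CommGroup V] [Finite V]
  [MulDistribMulAction H V] [FaithfulSMul H V], Nat.card V < n → Hyp H V → Group.IsSolvable H

variable {H V : Type u} [Group H] [Finite H] [CommGroup V] [Finite V] [MulDistribMulAction H V]

theorem two_pow_of_dvd {a k : ℕ} (h : a ∣ 2 ^ k) : ∃ j, a = 2 ^ j :=
  let ⟨j, _, hj⟩ := (Nat.dvd_prime_pow Nat.prime_two).1 h; ⟨j, hj⟩

theorem triv_of_IH (ih : IH.{u} (Nat.card V)) (h : Hyp H V) (A : Subgroup H) [A.Normal]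
    {W : Subgroup V} (hW : W ≠ ⊤) (hinv : ∀ a ∈ A, ∀ w ∈ W, a • w ∈ W)
    {K : Subgroup H} (hKA : K ≤ A) (hK : ⁅K, K⁆ = K) : W ≤ fixS V K := by
  letI : MulDistribMulAction A W :=
    { smul := fun a w => ⟨(a : H) • (w : V), hinv a a.2 w w.2⟩
      one_smul := fun w => Subtype.ext (one_smul H (w : V))
      mul_smul := fun a b w => Subtype.ext (mul_smul (a : H) (b : H) (w : V))
      smul_mul := fun a v w => Subtype.ext (smul_mul' (a : H) (v : V) (w : V))
      smul_one := fun a => Subtype.ext (smul_one (a : H)) }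
  let φ := MulDistribMulAction.toMulAut A W
  have hs : Group.IsSolvable φ.range := by
    refine ih φ.range W ((card_le_card_group W).lt_of_ne fun e => hW (eq_top_of_card_eq W e))
      ⟨?_, fun w => ?_⟩
    · exact (h.1.coprime_dvd_left ((card_dvd_of_surjective _ φ.rangeRestrict_surjective).trans
        A.card_subgroup_dvd_card)).coprime_dvd_right W.card_subgroup_dvd_card
    · obtain ⟨k, hk⟩ := h.2 w
      refine two_pow_of_dvd (k := k) ?_
      rw [← index_comap_of_surjective _ φ.rangeRestrict_surjective, ← hk]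
      have : (stabilizer φ.range w).comap φ.rangeRestrict = (stabilizer H (w : V)).subgroupOf A := by
        ext a
        exact Subtype.ext_iff
      rw [this]
      exact H4.relIndex_dvd_index_of_normal_right _ A
  have h1 : ⁅K.subgroupOf A, K.subgroupOf A⁆ = K.subgroupOf A := by
    apply map_injective A.subtype_injective
    rw [map_commutator, map_subgroupOf_eq_of_le hKA, hK]
  have h2 : (K.subgroupOf A).map φ.rangeRestrict = ⊥ := by
    by_contra hne
    have := IsSolvable.commutator_lt_of_ne_bot hne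
    rw [← map_commutator, h1] at this
    exact lt_irrefl _ this
  intro w hw k hk
  have h3 : φ.rangeRestrict ⟨k, hKA hk⟩ = 1 := by
    rw [← mem_bot, ← h2]
    exact ⟨_, hk, rfl⟩
  exact congrArg (fun x : φ.range => ((x : MulAut W) ⟨w, hw⟩ : V)) h3

theorem irred [FaithfulSMul H V] (ih : IH.{u} (Nat.card V)) (h : Hyp H V) {K : Subgroup H}
    [K.Normal] (hK : ⁅K, K⁆ = K) (hK1 : K ≠ ⊥) {W : Subgroup V}
    (hinv : ∀ a : H, ∀ w ∈ W, a • w ∈ W) (hW : W ≠ ⊤) : W = ⊥ := by
  have hc : (Nat.card K).Coprime (Nat.card V) := h.1.coprime_dvd_left K.card_subgroup_dvd_card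
  have hN : (nrm V K).ker = ⊤ := by
    by_contra hN
    have h1 := triv_of_IH ih h ⊤ hN (fun a _ w hw => by
      rw [MonoidHom.mem_ker, nrm_conj, MonoidHom.mem_ker.1 hw, smul_one]) le_top hK
    refine hK1 ((eq_bot_iff_forall K).2 fun k hk => eq_of_smul_eq_smul fun v : V => ?_)
    have h2 : ∀ x ∈ K, x • (k • v * v⁻¹) = k • v * v⁻¹ := h1 (show k • v * v⁻¹ ∈ (nrm V K).ker by
      rw [MonoidHom.mem_ker, map_mul, map_inv, nrm_smul _ hk, mul_inv_cancel])
    have h3 : ∀ j : ℕ, k ^ j • v = (k • v * v⁻¹) ^ j * v := by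
      intro j
      induction j with
      | zero => simp
      | succ j ihj =>
        rw [pow_succ', mul_smul, ihj, smul_mul', smul_pow', h2 k hk, pow_succ, mul_assoc,
          inv_mul_cancel_right]
    have h4 := h3 (Nat.card H)
    rw [pow_card_eq_one', one_smul, eq_comm, mul_eq_right] at h4
    rw [one_smul, ← mul_inv_eq_one]
    exact eq_one_of_pow h.1 h4
  have h1 := triv_of_IH ih h ⊤ hW (fun a _ => hinv a) le_top hK
  refine (eq_bot_iff_forall W).2 fun w hw => eq_one_of_pow hc ?_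
  rw [← nrm_fix K (h1 hw)]
  exact (hN ▸ mem_top w : w ∈ (nrm V K).ker)

omit [Finite V] in
theorem orbit_sylow (h : Hyp H V) (P : Sylow 2 H) (a : H) (v : V) :
    ∃ g ∈ (P : Subgroup H), a • v = g • v := by
  obtain ⟨k, hk⟩ := h.2 v
  obtain ⟨g, hg, y, hy, rfl⟩ := H4.exists_mul_of_coprime_index (H := (P : Subgroup H))
    (K := stabilizer H v) (hk ▸ Nat.Coprime.pow_right k
      ((Nat.Prime.coprime_iff_not_dvd Nat.prime_two).2 P.not_dvd_index).symm) a
  exact ⟨g, hg, by rw [mul_smul, show y • v = v from hy]⟩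

omit [Finite H] [Finite V] in
theorem mem_fixS_zp {x : H} {v : V} : v ∈ fixS V (zpowers x) ↔ x • v = v :=
  ⟨fun h => h x (mem_zpowers x), fun h _ hk => (zpowers_le_of_mem (H := stabilizer H v) h) hk⟩

theorem le_or_le {G : Type*} [Group G] {A B C : Subgroup G} (h : ∀ x ∈ A, x ∈ B ∨ x ∈ C) :
    A ≤ B ∨ A ≤ C := by
  by_contra hc
  rw [not_or, SetLike.not_le_iff_exists, SetLike.not_le_iff_exists] at hc
  obtain ⟨⟨x, hx, hxB⟩, y, hy, hyC⟩ := hc
  have h1 := (h x hx).resolve_left hxB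
  have h2 := (h y hy).resolve_right hyC
  rcases h _ (A.mul_mem hx hy) with h3 | h3
  · exact hxB ((B.mul_mem_cancel_right h2).1 h3)
  · exact hyC ((C.mul_mem_cancel_left h1).1 h3)

theorem no_four [FaithfulSMul H V] (ih : IH.{u} (Nat.card V)) (h : Hyp H V) {K : Subgroup H}
    [K.Normal] (hK : ⁅K, K⁆ = K) (hK1 : K ≠ ⊥) (P : Sylow 2 H) {z e : H}
    (hz : ∀ v : V, z • v = v⁻¹) (hodd : (2 : ℕ).Coprime (Nat.card V)) (he : e * e = 1)
    (hn : ∀ g ∈ (P : Subgroup H), g * e * g⁻¹ = e ∨ g * e * g⁻¹ = e * z) : e = 1 ∨ e = z := by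
  by_contra hc
  rw [not_or] at hc
  have hzc : ∀ a : H, a * z = z * a := fun a => eq_of_smul_eq_smul fun v : V => by
    rw [mul_smul, mul_smul, hz, hz, smul_inv']
  have hz2 : z * z = 1 := eq_of_smul_eq_smul fun v : V => by rw [mul_smul, hz, hz, inv_inv, one_smul]
  have hsq : ∀ v : V, ∃ w : V, w * w = v := fun v => by
    obtain ⟨w, hw⟩ := (powCoprime hodd.symm).surjective v
    exact ⟨w, by rw [← pow_two]; exact hw⟩
  set V1 := fixS V (zpowers e)
  set V2 := fixS V (zpowers (e * z))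
  have m1 : ∀ v, v ∈ V1 ↔ e • v = v := fun v => mem_fixS_zp
  have m2 : ∀ v, v ∈ V2 ↔ e • v = v⁻¹ := fun v => by
    rw [mem_fixS_zp, mul_smul, hz, smul_inv', inv_eq_iff_eq_inv]
  have hdec : ∀ v : V, ∃ a ∈ V1, ∃ b ∈ V2, v = a * b := fun v => by
    obtain ⟨w, rfl⟩ := hsq v
    refine ⟨w * e • w, ?_, w * (e • w)⁻¹, ?_, ?_⟩
    · rw [m1, smul_mul', ← mul_smul, he, one_smul, mul_comm]
    · rw [m2, smul_mul', smul_inv', ← mul_smul, he, one_smul, mul_inv, inv_inv, mul_comm]
    · rw [mul_mul_mul_comm, mul_inv_cancel, mul_one]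
  have n1 : V1 ≠ ⊤ := fun h1 => hc.1 (eq_of_smul_eq_smul fun v : V => by
    rw [(m1 v).1 (h1 ▸ mem_top v), one_smul])
  have n2 : V2 ≠ ⊤ := fun h1 => hc.2 (eq_of_smul_eq_smul fun v : V => by
    rw [(m2 v).1 (h1 ▸ mem_top v), hz])
  have hP : ∀ g ∈ (P : Subgroup H), ∀ v, v ∈ V1 ∨ v ∈ V2 → g • v ∈ V1 ∨ g • v ∈ V2 := by
    intro g hg v hv
    have h1 : e • g • v = g • (g⁻¹ * e * g⁻¹⁻¹) • v := by simp [mul_smul]
    rw [m1, m2] at hv
    rw [m1, m2, h1]
    rcases hn _ (inv_mem hg) with h2 | h2 <;> rw [h2] <;> rcases hv with hv | hv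
    · exact Or.inl (by rw [hv])
    · exact Or.inr (by rw [hv, smul_inv'])
    · exact Or.inr (by rw [mul_smul, hz, smul_inv', hv, smul_inv'])
    · exact Or.inl (by rw [mul_smul, hz, smul_inv', hv, inv_inv])
  have hA : ∀ a : H, ∀ W : Subgroup V, W = V1 ∨ W = V2 →
      (∀ v ∈ W, a • v ∈ V1) ∨ ∀ v ∈ W, a • v ∈ V2 := by
    intro a W hW
    have := le_or_le (A := W) (B := V1.comap (MulDistribMulAction.toMonoidHom V a))
      (C := V2.comap (MulDistribMulAction.toMonoidHom V a)) fun v hv => by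
        obtain ⟨g, hg, e1⟩ := orbit_sylow h P a v
        have := hP g hg v (by rcases hW with rfl | rfl; exacts [Or.inl hv, Or.inr hv])
        rw [← e1] at this
        exact this
    exact this
  have hnot : ∀ (a : H) (W : Subgroup V), W ≠ ⊤ → (∀ v ∈ V1, a • v ∈ W) →
      (∀ v ∈ V2, a • v ∈ W) → False := by
    intro a W hW h1 h2
    refine hW (eq_top_iff.2 fun v _ => ?_)
    obtain ⟨x, hx, y, hy, e1⟩ := hdec (a⁻¹ • v)
    rw [← smul_inv_smul a v, e1, smul_mul']
    exact W.mul_mem (h1 x hx) (h2 y hy)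
  have hall : ∀ a : H, a⁻¹ * e * a = e ∨ a⁻¹ * e * a = e * z := by
    intro a
    rcases hA a V1 (Or.inl rfl) with h1 | h1 <;> rcases hA a V2 (Or.inr rfl) with h2 | h2
    · exact (hnot a V1 n1 h1 h2).elim
    · refine Or.inl (eq_of_smul_eq_smul fun v : V => ?_)
      obtain ⟨x, hx, y, hy, rfl⟩ := hdec v
      rw [mul_smul, mul_smul, smul_mul', smul_mul', (m1 _).1 (h1 x hx), (m2 _).1 (h2 y hy),
        ← smul_inv', ← smul_mul', inv_smul_smul, smul_mul', (m1 _).1 hx, (m2 _).1 hy]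
    · refine Or.inr (eq_of_smul_eq_smul fun v : V => ?_)
      obtain ⟨x, hx, y, hy, rfl⟩ := hdec v
      rw [mul_smul, mul_smul, smul_mul', smul_mul', (m2 _).1 (h1 x hx), (m1 _).1 (h2 y hy),
        ← smul_inv', ← smul_mul', inv_smul_smul, mul_smul, hz, smul_inv', smul_mul', (m1 _).1 hx,
        (m2 _).1 hy, mul_inv, inv_inv]
    · exact (hnot a V2 n2 h1 h2).elim
  let A := centralizer ({e} : Set H)
  have mA : ∀ a : H, a ∈ A ↔ a⁻¹ * e * a = e := fun a => by
    rw [mem_centralizer_singleton_iff, mul_assoc, inv_mul_eq_iff_eq_mul, eq_comm]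
  have hmul : ∀ a b : H, a ∉ A → b ∉ A → a * b ∈ A := by
    intro a b ha hb
    rw [mA] at ha hb ⊢
    have h1 := (hall a).resolve_left ha
    have h2 := (hall b).resolve_left hb
    calc (a * b)⁻¹ * e * (a * b) = b⁻¹ * (a⁻¹ * e * a) * b := by group
      _ = b⁻¹ * e * b * z := by rw [h1, mul_assoc, mul_assoc, ← hzc b]; group
      _ = e := by rw [h2, mul_assoc, hz2, mul_one]
  have hAn : A.Normal := ⟨fun a ha g => by
    by_cases hg : g ∈ A
    · exact A.mul_mem (A.mul_mem hg ha) (A.inv_mem hg)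
    · exact hmul _ _ (fun h1 => hg ((A.mul_mem_cancel_right ha).1 h1)) (by rwa [inv_mem_iff])⟩
  have hKA : K ≤ A := by
    rw [← hK, commutator_le]
    intro a _ b _
    by_cases ha : a ∈ A
    · rw [commutatorElement_def, mul_assoc, mul_assoc, ← mul_assoc b]
      exact A.mul_mem ha (hAn.conj_mem _ (A.inv_mem ha) b)
    · rw [commutatorElement_def, mul_assoc, mul_assoc, ← mul_assoc b]
      refine hmul _ _ ha fun h1 => ha ?_
      have := hAn.conj_mem _ h1 b⁻¹
      simpa [mul_assoc] using this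
  have c1 : ∀ a ∈ A, ∀ v : V, e • a • v = a • e • v := fun a ha v => by
    rw [← mul_smul, ← mul_smul, mem_centralizer_singleton_iff.1 ha]
  have t1 := triv_of_IH ih h A n1 (fun a ha w hw => by
    rw [m1] at hw ⊢; rw [c1 a ha, hw]) hKA hK
  have t2 := triv_of_IH ih h A n2 (fun a ha w hw => by
    rw [m2] at hw ⊢; rw [c1 a ha, hw, smul_inv']) hKA hK
  refine hK1 ((eq_bot_iff_forall K).2 fun k hk => eq_of_smul_eq_smul fun v : V => ?_)
  obtain ⟨x, hx, y, hy, rfl⟩ := hdec v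
  rw [smul_mul', t1 hx k hk, t2 hy k hk, one_smul]

end H25.Baer
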