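/- Coprime faithful actions all of whose orbits have 2-power length come from solvable groups. -/
import Cfsg.Agent.H25.Baer2

set_option autoImplicit false

namespace H25.Baer
open Subgroup MulAction Cfsg
open scoped commutatorElement

universe u

variable {H V : Type u} [Group H] [Finite H] [CommGroup V] [Finite V] [MulDistribMulAction H V]

theorem inverts [FaithfulSMul H V] (ih : IH.{u} (Nat.card V)) (h : Hyp H V) {K : Subgroup H}
    [K.Normal] (hK : ⁅K, K⁆ = K) (hK1 : K ≠ ⊥) (P : Sylow 2 H) {z : H} (hz1 : z ≠ 1)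
    (hz2 : z * z = 1) (hc : ∀ g ∈ (P : Subgroup H), g * z = z * g) (v : V) : z • v = v⁻¹ := by
  have h1 : fixS V (zpowers z) = ⊥ := by
    refine irred ih h hK hK1 (fun a w hw => ?_) fun e => hz1 (eq_of_smul_eq_smul fun w : V => ?_)
    · obtain ⟨g, hg, e⟩ := orbit_sylow h P a w
      rw [mem_fixS_zp] at hw ⊢
      rw [e, ← mul_smul, ← hc g hg, mul_smul, hw]
    · rw [one_smul, ← mem_fixS_zp, e]; trivial
  rw [← mul_eq_one_iff_eq_inv, ← mem_bot, ← h1, mem_fixS_zp, smul_mul', ← mul_smul, hz2, one_smul,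
    mul_comm]

theorem normal_zp {P : Type*} [Group P] {z : P} (hc : z ∈ center P) : (zpowers z).Normal :=
  ⟨fun x hx g => by
    rwa [mem_center_iff.1 (zpowers_le_of_mem hc hx) g, mul_inv_cancel_right]⟩

theorem inv_unique {P : Type*} [Group P] [Finite P] (hP : IsPGroup 2 P) {z : P}
    (hc : z ∈ center P) (hz2 : z * z = 1)
    (hn : ∀ e : P, e * e = 1 → (∀ g : P, g * e * g⁻¹ = e ∨ g * e * g⁻¹ = e * z) → e = 1 ∨ e = z)
    (A : Subgroup P) [hA : A.Normal] (hcomm : IsMulCommutative A) {a : P} (ha : a ∈ A)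
    (h2 : a * a = 1) : a = 1 ∨ a = z := by
  have hZ : ∀ x ∈ zpowers z, x = 1 ∨ x = z := by
    intro x hx
    refine zpowers_le_of_mem (H := (⟨⟨⟨{x | x = 1 ∨ x = z}, ?_⟩, Or.inl rfl⟩, ?_⟩ : Subgroup P))
      (Or.inr rfl) hx
    · rintro a b (rfl | rfl) (rfl | rfl) <;> simp [hz2]
    · rintro a (rfl | rfl)
      · simp
      · exact Or.inr (inv_eq_of_mul_eq_one_right hz2)
  haveI : (zpowers z).Normal := normal_zp hc
  have cm : ∀ x ∈ A, ∀ y ∈ A, x * y = y * x := fun x hx y hy =>
    congrArg Subtype.val (hcomm.is_comm.comm (⟨x, hx⟩ : A) ⟨y, hy⟩)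
  let E : Subgroup P := ⟨⟨⟨{x | x ∈ A ∧ x * x = 1}, fun {x y} hx hy => ⟨A.mul_mem hx.1 hy.1, by
      rw [mul_assoc, ← mul_assoc y, cm y hy.1 x hx.1, mul_assoc, hy.2, mul_one, hx.2]⟩⟩,
      ⟨A.one_mem, one_mul 1⟩⟩, fun {x} hx => ⟨A.inv_mem hx.1, by rw [← mul_inv_rev, hx.2, inv_one]⟩⟩
  haveI : E.Normal := ⟨fun x hx g => ⟨hA.conj_mem x hx.1 g, by
    rw [conj_mul, hx.2, mul_one, mul_inv_cancel]⟩⟩
  let f := QuotientGroup.mk' (zpowers z)
  haveI : (E.map f).Normal := Normal.map inferInstance f (QuotientGroup.mk'_surjective _)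
  by_cases hE : E.map f = ⊥
  · refine hZ a ((QuotientGroup.eq_one_iff a).1 ?_)
    rw [← mem_bot, ← hE]
    exact ⟨a, ⟨ha, h2⟩, rfl⟩
  · obtain ⟨_, ⟨e, he, rfl⟩, hce, ho⟩ := H9.exists_mem_center_orderOf_eq (hP.to_quotient _) hE
    have h3 : f e = 1 := by
      rcases hn e he.2 (fun g => by
        have : e⁻¹ * (g * e * g⁻¹) ∈ zpowers z := by
          rw [← QuotientGroup.eq_one_iff]
          show f _ = 1
          rw [map_mul, map_mul, map_mul, mem_center_iff.1 hce, map_inv, map_inv]
          group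
        rcases hZ _ this with h4 | h4 <;> rw [inv_mul_eq_iff_eq_mul] at h4
        · exact Or.inl (by rw [h4, mul_one])
        · exact Or.inr h4) with h4 | h4
      · rw [h4, map_one]
      · exact (QuotientGroup.eq_one_iff e).2 (h4 ▸ mem_zpowers z)
    rw [h3, orderOf_one] at ho
    omega

theorem twoIn_quot {G : Type u} [Group G] [Finite G] (P : Sylow 2 G) (z : P)
    [(zpowers (z : G)).Normal]
    (hu : ∀ (A : Subgroup P) [A.Normal], IsMulCommutative A → ∀ a ∈ A, a * a = 1 → a = 1 ∨ a = z) :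
    H60.GW.TwoIn (⊤ : Subgroup (G ⧸ zpowers (z : G))) := by
  let f := QuotientGroup.mk' (zpowers (z : G))
  have hf : Function.Surjective f := QuotientGroup.mk'_surjective _
  by_cases hc : IsCyclic P
  · refine H7.GW.twoIn_of_sylow (P.mapSurjective hf) (Or.inl ?_)
    exact isCyclic_of_surjective _ (f.subgroupMap_surjective (P : Subgroup G))
  obtain ⟨m, a, b, hcard, ha, hb, hrel⟩ := H3.classify_of_normal_abelian_cyclic_two P.isPGroup'
    (fun A _ hA => H3.isCyclic_of_comm_pgroup_of_unique (P.isPGroup'.to_subgroup A) hA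
      fun X Y hX hY => by
        have key : ∀ X : Subgroup A, Nat.card X = 2 → ∃ x : A, (x : P) = z ∧ X = zpowers x := by
          intro X hX
          haveI : Nontrivial X := Finite.one_lt_card_iff_nontrivial.1 (by omega)
          obtain ⟨x, hx⟩ := exists_ne (1 : X)
          have h1 : x * x = 1 := by
            have := pow_card_eq_one' (x := x)
            rwa [hX, pow_two] at this
          refine ⟨x, (hu A hA _ (x : A).2 (congrArg (fun y : X => ((y : A) : P)) h1)).resolve_left
            fun e => hx (Subtype.ext (Subtype.ext e)), ?_⟩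
          refine (eq_of_le_of_card_ge (zpowers_le_of_mem x.2) ?_).symm
          rw [hX, Nat.card_zpowers, orderOf_coe, orderOf_eq_prime (p := 2) (by rwa [pow_two]) hx]
        obtain ⟨x, hx, rfl⟩ := key X hX
        obtain ⟨y, hy, rfl⟩ := key Y hY
        rw [show x = y from Subtype.ext (hx.trans hy.symm)]) hc
  have hi : (zpowers a).index = 2 := by
    have := (zpowers a).card_mul_index
    rw [Nat.card_zpowers, ha, hcard, pow_succ _ (m + 1)] at this
    exact Nat.eq_of_mul_eq_mul_left (by positivity) this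
  haveI := normal_of_index_eq_two hi
  have h1 : f (a : G) ^ 2 ^ m = 1 := by
    rw [← map_pow]
    refine (QuotientGroup.eq_one_iff _).2 ?_
    rcases hu (zpowers a) inferInstance _ (npow_mem_zpowers a (2 ^ m))
      (by rw [← pow_add, ← mul_two, ← pow_succ, ← ha, pow_orderOf_eq_one]) with e | e
    · rw [← SubgroupClass.coe_pow, e]; exact one_mem _
    · rw [← SubgroupClass.coe_pow, e]; exact mem_zpowers _
  let g : P →* _ := f.comp (P : Subgroup G).subtype
  have hg : ∀ x : P, f x = g x := fun _ => rfl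
  refine H7.GW.twoIn_of_map P f hf a.2 b.2 ?_ ?_ fun x hx => ?_
  · rw [hg, ← pow_two, ← map_pow]
    rcases hrel with ⟨-, e, -⟩ | ⟨-, e, -⟩ | ⟨-, e, -⟩ <;> rw [e]
    exacts [map_one g, (map_pow g _ _).trans h1, map_one g]
  · rw [hg, hg, ← map_inv g b, ← map_mul, ← map_mul]
    rcases hrel with ⟨-, -, e⟩ | ⟨-, -, e⟩ | ⟨-, -, e⟩ <;> rw [e]
    · exact map_inv g a
    · exact map_inv g a
    · rw [map_pow, eq_inv_iff_mul_eq_one, ← pow_succ, Nat.sub_add_cancel Nat.one_le_two_pow]
      exact h1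
  · have key : ∀ y ∈ zpowers a, g y ∈ zpowers (f a) := fun y hy => by
      rw [hg, ← MonoidHom.map_zpowers]; exact ⟨y, hy, rfl⟩
    by_cases h2 : (⟨x, hx⟩ : P) ∈ zpowers a
    · exact Or.inl (key _ h2)
    · refine Or.inr ?_
      rw [← map_mul]
      exact key (b * ⟨x, hx⟩) ((mul_mem_iff_of_index_two hi).2 (iff_of_false hb h2))

theorem core_step [FaithfulSMul H V] (ih : IH.{u} (Nat.card V)) (h : Hyp H V) :
    Group.IsSolvable H := by
  by_contra hns
  obtain ⟨K, hKn, hK, hK1⟩ := H7.GW.exists_perfect_of_nonsolv hns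
  have hev : 2 ∣ Nat.card H := by
    by_contra h2
    exact hns (Cfsg.Agent.S0205.result (Nat.odd_iff.2 (Nat.two_dvd_ne_zero.1 h2)))
  obtain ⟨P⟩ : Nonempty (Sylow 2 H) := inferInstance
  haveI : Nontrivial P := (nontrivial_iff_ne_bot _).2 (P.ne_bot_of_dvd_card hev)
  obtain ⟨z, -, hzc, hzo⟩ := H9.exists_mem_center_orderOf_eq P.isPGroup' (K := ⊤) top_ne_bot
  have hz2 : z * z = 1 := by
    have := pow_orderOf_eq_one z
    rwa [hzo, pow_two] at this
  have hz2' : (z : H) * z = 1 := congrArg Subtype.val hz2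
  have hz1 : (z : H) ≠ 1 := fun e => by
    rw [show z = 1 from Subtype.ext e, orderOf_one] at hzo; omega
  have hz := inverts ih h hK hK1 P hz1 hz2' fun g hg =>
    congrArg Subtype.val (mem_center_iff.1 hzc ⟨g, hg⟩)
  have hc : (z : H) ∈ center H := mem_center_iff.2 fun a => eq_of_smul_eq_smul fun v : V => by
    rw [mul_smul, mul_smul, hz, hz, smul_inv']
  haveI := normal_zp hc
  have hti := twoIn_quot P z fun A _ hA a ha h2 => inv_unique P.isPGroup' hzc hz2
    (fun e he hn => (no_four ih h hK hK1 P hz (h.1.coprime_dvd_left hev)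
      (congrArg Subtype.val he) fun g hg => (hn ⟨g, hg⟩).imp (congrArg Subtype.val)
        (congrArg Subtype.val)).imp Subtype.ext Subtype.ext) A hA ha h2
  let f := QuotientGroup.mk' (zpowers (z : H))
  have hf : Function.Surjective f := QuotientGroup.mk'_surjective _
  have hker : f.ker = zpowers (z : H) := QuotientGroup.ker_mk' _
  have hzc2 : Nat.card (zpowers (z : H)) = 2 := by rw [Nat.card_zpowers, orderOf_coe, hzo]
  have hrel : ∀ (N : Subgroup H) [N.Normal] (v : V), ∃ k, (stabilizer N v).index = 2 ^ k := by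
    intro N _ v
    obtain ⟨k, hk⟩ := h.2 v
    refine two_pow_of_dvd (k := k) ?_
    rw [← hk, show stabilizer N v = (stabilizer H v).subgroupOf N from rfl]
    exact H4.relIndex_dvd_index_of_normal_right _ N
  have hodd : oddCore (H ⧸ zpowers (z : H)) = ⊥ := by
    refine (eq_bot_iff_forall _).2 fun x hx => ?_
    obtain ⟨n, rfl⟩ := hf x
    have ho := H2.odd_card_oddCore (H ⧸ zpowers (z : H))
    set N := (oddCore (H ⧸ zpowers (z : H))).comap f with hN
    have hcN : Nat.card N ∣ 2 * Nat.card (oddCore (H ⧸ zpowers (z : H))) := by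
      rw [← (f.comp N.subtype).ker.card_mul_index, index_ker, ← MonoidHom.comap_ker, hker]
      refine mul_dvd_mul ((card_comap_dvd_of_injective _ _ N.subtype_injective).trans hzc2.dvd)
        (card_dvd_of_le ?_)
      rintro _ ⟨y, rfl⟩
      exact y.2
    have h2 : n * n = 1 := eq_of_smul_eq_smul fun v : V => by
      obtain ⟨k, hk⟩ := hrel N v
      have h3 := (stabilizer N v).index_dvd_card.trans hcN
      rw [hk] at h3
      have h4 : (stabilizer N v).index ∣ 2 := hk ▸ (Nat.Coprime.pow_left k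
        (Nat.coprime_two_left.2 ho)).dvd_of_dvd_mul_right h3
      rw [one_smul]
      rcases (Nat.dvd_prime Nat.prime_two).1 h4 with h5 | h5
      · rw [index_eq_one] at h5
        exact (h5 ▸ mem_top _ : (⟨n, hx⟩ * ⟨n, hx⟩ : N) ∈ stabilizer N v)
      · exact mul_self_mem_of_index_two h5 ⟨n, hx⟩
    have h3 : orderOf (f n) ∣ 2 := orderOf_dvd_of_pow_eq_one (by rw [pow_two, ← map_mul, h2, map_one])
    exact orderOf_eq_one_iff.1 (Nat.eq_one_of_dvd_coprimes (Nat.coprime_two_left.2 ho) h3
      (orderOf_dvd_natCard _ hx))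
  have hns' : ¬Group.IsSolvable (H ⧸ zpowers (z : H)) := fun _ =>
    hns (Group.isSolvable_of_ker_le_range (zpowers (z : H)).subtype f (by rw [hker, range_subtype]))
  obtain ⟨hred, htar⟩ := H7.GW.struct H0.gwSimple hti hodd hns'
  haveI := hred.normal
  set L := (layer (H ⧸ zpowers (z : H))).comap f with hL
  let f1 : L →* layer (H ⧸ zpowers (z : H)) := (f.comp L.subtype).codRestrict _ fun x => x.2
  have hf1 : Function.Surjective f1 := fun y => by
    obtain ⟨x, hx⟩ := hf y
    exact ⟨⟨x, show f x ∈ layer _ from hx ▸ y.2⟩, Subtype.ext hx⟩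
  have hk1 : ∀ x, f1 x = 1 → (x : H) ∈ zpowers (z : H) := fun x hx =>
    hker ▸ (congrArg Subtype.val hx : f x = 1)
  have hfix : ∀ v : V, (stabilizer L v).map f1 = ⊤ → v = 1 := by
    intro v hv
    have h1 : fixS V ⁅L, L⁆ = ⊥ := by
      refine irred ih h hK hK1 (fun a w hw k hk => ?_) fun e => hns' ?_
      · have := hw _ ((inferInstance : (⁅L, L⁆).Normal).conj_mem k hk a⁻¹)
        rw [inv_inv, mul_smul, mul_smul, inv_smul_eq_iff] at this
        exact this
      · have h2 : ⁅L, L⁆ = ⊥ := (eq_bot_iff_forall _).2 fun k hk => eq_of_smul_eq_smul fun w : V => by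
          rw [one_smul]; exact (e ▸ mem_top w : w ∈ fixS V ⁅L, L⁆) k hk
        have h3 := congrArg (Subgroup.map f) h2
        rw [map_commutator, hL, map_comap_eq_self_of_surjective hf, H14.layer_perfect, Subgroup.map_bot] at h3
        have h4 := hred.cent
        rw [h3] at h4
        haveI : Subsingleton (H ⧸ zpowers (z : H)) := ⟨fun a b => by
          have : ∀ c : H ⧸ zpowers (z : H), c = 1 := fun c => by
            rw [← mem_bot, ← h4]
            rintro _ rfl
            simp
          rw [this a, this b]⟩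
        infer_instance
    rw [← mem_bot, ← h1]
    have h2 : ∀ a ∈ L, ∃ s ∈ stabilizer H v, ∃ c ∈ center H, a = s * c := by
      intro a ha
      obtain ⟨s, hs, e⟩ : f1 ⟨a, ha⟩ ∈ (stabilizer L v).map f1 := hv ▸ mem_top _
      refine ⟨s, hs, (s : H)⁻¹ * a, zpowers_le_of_mem hc (hk1 (s⁻¹ * ⟨a, ha⟩) ?_), by group⟩
      rw [map_mul, map_inv, e, inv_mul_cancel]
    refine fun k hk => (show ⁅L, L⁆ ≤ stabilizer H v from commutator_le.2 fun a ha b hb => ?_) hk
    obtain ⟨s, hs, c, hc, rfl⟩ := h2 a ha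
    obtain ⟨s', hs', c', hc', rfl⟩ := h2 b hb
    have : ⁅s * c, s' * c'⁆ = ⁅s, s'⁆ := by
      have e1 := mem_center_iff.1 hc
      have e2 := mem_center_iff.1 hc'
      calc ⁅s * c, s' * c'⁆ = s * (c * s' * c' * c⁻¹) * s⁻¹ * c'⁻¹ * s'⁻¹ := by
            rw [commutatorElement_def]; group
        _ = s * s' * (c' * s⁻¹ * c'⁻¹) * s'⁻¹ := by
            rw [mul_assoc c, ← e1, mul_inv_cancel_right]; group
        _ = _ := by rw [← e2, mul_inv_cancel_right, commutatorElement_def]
    rw [this, commutatorElement_def]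
    exact mul_mem (mul_mem (mul_mem hs hs') (inv_mem hs)) (inv_mem hs')
  have hcL : (Nat.card L).Coprime (Nat.card V) := h.1.coprime_dvd_left L.card_subgroup_dvd_card
  have hfix' : ∀ {S : Type} [Group S] (e : layer (H ⧸ zpowers (z : H)) ≃* S) (v : V),
      (stabilizer L v).map (e.toMonoidHom.comp f1) = ⊤ → v = 1 := fun e v hv => hfix v (by
    rw [← map_map] at hv
    exact map_injective (f := e.toMonoidHom) e.injective
      (hv.trans (map_top_of_surjective _ e.surjective).symm))
  rcases htar with ⟨F, _, _, hF, -, ⟨e⟩⟩ | ⟨⟨e⟩⟩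
  · obtain ⟨r, _, n, hr, hn⟩ := FiniteField.card' F
    haveI := Fact.mk hr
    obtain ⟨w, hw⟩ := bruhat (F := F)
    refine geo_false (r := r) (fun e2 => ?_) (H52.geo_psl r) hw (e.toMonoidHom.comp f1)
      (e.surjective.comp hf1) (fun x hx => ?_) hcL (hrel L) (hfix' e)
    · rw [hn, e2] at hF
      exact (Nat.not_even_iff_odd.2 hF) (Nat.even_pow.2 ⟨even_two, n.ne_zero⟩)
    · have h1 := hk1 x (e.injective (hx.trans (map_one e).symm))
      refine ⟨Subtype.ext ?_, mem_center_iff.2 fun y => Subtype.ext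
        (mem_center_iff.1 (zpowers_le_of_mem hc h1) y)⟩
      have := pow_card_eq_one' (x := (⟨x, h1⟩ : zpowers (z : H)))
      rw [hzc2, pow_two] at this
      exact congrArg (fun y : zpowers (z : H) => (y : H)) this
  · refine hz1 (eq_of_smul_eq_smul fun v : V => ?_)
    obtain ⟨k, hk⟩ := hrel L v
    obtain ⟨j, hj⟩ := two_pow_of_dvd (hk ▸ index_map_dvd (stabilizer L v)
      (f := e.toMonoidHom.comp f1) (e.surjective.comp hf1))
    rw [hfix' e v (a7_index _ hj), smul_one, smul_one]

theorem core (H V : Type u) [Group H] [Finite H] [CommGroup V] [Finite V]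
    [MulDistribMulAction H V] [FaithfulSMul H V] (h : Hyp H V) : Group.IsSolvable H := by
  have : ∀ n, IH.{u} n := by
    intro n
    induction n with
    | zero => intro _ _ _ _ _ _ _ _ h; omega
    | succ n ih =>
      intro H V _ _ _ _ _ _ hlt h
      refine core_step (fun H' V' _ _ _ _ _ _ h1 h2 => ih H' V' (by omega) h2) h
  exact core_step (this _) h

end H25.Baer
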