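/- Groups whose `q`-elements have prime power class sizes. -/
import Cfsg.Agent.H25.Baer3
import Cfsg.Agent.H4.Kazarin
import Cfsg.Agent.H4.Cover
import Cfsg.Agent.H18.Misc

set_option autoImplicit false

namespace H25.Baer
open Subgroup MulAction Cfsg H4
open scoped IsMulCommutative

variable {G : Type*} [Group G] [Finite G] {q : ℕ} [hq : Fact q.Prime]

theorem ord_sylow (Q : Sylow q G) {x : G} (hx : x ∈ (Q : Subgroup G)) : ∃ k, orderOf x = q ^ k := by
  obtain ⟨k, hk⟩ := IsPGroup.iff_orderOf.1 Q.isPGroup' ⟨x, hx⟩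
  exact ⟨k, by rw [← hk, orderOf_mk]⟩

theorem larger (Q : Sylow q G) (hB : ∀ w ∈ (Q : Subgroup G), ∃ s c, s.Prime ∧ ind w = s ^ c)
    {x y : G} (hx : x ∈ (Q : Subgroup G)) (hy : y ∈ (Q : Subgroup G)) {p r a b : ℕ} (hp : p.Prime)
    (hr : r.Prime) (hpr : p ≠ r) (ha : ind x = p ^ a) (hb : ind y = r ^ b) (h1 : ind y ≠ 1)
    (hlt : ind y ≤ ind x) : p = q ∧ y ∈ pCore q G := by
  have hc : (ind y).Coprime (ind x) := by
    rw [ha, hb]; exact Nat.coprime_pow_primes _ _ hr hp hpr.symm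
  have hle : ind (y * x) ≤ ind x := by
    obtain ⟨s, c, hs, e⟩ := hB _ (mul_mem hy hx)
    have h2 := ind_mul_dvd_of_coprime hc
    by_cases hsp : s = p
    · refine Nat.le_of_dvd (ind_pos x) (Nat.Coprime.dvd_of_dvd_mul_left ?_ h2)
      rw [e, hb, hsp]; exact Nat.coprime_pow_primes _ _ hp hr hpr
    · refine (Nat.le_of_dvd (ind_pos y) (Nat.Coprime.dvd_of_dvd_mul_right ?_ h2)).trans hlt
      rw [e, ha]; exact Nat.coprime_pow_primes _ _ hs hp hsp
  have hM := commutator_mem_classStab hc hle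
  have hd := card_classStab_dvd x
  have hMc := le_centralizer_of_coprime_class (x := y) (classStab x) (hc.symm.coprime_dvd_left hd)
  obtain ⟨k, hk⟩ := ord_sylow Q hy
  have hpq : p = q := by
    by_contra hpq
    refine h1 (ind_eq_one_iff.2 (mem_center_iff.2 fun g => ?_))
    have h2 : Commute y (y⁻¹ * (g * y * g⁻¹)) := (mem_cent_iff.1 (hMc (hM g))).symm
    have h3 : (y⁻¹ * (g * y * g⁻¹)) ^ q ^ k = 1 := by
      have := h2.mul_pow (q ^ k)
      rwa [mul_inv_cancel_left, conj_pow, ← hk, pow_orderOf_eq_one, mul_one, mul_inv_cancel,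
        one_mul, hk, eq_comm] at this
    have h4 := Nat.eq_one_of_dvd_coprimes (Nat.coprime_pow_primes k a hq.out hp (Ne.symm hpq))
      (orderOf_dvd_of_pow_eq_one h3) (((classStab x).orderOf_dvd_natCard (hM g)).trans (ha ▸ hd))
    rwa [orderOf_eq_one_iff, inv_mul_eq_one, eq_mul_inv_iff_mul_eq, eq_comm] at h4
  refine ⟨hpq, ?_⟩
  subst hpq
  have h2 : classStab x ≤ pCore p G := H2.le_pCore (IsPGroup.of_card_dvd_pow (ha ▸ hd))
  have h3 : (QuotientGroup.mk' (pCore p G) y) ∈ pCore p (G ⧸ pCore p G) := by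
    refine mem_pCore_of_class (k := 0) (ind_eq_one_iff.2 (mem_center_iff.2 fun g => ?_)) ?_
    · obtain ⟨g, rfl⟩ := QuotientGroup.mk'_surjective _ g
      have := (QuotientGroup.eq_one_iff _).2 (h2 (hM g))
      rw [← mul_inv_eq_iff_eq_mul, eq_comm, ← inv_mul_eq_one]
      exact this
    · obtain ⟨j, -, hj⟩ := (Nat.dvd_prime_pow hp).1 (hk ▸ orderOf_map_dvd (QuotientGroup.mk' (pCore p G)) y)
      exact ⟨j, hj⟩
  rw [H2.pCore_quotient_pCore, mem_bot] at h3
  exact (QuotientGroup.eq_one_iff _).1 h3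

theorem conjR (Q : Sylow q G) {r : ℕ} [hr : Fact r.Prime] (R : Sylow r G) (hrq : r ≠ q) {w : G}
    {a : ℕ} (ha : ind w = q ^ a) :
    ∃ u ∈ (Q : Subgroup G), u * w * u⁻¹ ∈ centralizer ((R : Subgroup G) : Set G) := by
  obtain ⟨g, hg⟩ := exists_conj_mem_centralizer_sylow R (x := w) fun h =>
    hrq ((Nat.prime_dvd_prime_iff_eq hr.out hq.out).1 (hr.out.dvd_of_dvd_pow (ha ▸ h)))
  obtain ⟨u, hu, c, hc, rfl⟩ := exists_mul_of_coprime_index (H := (Q : Subgroup G))
    (K := centralizer {w}) (by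
      rw [show (centralizer {w}).index = q ^ a from ha]
      exact (hq.out.coprime_pow_of_not_dvd Q.not_dvd_index)) g
  refine ⟨u, hu, ?_⟩
  rwa [mul_assoc u, mem_cent_iff.1 hc, mul_inv_rev, ← mul_assoc, ← mul_assoc,
    mul_inv_cancel_right] at hg

theorem normal_of_le (Q : Sylow q G) (h : (Q : Subgroup G) ≤ pCore q G) :
    (Q : Subgroup G).Normal := by
  rw [le_antisymm h ((H2.pCore_isPGroup q G).le_sylow_of_normal Q)]
  infer_instance

theorem pair_false (Q : Sylow q G) (hB : ∀ w ∈ (Q : Subgroup G), ∃ s c, s.Prime ∧ ind w = s ^ c)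
    {x y : G} (hx : x ∈ (Q : Subgroup G)) (hy : y ∈ (Q : Subgroup G)) {p r a b : ℕ} (hp : p.Prime)
    (hr : r.Prime) (hpr : p ≠ r) (ha : ind x = p ^ a) (hb : ind y = r ^ b) (h1 : ind y ≠ 1)
    (hlt : ind y ≤ ind x) : False := by
  obtain ⟨rfl, -⟩ := larger Q hB hx hy hp hr hpr ha hb h1 hlt
  have hx1 : ind x ≠ 1 := by have := ind_pos y; omega
  haveI : (Q : Subgroup G).Normal := normal_of_le Q fun w hw => by
    obtain ⟨s, c, hs, e⟩ := hB w hw
    by_cases h2 : ind w = 1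
    · exact mem_pCore_of_class (k := 0) h2 (ord_sylow Q hw)
    by_cases h3 : s = p
    · exact mem_pCore_of_class (h3 ▸ e) (ord_sylow Q hw)
    rcases le_total (ind w) (ind x) with h4 | h4
    · exact (larger Q hB hx hw hp hs (Ne.symm h3) ha e h2 h4).2
    · exact absurd (larger Q hB hw hx hs hp h3 e ha hx1 h4).1 h3
  obtain ⟨n, hn⟩ := IsPGroup.iff_card.1 Q.isPGroup'
  have hZ : ∀ w : G, ∀ s c : ℕ, s.Prime → s ≠ p → ind w = s ^ c →
      w ∈ centralizer ((Q : Subgroup G) : Set G) := fun w s c hs hsp e =>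
    mem_centralizer_of_coprime_ind _ (by
      rw [hn, e]; exact Nat.coprime_pow_primes _ _ hp hs hsp.symm)
  haveI := Fact.mk hr
  obtain ⟨R⟩ : Nonempty (Sylow r G) := inferInstance
  have hR : ∀ w ∈ (Q : Subgroup G), w ∉ centralizer ((Q : Subgroup G) : Set G) →
      ∃ u ∈ (Q : Subgroup G), u * w * u⁻¹ ∈ centralizer ((R : Subgroup G) : Set G) := by
    intro w hw h2
    obtain ⟨s, c, hs, e⟩ := hB w hw
    by_cases h3 : s = p
    · exact conjR Q R hpr.symm (h3 ▸ e)
    · exact absurd (hZ w s c hs h3 e) h2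
  have hD : (Q : Subgroup G) ≤ centralizer ((R : Subgroup G) : Set G) ⊔
      ((Q : Subgroup G) ⊓ centralizer ((Q : Subgroup G) : Set G)) :=
    le_of_forall_conj_mem fun w hw => by
      by_cases h2 : w ∈ centralizer ((Q : Subgroup G) : Set G)
      · exact ⟨1, one_mem _, mem_sup_right (by simpa using ⟨hw, h2⟩)⟩
      · obtain ⟨u, hu, h3⟩ := hR w hw h2
        exact ⟨u, hu, mem_sup_left h3⟩
  have hyZ := hZ y r b hr hpr.symm hb
  obtain ⟨c, hc, z, hz, rfl⟩ := mem_sup_of_normal_right.1 (hD hx)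
  have hcQ : c ∈ (Q : Subgroup G) := ((Q : Subgroup G).mul_mem_cancel_right hz.1).1 hx
  have hcZ : c ∉ centralizer ((Q : Subgroup G) : Set G) := fun h2 =>
    not_dvd_ind_of_mem_centralizer_sylow Q (mul_mem h2 hz.2) (by
      rw [ha] at hx1 ⊢
      exact dvd_pow_self _ fun e => hx1 (by rw [e, pow_zero]))
  obtain ⟨u, hu, h3⟩ := hR (c * y) (mul_mem hcQ hy) fun h2 => hcZ ((mul_mem_cancel_right hyZ).1 h2)
  obtain ⟨c', hc', z', hz', rfl⟩ := mem_sup_of_normal_right.1 (hD hu)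
  have hcQ' : c' ∈ (Q : Subgroup G) := ((Q : Subgroup G).mul_mem_cancel_right hz'.1).1 hu
  have h4 : c' * z' * (c * y) * (c' * z')⁻¹ = c' * c * c'⁻¹ * y := by
    rw [mul_assoc c', ← hz'.2 _ (mul_mem hcQ hy), mul_assoc _ c'⁻¹, hyZ _ (inv_mem hcQ')]
    group
  rw [h4, mul_mem_cancel_left (mul_mem (mul_mem hc' hc) (inv_mem hc'))] at h3
  refine not_dvd_ind_of_mem_centralizer_sylow R h3 ?_
  rw [hb] at h1 ⊢
  exact dvd_pow_self _ fun e => h1 (by rw [e, pow_zero])

theorem exists_prime (Q : Sylow q G)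
    (hB : ∀ w ∈ (Q : Subgroup G), ∃ s c, s.Prime ∧ ind w = s ^ c) :
    ∃ p, p.Prime ∧ ∀ w ∈ (Q : Subgroup G), ∃ a, ind w = p ^ a := by
  by_cases h : ∀ w ∈ (Q : Subgroup G), ind w = 1
  · exact ⟨q, hq.out, fun w hw => ⟨0, h w hw⟩⟩
  push Not at h
  obtain ⟨x, hx, hx1⟩ := h
  obtain ⟨p, a, hp, ha⟩ := hB x hx
  refine ⟨p, hp, fun w hw => ?_⟩
  obtain ⟨s, c, hs, e⟩ := hB w hw
  by_cases h1 : ind w = 1
  · exact ⟨0, h1⟩
  by_cases h2 : s = p
  · exact ⟨c, h2 ▸ e⟩
  rcases le_total (ind w) (ind x) with h4 | h4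
  · exact (pair_false Q hB hx hw hp hs (Ne.symm h2) ha e h1 h4).elim
  · exact (pair_false Q hB hw hx hs hp h2 e ha hx1 h4).elim

theorem case_eq (Q : Sylow q G) (hB : ∀ w ∈ (Q : Subgroup G), ∃ a, ind w = q ^ a) :
    (Q : Subgroup G).Normal ∧ ∃ N : Subgroup G, N.Normal ∧ N.IsComplement' (Q : Subgroup G) := by
  haveI : (Q : Subgroup G).Normal := normal_of_le Q fun w hw =>
    let ⟨_, e⟩ := hB w hw; mem_pCore_of_class e (ord_sylow Q hw)
  refine ⟨this, ?_⟩
  obtain ⟨N, h1, h2, -⟩ := exists_normal_compl_of_centralize Q fun x hx =>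
    mem_of_forall_primePow_mem x fun e s k hs hd ho => by
      haveI := Fact.mk hs
      obtain ⟨R, hR⟩ := (IsPGroup.of_card (by rw [Nat.card_zpowers, ho]) :
        IsPGroup s (zpowers (x ^ e))).exists_le_sylow
      have : (Q : Subgroup G) ≤ centralizer ((R : Subgroup G) : Set G) :=
        le_of_forall_conj_mem fun w hw => let ⟨_, e⟩ := hB w hw
          conjR Q R (fun h => hx (h ▸ hd)) e
      exact le_centralizer_iff.1 this (hR (mem_zpowers _))
  exact ⟨N, h1, h2⟩

theorem solv (Q : Sylow q G) [(Q : Subgroup G).Normal] [IsMulCommutative Q]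
    (hO : pPrimeCore q G = ⊥) {p : ℕ} (hp : p.Prime)
    (hB : ∀ w ∈ (Q : Subgroup G), ∃ a, ind w = p ^ a) : Group.IsSolvable G := by
  set C := centralizer ((Q : Subgroup G) : Set G) with hC
  have hQC : (Q : Subgroup G) ≤ C := le_centralizer _
  have hCQ : C ≤ Q := by
    haveI : ((Q.subtype hQC : Sylow q C) : Subgroup C).Normal := by
      rw [Sylow.coe_subtype]; infer_instance
    obtain ⟨N, h1, h2, h3, -⟩ := exists_normal_compl_of_centralize (Q.subtype hQC)
      fun x _ y hy => Subtype.ext (x.2 y hy)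
    have h4 : N.map C.subtype ≤ ⊥ := hO ▸ (map_mono (H2.le_pPrimeCore_of_not_dvd h3)).trans
      (H2.map_pPrimeCore_subtype_le C)
    rw [le_bot_iff, map_eq_bot_iff_of_injective _ C.subtype_injective] at h4
    have h5 := h2.sup_eq_top
    rw [h4, bot_sup_eq, Sylow.coe_subtype, subgroupOf_eq_top] at h5
    exact h5
  let φ : G →* MulAut (Q : Subgroup G) := MulAut.conjNormal
  have hφ : ∀ (g : G) (v : (Q : Subgroup G)), φ g v = v ↔ g ∈ centralizer {(v : G)} := fun g v => by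
    rw [mem_cent_iff, Subtype.ext_iff, MulAut.conjNormal_apply, mul_inv_eq_iff_eq_mul]
  have hker : φ.ker = Q := by
    refine le_antisymm (fun g hg => hCQ fun v hv => ?_) fun g hg => ?_
    · exact (mem_cent_iff.1 ((hφ g ⟨v, hv⟩).1 (by rw [show φ g = 1 from hg]; rfl))).symm
    · exact MulEquiv.ext fun v => (hφ g v).2 (mem_cent_iff.2 (hQC hg v v.2).symm)
  have hcard : Nat.card φ.range = (Q : Subgroup G).index := by rw [← index_ker, hker]
  have hst : ∀ v : (Q : Subgroup G), (stabilizer φ.range v).index = ind (v : G) := fun v => by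
    rw [← index_comap_of_surjective _ φ.rangeRestrict_surjective]
    congr 1
    ext g
    exact hφ g v
  have hs : Group.IsSolvable φ.range := by
    by_cases h2 : 2 ∣ Nat.card φ.range
    swap
    · exact Cfsg.Agent.S0205.result (Nat.odd_iff.2 (Nat.two_dvd_ne_zero.1 h2))
    have hco : (Nat.card φ.range).Coprime (Nat.card (Q : Subgroup G)) :=
      hcard ▸ Q.card_coprime_index.symm
    obtain ⟨t, ht⟩ := exists_prime_orderOf_dvd_card' 2 h2
    have ht2 : t * t = 1 := by rw [← pow_two, ← ht, pow_orderOf_eq_one]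
    obtain ⟨v, hv⟩ : ∃ v : (Q : Subgroup G), t • v ≠ v := by
      by_contra h3
      push Not at h3
      rw [show t = 1 from eq_of_smul_eq_smul fun v : (Q : Subgroup G) => by rw [h3, one_smul],
        orderOf_one] at ht
      omega
    set w := t • v * v⁻¹ with hw
    have h3 : t • w = w⁻¹ := by
      rw [hw, smul_mul', smul_inv', ← mul_smul, ht2, one_smul, mul_inv_rev, inv_inv]
    have h4 : t ∉ stabilizer φ.range w := fun h => hv (mul_inv_eq_one.1
      (eq_one_of_pow (hco.coprime_dvd_left h2) (by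
        rw [pow_two, ← hw, mul_eq_one_iff_eq_inv, ← h3]; exact (mem_stabilizer_iff.1 h).symm)))
    have h5 : t ∈ normalizer (stabilizer φ.range w : Set φ.range) := by
      refine mem_normalizer_fintype fun s hs => ?_
      rw [SetLike.mem_coe, mem_stabilizer_iff] at hs ⊢
      rw [inv_eq_of_mul_eq_one_right ht2, mul_smul, mul_smul, h3, smul_inv', hs, smul_inv', h3,
        inv_inv]
    have h6 : 2 ∣ (stabilizer φ.range w).index := by
      refine Dvd.dvd.trans ?_ (relIndex_dvd_index_of_le le_normalizer)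
      have h7 : orderOf (QuotientGroup.mk' ((stabilizer φ.range w).subgroupOf
          (normalizer (stabilizer φ.range w : Set φ.range))) ⟨t, h5⟩) = 2 :=
        orderOf_eq_prime (by rw [← map_pow, pow_two, show (⟨t, h5⟩ * ⟨t, h5⟩ : normalizer _) = 1
          from Subtype.ext ht2, map_one]) fun e => h4 ((QuotientGroup.eq_one_iff (⟨t, h5⟩ : normalizer _)).1 e)
      exact h7 ▸ orderOf_dvd_natCard _
    obtain ⟨a, ha⟩ := hB w w.2
    rw [hst, ha] at h6
    obtain rfl := (Nat.prime_dvd_prime_iff_eq Nat.prime_two hp).1 (Nat.prime_two.dvd_of_dvd_pow h6)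
    exact core φ.range (Q : Subgroup G) ⟨hco, fun v => hst v ▸ hB v v.2⟩
  exact Group.isSolvable_of_ker_le_range (Q : Subgroup G).subtype φ.rangeRestrict (by
    rw [MonoidHom.ker_rangeRestrict, hker, range_subtype])

theorem map_ind {H : Type*} [Group H] (f : G →* H) (hf : Function.Surjective f) (Q : Sylow q G)
    {p : ℕ} (hp : p.Prime) (hB : ∀ w ∈ (Q : Subgroup G), ∃ a, ind w = p ^ a) :
    ∀ w ∈ ((Q.mapSurjective hf : Sylow q H) : Subgroup H), ∃ a, ind w = p ^ a := by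
  rintro _ ⟨x, hx, rfl⟩
  obtain ⟨a, ha⟩ := hB x hx
  obtain ⟨j, -, hj⟩ := (Nat.dvd_prime_pow hp).1
    ((H18.index_centralizer_map_dvd f hf x).trans ha.dvd)
  exact ⟨j, hj⟩

theorem case_ne (Q : Sylow q G) {p : ℕ} (hp : p.Prime) (hpq : p ≠ q)
    (hB : ∀ w ∈ (Q : Subgroup G), ∃ a, ind w = p ^ a) :
    IsMulCommutative (Q : Subgroup G) ∧ (pCore p G ⊔ (Q : Subgroup G)).Normal ∧
      Group.IsSolvable (G ⧸ pPrimeCore q G) := by
  haveI := Fact.mk hp
  let f := QuotientGroup.mk' (pCore p G)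
  have hf : Function.Surjective f := QuotientGroup.mk'_surjective _
  have h1 := map_ind f hf Q hp hB
  have h2 : ((Q.mapSurjective hf : Sylow q _) : Subgroup (G ⧸ pCore p G)).Normal :=
    normal_of_le _ fun w hw => by
      obtain ⟨a, ha⟩ := h1 w hw
      obtain ⟨k, hk⟩ := ord_sylow _ hw
      exact H2.le_pCore_of_le_fitting (IsPGroup.of_card (by rw [Nat.card_zpowers, hk]))
        (zpowers_le_of_mem (normalClosure_le_of_class ha (H2.pCore_quotient_pCore p G)
          (subset_normalClosure rfl)).1) (mem_zpowers w)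
  have h3 : (pCore p G ⊔ (Q : Subgroup G)).Normal := by
    have := h2.comap f
    rwa [Sylow.coe_mapSurjective, comap_map_eq, QuotientGroup.ker_mk', sup_comm] at this
  have h4 : IsMulCommutative (Q : Subgroup G) := ⟨⟨fun x y => by
    obtain ⟨a, ha⟩ := h1 (f x) ⟨x, x.2, rfl⟩
    obtain ⟨n, hn⟩ := IsPGroup.iff_card.1 (Q.mapSurjective hf).isPGroup'
    have h5 := mem_centralizer_of_coprime_ind (x := f x) (Q.mapSurjective hf : Sylow q _) (by
      rw [hn, ha]; exact Nat.coprime_pow_primes _ _ hq.out hp hpq.symm) (f y) ⟨y, y.2, rfl⟩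
    rw [← map_mul, ← map_mul, ← inv_mul_eq_one, ← map_inv, ← map_mul] at h5
    have h6 := (IsPGroup.disjoint_of_ne p q hpq _ _ (H2.pCore_isPGroup p G) Q.isPGroup').le_bot
      ⟨(QuotientGroup.eq_one_iff _).1 h5, ((y * x)⁻¹ * (x * y)).2⟩
    exact Subtype.ext (inv_mul_eq_one.1 h6).symm⟩⟩
  refine ⟨h4, h3, ?_⟩
  let g := QuotientGroup.mk' (pPrimeCore q G)
  have hg : Function.Surjective g := QuotientGroup.mk'_surjective _
  haveI : ((Q.mapSurjective hg : Sylow q _) : Subgroup (G ⧸ pPrimeCore q G)).Normal := by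
    have := h3.map g hg
    rwa [Subgroup.map_sup, show (pCore p G).map g = ⊥ from (Subgroup.map_eq_bot_iff _).2 (by
      rw [QuotientGroup.ker_mk']; exact H2.pCore_le_pPrimeCore_of_ne hpq), bot_sup_eq] at this
  haveI : IsMulCommutative (Q.mapSurjective hg : Sylow q _) :=
    inferInstanceAs (IsMulCommutative ((Q : Subgroup G).map g))
  exact solv (Q.mapSurjective hg) (H2.pPrimeCore_quotient_pPrimeCore q G) hp (map_ind g hg Q hp hB)

end H25.Baer
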