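import Cfsg.Agent.H42.SolKit
import Cfsg.Agent.H3.NormalRankOne
import Cfsg.Agent.H95.CoreL0A
import Cfsg.Agent.H34.BS
import Cfsg.Agent.H12.Basic

/-! Intrinsic `2`-components with a unique involution: basic kit. -/

set_option autoImplicit false
set_option linter.unusedSectionVars false

namespace H25.CI

open Cfsg Subgroup H14 H98 H1.Gold H42.An
open H31.S2 (oc)
open scoped commutatorElement

universe u

variable {G : Type u} [Group G] [Finite G] {J J' K P Q T : Subgroup G} {a b c d g j s t w x y z : G}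

/-- `J` is a `2`-component of `C(z)` whose only involution is `z`. -/
structure IU (z : G) (J : Subgroup G) : Prop where
  oz : orderOf z = 2
  pc : PC 2 J (cen1 z)
  mem : z ∈ J
  uq : ∀ {t}, t ∈ J → t * t = 1 → t = 1 ∨ t = z

theorem quat_gen (n : ℕ) (x : QuaternionGroup n) : ∃ i k : ZMod (2 * n),
    x = QuaternionGroup.xa i ∨ x = QuaternionGroup.xa i * QuaternionGroup.xa k := by
  cases x with
  | a i => exact ⟨0, i - n, Or.inr (by simp)⟩
  | xa i => exact ⟨i, 0, Or.inl rfl⟩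

theorem quat_sq (n : ℕ) (i : ZMod (2 * n)) :
    QuaternionGroup.xa i * QuaternionGroup.xa i = (QuaternionGroup.a n : QuaternionGroup n) := by
  simp

theorem quat_pair (m : ℕ) : (QuaternionGroup.xa 0 : QuaternionGroup (2 * m)) *
    QuaternionGroup.xa (m : ZMod (2 * (2 * m))) * (QuaternionGroup.xa 0)⁻¹ =
    (QuaternionGroup.xa (m : ZMod (2 * (2 * m))))⁻¹ := by
  rw [mul_inv_eq_iff_eq_mul, eq_inv_mul_iff_mul_eq]
  simp only [QuaternionGroup.xa_mul_xa, QuaternionGroup.xa_mul_a]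
  congr 1
  have : ((2 * (2 * m) : ℕ) : ZMod (2 * (2 * m))) = 0 := ZMod.natCast_self _
  push_cast at this ⊢
  linear_combination this

theorem quat_ne (n : ℕ) (hn : n ≠ 0) : (QuaternionGroup.a n : QuaternionGroup n) ≠ 1 := by
  intro h
  rw [QuaternionGroup.one_def] at h
  have h1 : ((n : ℕ) : ZMod (2 * n)) = 0 := by injection h
  have := Nat.le_of_dvd (by omega) ((ZMod.natCast_eq_zero_iff _ _).1 h1)
  omega

/-- If `y ∉ N` is a `2`-element, some power lies outside `N` with square in `N`. -/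
theorem exists_pow_sq_mem {N : Subgroup G} (h2 : Two y) (hn : y ∉ N) :
    ∃ m : ℕ, y ^ m ∉ N ∧ y ^ m * y ^ m ∈ N := by
  obtain ⟨k, hk⟩ := h2
  induction k generalizing y with
  | zero => exact absurd (by rw [pow_zero, pow_one] at hk; rw [hk]; exact one_mem _) hn
  | succ k ih =>
    by_cases h : y * y ∈ N
    · exact ⟨1, by rwa [pow_one], by rwa [pow_one]⟩
    · obtain ⟨m, h1, h2⟩ := ih h (by rw [← pow_two, ← pow_mul, ← pow_succ', hk])
      exact ⟨2 * m, by rwa [pow_mul, pow_two], by rwa [pow_mul, pow_two]⟩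

/-- Elements of a `2`-group that commute modulo `O(C(z))` commute. -/
theorem comm_of_cpc (hJ : J ≤ cen1 z) (hT : IsPGroup 2 T) (ha : a ∈ T) (hb : b ∈ T) (h1 : a ∈ J)
    (h2 : b ∈ cpc 2 z J) : Commute a b :=
  commutatorElement_eq_one_iff_commute.1 (eq_one_of_two
    (two_of_mem hT (mul_mem (mul_mem (mul_mem ha hb) (inv_mem ha)) (inv_mem hb)))
    (odd_of_mem (odd_opp _) (((mem_cpc hJ).1 h2).2 a h1)))

theorem cj_le_cpc (h : PC 2 J (cen1 z)) (hg : Commute g z) (hn : g ∉ nor J) :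
    cj g J ≤ cpc 2 z J :=
  pc_le_cpc h (pc_cj h (mem_cen1.2 hg)) fun e => hn (cj_eq_self_iff.1 e)

theorem conj_mem_cpc (h : PC 2 J (cen1 z)) (hg : Commute g z) (hn : g ∉ nor J) (ha : a ∈ J) :
    g * a * g⁻¹ ∈ cpc 2 z J := cj_le_cpc h hg hn (conj_mem_cj ha)

theorem conj_mem_nor (h : PC 2 J (cen1 z)) (hg : Commute g z) (ha : a ∈ J) :
    g * a * g⁻¹ ∈ nor J := pc_le_nor h (pc_cj h (mem_cen1.2 hg)) (conj_mem_cj ha)

theorem layer_le (h : PC 2 K (cen1 t)) : pLayerOf 2 (cen1 t) ≤ K ⊔ cpc 2 t K :=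
  pLayerOf_le fun D hD => by
    by_cases e : D = K
    · exact e.le.trans le_sup_left
    · exact (pc_le_cpc h hD e).trans le_sup_right

namespace IU

theorem zz (h : IU z J) : z * z = 1 := mul_self_of_two h.oz

theorem z1 (h : IU z J) : z ≠ 1 := ne_one_of_two h.oz

theorem inv (h : IU z J) : z⁻¹ = z := inv_eq_of_mul_eq_one_right h.zz

theorem comm (h : IU z J) (ha : a ∈ J) : Commute a z := mem_cen1.1 (h.pc.le ha)

theorem zq (h : IU z J) : z ∈ cpc 2 z J := self_mem_cpc h.pc.le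

protected theorem cj (h : IU z J) (g : G) : IU (g * z * g⁻¹) (cj g J) :=
  ⟨by rw [orderOf_conj', h.oz], cj_cen1 g z ▸ h.pc.cj g, conj_mem_cj h.mem, fun {t} ht e => by
    rcases h.uq (mem_cj.1 ht) (by
      rw [show g⁻¹ * t * g * (g⁻¹ * t * g) = g⁻¹ * (t * t) * g by group, e]; group) with k | k
    · left; rw [show t = g * (g⁻¹ * t * g) * g⁻¹ by group, k]; group
    · right; rw [← k]; group⟩

theorem cj' (h : IU z J) (hg : Commute g z) : IU z (cj g J) := by
  have := h.cj g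
  rwa [hg.eq, mul_inv_cancel_right] at this

theorem root_inv (h : IU z J) (e : a * a = z) : a⁻¹ = a * z := by
  rw [← e, inv_eq_iff_mul_eq_one, show a * (a * (a * a)) = a * a * (a * a) by group, e, h.zz]

theorem root_ne (h : IU z J) (e : a * a = z) : a * a ≠ 1 := e ▸ h.z1

theorem pow_eq (h : IU z J) (hd : d ∈ J) (h2 : Two d) (h1 : d ≠ 1) : ∃ m : ℕ, d ^ m = z := by
  obtain ⟨m, k1, k2⟩ := exists_pow_sq_mem (N := ⊥) h2 (by simpa using h1)
  exact ⟨m, (h.uq (pow_mem hd m) (by simpa using k2)).resolve_left (by simpa using k1)⟩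

theorem root (h : IU z J) (hd : d ∈ J) (h2 : Two d) (h1 : d * d ≠ 1) :
    ∃ m : ℕ, d ^ m * d ^ m = z := by
  obtain ⟨m, e⟩ := h.pow_eq (mul_mem hd hd) (pow_two d ▸ Two.pow h2 2) h1
  exact ⟨m, by rw [← e, (Commute.refl d).mul_pow]⟩

/-- An element normalising `J` centralises `z`. -/
theorem comm_of_nor (h : IU z J) (hg : g ∈ nor J) : Commute g z := by
  rcases h.uq (conj_mem_of_mem_normalizer hg h.mem) (by
    rw [show g * z * g⁻¹ * (g * z * g⁻¹) = g * (z * z) * g⁻¹ by group, h.zz]; group) with k | k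
  · exact absurd (by simpa using k) h.z1
  · exact mul_inv_eq_iff_eq_mul.1 k

/-- The Sylow `2`-subgroups are generalised quaternion. -/
theorem gq (h : IU z J) (hQ : IsSyl 2 Q J) :
    (∀ x ∈ Q, ∃ r ∈ Q, ∃ s ∈ Q, r * r = z ∧ s * s = z ∧ (x = r ∨ x = r * s)) ∧
      ∃ r ∈ Q, ∃ s ∈ Q, r * r = z ∧ s * s = z ∧ r * s * r⁻¹ = s⁻¹ := by
  have hu : ∀ H : Subgroup Q, Nat.card H = 2 → ∀ x ∈ H, x ≠ 1 → (x : G) = z := fun H hH x hx k => by
    have : x ^ 2 = 1 := by
      have := pow_card_eq_one' (x := (⟨x, hx⟩ : H))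
      rw [hH] at this
      exact congrArg Subtype.val this
    exact (h.uq (hQ.le x.2) (by rw [← pow_two]; exact congrArg Subtype.val this)).resolve_left
      fun e => k (Subtype.ext e)
  have hl : ∀ H K : Subgroup Q, Nat.card H = 2 → Nat.card K = 2 → H ≤ K := fun H K hH hK x hx => by
    by_cases k : x = 1
    · rw [k]; exact one_mem _
    · have : K ≠ ⊥ := fun e => by rw [e, card_bot] at hK; omega
      obtain ⟨⟨y, hy⟩, k'⟩ := ne_bot_iff_exists_ne_one.1 this
      have k2 : y ≠ 1 := fun e => k' (Subtype.ext e)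
      rwa [show x = y from Subtype.ext ((hu H hH x hx k).trans (hu K hK y hy k2).symm)]
  rcases H3.isCyclic_or_quaternion_of_unique hQ.isPGroup
    (fun H K hH hK => le_antisymm (hl H K hH hK) (hl K H hK hH)) with hc | ⟨-, n, ⟨e⟩⟩
  · exact absurd le_rfl (h.pc.not_le_solvable (H95.L0.solvable_of_syl hQ hc))
  rw [pow_succ'] at e
  set m := 2 ^ n
  have hm : 2 * m ≠ 0 := by positivity
  have hz : ((e.symm (QuaternionGroup.a (2 * m : ℕ)) : Q) : G) = z := by
    refine (h.uq (hQ.le (e.symm _).2) ?_).resolve_left fun k => quat_ne _ hm ?_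
    · rw [← Subgroup.coe_mul, ← map_mul, QuaternionGroup.a_mul_a, ← Nat.cast_add, ← two_mul,
        ZMod.natCast_self, ← QuaternionGroup.one_def, map_one, Subgroup.coe_one]
    · rw [← e.symm.map_eq_one_iff]; exact Subtype.ext k
  have hs : ∀ i, ((e.symm (QuaternionGroup.xa i) : Q) : G) * (e.symm (QuaternionGroup.xa i) : Q) = z :=
    fun i => by rw [← Subgroup.coe_mul, ← map_mul, quat_sq, hz]
  refine ⟨fun x hx => ?_, _, (e.symm _).2, _, (e.symm _).2, hs 0, hs m, ?_⟩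
  · obtain ⟨i, k, e1⟩ := quat_gen _ (e ⟨x, hx⟩)
    refine ⟨_, (e.symm _).2, _, (e.symm _).2, hs i, hs k, e1.imp (fun e1 => ?_) fun e1 => ?_⟩
    · rw [← e1, e.symm_apply_apply]
    · rw [← Subgroup.coe_mul, ← map_mul, ← e1, e.symm_apply_apply]
  · have := congrArg (fun x => ((e.symm x : Q) : G)) (quat_pair m)
    simpa only [map_mul, map_inv, Subgroup.coe_mul, Subgroup.coe_inv] using this

theorem root_eq (h : IU z J) (ha : a ∈ J) (hb : b ∈ J) (e1 : a * a = z) (e2 : b * b = z)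
    (hc : Commute a b) : b = a ∨ b = a⁻¹ := by
  rcases h.uq (mul_mem ha hb) (by rw [← pow_two, hc.mul_pow, pow_two, pow_two, e1, e2, h.zz])
    with k | k
  · exact Or.inr (eq_inv_of_mul_eq_one_right k)
  · exact Or.inl (mul_left_cancel (k.trans e1.symm))

/-- A root of `z` is not central in a Sylow subgroup. -/
theorem not_central (h : IU z J) (hQ : IsSyl 2 Q J) (ha : a ∈ J) (e : a * a = z) :
    ¬ ∀ x ∈ Q, Commute a x := fun k => by
  obtain ⟨r, hr, s, hs, e1, e2, e3⟩ := (h.gq hQ).2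
  have c : Commute r s := by
    rcases h.root_eq ha (hQ.le hr) e e1 (k r hr) with rfl | rfl
    · exact k s hs
    · exact (k s hs).inv_left
  rw [c.eq, mul_inv_cancel_right, eq_inv_iff_mul_eq_one, e2] at e3
  exact h.z1 e3

/-- The `2`-elements of `Z*(J)`. -/
theorem cent (h : IU z J) (hd : d ∈ J) (h2 : Two d) (hq : d ∈ cpc 2 z J) : d * d = 1 := by
  by_contra k
  obtain ⟨m, e⟩ := h.root hd h2 k
  obtain ⟨Q, hQ, hle⟩ := exists_isSyl_le h2.isPGroup (zpowers_le.2 hd)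
  have hm := pow_mem (hle (mem_zpowers d)) m
  exact h.not_central hQ (pow_mem hd m) e fun x hx =>
    (comm_of_cpc h.pc.le hQ.isPGroup hx hm (hQ.le hx) (pow_mem hq m)).symm

theorem cent' (h : IU z J) (hd : d ∈ J) (e : d * d = z) : d ∉ cpc 2 z J := fun hq =>
  h.root_ne e (h.cent hd (two_of_root e h.zz) hq)

theorem exists_root (h : IU z J) (hQ : IsSyl 2 Q J) : ∃ r ∈ Q, r * r = z :=
  let ⟨r, hr, _, _, e, _⟩ := (h.gq hQ).2
  ⟨r, hr, e⟩

/-- `Z*`: an involution that centralises a Sylow subgroup of `J` centralises `J` modulo the core. -/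
theorem cpc_of_cen (h : IU z J) (hQ : IsSyl 2 Q J) (tt : t * t = 1) (hn : t ∈ nor J)
    (hc : ∀ x ∈ Q, Commute t x) : t ∈ cpc 2 z J := by
  have cz := h.comm_of_nor hn
  by_cases t1 : t = 1
  · rw [t1]; exact one_mem _
  have hN : J ⊔ zpowers t ≤ nor J := sup_le le_normalizer (zpowers_le.2 hn)
  have iso : ∀ g ∈ J, Commute t (g * t * g⁻¹) → g * t * g⁻¹ = t := fun g hg k => by
    have m1 : t * (g * t * g⁻¹) ∈ J := by
      have := mul_mem (conj_mem_of_mem_normalizer hn hg) (inv_mem hg)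
      rwa [inv_eq_of_mul_eq_one_right tt, show t * g * t * g⁻¹ = t * (g * t * g⁻¹) by group] at this
    rcases h.uq m1 (by
      rw [← pow_two, k.mul_pow, conj_pow, pow_two, tt]; group) with e | e
    · rw [← inv_eq_of_mul_eq_one_right e, inv_eq_of_mul_eq_one_right tt]
    · exfalso
      have e1 : g * t * g⁻¹ = t * z := by rw [← e, ← mul_assoc, tt, one_mul]
      have hS : IsSyl 2 Q (J ⊓ cen1 t) :=
        hQ.of_le (le_inf hQ.le fun x hx => mem_cen1.2 (hc x hx).symm) inf_le_left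
      have hg' : g ∈ nor (J ⊓ cen1 t) := by
        refine mem_normalizer_of_cj_le ?_
        rw [cj_inf, cj_eq_self_of_mem hg, cj_cen1, e1]
        intro x hx
        refine ⟨hx.1, mem_cen1.2 ?_⟩
        have c1 : Commute x (t * z) := mem_cen1.1 hx.2
        have c2 := c1.mul_right (h.comm hx.1)
        rwa [mul_assoc, h.zz, mul_one] at c2
      obtain ⟨n, hn1, c, hc1, rfl⟩ := hS.frattini_mem hg'
      have nJ : n ∈ J := by simpa using mul_mem hg (inv_mem hc1.1)
      have e2 : n * t * n⁻¹ = t * z := by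
        rw [← e1, show n * c * t * (n * c)⁻¹ = n * (c * t * c⁻¹) * n⁻¹ by group,
          mem_cen1.1 hc1.2, mul_inv_cancel_right]
      obtain ⟨o, k, ⟨i, ho⟩, hk⟩ := H69.Std.exists_odd_pow n
      have c3 : Commute (n * n) t := by
        have : n * n * t * (n * n)⁻¹ = t := by
          rw [show n * n * t * (n * n)⁻¹ = n * (n * t * n⁻¹) * n⁻¹ by group, e2,
            show n * (t * z) * n⁻¹ = n * t * n⁻¹ * (n * z * n⁻¹) by group, e2, (h.comm nJ).eq,
            mul_inv_cancel_right, mul_assoc, h.zz, mul_one]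
        exact mul_inv_eq_iff_eq_mul.1 this
      have m2 : n ^ o ∈ Q := hQ.le_of_le_normalizer' (Two.isPGroup ⟨k, hk⟩)
        (zpowers_le.2 (pow_mem nJ o)) (zpowers_le.2 (pow_mem hn1 o)) (mem_zpowers _)
      have c4 : Commute t n := by
        have c5 := hc _ m2
        rw [ho, pow_succ, pow_mul, pow_two] at c5
        have := (c3.pow_left i).symm.inv_right.mul_right c5
        rwa [inv_mul_cancel_left] at this
      rw [← c4.eq, mul_inv_cancel_right, left_eq_mul] at e2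
      exact h.z1 e2
  refine (mem_cpc h.pc.le).2 ⟨mem_cen1.2 cz, fun k hk => ?_⟩
  have z1 := H34.zstar (u := (⟨t, mem_sup_right (mem_zpowers t)⟩ : ↥(J ⊔ zpowers t)))
    ⟨by rw [← orderOf_two_of_mul_self tt t1]; exact (Subgroup.orderOf_coe _).symm, fun x hx => by
      obtain ⟨g, hg, v, hv, e⟩ := (H12.mem_sup_of_le_normalizer' (zpowers_le.2 hn)).1 x.2
      have e1 : (x : G) * t * (x : G)⁻¹ = g * t * g⁻¹ := by
        obtain ⟨i, rfl⟩ := mem_zpowers_iff.1 hv
        rw [← e]; group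
      refine Subtype.ext (e1.trans (iso g hg ?_))
      rw [← e1]
      exact congrArg Subtype.val hx⟩ ⟨k, mem_sup_left hk⟩
  have z2 : t * k * t⁻¹ * k⁻¹ ∈ opp 2 (J ⊔ zpowers t) ⊓ J :=
    ⟨⟨_, z1, rfl⟩, J.mul_mem (conj_mem_of_mem_normalizer hn hk) (J.inv_mem hk)⟩
  have z3 : opp 2 (J ⊔ zpowers t) ⊓ J ≤ opp 2 J :=
    le_opp_of_odd inf_le_right (le_normalizer_inf (le_sup_left.trans (self_le_normalizer_opp _))
      le_normalizer) (odd_of_le inf_le_left (odd_opp _))
  have := inv_mem (h.pc.opp_le (z3 z2))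
  rwa [show (t * k * t⁻¹ * k⁻¹)⁻¹ = ⁅k, t⁆ by simp only [commutatorElement_def]; group] at this

/-- An involution normalising `J` centralises it modulo the core or inverts a root of `z`. -/
theorem dich (h : IU z J) (hQ : IsSyl 2 Q J) (tt : t * t = 1) (hn : t ∈ nor J) (hq : t ∈ nor Q) :
    t ∈ cpc 2 z J ∨ ∃ j ∈ Q, j * j = z ∧ t * j * t⁻¹ = j⁻¹ := by
  refine or_iff_not_imp_right.2 fun k => h.cpc_of_cen hQ tt hn ?_
  have key : ∀ r ∈ Q, r * r = z → Commute t r := fun r hr e => by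
    have m1 : r⁻¹ * (t * r * t⁻¹) ∈ Q := mul_mem (inv_mem hr) (conj_mem_of_mem_normalizer hq hr)
    have i1 : t * (r⁻¹ * (t * r * t⁻¹)) * t⁻¹ = (r⁻¹ * (t * r * t⁻¹))⁻¹ := by
      rw [show t * (r⁻¹ * (t * r * t⁻¹)) * t⁻¹ = t * r⁻¹ * t⁻¹ * ((t * t) * r * (t * t)⁻¹) by group, tt]
      group
    by_cases e1 : r⁻¹ * (t * r * t⁻¹) * (r⁻¹ * (t * r * t⁻¹)) = 1
    · rcases h.uq (hQ.le m1) e1 with e2 | e2
      · exact mul_inv_eq_iff_eq_mul.1 (inv_mul_eq_one.1 e2).symm
      · exact absurd ⟨r, hr, e, by rw [h.root_inv e, ← e2]; group⟩ k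
    · obtain ⟨m, e2⟩ := h.root (hQ.le m1) (two_of_mem hQ.isPGroup m1) e1
      exact absurd ⟨_, pow_mem m1 m, e2, by rw [← conj_pow, i1, inv_pow]⟩ k
  intro x hx
  obtain ⟨r, hr, s, hs, e1, e2, rfl | rfl⟩ := (h.gq hQ).1 x hx
  · exact key _ hr e1
  · exact (key _ hr e1).mul_right (key _ hs e2)

theorem syl (h : IU z J) (hT : IsSyl 2 T (cen1 z)) : IsSyl 2 (T ⊓ J) J := hT.inf_subN h.pc.subN

theorem dich' (h : IU z J) (hT : IsSyl 2 T (cen1 z)) (tt : t * t = 1) (hn : t ∈ nor J) (ht : t ∈ T) :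
    t ∈ cpc 2 z J ∨ ∃ j ∈ T ⊓ J, j * j = z ∧ t * j * t⁻¹ = j⁻¹ :=
  h.dich (h.syl hT) tt hn
    (le_normalizer_inf (zpowers_le.2 (le_normalizer ht)) (zpowers_le.2 hn) (mem_zpowers t))

/-- The `2`-component of `C(z, b)` under `J` for an involution `b` centralising `J` modulo the core. -/
theorem down (h : IU z J) (hb : b * b = 1) (hq : b ∈ cpc 2 z J) :
    ∃ D, PC 2 D (cen1 z ⊓ cen1 b) ∧ D ≤ J ∧ J ≤ D ⊔ opp 2 J ∧
      ∀ x ∈ J, Commute x b → Two x → x ∈ D := by
  have := h.pc.pc_centralizer (two_of_sq hb).isPGroup (zpowers_le.2 (cpc_le z J hq))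
    ((commutator_mono le_rfl (zpowers_le.2 hq)).trans (commutator_cpc_le h.pc.le))
  rw [centralizer_zpowers] at this
  exact ⟨_, this.1, (pec_le _).trans inf_le_left, this.2, fun x hx hc ⟨_, e⟩ =>
    mem_pec ⟨hx, mem_cen1.2 hc⟩ e⟩

/-- Symmetry of the relation "centralises modulo the core". -/
theorem symm (h : IU z J) (h' : IU t K) (hq : t ∈ cpc 2 z J) : z ∈ cpc 2 t K := by
  obtain ⟨D, h1, -, -, h2⟩ := h.down h'.zz hq
  have hc : Commute z t := (mem_cen1.1 (cpc_le z J hq)).symm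
  have zD := h2 z h.mem hc (two_of_sq h.zz)
  obtain ⟨I, h3, h4⟩ := pump h.zz hc (inf_comm (cen1 z) _ ▸ h1) zD
  by_cases e : I = K
  · rcases h'.uq (e ▸ h4 zD) h.zz with k | k
    · exact absurd k h.z1
    · rw [k]; exact h'.zq
  · exact pc_le_cpc h'.pc h3 e (h4 zD)

/-- An element centralising `t` and a `2`-element of order at least four of `K` normalises `K`. -/
theorem nor_of_comm (h : IU t K) (hy : y ∈ K) (h2 : Two y) (h1 : y * y ≠ 1) (hc : Commute y z) :
    z ∈ nor K := by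
  by_contra k
  obtain ⟨m, e⟩ := h.root hy h2 h1
  have c : Commute z t := e ▸ ((hc.pow_left m).mul_left (hc.pow_left m)).symm
  have := conj_mem_cpc h.pc c k hy
  rw [← hc.eq, mul_inv_cancel_right] at this
  exact h1 (h.cent hy h2 this)

end IU

end H25.CI
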