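import Cfsg.Agent.H25.CI1

/-! Intrinsic `2`-components with a unique involution: elements of order at least four of one of them
normalise the other (S1315). -/

set_option autoImplicit false
set_option linter.unusedSectionVars false

namespace H25.CI

open Cfsg Subgroup H14 H98 H1.Gold H42.An
open H31.S2 (oc)
open scoped commutatorElement

universe u

/-- Every quaternion subgroup of order `8` over a central involution has an automorphism of order three. -/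
def T3 (H : Type*) [Group H] : Prop :=
  ∀ a j : H, (∀ x, Commute x (a * a)) → orderOf (a * a) = 2 → j * j = a * a → a * j * a⁻¹ = j⁻¹ →
    ∃ g, g * a * g⁻¹ = j ∧ g * j * g⁻¹ = a * j

theorem T3.congr {H H' : Type*} [Group H] [Group H'] (h : T3 H) (e : H ≃* H') : T3 H' := by
  intro a j h1 h2 h3 h4
  obtain ⟨a, rfl⟩ := e.surjective a
  obtain ⟨j, rfl⟩ := e.surjective j
  simp only [← map_mul, ← map_inv, e.apply_eq_iff_eq, MulEquiv.orderOf_eq] at h1 h2 h3 h4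
  obtain ⟨g, k1, k2⟩ := h a j (fun x => e.injective (by simpa using (h1 (e x)).eq)) h2 h3 h4
  exact ⟨e g, by rw [← k1]; simp, by rw [← map_mul e a j, ← k2]; simp⟩

theorem act {X : Type*} [Group X] {g h c a a' b b' : X} (h1 : g * a * g⁻¹ = b) (h2 : h * a' * h⁻¹ = b')
    (c1 : Commute c g) (c2 : Commute c h) (c3 : Commute a h) (c4 : Commute g b') :
    g * h * (c * a * a') * (g * h)⁻¹ = c * b * b' := by
  rw [show g * h * (c * a * a') * (g * h)⁻¹ =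
    g * ((h * c * h⁻¹) * (h * a * h⁻¹) * (h * a' * h⁻¹)) * g⁻¹ by group, h2, ← c2.eq, ← c3.eq,
    mul_inv_cancel_right, mul_inv_cancel_right, show g * (c * a * b') * g⁻¹ =
    (g * c * g⁻¹) * (g * a * g⁻¹) * (g * b' * g⁻¹) by group, h1, ← c1.eq, c4.eq,
    mul_inv_cancel_right, mul_inv_cancel_right]

variable {G : Type u} [Group G] [Finite G] {J J' K P Q T : Subgroup G}
  {a b c d g h j r s t v w x y z : G}

/-- The type condition. -/
abbrev TY (J : Subgroup G) : Prop := T3 (J ⧸ pPrimeCore 2 J)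

theorem TY.cj (h : TY J) (g : G) : TY (cj g J) :=
  T3.congr h (quotOppCongr 2 (equivMapOfInjective J _ (MulAut.conj g).injective))

open Classical in
/-- The image in `C(z) / O(C(z))`. -/
noncomputable def pim (z a : G) : cen1 z ⧸ pPrimeCore 2 (cen1 z) :=
  if h : a ∈ cen1 z then pq 2 _ ⟨a, h⟩ else 1

theorem pim_eq (ha : a ∈ cen1 z) : pim z a = pq 2 _ ⟨a, ha⟩ := dif_pos ha

theorem pim_mul (ha : a ∈ cen1 z) (hb : b ∈ cen1 z) : pim z (a * b) = pim z a * pim z b := by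
  rw [pim_eq ha, pim_eq hb, pim_eq (mul_mem ha hb), ← map_mul]; rfl

theorem pim_inv (ha : a ∈ cen1 z) : pim z a⁻¹ = (pim z a)⁻¹ := by
  rw [pim_eq ha, pim_eq (inv_mem ha), ← map_inv]; rfl

theorem pim_one : pim z 1 = 1 := by rw [pim_eq (one_mem _)]; exact map_one _

theorem pim_conj (ha : a ∈ cen1 z) (hb : b ∈ cen1 z) :
    pim z (a * b * a⁻¹) = pim z a * pim z b * (pim z a)⁻¹ := by
  rw [pim_mul (mul_mem ha hb) (inv_mem ha), pim_mul ha hb, pim_inv ha]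

theorem pim_iff (ha : a ∈ cen1 z) (hb : b ∈ cen1 z) : pim z a = pim z b ↔ a⁻¹ * b ∈ oc z := by
  rw [pim_eq ha, pim_eq hb]
  exact QuotientGroup.eq.trans ⟨fun k => ⟨_, k, rfl⟩, fun ⟨x, k, e⟩ =>
    (show x = (⟨a, ha⟩ : cen1 z)⁻¹ * ⟨b, hb⟩ from Subtype.ext e) ▸ k⟩

theorem pim_comm (hJ : J ≤ cen1 z) (ha : a ∈ J) (hb : b ∈ cpc 2 z J) :
    Commute (pim z a) (pim z b) := by
  have h1 := hJ ha
  have h2 := cpc_le z J hb
  have := ((mem_cpc hJ).1 hb).2 a⁻¹ (inv_mem ha)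
  rw [Commute, SemiconjBy, ← pim_mul h1 h2, ← pim_mul h2 h1, eq_comm,
    pim_iff (mul_mem h2 h1) (mul_mem h1 h2)]
  have k := conj_mem_of_mem_normalizer' (H31.S2.cen1_le_nor_oc z h2) (inv_mem this)
  rwa [show b⁻¹ * ⁅a⁻¹, b⁆⁻¹ * b = ((b * a)⁻¹ * (a * b)) by
    simp only [commutatorElement_def]; group] at k

theorem lift3 (hT : IsPGroup 2 T) (hc : T ≤ cen1 z) (hx : x ∈ cen1 z) (ht : t ∈ T) (hw : w ∈ T)
    (hv : v ∈ T) (e1 : pim z x * pim z t * (pim z x)⁻¹ = pim z w)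
    (e2 : pim z x * pim z w * (pim z x)⁻¹ = pim z v)
    (e3 : pim z x * pim z v * (pim z x)⁻¹ = pim z t) :
    ∃ h, Commute h z ∧ h * t * h⁻¹ = w ∧ h * v * h⁻¹ = t := by
  have hA : closure {t, w, v} ≤ T := (closure_le _).2 (by
    rintro _ (rfl | rfl | rfl) <;> assumption)
  have m1 : t ∈ closure {t, w, v} := subset_closure (by simp)
  have m2 : w ∈ closure {t, w, v} := subset_closure (by simp)
  have m3 : v ∈ closure {t, w, v} := subset_closure (by simp)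
  have n := H31.S2.cen1_le_nor_oc z
  have tr : ∀ {a b}, a ∈ T → b ∈ T → pim z x * pim z a * (pim z x)⁻¹ = pim z b →
      (x * a * x⁻¹)⁻¹ * b ∈ oc z := fun ha hb e =>
    (pim_iff (mul_mem (mul_mem hx (hc ha)) (inv_mem hx)) (hc hb)).1 ((pim_conj hx (hc ha)).trans e)
  have key : ∀ a ∈ closure {t, w, v}, ∃ b ∈ closure {t, w, v},
      pim z x * pim z a * (pim z x)⁻¹ = pim z b := fun a ha => by
    induction ha using closure_induction with
    | mem a ha =>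
      rcases ha with rfl | rfl | rfl
      exacts [⟨_, m2, e1⟩, ⟨_, m3, e2⟩, ⟨_, m1, e3⟩]
    | one => exact ⟨1, one_mem _, by rw [pim_one]; group⟩
    | mul a b ha hb k1 k2 =>
      obtain ⟨a', h1, h2⟩ := k1
      obtain ⟨b', h3, h4⟩ := k2
      exact ⟨a' * b', mul_mem h1 h3, by
        rw [pim_mul (hc (hA ha)) (hc (hA hb)), pim_mul (hc (hA h1)) (hc (hA h3)), ← h2, ← h4]; group⟩
    | inv a ha k =>
      obtain ⟨a', h1, h2⟩ := k
      exact ⟨a'⁻¹, inv_mem h1, by rw [pim_inv (hc (hA ha)), pim_inv (hc (hA h1)), ← h2]; group⟩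
  obtain ⟨h, h1, h2⟩ := lift_nor (odd_opp _) (hT.to_le hA) (hA.trans (hc.trans n)) (n hx)
    fun a ha => (key a ha).imp fun b hb => ⟨hb.1, tr (hA ha) (hA hb.1) hb.2⟩
  have k := fun {a b} (ha : a ∈ closure {t, w, v}) (hb : b ∈ closure {t, w, v}) e =>
    conj_eq_of_mod (odd_opp _) (hT.to_le hA) (hA.trans (hc.trans n)) (n hx) h1 h2 ha hb
      (tr (hA ha) (hA hb) e)
  exact ⟨h, mem_cen1.1 (by simpa using mul_mem hx (H31.S2.oc_le z h2)), k m1 m2 e1, k m3 m1 e3⟩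

theorem IU.t3 (hJ : IU z J) (h3 : TY J) (ha : a ∈ J) (hj : j ∈ J) (e1 : a * a = z) (e2 : j * j = z)
    (e3 : a * j * a⁻¹ = j⁻¹) : ∃ g ∈ J, pim z g * pim z a * (pim z g)⁻¹ = pim z j ∧
      pim z g * pim z j * (pim z g)⁻¹ = pim z (a * j) := by
  have q1 : (⟨a, ha⟩ : J) * ⟨a, ha⟩ = ⟨z, hJ.mem⟩ := Subtype.ext e1
  have q2 : (⟨j, hj⟩ : J) * ⟨j, hj⟩ = ⟨z, hJ.mem⟩ := Subtype.ext e2
  obtain ⟨g, k1, k2⟩ := h3 (pq 2 J ⟨a, ha⟩) (pq 2 J ⟨j, hj⟩) (fun x => by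
      obtain ⟨x, rfl⟩ := pq_surjective x
      rw [← map_mul, q1]
      exact Commute.map (show Commute x ⟨z, hJ.mem⟩ from Subtype.ext (hJ.comm x.2)) _)
    (by
      rw [← map_mul, q1]
      refine orderOf_two_of_mul_self (by
        rw [← map_mul]; exact (congrArg _ (Subtype.ext hJ.zz)).trans (map_one _)) fun k => ?_
      exact hJ.z1 (eq_one_of_two (two_of_sq hJ.zz) (odd_of_mem (odd_opp J)
        ⟨_, (QuotientGroup.eq_one_iff _).1 k, rfl⟩)))
    (by rw [← map_mul, ← map_mul, q1, q2])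
    (by rw [← map_inv, ← map_inv, ← map_mul, ← map_mul]; exact congrArg _ (Subtype.ext e3))
  obtain ⟨g, rfl⟩ := pq_surjective g
  have tr : ∀ a b : J, pq 2 J g * pq 2 J a * (pq 2 J g)⁻¹ = pq 2 J b →
      pim z g * pim z a * (pim z g)⁻¹ = pim z b := fun a b e => by
    rw [← map_inv, ← map_mul, ← map_mul] at e
    rw [← pim_conj (hJ.pc.le g.2) (hJ.pc.le a.2)]
    exact (pim_iff (hJ.pc.le (g * a * g⁻¹).2) (hJ.pc.le b.2)).2
      (hJ.pc.opp_le ⟨_, QuotientGroup.eq.1 e, rfl⟩)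
  exact ⟨g, g.2, tr _ _ k1, tr ⟨j, hj⟩ (⟨a, ha⟩ * ⟨j, hj⟩) (k2.trans (map_mul _ _ _).symm)⟩

/-- The element `w = c j jʸ` moves `K`. -/
theorem stepW (hJ : IU z J) (hK : IU t K) (hT : IsPGroup 2 T) (hc : T ≤ cen1 z) (hy : y ∈ K)
    (yT : y ∈ T) (y2 : y * y ≠ 1) (yn : y ∉ nor J) (yy : y * y ∈ nor J) (jJ : j ∈ J) (jT : j ∈ T)
    (jr : j * j = z) (ji : t * j * t⁻¹ = j⁻¹) (cT : c ∈ T) (ct : Commute c t)
    (cy : y * c * y⁻¹ = c ∨ y * c * y⁻¹ = c * z ∧ y * y ≠ t) (hw : w = c * j * (y * j * y⁻¹)) :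
    Commute w t ∧ w ∉ nor K ∧ ∃ m : ℕ, y ^ m * y ^ m = t ∧ w * y ^ m * w⁻¹ = z * y ^ m := by
  have yz : Commute y z := mem_cen1.1 (hc yT)
  have yt := hK.comm hy
  have j'T : y * j * y⁻¹ ∈ T := mul_mem (mul_mem yT jT) (inv_mem yT)
  have wT : w ∈ T := hw ▸ mul_mem (mul_mem cT jT) j'T
  have cj' : Commute j (y * j * y⁻¹) :=
    comm_of_cpc hJ.pc.le hT jT j'T jJ (conj_mem_cpc hJ.pc yz yn jJ)
  have jz := hJ.comm jJ
  have nj : ¬ Commute t j := fun k => by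
    rw [k.eq, mul_inv_cancel_right, eq_inv_iff_mul_eq_one, jr] at ji
    exact hJ.z1 ji
  have wt : Commute w t := by
    have : t * w * t⁻¹ = w := by
      rw [hw, show t * (c * j * (y * j * y⁻¹)) * t⁻¹ = (t * c * t⁻¹) * (t * j * t⁻¹) *
        ((t * y * t⁻¹) * (t * j * t⁻¹) * (t * y * t⁻¹)⁻¹) by group, ji, ← ct.eq, ← yt.eq,
        mul_inv_cancel_right, mul_inv_cancel_right, hJ.root_inv jr,
        show c * (j * z) * (y * (j * z) * y⁻¹) = c * j * (z * y) * (j * z) * y⁻¹ by group, ← yz.eq,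
        jz.eq, show c * j * (y * z) * (z * j) * y⁻¹ = c * j * (y * (z * z) * j * y⁻¹) by group, hJ.zz,
        mul_one]
    exact (mul_inv_eq_iff_eq_mul.1 this).symm
  obtain ⟨e, he, ce⟩ : ∃ e, (e = 1 ∨ e = z ∧ y * y ≠ t) ∧ y * c * y⁻¹ = c * e := by
    rcases cy with k | k
    exacts [⟨1, Or.inl rfl, by rw [k, mul_one]⟩, ⟨z, Or.inr ⟨rfl, k.2⟩, k.1⟩]
  have eJ : e ∈ J := by rcases he with rfl | ⟨rfl, -⟩; exacts [one_mem _, hJ.mem]
  have ec : ∀ x, Commute x z → Commute x e := fun x k => by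
    rcases he with rfl | ⟨rfl, -⟩; exacts [Commute.one_right _, k]
  have ee : e * e = 1 := by rcases he with rfl | ⟨rfl, -⟩; exacts [mul_one _, hJ.zz]
  have hd : w⁻¹ * y * w * y⁻¹ = j⁻¹ * e * (y * y * j * (y * y)⁻¹) := by
    rw [hw, show (c * j * (y * j * y⁻¹))⁻¹ * y * (c * j * (y * j * y⁻¹)) * y⁻¹ =
      (y * j * y⁻¹)⁻¹ * (j⁻¹ * (c⁻¹ * (y * c * y⁻¹)) * (y * j * y⁻¹)) * (y * y * j * (y * y)⁻¹) by group,
      ce, inv_mul_cancel_left,
      (cj'.inv_left.mul_left (ec _ (mem_cen1.1 (hc j'T))).symm).eq, inv_mul_cancel_left]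
  have dJ : w⁻¹ * y * w * y⁻¹ ∈ J :=
    hd ▸ mul_mem (mul_mem (inv_mem jJ) eJ) (conj_mem_of_mem_normalizer yy jJ)
  have y'T : w⁻¹ * y * w ∈ T := mul_mem (mul_mem (inv_mem wT) yT) wT
  have d2 := two_of_mem hT (mul_mem y'T (inv_mem yT))
  have d1 : w⁻¹ * y * w * y⁻¹ ≠ 1 := fun k => by
    rw [hd] at k
    have e1 : y * y * j * (y * y)⁻¹ = e * j := by
      rw [← inv_eq_of_mul_eq_one_right k, mul_inv_rev, inv_inv, inv_eq_of_mul_eq_one_right ee]
    by_cases q : y * y = t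
    · rcases he with rfl | ⟨-, k⟩
      · rw [q, one_mul] at e1
        exact nj (mul_inv_eq_iff_eq_mul.1 e1)
      · exact k q
    · have q2 : y * y * (y * y) ≠ 1 := fun k => (hK.uq (mul_mem hy hy) k).elim y2 q
      obtain ⟨m, e2⟩ := hK.pow_eq (mul_mem (mul_mem hy hy) (mul_mem hy hy))
        (two_of_mem hT (mul_mem (mul_mem yT yT) (mul_mem yT yT))) q2
      have : y * y * (y * y) * j * (y * y * (y * y))⁻¹ = j := by
        rw [show y * y * (y * y) * j * (y * y * (y * y))⁻¹ =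
          y * y * (y * y * j * (y * y)⁻¹) * (y * y)⁻¹ by group, e1,
          show y * y * (e * j) * (y * y)⁻¹ = y * y * e * (y * y)⁻¹ * (y * y * j * (y * y)⁻¹) by group,
          e1, (ec _ (yz.mul_left yz)).eq, mul_inv_cancel_right, ← mul_assoc, ee, one_mul]
      exact nj (e2 ▸ Commute.pow_left (mul_inv_eq_iff_eq_mul.1 this) m)
  have wn : w ∉ nor K := fun k => by
    obtain ⟨m, e2⟩ := hJ.pow_eq dJ d2 d1
    have : z ∈ K := e2 ▸ pow_mem (mul_mem (conj_mem_of_mem_normalizer' k hy) (inv_mem hy)) m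
    rcases hK.uq this hJ.zz with k | k
    · exact hJ.z1 k
    · exact nj (k ▸ jz.symm)
  have yq : ∀ {x}, x ∈ K → w⁻¹ * x * w ∈ cpc 2 t K := fun hx => by
    simpa using conj_mem_cpc hK.pc wt.inv_left (fun k => wn (inv_mem_iff.1 k)) hx
  have cyy : Commute y (w⁻¹ * y * w) := comm_of_cpc hK.pc.le hT yT y'T hy (yq hy)
  obtain ⟨m, e2⟩ := hK.root hy (two_of_mem hT yT) y2
  have e4 : (w⁻¹ * y * w) ^ m = w⁻¹ * y ^ m * w := by
    simpa using conj_pow (a := w⁻¹) (b := y) (i := m)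
  have e3 : (w⁻¹ * y * w * y⁻¹) ^ m = w⁻¹ * y ^ m * w * (y ^ m)⁻¹ := by
    rw [cyy.symm.inv_right.mul_pow, inv_pow, e4]
  have c3 : Commute (w⁻¹ * y ^ m * w) (y ^ m)⁻¹ := e4 ▸ (cyy.symm.pow_pow m m).inv_right
  refine ⟨wt, wn, m, e2, ?_⟩
  rcases hJ.uq (e3 ▸ pow_mem dJ m) (by
    rw [← pow_two, c3.mul_pow, pow_two, pow_two, ← mul_inv_rev, e2,
      show w⁻¹ * y ^ m * w * (w⁻¹ * y ^ m * w) = w⁻¹ * (y ^ m * y ^ m) * w by group, e2, mul_assoc w⁻¹,
      ← wt.eq]; group) with k | k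
  · exact absurd (mul_inv_eq_one.1 k ▸ yq (pow_mem hy m)) (hK.cent' (pow_mem hy m) e2)
  · have wz : Commute w z := mem_cen1.1 (hc wT)
    rw [← mul_left_cancel_iff (a := z), ← mul_assoc z z, hJ.zz, one_mul, ← mul_assoc, ← mul_assoc,
      ← wz.eq, ← k]
    group

/-- The final lemma: a diagonal component of `C(w, t)` contains `z w`. -/
theorem final (hK : IU t K) (zz : z * z = 1) (zt : Commute z t) (hz : Commute h z)
    (e1 : h * t * h⁻¹ = w) (e2 : h * v * h⁻¹ = t) (wt : Commute w t) (vn : v ∉ nor K) (hr : r ∈ K)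
    (rr : r * r = t) (e3 : v * r * v⁻¹ = z * r) (rz : Commute r z) : z * w ∈ nor K := by
  have h1 := hK.cj h
  rw [e1] at h1
  have wz : Commute z w := e1 ▸ (hz.symm.mul_right zt).mul_right hz.symm.inv_right
  have e4 : h * r * h⁻¹ * (t * (h * r * h⁻¹) * t⁻¹) = z * w := by
    rw [← e1, ← e2, show h * r * h⁻¹ * (h * v * h⁻¹ * (h * r * h⁻¹) * (h * v * h⁻¹)⁻¹) =
      h * (r * (v * r * v⁻¹)) * h⁻¹ by group, e3, ← mul_assoc r, rz.eq, e2, mul_assoc z, rr,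
      ← mul_assoc, hz.eq]
    group
  refine e4 ▸ hK.pc.pLayerOf_le_normalizer (diag_mem h1.pc (two_of_sq h1.zz) hK.zz wt.symm
    (fun k => vn ?_) (conj_mem_cj hr) (e4 ▸ two_of_sq ?_) (e4 ▸ zt.mul_left wt))
  · rwa [← e2, nor, ← cj_normalizer, conj_mem_cj_iff] at k
  · rw [← pow_two, wz.mul_pow, pow_two, pow_two, zz, h1.zz, mul_one]

/-- The inner case. -/
theorem caseI (hJ : IU z J) (h3 : TY J) (hK : IU t K) (hP : IsPGroup 2 P) (hc : P ≤ cen1 z)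
    (hy : y ∈ K) (yP : y ∈ P) (y2 : y * y ≠ 1) (yn : y ∉ nor J) (yy : y * y ∈ nor J) (aJ : a ∈ J)
    (aP : a ∈ P) (ar : a * a = z) (aq : t * a⁻¹ ∈ cpc 2 z J) : False := by
  obtain ⟨T, hT, hle⟩ := exists_isSyl_le hP hc
  have yT := hle yP
  have aT := hle aP
  have p := hT.isPGroup
  have yz : Commute y z := mem_cen1.1 (hc yP)
  have yt := hK.comm hy
  obtain ⟨n, en⟩ := hK.pow_eq (mul_mem hy hy) (two_of_mem p (mul_mem yT yT)) y2
  have tT : t ∈ T := en ▸ pow_mem (mul_mem yT yT) n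
  have tn : t ∈ nor J := en ▸ pow_mem yy n
  have tz : Commute t z := mem_cen1.1 (hT.le tT)
  have qT := mul_mem tT (inv_mem aT)
  obtain k | ⟨j, ⟨jT, jJ⟩, jr, ji⟩ := hJ.dich' hT hK.zz tn tT
  · exact hJ.cent' aJ ar (by simpa using mul_mem (inv_mem aq) k)
  have act_a : ∀ {x}, x ∈ J → x ∈ T → a * x * a⁻¹ = t * x * t⁻¹ := fun {x} h1 h2 => by
    have c := comm_of_cpc hJ.pc.le p (mul_mem (mul_mem aT h2) (inv_mem aT)) qT
      (mul_mem (mul_mem aJ h1) (inv_mem aJ)) aq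
    rw [show t * x * t⁻¹ = t * a⁻¹ * (a * x * a⁻¹) * (t * a⁻¹)⁻¹ by group, ← c.eq,
      mul_inv_cancel_right]
  have ai : a * j * a⁻¹ = j⁻¹ := (act_a jJ jT).trans ji
  have ta : Commute t a := by
    have := act_a aJ aT
    rw [mul_inv_cancel_right] at this
    exact mul_inv_eq_iff_eq_mul.1 this.symm
  have cT : ∀ {x}, x ∈ T → y * x * y⁻¹ ∈ T := fun k => mul_mem (mul_mem yT k) (inv_mem yT)
  have cq : ∀ {x}, x ∈ J → y * x * y⁻¹ ∈ cpc 2 z J := conj_mem_cpc hJ.pc yz yn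
  have hJ' := hJ.cj' yz
  have cq' : J ≤ cpc 2 z (cj y J) := pc_le_cpc hJ'.pc hJ.pc fun e => yn (cj_eq_self_iff.1 e.symm)
  have caa : Commute a (y * a * y⁻¹) := comm_of_cpc hJ.pc.le p aT (cT aT) aJ (cq aJ)
  have ta' : Commute t (y * a * y⁻¹) := (yt.symm.mul_right ta).mul_right yt.symm.inv_right
  set c := t * a⁻¹ * (y * a * y⁻¹)⁻¹ with hc0
  have et : t = c * a * (y * a * y⁻¹) := by
    rw [hc0, mul_assoc (t * a⁻¹), ← caa.inv_right.eq]; group
  have c1 : c ∈ cpc 2 z J := mul_mem aq (inv_mem (cq aJ))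
  have c2 : c ∈ cpc 2 z (cj y J) := by
    have := conj_mem_cj (g := y) aq
    rw [cj_cpc y hJ.pc.le, yz.eq, mul_inv_cancel_right, show y * (t * a⁻¹) * y⁻¹ =
      y * t * y⁻¹ * (y * a * y⁻¹)⁻¹ by group, yt.eq, mul_inv_cancel_right] at this
    rw [hc0, mul_assoc, caa.inv_inv.eq, ← mul_assoc]
    exact mul_mem this (inv_mem (cq' aJ))
  have c3 : c ∈ T := mul_mem qT (inv_mem (cT aT))
  have c4 : Commute c t :=
    (((Commute.refl t).mul_right ta.inv_right).mul_right ta'.inv_right).symm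
  have a''J := conj_mem_of_mem_normalizer yy aJ
  have a''T : y * y * a * (y * y)⁻¹ ∈ T := mul_mem (mul_mem (mul_mem yT yT) aT) (inv_mem (mul_mem yT yT))
  have c5 : y * c * y⁻¹ = c ∨ y * c * y⁻¹ = c * z ∧ y * y ≠ t := by
    have e1 : y * c * y⁻¹ = c * (a * (y * y * a * (y * y)⁻¹)⁻¹) := by
      rw [hc0, mul_assoc t, caa.inv_inv.eq, show y * (t * ((y * a * y⁻¹)⁻¹ * a⁻¹)) * y⁻¹ =
        y * t * y⁻¹ * ((y * y * a * (y * y)⁻¹)⁻¹ * (y * a * y⁻¹)⁻¹) by group, yt.eq,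
        (comm_of_cpc hJ.pc.le p a''T (cT aT) a''J (cq aJ)).inv_inv.eq]
      group
    have r2 : y * y * a * (y * y)⁻¹ * (y * y * a * (y * y)⁻¹) = z := by
      rw [show y * y * a * (y * y)⁻¹ * (y * y * a * (y * y)⁻¹) = y * y * (a * a) * (y * y)⁻¹ by group,
        ar, (yz.mul_left yz).eq, mul_inv_cancel_right]
    have cc : Commute a (y * y * a * (y * y)⁻¹) := by
      have := act_a a''J a''T
      rw [((yt.symm.mul_right yt.symm).mul_right ta |>.mul_right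
        (yt.symm.mul_right yt.symm).inv_right).eq, mul_inv_cancel_right] at this
      exact mul_inv_eq_iff_eq_mul.1 this
    rcases hJ.root_eq aJ a''J ar r2 cc with k | k
    · left; rw [e1, k, mul_inv_cancel, mul_one]
    · refine Or.inr ⟨by rw [e1, k, inv_inv, ar], fun q => ?_⟩
      rw [q, ta.eq, mul_inv_cancel_right, eq_inv_iff_mul_eq_one, ar] at k
      exact hJ.z1 k
  have kr : a * j * (a * j) = z := by
    rw [show a * j * (a * j) = a * j * a⁻¹ * (a * a) * j by group, ai, ar, mul_assoc,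
      ← (hJ.comm jJ).eq, inv_mul_cancel_left]
  have ki : t * (a * j) * t⁻¹ = (a * j)⁻¹ := by
    rw [show t * (a * j) * t⁻¹ = t * a * t⁻¹ * (t * j * t⁻¹) by group, ji, ta.eq,
      mul_inv_cancel_right, hJ.root_inv jr, hJ.root_inv kr, mul_assoc]
  obtain ⟨w1, w2, -⟩ := stepW hJ hK p hT.le hy yT y2 yn yy jJ jT jr ji c3 c4 c5 rfl
  obtain ⟨-, v2, m, v3, v4⟩ := stepW hJ hK p hT.le hy yT y2 yn yy (mul_mem aJ jJ) (mul_mem aT jT) kr ki
    c3 c4 c5 rfl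
  obtain ⟨g, gJ, g1, g2⟩ := hJ.t3 h3 aJ jJ ar jr ai
  have L := hJ.pc.le
  have yc : y ∈ cen1 z := mem_cen1.2 yz
  have g3 : pim z g * pim z (a * j) * (pim z g)⁻¹ = pim z a := by
    rw [pim_mul (L aJ) (L jJ), ← conj_mul, g1, g2, ← pim_mul (L jJ) (L (mul_mem aJ jJ))]
    congr 1
    rw [← mul_left_cancel_iff (a := j⁻¹), inv_mul_cancel_left, ← ai,
      show a * j * a⁻¹ * a = a * j by group]
  have step : ∀ {b b'}, b ∈ J → b' ∈ J → pim z g * pim z b * (pim z g)⁻¹ = pim z b' →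
      pim z (g * (y * g * y⁻¹)) * pim z (c * b * (y * b * y⁻¹)) * (pim z (g * (y * g * y⁻¹)))⁻¹ =
        pim z (c * b' * (y * b' * y⁻¹)) := fun {b b'} hb hb' e => by
    have L' : ∀ {x}, x ∈ J → y * x * y⁻¹ ∈ cen1 z := fun k => hJ'.pc.le (conj_mem_cj k)
    rw [pim_mul (L gJ) (L' gJ), pim_mul (mul_mem (hT.le c3) (L hb)) (L' hb), pim_mul (hT.le c3) (L hb),
      pim_mul (mul_mem (hT.le c3) (L hb')) (L' hb'), pim_mul (hT.le c3) (L hb')]
    refine act e ?_ (pim_comm L gJ c1).symm (pim_comm hJ'.pc.le (conj_mem_cj gJ) c2).symm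
      (pim_comm L hb (cq gJ)) (pim_comm L gJ (cq hb'))
    rw [pim_conj yc (L gJ), pim_conj yc (L hb), pim_conj yc (L hb'), ← e]
    group
  have mT : ∀ {b}, b ∈ T → c * b * (y * b * y⁻¹) ∈ T := fun k => mul_mem (mul_mem c3 k) (cT k)
  obtain ⟨h, h1, h2, h4⟩ := lift3 p hT.le (mul_mem (L gJ) (hJ'.pc.le (conj_mem_cj gJ))) (mT aT) (mT jT)
    (mT (mul_mem aT jT)) (step aJ jJ g1) (step jJ (mul_mem aJ jJ) g2) (step (mul_mem aJ jJ) aJ g3)
  rw [← et] at h2 h4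
  have := final hK hJ.zz tz.symm h1 h2 h4 w1 v2 (pow_mem hy m) v3 v4 (yz.pow_left m)
  exact w2 (by
    simpa [← mul_assoc, hJ.zz] using mul_mem (hK.nor_of_comm hy (two_of_mem p yT) y2 yz) this)

end H25.CI
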