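import Cfsg.Agent.H25.CI2
import Cfsg.Agent.H98.JoinSylow

/-! The two assertions of S1315 for components with a unique involution. -/

set_option autoImplicit false
set_option linter.unusedSectionVars false

namespace H25.CI

open Cfsg Subgroup H14 H98 H1.Gold H42.An
open H31.S2 (oc)
open scoped commutatorElement

universe u

variable {G : Type u} [Group G] [Finite G] {J J' K P Q T : Subgroup G}
  {a b c d g h j l r s t v w x y z : G}

theorem conj_of_inv (tt : t * t = 1) (jr : j * j = z) (ji : t * j * t⁻¹ = j⁻¹) :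
    j * t * j⁻¹ = z * t := by
  rw [← ji, ← jr, show j * t * (t * j * t⁻¹) = j * (t * t) * j * t⁻¹ by group, tt,
    inv_eq_of_mul_eq_one_right tt, mul_one]

/-- The diagonal involution `a aᵗ`. -/
theorem dg (hJ : IU z J) (hT : IsPGroup 2 T) (tt : t * t = 1) (tz : Commute t z) (tT : t ∈ T)
    (tn : t ∉ nor J) (aJ : a ∈ J) (aT : a ∈ T) (ar : a * a = z) (hl : l = a * (t * a * t⁻¹)) :
    l * l = 1 ∧ Commute l t ∧ l ∈ pLayerOf 2 (cen1 t) ∧ l ∉ cpc 2 z J := by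
  have q := conj_mem_cpc hJ.pc tz tn aJ
  have c := comm_of_cpc hJ.pc.le hT aT (mul_mem (mul_mem tT aT) (inv_mem tT)) aJ q
  have h1 : l * l = 1 := by
    rw [hl, ← pow_two, c.mul_pow, conj_pow, pow_two, ar, tz.eq, mul_inv_cancel_right, hJ.zz]
  have h2 : Commute l t := by
    have : t * l * t⁻¹ = l := by
      rw [hl, show t * (a * (t * a * t⁻¹)) * t⁻¹ = t * a * t⁻¹ * ((t * t) * a * (t * t)⁻¹) by group,
        tt, one_mul, inv_one, mul_one, c.eq]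
    exact (mul_inv_eq_iff_eq_mul.1 this).symm
  exact ⟨h1, h2, hl ▸ diag_mem hJ.pc (two_of_sq hJ.zz) tt tz tn aJ (hl ▸ two_of_sq h1) (hl ▸ h2),
    fun k => hJ.cent' aJ ar (by
      have := mul_mem k (inv_mem q)
      rwa [hl, mul_inv_cancel_right] at this)⟩

theorem caseA (hJ : IU z J) (hK : IU t K) (hy : y ∈ K) (h2 : Two y) (y2 : y * y ≠ 1)
    (yz : Commute y z) : t ∈ nor J := by
  by_contra tn
  obtain ⟨T, hT, hle⟩ := exists_isSyl_le h2.isPGroup (zpowers_le.2 (mem_cen1.2 yz))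
  have yT := hle (mem_zpowers y)
  have p := hT.isPGroup
  obtain ⟨n, en⟩ := hK.pow_eq (mul_mem hy hy) (two_of_mem p (mul_mem yT yT)) y2
  have tT : t ∈ T := en ▸ pow_mem (mul_mem yT yT) n
  have tz : Commute t z := mem_cen1.1 (hT.le tT)
  have yt := hK.comm hy
  obtain ⟨a, ⟨aT, aJ⟩, ar⟩ := hJ.exists_root (hJ.syl hT)
  obtain ⟨l1, l2, l3, l4⟩ := dg hJ p hK.zz tz tT tn aJ aT ar rfl
  set l := a * (t * a * t⁻¹) with hl
  have n1 : y ∉ nor J := fun k => tn (en ▸ pow_mem (mul_mem k k) n)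
  have n2 : y * t ∉ nor J := fun k => tn (en ▸ pow_mem (by
    have := mul_mem k k
    rwa [← pow_two, yt.mul_pow, pow_two, pow_two, hK.zz, mul_one] at this) n)
  have q1 : y * l * y⁻¹ ∈ cpc 2 z J := by
    rw [hl, show y * (a * (t * a * t⁻¹)) * y⁻¹ = y * a * y⁻¹ * (y * t * a * (y * t)⁻¹) by group]
    exact mul_mem (conj_mem_cpc hJ.pc yz n1 aJ) (conj_mem_cpc hJ.pc (yz.mul_left tz) n2 aJ)
  have lT : l ∈ T := mul_mem aT (mul_mem (mul_mem tT aT) (inv_mem tT))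
  have l'T : y * l * y⁻¹ ∈ T := mul_mem (mul_mem yT lT) (inv_mem yT)
  have c1 : Commute a (y * l * y⁻¹) := comm_of_cpc hJ.pc.le p aT l'T aJ q1
  have c2 : Commute t (y * l * y⁻¹) := (yt.symm.mul_right l2.symm).mul_right yt.symm.inv_right
  have c3 : Commute l (y * l * y⁻¹) := c1.mul_left ((c2.mul_left c1).mul_left c2.inv_left)
  have m : l * (y * l * y⁻¹) ∈ K := by
    have := mul_mem (conj_mem_of_mem_normalizer (hK.pc.pLayerOf_le_normalizer l3) hy) (inv_mem hy)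
    rwa [inv_eq_of_mul_eq_one_right l1, mul_assoc, mul_assoc, ← mul_assoc y] at this
  rcases hK.uq m (by rw [← pow_two, c3.mul_pow, conj_pow, pow_two, l1]; group) with k | k
  · exact l4 (by simpa [← inv_eq_of_mul_eq_one_right k] using q1)
  · exact tn (k ▸ mul_mem (mul_mem (le_normalizer aJ) (conj_mem_nor hJ.pc tz aJ)) (cpc_le_nor hJ.pc q1))

theorem caseB (hJ : IU z J) (hK : IU t K) (hy : y ∈ K) (h2 : Two y) (y2 : y * y ≠ 1)
    (yz : Commute y z) (tq : t ∈ cpc 2 z J) : y ∈ nor J := by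
  by_contra yn
  obtain ⟨T, hT, hle⟩ := exists_isSyl_le h2.isPGroup (zpowers_le.2 (mem_cen1.2 yz))
  have yT := hle (mem_zpowers y)
  have p := hT.isPGroup
  obtain ⟨n, en⟩ := hK.pow_eq (mul_mem hy hy) (two_of_mem p (mul_mem yT yT)) y2
  have tT : t ∈ T := en ▸ pow_mem (mul_mem yT yT) n
  have tz : Commute t z := mem_cen1.1 (hT.le tT)
  obtain ⟨a, ⟨aT, aJ⟩, ar⟩ := hJ.exists_root (hJ.syl hT)
  obtain ⟨D, h1, -, -, h3⟩ := hJ.down hK.zz tq
  have an : a ∈ nor K := bal_nor (two_of_sq hJ.zz) tz.symm (inf_comm (cen1 z) _ ▸ h1) hK.pc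
    (h3 a aJ (comm_of_cpc hJ.pc.le p aT tT aJ tq) (two_of_mem p aT))
  have q := conj_mem_cpc hJ.pc yz yn aJ
  have c := comm_of_cpc hJ.pc.le p aT (mul_mem (mul_mem yT aT) (inv_mem yT)) aJ q
  have m : a * (y * a * y⁻¹)⁻¹ ∈ K := by
    have := mul_mem (conj_mem_of_mem_normalizer an hy) (inv_mem hy)
    rwa [show a * y * a⁻¹ * y⁻¹ = a * (y * a * y⁻¹)⁻¹ by group] at this
  rcases hK.uq m (by
    rw [← pow_two, c.inv_right.mul_pow, inv_pow, conj_pow, pow_two, ar, yz.eq]; group) with k | k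
  · exact hJ.cent' aJ ar (mul_inv_eq_one.1 k ▸ q)
  · have := mul_mem tq q
    rw [← k, inv_mul_cancel_right] at this
    exact hJ.cent' aJ ar this

/-- The case that `t` inverts a root of `z`. -/
theorem caseD (hJ : IU z J) (hK : IU t K) (h3 : TY K) (hT : IsPGroup 2 T) (hc : T ≤ cen1 z)
    (hy : y ∈ K) (yT : y ∈ T) (y2 : y * y ≠ 1) (yn : y ∉ nor J) (yy : y * y ∈ nor J) (jJ : j ∈ J)
    (jT : j ∈ T) (jr : j * j = z) (ji : t * j * t⁻¹ = j⁻¹) : False := by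
  obtain ⟨w1, w2, m, w3, w4⟩ := stepW hJ hK hT hc hy yT y2 yn yy jJ jT jr ji (one_mem _)
    (Commute.one_left _) (Or.inl (by group)) rfl
  rw [one_mul] at w1 w2 w4
  have yz : Commute y z := mem_cen1.1 (hc yT)
  have jz := hJ.comm jJ
  have zn := hK.nor_of_comm hy (two_of_mem hT yT) y2 yz
  have zt := hK.comm_of_nor zn
  have cj' : Commute j (y * j * y⁻¹) := comm_of_cpc hJ.pc.le hT jT
    (mul_mem (mul_mem yT jT) (inv_mem yT)) jJ (conj_mem_cpc hJ.pc yz yn jJ)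
  set w := j * (y * j * y⁻¹) with hw
  have ww : w * w = 1 := by
    rw [hw, ← pow_two, cj'.mul_pow, conj_pow, pow_two, jr, yz.eq, mul_inv_cancel_right, hJ.zz]
  have es : j * t * j⁻¹ = z * t := conj_of_inv hK.zz jr ji
  have h1 := hK.cj j
  have q : z * y ^ m ∈ cpc 2 t K := w4 ▸ conj_mem_cpc hK.pc w1 w2 (pow_mem hy m)
  have ey : j⁻¹ * y * j = z * w * y := by
    rw [hw, hJ.root_inv jr, jz.eq]; group
  have wz : Commute w z := mem_cen1.1 (hc (mul_mem jT (mul_mem (mul_mem yT jT) (inv_mem yT))))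
  have tr : ∀ {x}, x ∈ nor (cj j K) ↔ j⁻¹ * x * j ∈ nor K := by
    intro x; rw [nor, ← cj_normalizer, mem_cj]
  have rT := pow_mem yT m
  have cs : ∀ {x}, Commute x t → Commute x z → x ∈ cen1 (j * t * j⁻¹) := fun k1 k2 =>
    es ▸ mem_cen1.2 (k2.mul_right k1)
  refine caseI h1 (h3.cj j) hK (hT.to_le (inf_le_left (b := cen1 (j * t * j⁻¹)))) inf_le_right hy
    ⟨yT, cs (hK.comm hy) yz⟩ y2 (fun k => w2 ?_) (tr.2 ?_) (conj_mem_cj (inv_mem (pow_mem hy m)))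
    ⟨T.mul_mem (T.mul_mem jT (T.inv_mem rT)) (T.inv_mem jT), h1.pc.le (conj_mem_cj (inv_mem (pow_mem hy m)))⟩
    ?_ ?_
  · have := mul_mem (mul_mem zn (ey ▸ tr.1 k)) (inv_mem (le_normalizer hy))
    rwa [mul_assoc, mul_inv_cancel_right, ← mul_assoc, hJ.zz, one_mul] at this
  · have := mul_mem (conj_mem_nor hK.pc w1 hy) (le_normalizer hy)
    rwa [inv_eq_of_mul_eq_one_right ww, ← one_mul (w * y * w * y), ← hJ.zz,
      show z * z * (w * y * w * y) = z * (z * (w * y)) * (w * y) by group,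
      ← (wz.mul_left yz).eq, show z * (w * y * z) * (w * y) = z * w * y * (z * w * y) by group, ← ey,
      show j⁻¹ * y * j * (j⁻¹ * y * j) = j⁻¹ * (y * y) * j by group] at this
  · rw [show j * (y ^ m)⁻¹ * j⁻¹ * (j * (y ^ m)⁻¹ * j⁻¹) = j * (y ^ m * y ^ m)⁻¹ * j⁻¹ by group, w3,
      hK.inv]
  · have := conj_mem_cj (g := j) q
    rw [cj_cpc j hK.pc.le] at this
    have := mul_mem h1.zq this
    rwa [show j * t * j⁻¹ * (j * (z * y ^ m) * j⁻¹) = j * t * j⁻¹ * (j * z * j⁻¹) *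
      (j * (y ^ m)⁻¹ * j⁻¹)⁻¹ by group, jz.eq, mul_inv_cancel_right, show j * t * j⁻¹ * z = t by
        rw [es, zt.eq, mul_assoc, hJ.zz, mul_one]] at this

/-- S1315 (i). -/
theorem main1 (hJ : IU z J) (hK : IU t K) (h3 : TY K) (hy : y ∈ K) (h2 : Two y) (y2 : y * y ≠ 1)
    (yz : Commute y z) : y ∈ nor J := by
  by_contra yn
  have tn := caseA hJ hK hy h2 y2 yz
  obtain ⟨m, k1, k2⟩ := exists_pow_sq_mem h2 yn
  have hm := pow_mem hy m
  have m2 : y ^ m * y ^ m ≠ 1 := fun k => k1 (by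
    rcases hK.uq hm k with e | e <;> rw [e]
    exacts [one_mem _, tn])
  obtain ⟨T, hT, hle⟩ := exists_isSyl_le h2.isPGroup (zpowers_le.2 (mem_cen1.2 yz))
  have yT := hle (mem_zpowers y)
  obtain ⟨n, en⟩ := hK.pow_eq hy h2 fun e => y2 (by rw [e, mul_one])
  obtain k | ⟨j, hj, jr, ji⟩ := hJ.dich' hT hK.zz tn (en ▸ pow_mem yT n)
  · exact yn (caseB hJ hK hy h2 y2 yz k)
  · exact caseD hJ hK h3 hT.isPGroup hT.le hm (pow_mem yT m) m2 k1 k2 hj.2 hj.1 jr ji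

/-- S1315 (ii). -/
theorem main2 (hJ : IU z J) (hK : IU t K) (h3 : TY K) (zn : z ∈ nor K) : t ∈ nor J := by
  by_contra tn
  have zt := hK.comm_of_nor zn
  have nr : ∀ {r}, r ∈ K → Two r → Commute r z → r ∈ cpc 2 t K := fun {r} h1 h2 h4 => by
    have : r * r = 1 := by
      by_contra k
      exact tn (caseA hJ hK h1 h2 k h4)
    rcases hK.uq h1 this with e | e <;> rw [e]
    exacts [one_mem _, hK.zq]
  obtain ⟨T, hT, hle⟩ := exists_isSyl_le (two_of_sq hK.zz).isPGroup (zpowers_le.2 (mem_cen1.2 zt.symm))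
  have tT := hle (mem_zpowers t)
  have p := hT.isPGroup
  obtain ⟨a1, ⟨a1T, a1J⟩, a2, ⟨a2T, a2J⟩, r1, r2, r3⟩ := (hJ.gq (hJ.syl hT)).2
  have zT : z ∈ T := r1 ▸ mul_mem a1T a1T
  have hN : cen1 t ⊓ nor K ≤ nor (cpc 2 t K) := fun g hg => by
    rw [← cj_eq_self_iff, cj_cpc g hK.pc.le, cj_eq_self hg.2, mem_cen1.1 hg.1, mul_inv_cancel_right]
  obtain ⟨S, hS, hle2⟩ := exists_isSyl_le (H := cen1 t ⊓ nor K)
    (p.to_le (inf_le_left (b := cen1 t ⊓ nor K))) inf_le_right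
  have zS : z ∈ S := hle2 ⟨zT, mem_cen1.2 zt, zn⟩
  have s1 : SubN K (cen1 t ⊓ nor K) := hK.pc.subN.of_le (le_inf hK.pc.le le_normalizer) inf_le_left
  have s2 : SubN (cpc 2 t K) (cen1 t ⊓ nor K) :=
    SubN.of_normal (le_inf (cpc_le t K) (cpc_le_nor hK.pc)) hN
  have hR := hS.inf_subN s1
  have cc : ∀ {k c}, k ∈ K ⊓ S → c ∈ cpc 2 t K ⊓ S → Commute k c := fun h1 h2 =>
    comm_of_cpc hK.pc.le hS.isPGroup h1.2 h2.2 h1.1 h2.1
  have dec : ∀ {a}, a ∈ J → a ∈ T → a * a = z → a * (t * a * t⁻¹) ∈ S ∧ ∃ k ∈ K ⊓ S,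
      ∃ c ∈ cpc 2 t K ⊓ S, k * c = a * (t * a * t⁻¹) ∧ (z * k * z⁻¹ = k ∨ z * k * z⁻¹ = k * t) :=
    fun {a} aJ aT ar => by
    obtain ⟨-, l2, l3, -⟩ := dg hJ p hK.zz zt.symm tT tn aJ aT ar rfl
    have lT := mul_mem aT (mul_mem (mul_mem tT aT) (inv_mem tT))
    have lS := hle2 ⟨lT, mem_cen1.2 l2, hK.pc.pLayerOf_le_normalizer l3⟩
    have : a * (t * a * t⁻¹) ∈ K ⊓ S ⊔ cpc 2 t K ⊓ S :=
      (hS.sup_inf_eq s1 s2).le ⟨layer_le hK.pc l3, lS⟩
    obtain ⟨k, hk, c, hc, e⟩ := (H12.mem_sup_of_le_normalizer' (le_normalizer_inf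
      (inf_le_left.trans (cpc_le_nor hK.pc)) (inf_le_right.trans le_normalizer))).1 this
    refine ⟨lS, k, hk, c, hc, e, ?_⟩
    have c1 : Commute (k * c) z := e ▸ mem_cen1.1 (hT.le lT)
    have e1 : k⁻¹ * (z * k * z⁻¹) = c * (z * c * z⁻¹)⁻¹ := by
      rw [inv_mul_eq_iff_eq_mul, ← mul_assoc, eq_mul_inv_iff_mul_eq, conj_mul, ← c1.eq,
        mul_inv_cancel_right]
    have m1 : k⁻¹ * (z * k * z⁻¹) ∈ K := mul_mem (inv_mem hk.1) (conj_mem_of_mem_normalizer zn hk.1)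
    have m2 := two_of_mem hS.isPGroup (mul_mem (inv_mem hk.2) (mul_mem (mul_mem zS hk.2) (inv_mem zS)))
    exact (hK.uq m1 (hK.cent m1 m2 (e1 ▸ mul_mem hc.1 (inv_mem
      (conj_mem_of_mem_normalizer (hN (hS.le zS)) hc.1))))).imp
      (fun e => (inv_mul_eq_one.1 e).symm) fun e => by rw [← e]; group
  have fx : ∀ {k}, k ∈ K ⊓ S → z * k * z⁻¹ = k → k ∈ cpc 2 t K := fun hk e =>
    nr hk.1 (two_of_mem hS.isPGroup hk.2) (mul_inv_eq_iff_eq_mul.1 e).symm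
  obtain ⟨a, aJ, aT, ar, lS, lq⟩ : ∃ a ∈ J, a ∈ T ∧ a * a = z ∧ a * (t * a * t⁻¹) ∈ S ∧
      a * (t * a * t⁻¹) ∈ cpc 2 t K := by
    obtain ⟨l1, k1, hk1, c1, hc1, e1, f1 | f1⟩ := dec a1J a1T r1
    · exact ⟨a1, a1J, a1T, r1, l1, e1 ▸ mul_mem (fx hk1 f1) hc1.1⟩
    obtain ⟨l2, k2, hk2, c2, hc2, e2, f2 | f2⟩ := dec a2J a2T r2
    · exact ⟨a2, a2J, a2T, r2, l2, e2 ▸ mul_mem (fx hk2 f2) hc2.1⟩
    have e3 : a1 * a2 * (t * (a1 * a2) * t⁻¹) = k1 * c1 * (k2 * c2) := by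
      rw [e1, e2, mul_assoc a1 (t * a1 * t⁻¹), ← mul_assoc (t * a1 * t⁻¹),
        ← (comm_of_cpc hJ.pc.le p a2T (mul_mem (mul_mem tT a1T) (inv_mem tT)) a2J
          (conj_mem_cpc hJ.pc zt.symm tn a1J)).eq]
      group
    refine ⟨a1 * a2, mul_mem a1J a2J, mul_mem a1T a2T, ?_, by rw [e3, e1, e2]; exact mul_mem l1 l2, ?_⟩
    · rw [show a1 * a2 * (a1 * a2) = a1 * a2 * a1⁻¹ * (a1 * a1) * a2 by group, r3, r1, mul_assoc,
        ← (hJ.comm a2J).eq, inv_mul_cancel_left]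
    · rw [e3, mul_assoc, ← mul_assoc c1, ← (cc hk2 hc1).eq, mul_assoc, ← mul_assoc]
      refine mul_mem (fx (mul_mem hk1 hk2) ?_) (mul_mem hc1.1 hc2.1)
      rw [← conj_mul, f1, f2, mul_assoc, ← mul_assoc t, ← (hK.comm hk2.1).eq, mul_assoc, hK.zz, mul_one]
  obtain ⟨l1, l2, -, l4⟩ := dg hJ p hK.zz zt.symm tT tn aJ aT ar rfl
  set l := a * (t * a * t⁻¹) with hl
  obtain q | ⟨k, hk, kr, ki⟩ := hK.dich hR hJ.zz zn
    (le_normalizer_inf (zpowers_le.2 (le_normalizer zS)) (zpowers_le.2 zn) (mem_zpowers z))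
  · obtain ⟨k, hk, kr⟩ := hK.exists_root hR
    exact hK.cent' hk.2 kr (nr hk.2 (two_of_root kr hK.zz) (cc ⟨hk.2, hk.1⟩ ⟨q, zS⟩))
  have kl : Commute k l := cc ⟨hk.2, hk.1⟩ ⟨lq, lS⟩
  have kt := hK.comm hk.2
  have az := hJ.comm aJ
  have lz : Commute l z := mem_cen1.1 (hT.le (mul_mem aT (mul_mem (mul_mem tT aT) (inv_mem tT))))
  have e1 : k * z * k⁻¹ = t * z := conj_of_inv hJ.zz kr ki
  have e2 : a * t * a⁻¹ = l * z * t := by
    rw [hl, hJ.root_inv ar, mul_assoc (a * _) z, zt.eq]; group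
  have e3 : k * a * t * (k * a)⁻¹ = l * z := by
    rw [show k * a * t * (k * a)⁻¹ = k * (a * t * a⁻¹) * k⁻¹ by group, e2, ← conj_mul, ← conj_mul, e1,
      kl.eq, kt.eq, mul_inv_cancel_right, mul_inv_cancel_right, ← zt.eq, mul_assoc l, mul_assoc z, hK.zz,
      mul_one]
  have e4 : k * a * (l * t) * (k * a)⁻¹ = z := by
    have c : Commute a l := (Commute.refl a).mul_right (comm_of_cpc hJ.pc.le p aT
      (mul_mem (mul_mem tT aT) (inv_mem tT)) aJ (conj_mem_cpc hJ.pc zt.symm tn aJ))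
    rw [← conj_mul, e3, (kl.mul_left c).eq, mul_inv_cancel_right, ← mul_assoc, l1, one_mul]
  have h1 := hK.cj (k * a)
  have q := conj_mem_cj (g := k * a) (mul_mem lq hK.zq)
  rw [cj_cpc _ hK.pc.le, e4] at q
  have := h1.symm hJ q
  rw [e3] at this
  exact l4 (by simpa [mul_assoc, hJ.zz] using mul_mem this hJ.zq)

end H25.CI
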