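import Cfsg.Agent.H25.CI3

/-! The type condition `T3` for `SL₂(F)` and for `2·A₇`. -/

set_option autoImplicit false

namespace H25.CI

open Cfsg Subgroup H14 H98 Equiv Equiv.Perm H42.Sol H81.Dc

section SL

variable {F : Type} [Field F]

theorem mat_inv (h2 : (2 : F) ≠ 0) {z : Matrix (Fin 2) (Fin 2) F} (hd : z.det = 1) (h1 : z * z = 1)
    (hn : z ≠ 1) : z = -1 := by
  rw [Matrix.det_fin_two] at hd
  have e := fun i j => congrFun (congrFun h1 i) j
  have e00 := e 0 0
  have e01 := e 0 1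
  have e10 := e 1 0
  have e11 := e 1 1
  simp [Matrix.mul_apply, Fin.sum_univ_two] at e00 e01 e10 e11
  have ht : z 0 0 + z 1 1 ≠ 0 := fun k => h2 (by linear_combination -e00 - hd + z 0 0 * k)
  have b0 : z 0 1 = 0 := mul_left_cancel₀ ht (by linear_combination e01)
  have c0 : z 1 0 = 0 := mul_left_cancel₀ ht (by linear_combination e10)
  have ad : z 1 1 = z 0 0 := by
    linear_combination z 0 0 * e11 - z 1 1 * hd - (z 0 0 * z 1 0 + z 1 1 * z 1 0) * b0
  have : (z 0 0 - 1) * (z 0 0 + 1) = 0 := by linear_combination e00 - z 1 0 * b0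
  rcases mul_eq_zero.1 this with k | k
  · refine absurd ?_ hn
    ext i j
    fin_cases i <;> fin_cases j <;> simp [b0, c0, ad, sub_eq_zero.1 k]
  · ext i j
    fin_cases i <;> fin_cases j <;> simp [b0, c0, ad, eq_neg_of_add_eq_zero_left k]

theorem sl_inv (h2 : (2 : F) ≠ 0) {z : Matrix.SpecialLinearGroup (Fin 2) F} (hz : orderOf z = 2) :
    (z : Matrix (Fin 2) (Fin 2) F) = -1 :=
  mat_inv h2 z.2 (by rw [← Matrix.SpecialLinearGroup.coe_mul, mul_self_of_two hz]; rfl)
    fun e => ne_one_of_two hz (Subtype.ext e)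

theorem adj_add (A B : Matrix (Fin 2) (Fin 2) F) : (A + B).adjugate = A.adjugate + B.adjugate := by
  simp only [Matrix.adjugate_fin_two]
  ext i j
  fin_cases i <;> fin_cases j <;> simp <;> ring

theorem t3_sl (h2 : (2 : F) ≠ 0) : T3 (Matrix.SpecialLinearGroup (Fin 2) F) := by
  intro a j _ h1 h3 h4
  have ea : (a : Matrix (Fin 2) (Fin 2) F) * a = -1 := sl_inv h2 h1
  have ej : (j : Matrix (Fin 2) (Fin 2) F) * j = -1 := sl_inv h2 (h3 ▸ h1)
  have adj : ∀ x : Matrix.SpecialLinearGroup (Fin 2) F, (x : Matrix (Fin 2) (Fin 2) F) * x = -1 →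
      (x : Matrix (Fin 2) (Fin 2) F).adjugate = -x := fun x e => by
    have := Matrix.mul_adjugate (x : Matrix (Fin 2) (Fin 2) F)
    rw [x.2, one_smul] at this
    calc _ = -((x : Matrix (Fin 2) (Fin 2) F) * x) * (x : Matrix (Fin 2) (Fin 2) F).adjugate := by
          rw [e, neg_neg, one_mul]
      _ = _ := by rw [neg_mul, mul_assoc, this, mul_one]
  have an : (j : Matrix (Fin 2) (Fin 2) F) * a = -(a * j) := by
    have h5 : a * j = j⁻¹ * a := mul_inv_eq_iff_eq_mul.1 h4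
    rw [← Matrix.SpecialLinearGroup.coe_mul a, h5, Matrix.SpecialLinearGroup.coe_mul,
      Matrix.SpecialLinearGroup.coe_inv, adj j ej, neg_mul, neg_neg]
  have ea' := adj a ea
  have ej' := adj j ej
  set A : Matrix (Fin 2) (Fin 2) F := a.1 with hA
  set B : Matrix (Fin 2) (Fin 2) F := j.1 with hB
  have r1 : ∀ X : Matrix (Fin 2) (Fin 2) F, A * (A * X) = -X := fun X => by rw [← mul_assoc, ea]; simp
  have r2 : ∀ X : Matrix (Fin 2) (Fin 2) F, B * (B * X) = -X := fun X => by rw [← mul_assoc, ej]; simp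
  have r3 : ∀ X : Matrix (Fin 2) (Fin 2) F, B * (A * X) = -(A * (B * X)) := fun X => by
    rw [← mul_assoc, an, neg_mul, mul_assoc]
  have hd : (1 + A + B + A * B).det = 4 := by
    have := Matrix.mul_adjugate (1 + A + B + A * B)
    rw [adj_add, adj_add, adj_add, Matrix.adjugate_one, Matrix.adjugate_mul_distrib, ea', ej'] at this
    simp only [mul_add, add_mul, mul_neg, neg_mul, mul_assoc, one_mul, mul_one, r1, r2, r3, ea, ej, an,
      neg_neg] at this
    have e := congrFun (congrFun this 0) 0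
    simp only [Matrix.add_apply, Matrix.neg_apply, Matrix.smul_apply, Matrix.one_apply_eq,
      smul_eq_mul, mul_one] at e
    linear_combination -e
  obtain ⟨g, hg⟩ : ∃ g : Matrix.SpecialLinearGroup (Fin 2) F,
      (g : Matrix (Fin 2) (Fin 2) F) = (2 : F)⁻¹ • (1 + A + B + A * B) :=
    ⟨⟨_, by rw [Matrix.det_smul, hd, Fintype.card_fin]; field_simp; norm_num⟩, rfl⟩
  refine ⟨g, ?_, ?_⟩ <;>
  · rw [mul_inv_eq_iff_eq_mul]
    refine Subtype.ext ?_
    simp only [Matrix.SpecialLinearGroup.coe_mul, ← hA, ← hB, hg, smul_mul_assoc, mul_smul_comm]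
    congr 1
    simp only [mul_add, add_mul, mul_neg, neg_mul, mul_assoc, one_mul, mul_one, r1, r2, r3, ea, ej, an,
      neg_neg]
    abel

end SL

theorem dt_of_seven {σ : Perm (Fin 7)} (h1 : σ * σ = 1) (h2 : σ ≠ 1) (h3 : sign σ = 1) : DT σ := by
  have ho := orderOf_two_of_mul_self h1 h2
  obtain ⟨n, hn⟩ := cycleType_prime_order (σ := σ) (by rw [ho]; exact Nat.prime_two)
  have hs := sum_cycleType_le σ
  have hg := sign_of_cycleType σ
  rw [hn, ho] at hs hg
  simp only [Multiset.sum_replicate, Multiset.card_replicate, Fintype.card_fin, smul_eq_mul] at hs hg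
  obtain rfl : n = 1 := by
    have : n ≤ 2 := by omega
    rw [h3] at hg
    interval_cases n
    exacts [absurd hg (by decide), rfl, absurd hg (by decide)]
  have : IsConj (swap (0 : Fin 7) 1 * swap 2 3) σ := by
    rw [isConj_iff_cycleType_eq, hn, ho]
    decide
  obtain ⟨τ, rfl⟩ := isConj_iff.1 this
  exact ⟨τ 0, τ 1, τ 2, τ 3, by simp, by simp, by simp, by simp, by simp, by simp, by
    rw [← conj_mul, ← swap_apply_apply, ← swap_apply_apply]⟩

/-- Candidates for the element of order three. -/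
def c7 : List (Perm (Fin 7)) :=
  [swap 1 2 * swap 2 3, swap 2 3 * swap 1 2] ++ [((4 : Fin 7), (5 : Fin 7)), (4, 6), (5, 6)].flatMap
    fun p => [swap 0 p.1 * swap p.1 2 * (swap 1 p.2 * swap p.2 3),
      swap p.1 2 * swap 0 p.1 * (swap p.2 3 * swap 1 p.2)]

theorem c7_sign : ∀ σ ∈ c7, sign σ = 1 := by
  simp [c7, sign_swap']

theorem sign_cj (τ σ : Perm (Fin 7)) : sign (τ * σ * τ⁻¹) = sign σ := by
  rw [map_mul, map_mul, map_inv, mul_inv_cancel_comm]

theorem c7_spec : ∀ p q r s : Fin 7, p ≠ q → r ≠ s →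
    swap 0 1 * swap 2 3 * (swap p q * swap r s) = swap p q * swap r s * (swap 0 1 * swap 2 3) →
    swap p q * swap r s * (swap p q * swap r s) = 1 → swap p q * swap r s ≠ 1 →
    swap p q * swap r s ≠ swap 0 1 * swap 2 3 →
    ∃ σ ∈ c7, σ * (swap 0 1 * swap 2 3) * σ⁻¹ = swap p q * swap r s ∧
      σ * (swap p q * swap r s) * σ⁻¹ = swap 0 1 * swap 2 3 * (swap p q * swap r s) := by
  decide +kernel

theorem p7 {α β : Perm (Fin 7)} (h1 : DT α) (h2 : DT β) (hc : Commute α β) (hn : β ≠ α) :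
    ∃ σ, sign σ = 1 ∧ σ * α * σ⁻¹ = β ∧ σ * β * σ⁻¹ = α * β := by
  obtain ⟨τ, rfl⟩ := isConj_iff.1 (H8.SB.dt_conj (w := swap (0 : Fin 7) 1 * swap 2 3)
    ⟨0, 1, 2, 3, by decide, by decide, by decide, by decide, by decide, by decide, rfl⟩ h1)
  obtain ⟨β, rfl⟩ : ∃ γ, β = τ * γ * τ⁻¹ := ⟨τ⁻¹ * β * τ, by group⟩
  have k1 : β * β = 1 := by
    have := dt_sq h2
    rwa [conj_mul, conj_eq_one_iff] at this
  have k2 : β ≠ 1 := fun e => dt_ne h2 (by rw [e]; group)
  obtain ⟨p, q, r, s, d1, -, -, -, -, d2, e⟩ := dt_of_seven k1 k2 (sign_cj τ β ▸ dt_sign h2)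
  obtain ⟨σ, m, e1, e2⟩ := c7_spec p q r s d1 d2 (by
    have := hc.eq
    rwa [conj_mul, conj_mul, mul_left_inj, mul_right_inj, e] at this) (e ▸ k1) (e ▸ k2)
    fun k => hn (by rw [e, k])
  rw [← e] at e1 e2
  refine ⟨τ * σ * τ⁻¹, (sign_cj τ σ).trans (c7_sign σ m), ?_, ?_⟩
  · rw [← e1]; group
  · rw [conj_mul (a := swap 0 1 * swap 2 3), ← e2]; group

theorem t3_a7 {H : Type*} [Group H] [Finite H] (hq : IsQuasisimple H)
    (hX : IsNonsplitDoubleCover H (alternatingGroup (Fin 7))) : T3 H := by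
  intro a j h1 h2 h3 h4
  obtain ⟨r, D⟩ := exists_dl (L := (⊤ : Subgroup H)) le_rfl inferInstance
    (quasi_of_mulEquiv hq topEquiv.symm) (H71.nonsplit_congr hX topEquiv.symm (.refl _)) h2 trivial h1
  set z := a * a with hz
  have ji : j⁻¹ = z * j := by rw [← h3, inv_eq_iff_mul_eq_one, ← mul_assoc, ← mul_assoc j j, h3, mul_assoc, h3, D.zz]
  have dt : ∀ x, x * x = z → DT (r x) := fun x e => dt_of_seven (by rw [← map_mul, e, D.rz])
    (fun k => by
      rcases D.zk trivial k with rfl | rfl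
      · exact D.z1 (by rw [← e, mul_one])
      · exact D.z1 (by rw [← e, D.zz])) (D.ev trivial)
  have nc : ¬ Commute j a := D.not_comm (h4.trans ji)
  obtain ⟨σ, s1, s2, s3⟩ := p7 (dt a rfl) (dt j h3) (by
      have := congrArg r (h4.trans ji)
      rw [map_mul, map_mul, map_mul, map_inv, D.rz, one_mul] at this
      exact mul_inv_eq_iff_eq_mul.1 this)
    fun e => nc (D.comm_of_eq trivial trivial e (Commute.refl a))
  obtain ⟨g, -, rfl⟩ := D.sur s1
  have zc : ∀ x y : H, x * (z * y) * x⁻¹ = z * (x * y * x⁻¹) := fun x y => by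
    rw [← mul_assoc, (h1 x).eq]; group
  have zz : ∀ x : H, z * (z * x) = x := fun x => by rw [← mul_assoc, D.zz, one_mul]
  have a1 : a * j * a⁻¹ = z * j := h4.trans ji
  have a2 : a * (a * j) * a⁻¹ = z * (a * j) := by
    rw [mul_assoc a, a1, ← mul_assoc, (h1 a).eq, mul_assoc]
  have j2 : j * (a * j) * j⁻¹ = z * (a * j) := by
    rw [← mul_assoc, mul_inv_cancel_right, mul_inv_eq_iff_eq_mul.1 a1, mul_assoc z, zz]
  have cm : ∀ x y : H, x * g * y * (x * g)⁻¹ = x * (g * y * g⁻¹) * x⁻¹ := fun x y => by group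
  rcases D.eq_or (x := g * a * g⁻¹) (y := j) trivial trivial (by simpa using s2) with e1 | e1 <;>
  rcases D.eq_or (x := g * j * g⁻¹) (y := a * j) trivial trivial (by simpa using s3) with e2 | e2
  · exact ⟨g, e1, e2⟩
  · exact ⟨j * g, by rw [cm, e1]; group, by rw [cm, e2, zc, j2, zz]⟩
  · refine ⟨a * j * g, ?_, by rw [cm, e2]; group⟩
    rw [cm, e1, zc, show a * j * j * (a * j)⁻¹ = a * j * a⁻¹ by group, a1, zz]
  · exact ⟨a * g, by rw [cm, e1, zc, a1, zz], by rw [cm, e2, zc, a2, zz]⟩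

end H25.CI
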