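import Cfsg.Agent.H73.GSSpec
import Cfsg.Agent.H97.DPUM

/-! # S3275, chapter C4, part II (`GS`): the job `K2` (2-subgroups of `L₃(2)` and `U₃(3)`). -/

set_option autoImplicit false

namespace H25.Dp0K2

open Subgroup Cfsg H98 H48.DP H57.DPC H48.DP2 H98.DP0C H73.GS

universe u

variable {X : Type u} [Group X]

theorem sqW {L : Subgroup X} {a b s x y : X} (h : UM0 L a b s x y) :
    Sq (closure ({a, b, s} : Set X)) := by
  intro g hg k hk
  obtain ⟨i, j, rfl | rfl⟩ := (H97.DPU.mem_W h).1 hg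
  · left
    have c : Commute (a ^ i) (b ^ j) := (show Commute a b from h.ab).zpow_zpow i j
    rw [c.mul_pow, ← zpow_natCast, ← zpow_natCast, ← zpow_mul, ← zpow_mul, mul_comm i,
      mul_comm j, zpow_mul, zpow_mul, zpow_natCast, zpow_natCast, h.a4, h.b4]
    simp
  · right
    have e : a ^ i * b ^ j * s * (a ^ i * b ^ j * s) = a ^ (i + j) * b ^ (i + j) := by
      calc a ^ i * b ^ j * s * (a ^ i * b ^ j * s)
          = a ^ i * b ^ j * (s * (a ^ i * b ^ j)) * s := by simp only [mul_assoc]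
        _ = a ^ i * b ^ j * (a ^ j * b ^ i) * (s * s) := by
          rw [H97.DPU.s_mul h]; simp only [mul_assoc]
        _ = _ := by rw [h.s2, mul_one, H97.DPU.pw_mul h, add_comm j i]
    rw [e]
    have c1 : ∀ k l : ℤ, Commute (a ^ k * b ^ l) (a ^ (i + j) * b ^ (i + j)) := fun k l => by
      show _ * _ = _ * _
      rw [H97.DPU.pw_mul h, H97.DPU.pw_mul h, add_comm k, add_comm l]
    have c2 : Commute s (a ^ (i + j) * b ^ (i + j)) := H97.DPU.s_mul h _ _
    obtain ⟨k, l, rfl | rfl⟩ := (H97.DPU.mem_W h).1 hk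
    · exact c1 k l
    · exact (c1 k l).mul_left c2

theorem sq_cj {T W : Subgroup X} {g : X} (h : Sq W) (hT : T ≤ cj g W) : Sq T := by
  intro a ha b hb
  obtain ⟨a', ha', rfl⟩ := hT ha
  obtain ⟨b', hb', rfl⟩ := hT hb
  rcases h a' ha' b' hb' with e | e
  · left; rw [← map_pow, e, map_one]
  · right; rw [← map_mul]; exact e.map _

theorem pow_lt [Finite X] {A B : Subgroup X} {m n : ℕ} (h : A ≤ B) {g : X} (hg : g ∈ B)
    (hn : g ∉ A) (hA : Nat.card A = 2 ^ m) (hB : Nat.card B = 2 ^ n) : m < n := by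
  by_contra hh
  have : Nat.card B ≤ Nat.card A := by
    rw [hA, hB]; exact Nat.pow_le_pow_right (by norm_num) (not_lt.1 hh)
  exact hn ((eq_of_le_of_card_ge h this).ge hg)

theorem jobK2 : JobK2.{u} := by
  intro kn um0 um k4 k8 X _ _ K Y x s q hK hT h
  by_cases hq : q ∈ Y ⊔ zpowers s
  · exact (sup_le le_normalizer (zpowers_le.2 h.sY) : Y ⊔ zpowers s ≤ No Y) hq
  obtain ⟨a, ha⟩ := IsPGroup.iff_card.1 h.twoY
  obtain ⟨b, hb⟩ := IsPGroup.iff_card.1 (h.two.to_le (le_sup_left : Y ⊔ zpowers s ≤ _))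
  obtain ⟨c, hc⟩ := IsPGroup.iff_card.1 h.two
  have h1 : a < b := pow_lt le_sup_left (mem_sup_right (mem_zpowers s)) h.sn ha hb
  have h2 : b < c := pow_lt le_sup_left (mem_sup_right (mem_zpowers q)) hq hb hc
  have h3 : 2 ≤ a := by
    by_contra hh
    have hY : Nat.card Y ≤ 2 := by
      rw [ha]; exact Nat.pow_le_pow_right (n := 2) (by norm_num) (show a ≤ 1 by omega)
    refine h.act fun v hv => mem_centralizer_singleton_iff.2 ?_
    by_contra hne
    have hv1 : v ≠ 1 := by rintro rfl; simp at hne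
    have hw : x * v * x⁻¹ ∈ Y := conj_mem_of_mem_normalizer h.xY hv
    have hw1 : x * v * x⁻¹ ≠ 1 := fun e => hv1 (by simpa using e)
    have hwv : x * v * x⁻¹ ≠ v := fun e => hne (by rw [mul_inv_eq_iff_eq_mul] at e; exact e.symm)
    have hs : ({1, v, x * v * x⁻¹} : Set X) ⊆ Y := by
      rintro _ (rfl | rfl | rfl)
      exacts [one_mem _, hv, hw]
    have h3 : ({1, v, x * v * x⁻¹} : Set X).ncard = 3 :=
      Set.ncard_eq_three.2 ⟨_, _, _, hv1.symm, hw1.symm, hwv.symm, rfl⟩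
    have h4 := Set.ncard_le_ncard hs (Set.toFinite _)
    rw [h3, ← Nat.card_coe_set_eq] at h4
    exact absurd (h4.trans hY) (by norm_num)
  rcases hK with hK | hK
  · have h4 := (kn K (.inl hK)).2.2.2.2.1 hK
    have h5 := card_dvd_of_le hT
    rw [hc, h4] at h5
    exact absurd ((pow_dvd_pow 2 (show 4 ≤ c by omega)).trans h5) (by norm_num)
  · obtain ⟨a0, b0, s0, x0, y0, h0⟩ := um0 X K hK
    have hm := um X K a0 b0 s0 x0 y0 h0
    obtain ⟨g, -, hg⟩ := hm.syl.exists_le_cj h.two hT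
    have hsq := sq_cj (sqW h0) hg
    have h4 := card_le_of_le hg
    rw [card_cj, hm.cW, hc] at h4
    have h5 : c ≤ 5 := (Nat.pow_le_pow_iff_right (a := 2) (by norm_num)).1 h4
    obtain rfl | rfl : a = 2 ∨ a = 3 := by omega
    · exact k4 X Y x s q h ha hsq
    · have h6 := k8 X Y x s q h ha hsq
      have hYK : Y ≤ K := (le_sup_left.trans le_sup_left).trans hT
      have hi : ∀ v ∈ Y, v⁻¹ = v := fun v hv => inv_eq_of_mul_eq_one_right (h6 v hv)
      have h7 := hm.rk (Y.subgroupOf K) ⟨⟨fun v w => Subtype.ext (Subtype.ext (by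
        have e := hi _ (Y.mul_mem v.2 w.2)
        rw [mul_inv_rev, hi _ v.2, hi _ w.2] at e
        exact e.symm))⟩⟩ fun v hv => Subtype.ext (by
          have := h6 _ hv
          rw [← pow_two] at this
          exact this)
      rw [Nat.card_congr (subgroupOfEquivOfLe hYK).toEquiv, ha] at h7
      exact absurd h7 (by norm_num)

end H25.Dp0K2
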