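import Cfsg.Agent.H98.DP0CSpec

/-! S3275, chapter U0, section C, slot NZ: the good element centralises no component. -/

set_option autoImplicit false

namespace H25.Dp0NZ

open Subgroup Cfsg H98 H48.DP H57.DPC H48.DP2 H98.DP0C

universe u

theorem jobNZ : JobNZ.{u} := by
  intro l32 nc X _ _ K y z h hK hz
  obtain ⟨cm, -⟩ := h.cm K hK
  have hL := l32 X K ((nc X K z h.toSec hK h.z3).2 hz)
  obtain ⟨l, hl, hc⟩ := cm.inn y (nc X K y h.toSec hK h.y3).1
  have hcl : Commute l (l⁻¹ * y) := mem_centralizer_iff.1 hc l hl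
  have l3 : l ^ 3 = 1 := by
    have e : l ^ 3 * (l⁻¹ * y) ^ 3 = 1 := by
      rw [← hcl.mul_pow, mul_inv_cancel_left, ← h.y3, pow_orderOf_eq_one]
    refine mem_bot.1 (cm.sm.cen.le (mem_inf.2 ⟨pow_mem hl 3, ?_⟩))
    rw [eq_inv_of_mul_eq_one_left e]
    exact inv_mem (pow_mem hc 3)
  obtain ⟨V0, h0, k, hk, h1, h2, k3, -⟩ := cm.sm.loc
  obtain ⟨V, hVK, hV, hne, hlV⟩ : ∃ V : Subgroup X, V ≤ K ∧ IsPGroup 2 V ∧ V ≠ ⊥ ∧ l ∈ No V := by
    by_cases e : l = 1
    · exact ⟨V0, h0, h1, h2, e ▸ one_mem _⟩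
    · have : Fact (Nat.Prime 3) := ⟨Nat.prime_three⟩
      obtain ⟨A, -, a1, -, a2, -, a3, -, a4, -⟩ := hL.pair l hl (orderOf_eq_prime l3 e)
      exact ⟨A, a1, a2, a4, a3⟩
  have hyV : y ∈ No V := by
    have := mul_mem hlV (centralizer_le_normalizer (V : Set X) (centralizer_le hVK hc))
    rwa [mul_inv_cancel_left] at this
  have hKz : K ≤ C1 z := fun g hg => mem_centralizer_singleton_iff.2 (mem_centralizer_iff.1 hz g hg)
  have hO := h.iz V (hVK.trans hKz) hV hyV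
  rcases cm.sm.simple (K ⊓ O2 (C1 z)) inf_le_left
    (le_normalizer_inf le_normalizer (le_normalizer_pCoreOf_of_le hKz)) with e | e
  · exact hne (eq_bot_iff.2 ((le_inf hVK hO).trans e.le))
  · obtain ⟨n, hn⟩ := isPGroup_iff_forall.1 (isPGroup_pCoreOf (p := 2) (C1 z)) k (e.ge hk).2
    have := orderOf_dvd_of_pow_eq_one hn
    rw [k3] at this
    exact absurd (Nat.prime_three.dvd_of_dvd_pow this) (by norm_num)

end H25.Dp0NZ
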