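import Cfsg.Agent.H26.DP0ASpec

/-! S3275, chapter U0, section A, slot RK: 3-rank one. -/

set_option autoImplicit false

namespace H25.Dp0RK

open Subgroup Cfsg H98

universe u

theorem jobRK : H26.DA.JobRK.{u} := by
  intro G _ _ Y e he e3 h A hA hE
  have : Fact (Nat.Prime 3) := ⟨Nat.prime_three⟩
  obtain ⟨S, hS, heS⟩ := exists_isSyl_le (p := 3) (H := Y)
    (isPGroup_zpowers (k := 1) (by rw [pow_one, ← e3, pow_orderOf_eq_one])) (zpowers_le.2 he)
  have eS : e ∈ S := heS (mem_zpowers e)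
  have hne : S ≠ ⊥ := fun k => by
    rw [mem_bot.1 (k.le eS), orderOf_one] at e3
    omega
  have h1 := inf_centralizer_ne_bot hS.isPGroup hS.isPGroup le_normalizer hne
  obtain ⟨n, hn⟩ := (hS.isPGroup.to_le (inf_le_left (b := centralizer (S : Set G)))).exists_card_eq
  obtain ⟨c, c3⟩ := exists_prime_orderOf_dvd_card' (G := ↥(S ⊓ centralizer (S : Set G))) 3 (by
    rw [hn]
    refine dvd_pow_self 3 fun k => h1 (card_eq_one.1 ?_)
    rw [hn, k, pow_zero])
  rw [← orderOf_coe] at c3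
  have h2 : (c : G) ∈ zpowers e := h c (hS.le c.2.1) (c3 ▸ pow_orderOf_eq_one (c : G))
    (mem_centralizer_iff.1 c.2.2 e eS).symm
  have h3 : zpowers (c : G) = zpowers e := eq_of_le_of_card_ge (zpowers_le.2 h2) (by
    rw [Nat.card_zpowers, Nat.card_zpowers, e3, c3])
  have h4 : e ∈ centralizer (S : Set G) := zpowers_le.2 c.2.2 (h3.ge (mem_zpowers e))
  obtain ⟨g, -, hg⟩ := hS.exists_cj_le (isPGroup_iff_forall.2 fun x hx => ⟨1, hE.2 x hx⟩) hA
  have h5 : cj g A ≤ zpowers e := fun w hw => h w (hS.le (hg hw)) (by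
    have := hE.2 _ (mem_cj.1 hw)
    calc w ^ 3 = g * (g⁻¹ * w * g) ^ 3 * g⁻¹ := by simp only [pow_succ, pow_zero]; group
      _ = 1 := by rw [this]; group) (mem_centralizer_iff.1 h4 w (hg hw))
  have := card_le_of_le h5
  rwa [card_cj, Nat.card_zpowers, e3] at this

end H25.Dp0RK
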