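import Cfsg.Agent.H92.DP0BSpec
import Cfsg.Agent.H19.Metacyclic
import Cfsg.Agent.H98.Coprime

/-! # S3275, chapter U0, section B: the job `XD` (the `3^{1+2}` case). -/

set_option autoImplicit false

namespace H25.Dp0XD

open Subgroup Cfsg H98 H48.DP H57.DPC H48.DP2 H92.DPB
open scoped commutatorElement

universe u

variable {X : Type u} [Group X]

theorem pow3_le {n : ℕ} {k : ℕ} (h : 3 ^ n < 3 ^ (k + 1)) : 3 ^ n ≤ 3 ^ k :=
  Nat.pow_le_pow_right (by norm_num)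
    (Nat.lt_succ_iff.1 ((Nat.pow_lt_pow_iff_right (by norm_num)).1 h))

theorem el_card_le [Finite X] {A : Subgroup X} (h : IsElementaryAbelian 3 A) (hn : ¬ E27 A) :
    Nat.card A ≤ 9 := by
  have : Fact (Nat.Prime 3) := ⟨Nat.prime_three⟩
  obtain ⟨n, hn'⟩ := IsPGroup.iff_card.1 (el_pg h)
  have h1 : Nat.card A < 27 := not_le.1 fun h' => hn ⟨h, h'⟩
  rw [hn'] at h1 ⊢
  exact pow3_le (k := 2) h1

theorem zp_card [Finite X] {x : X} (h3 : x ^ 3 = 1) (h1 : x ≠ 1) :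
    orderOf x = 3 ∧ Nat.card (zpowers x) = 3 := by
  have : Fact (Nat.Prime 3) := ⟨Nat.prime_three⟩
  have ho : orderOf x = 3 := orderOf_eq_prime h3 h1
  exact ⟨ho, by rw [Nat.card_zpowers, ho]⟩

/-- A 3-group normalising an elementary group of order at most 9 centralises it up to index 3. -/
theorem idx3 [Finite X] {P A : Subgroup X} (hP : IsPGroup 3 P) (hA : IsElementaryAbelian 3 A)
    (h9 : Nat.card A ≤ 9) (hn : P ≤ No A) : Nat.card P ≤ 3 * Nat.card ↥(P ⊓ Ce A) := by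
  have : Fact (Nat.Prime 3) := ⟨Nat.prime_three⟩
  by_cases hc : P ≤ Ce A
  · rw [inf_eq_left.2 hc]; omega
  have hA1 : A ≠ ⊥ := by
    rintro rfl
    exact hc fun g _ a ha => by rw [mem_bot.1 ha, one_mul, mul_one]
  obtain ⟨z, ⟨hzA, hzP⟩, hz1⟩ : ∃ z ∈ A ⊓ Ce P, z ≠ 1 := by
    by_contra hh
    push Not at hh
    exact inf_centralizer_ne_bot (el_pg hA) hP hn hA1 ((eq_bot_iff_forall _).2 hh)
  have hzc : ∀ g ∈ P, ∀ a ∈ zpowers z, a * g = g * a := by
    rintro g hg _ ⟨i, rfl⟩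
    exact ((show Commute g z from hzP g hg).zpow_right i).symm.eq
  obtain ⟨y, hyA, hyz⟩ : ∃ y ∈ A, y ∉ zpowers z := by
    by_contra hh
    push Not at hh
    exact hc fun g hg a ha => hzc g hg a (hh a ha)
  have hz3 := hA.2 z hzA
  have hcard : Nat.card ↥(zpowers z ⊔ zpowers y) = 9 := by
    rw [card_sup_zp (el_zp hz3) (hA.2 y hyA)
      (fun a ha => el_comm hA (zpowers_le.2 hzA ha) hyA) hyz, (zp_card hz3 hz1).2]
  have hAe : zpowers z ⊔ zpowers y = A :=
    eq_of_le_of_card_ge (sup_le (zpowers_le.2 hzA) (zpowers_le.2 hyA)) (by omega)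
  have hPC : P ⊓ C1 y ≤ P ⊓ Ce A := by
    rintro g ⟨hg, hgy⟩
    refine ⟨hg, ?_⟩
    have : A ≤ C1 g := by
      rw [← hAe]
      refine sup_le (fun a ha => mem_centralizer_singleton_iff.2 (hzc g hg a ha)) ?_
      exact zpowers_le.2 (mem_centralizer_singleton_iff.2
        (mem_centralizer_singleton_iff.1 hgy).symm)
    exact fun a ha => mem_centralizer_singleton_iff.1 (this ha)
  have hy1 : y ≠ 1 := fun e => hyz (e ▸ one_mem _)
  have h1 := H19.relIndex_centralizer_le_card P y ((A : Set X) \ {y⁻¹}) fun x hx =>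
    ⟨A.mul_mem (conj_mem_of_mem_normalizer (hn hx) hyA) (A.inv_mem hyA), fun e => hy1 (by
      have e' : x * y * x⁻¹ * y⁻¹ = y⁻¹ := e
      have e2 : x * y * x⁻¹ = 1 := by simpa using e'
      simpa using e2)⟩
  have h2 : Nat.card ↥((A : Set X) \ {y⁻¹}) < 9 := by
    have := Set.ncard_sdiff_singleton_lt_of_mem (s := (A : Set X)) (A.inv_mem hyA) (Set.toFinite _)
    rw [← Nat.card_coe_set_eq, ← Nat.card_coe_set_eq] at this
    exact lt_of_lt_of_le this h9
  obtain ⟨n, hn'⟩ := hP.index ((C1 y).subgroupOf P)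
  have h3 : (C1 y).relIndex P ≤ 3 := by
    have h4 : (C1 y).relIndex P = 3 ^ n := hn'
    have h5 : (C1 y).relIndex P < 9 := lt_of_le_of_lt h1 h2
    rw [h4] at h5 ⊢
    exact pow3_le (k := 1) h5
  have h6 := ((C1 y).subgroupOf P).index_mul_card
  have h7 : Nat.card ↥((C1 y).subgroupOf P) = Nat.card ↥(P ⊓ C1 y) := by
    rw [← inf_subgroupOf_left, Nat.card_congr (subgroupOfEquivOfLe inf_le_left).toEquiv]
  have h8 := card_le_of_le hPC
  calc Nat.card P = (C1 y).relIndex P * Nat.card ↥(P ⊓ C1 y) := by rw [← h6, h7]; rfl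
    _ ≤ _ := Nat.mul_le_mul h3 h8

theorem jobXD : JobXD.{u} := by
  intro hX1 X _ _ N hX hJ
  have : Fact (Nat.Prime 3) := ⟨Nat.prime_three⟩
  obtain ⟨D, hDn, hD3, hC3⟩ := hX1 X hX.o hJ
  obtain ⟨B, hBN, hB⟩ := hX.e27
  have hDp : IsPGroup 3 D := isPGroup_iff_forall.2 fun x hx => ⟨1, by simpa using hD3 x hx⟩
  have hRp : IsPGroup 3 ↥(D ⊔ Ce D) := hDp.to_sup_of_normal_left hC3
  have hRN : D ⊔ Ce D ≤ N := le_sup_right.trans
    (hX.p3 B (B ⊔ (D ⊔ Ce D)) hB hBN le_sup_left ((el_pg hB.1).to_sup_of_normal_right hRp))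
  by_cases hE : ∃ A : Subgroup X, A ≤ D ⊔ Ce D ∧ E27 A
  · obtain ⟨A, hA, hA'⟩ := hE
    refine .inl (eq_top_iff.2 fun g _ => hX.t27 A g hA' (hA.trans hRN) (le_trans ?_ hRN))
    exact (cj_mono g hA).trans (cj_eq_self_of_normal g _).le
  push Not at hE
  right
  have hno : ∀ P : Subgroup X, P ≤ No D := fun P => le_top.trans (normalizer_eq_top _).ge
  have hna : ¬ D ≤ Ce D := by
    intro hab
    have hDe : IsElementaryAbelian 3 D := el_of (fun a ha b hb => hab hb a ha) hD3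
    have h1 := idx3 (el_pg hB.1) hDe (el_card_le hDe (hE D le_sup_left)) (hno B)
    have h2 := hB.2
    have hCe : IsElementaryAbelian 3 (B ⊓ Ce D) := el_le hB.1 inf_le_left
    have hS : IsElementaryAbelian 3 (D ⊔ B ⊓ Ce D) := el_sup hDe hCe fun a ha b hb => hb.2 a ha
    have h3 := el_card_le hS (hE _ (sup_le_sup_left inf_le_right _))
    have h4 : B ⊓ Ce D = D ⊔ B ⊓ Ce D := eq_of_le_of_card_ge le_sup_right (by omega)
    have h5 : D ≤ B := le_sup_left.trans (h4.ge.trans inf_le_left)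
    exact hE B (le_sup_of_le_right fun b hb d hd => el_comm hB.1 (h5 hd) hb) hB
  have hD1 : D ≠ ⊥ := by rintro rfl; exact hna bot_le
  have hZe : IsElementaryAbelian 3 (D ⊓ Ce D) :=
    el_of (fun a ha b hb => hb.2 a ha.1) fun a ha => hD3 a ha.1
  have hZ9 : Nat.card ↥(D ⊓ Ce D) < 9 := by
    by_contra hh
    obtain ⟨d, hd, hdZ⟩ := SetLike.not_le_iff_exists.1 hna
    exact hE _ (sup_le (inf_le_left.trans le_sup_left) (zpowers_le.2 (mem_sup_left hd)))
      (e27_sup hZe (not_lt.1 hh) (hD3 d hd) (fun a ha => (show Commute d a from ha.2 d hd).symm)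
        fun h => hdZ h.2)
  obtain ⟨x, hxZ, hx1⟩ : ∃ x ∈ D ⊓ Ce D, x ≠ 1 := by
    by_contra hh
    push Not at hh
    exact inf_centralizer_ne_bot hDp hDp le_normalizer hD1 ((eq_bot_iff_forall _).2 hh)
  have hx3 := hD3 x hxZ.1
  have hZ3 : Nat.card ↥(D ⊓ Ce D) ≤ 3 := by
    obtain ⟨n, hn⟩ := IsPGroup.iff_card.1 (el_pg hZe)
    rw [hn] at hZ9 ⊢
    exact pow3_le (k := 1) hZ9
  have hZx : zpowers x = D ⊓ Ce D :=
    eq_of_le_of_card_ge (zpowers_le.2 hxZ) (by rw [(zp_card hx3 hx1).2]; exact hZ3)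
  set Z := D ⊓ Ce D with hZ
  have hZn : Z.Normal := inferInstance
  set π := QuotientGroup.mk' Z with hπ
  have hDb : IsPGroup 3 (D.map π) := hDp.map π
  have hDb1 : D.map π ≠ ⊥ := by
    rw [Ne, Subgroup.map_eq_bot_iff, hπ, QuotientGroup.ker_mk']
    exact fun h => hna (h.trans inf_le_right)
  obtain ⟨_, ⟨⟨y, hy, rfl⟩, hyc⟩, hy1⟩ : ∃ y ∈ D.map π ⊓ Ce (D.map π), y ≠ 1 := by
    by_contra hh
    push Not at hh
    exact inf_centralizer_ne_bot hDb hDb le_normalizer hDb1 ((eq_bot_iff_forall _).2 hh)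
  have hyZ : y ∉ Z := fun h => hy1 ((QuotientGroup.eq_one_iff y).2 h)
  have hcy : ∀ d ∈ D, d * y * d⁻¹ * y⁻¹ ∈ Z := fun d hd => by
    have e : π d * π y = π y * π d := hyc _ ⟨d, hd, rfl⟩
    refine (QuotientGroup.eq_one_iff _).1 (show π (d * y * d⁻¹ * y⁻¹) = 1 from ?_)
    rw [map_mul, map_mul, map_mul, e, map_inv, map_inv]; group
  have hZy : ∀ a ∈ Z, Commute a y := fun a ha => (show Commute y a from ha.2 y hy).symm
  have hUe : IsElementaryAbelian 3 (Z ⊔ zpowers y) :=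
    el_sup hZe (el_zp (hD3 y hy)) (by rintro a ha _ ⟨i, rfl⟩; exact (hZy a ha).zpow_right i)
  have hZc : Nat.card Z = 3 := by rw [← hZx, (zp_card hx3 hx1).2]
  have hU9 : Nat.card ↥(Z ⊔ zpowers y) = 9 := by
    rw [card_sup_zp hZe (hD3 y hy) hZy hyZ, hZc]
  have hUD : Z ⊔ zpowers y ≤ D := sup_le inf_le_left (zpowers_le.2 hy)
  have hUc : ∀ c ∈ D ⊔ Ce D, c ^ 3 = 1 → c ∈ Ce (Z ⊔ zpowers y) → c ∈ Z ⊔ zpowers y := by
    intro c hc h3 hcc
    by_contra hn
    exact hE _ (sup_le (hUD.trans le_sup_left) (zpowers_le.2 hc))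
      (e27_sup hUe hU9.ge h3 (fun a ha => hcc a ha) hn)
  have hDU : D ≤ No (Z ⊔ zpowers y) := fun d hd => by
    refine mem_normalizer_of_cj_le ?_
    rw [cj_sup, cj_eq_self_of_normal, cj, MonoidHom.map_zpowers]
    refine sup_le le_sup_left (zpowers_le.2 (show d * y * d⁻¹ ∈ _ from ?_))
    have := mul_mem (mem_sup_left (hcy d hd) : _ ∈ Z ⊔ zpowers y) (mem_sup_right (mem_zpowers y))
    simpa using this
  have h27 : Nat.card D = 27 := by
    have h1 := idx3 hDp hUe hU9.le hDU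
    have h2 : D ⊓ Ce (Z ⊔ zpowers y) ≤ Z ⊔ zpowers y :=
      fun c hc => hUc c (mem_sup_left hc.1) (hD3 c hc.1) hc.2
    have h3 := card_le_of_le h2
    have h4 : ¬ Nat.card D ≤ 9 := fun h => hna fun a ha b hb => by
      have e := eq_of_le_of_card_ge hUD (by omega)
      exact el_comm hUe (e.ge hb) (e.ge ha)
    obtain ⟨n, hn⟩ := IsPGroup.iff_card.1 hDp
    have h5 : Nat.card D ≤ 27 := by omega
    rw [hn] at h4 h5 ⊢
    have h6 : n ≤ 3 := (Nat.pow_le_pow_iff_right (a := 3) (by norm_num)).1 h5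
    have h7 : ¬ n ≤ 2 := fun h => h4 (Nat.pow_le_pow_right (n := 3) (by norm_num) h)
    obtain rfl : n = 3 := by omega
    rfl
  have hb9 : Nat.card (D.map π) = 3 ^ 2 := by
    have h2 : Nat.card (D.map π) * Nat.card Z = Nat.card D := by
      have h3 := ((π.domRestrict D).ker).index_mul_card
      rw [index_ker, MonoidHom.domRestrict_range, MonoidHom.ker_domRestrict, hπ,
        QuotientGroup.ker_mk',
        Nat.card_congr (subgroupOfEquivOfLe (inf_le_left : Z ≤ D)).toEquiv] at h3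
      exact h3
    rw [hZc, h27] at h2
    omega
  have hder : ⁅D, D⁆ ≤ Z := by
    refine commutator_le.2 fun a ha b hb => (QuotientGroup.eq_one_iff _).1
      (show π ⁅a, b⁆ = 1 from ?_)
    have e : π a * π b = π b * π a := congrArg Subtype.val
      ((IsPGroup.isMulCommutative_of_card_eq_prime_sq hb9).is_comm.comm ⟨π a, a, ha, rfl⟩
        ⟨π b, b, hb, rfl⟩)
    rw [map_commutatorElement, commutatorElement_eq_one_iff_mul_comm, e]
  refine ⟨D, x, hDn, h27, hD3, (zp_card hx3 hx1).1, ?_, fun c hc h3 => ?_, hC3⟩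
  · rw [hZx]
    have hne : ⁅D, D⁆ ≠ ⊥ := fun h => hna (commutator_eq_bot_iff_le_centralizer.1 h)
    have h1 : Nat.card ↥⁅D, D⁆ ∣ 3 := hZc ▸ card_dvd_of_le hder
    rcases (Nat.dvd_prime Nat.prime_three).1 h1 with h | h
    · exact absurd (card_eq_one.1 h) hne
    · exact eq_of_le_of_card_ge hder (by omega)
  · rw [hZx]
    exact ⟨hUD (hUc c (mem_sup_right hc) h3 fun a ha => hc a (hUD ha)), hc⟩

end H25.Dp0XD
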