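import Cfsg.Agent.H57.U2CSpec

/-! # S3275, chapter U2F, central case: the job `C2` (`z ∈ U'`). -/

set_option autoImplicit false

namespace H25.DpvC2

open Subgroup Cfsg H98 H96 H97 H48.DP H57.DPC H48.DP2 H96.U2I H57.U2C
open scoped commutatorElement

universe u

variable {G : Type u} [Group G] {M K F U M' K' F' U' : Subgroup G} {z z' : G}

theorem ea_comm {A : Subgroup G} (h : IsElementaryAbelian 2 A) {a b : G} (ha : a ∈ A)
    (hb : b ∈ A) : Commute a b := congrArg Subtype.val (h.1.1.1 ⟨a, ha⟩ ⟨b, hb⟩)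

theorem zp_two {z a : G} (hz : z * z = 1) (ha : a ∈ zpowers z) : a = 1 ∨ a = z := by
  obtain ⟨i, rfl⟩ := ha
  have h2 : z ^ (2 : ℤ) = 1 := by rw [zpow_two, hz]
  obtain ⟨j, rfl | rfl⟩ := Int.even_or_odd' i
  · left; show z ^ (2 * j) = 1; rw [zpow_mul, h2, one_zpow]
  · right; show z ^ (2 * j + 1) = z; rw [zpow_add, zpow_mul, h2, one_zpow, one_mul, zpow_one]

theorem zz (h : Cp M K F U z) : z * z = 1 := by
  have := h.ea.2 z h.zU
  rwa [pow_two] at this

theorem no_zp {g z : G} (h : g ∈ C1 z) : g ∈ No (zpowers z) := by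
  refine le_normalizer_of_le_centralizer (H := zpowers g) ?_ (mem_zpowers g)
  refine zpowers_le.2 ?_
  rintro _ ⟨i, rfl⟩
  exact ((show Commute g z from mem_centralizer_singleton_iff.1 h).symm.zpow_left i).eq

/-- `[a, w] ∈ U` for `a` normalising `U`. -/
theorem cm_right {a w : G} (ha : a ∈ No U) (hw : w ∈ U) : ⁅a, w⁆ ∈ U :=
  U.mul_mem (conj_mem_of_mem_normalizer ha hw) (U.inv_mem hw)

theorem cm_left {a w : G} (ha : a ∈ U) (hw : w ∈ No U) : ⁅a, w⁆ ∈ U := by
  rw [← commutatorElement_inv]; exact U.inv_mem (cm_right hw ha)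

theorem qz (h' : Cp M' K' F' U' z') (hU : U ≤ K') (hU' : U' ≤ K) : Qz K U U' z where
  le := hU'
  two := fun a => ⟨1, Subtype.ext (by simpa using h'.ea.2 a a.2)⟩
  qd := fun a ha b hb w hw => by
    rw [commutatorElement_eq_one_iff_commute.2 (ea_comm h'.ea ha (cm_left hb (h'.KU (hU hw))))]
    exact one_mem _

theorem zN (h : Cp M K F U z) (h' : Cp M' K' F' U' z') (hU : U ≤ K') (hU' : U' ≤ K) :
    z ∈ U ⊓ St U' z' :=
  ⟨h.zU, no_zp (h'.Kz (hU h.zU)), fun c hc => by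
    rw [commutatorElement_eq_one_iff_mul_comm.2 (mem_centralizer_singleton_iff.1 (h.Kz (hU' hc)))]
    exact one_mem _⟩

theorem nfx (h' : Cp M' K' F' U' z') (hM : ∀ e ∈ M, e ∈ M' → orderOf e ≠ 3) {u : G}
    (hu : C1 u ≤ M) : ¬ Fx F' u := by
  rintro ⟨e, he, h3, hc⟩
  exact hM e (hu (mem_centralizer_singleton_iff.2 hc.eq)) (h'.KM (h'.FK he)) h3

/-- `GQB` on the side `U'`, with `B = U` and `s = z`. -/
theorem side [Finite G] (qb : GQB.{u}) (h : Cp M K F U z) (h' : Cp M' K' F' U' z')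
    (hM : ∀ e ∈ M, e ∈ M' → orderOf e ≠ 3) (hU : U ≤ K') (hU' : U' ≤ K) (hz : z ∈ U')
    (hn : ¬ U ≤ St U' z') (hk : (St U z).relIndex U' ≤ (St U' z').relIndex U) :
    (St U z).relIndex U' = (St U' z').relIndex U ∧
    ∃ a ∈ U, (∃ w ∈ U', ⁅a, w⁆ ∉ zpowers z' ∧ Gd F' ⁅a, w⁆) ∧
      ∀ p ∈ U', ∀ q ∈ U', Commute a p → Commute a q → Fx F' p ∨ Fx F' q ∨ Fx F' (p * q) := by
  have := qb G K' F' U' U (U' ⊓ St U z) z' z h'.toMd (qz h hU' hU) inf_le_left
    (zN h' h hU' hU) hz (nfx h' hM h.cz) hn (fun c hc a ha => by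
      rcases zp_two (zz h) (hc.2.2 a ha) with e | e
      · left; rw [e]; exact one_mem _
      · right; rw [e, zz h]; exact one_mem _) (by rwa [inf_relIndex_left])
  rwa [inf_relIndex_left] at this

theorem jobC2 : H57.U2C.JobC2.{u} := by
  intro bd off qb G _ _ M K F U M' K' F' U' z z' h h' hM hU hU' hz
  by_contra hn
  have hM' : ∀ e ∈ M', e ∈ M → orderOf e ≠ 3 := fun e he he' => hM e he' he
  have h0 : (St U' z').relIndex U ≠ 0 := index_ne_zero_of_finite
  have h1 : (St U' z').relIndex U ≠ 1 := fun e => hn (relIndex_eq_one.1 e)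
  have hn' : (St U' z').relIndex U ≤ (St U z).relIndex U' → ¬ U' ≤ St U z := fun hk e => by
    rw [relIndex_eq_one.2 e] at hk; omega
  have key : (St U z).relIndex U' ≤ (St U' z').relIndex U ∧
      ∃ a ∈ U', ∃ w ∈ U, ⁅a, w⁆ ∉ zpowers z ∧ Gd F ⁅a, w⁆ := by
    by_cases hz' : z' ∈ U
    · have hk : (St U' z').relIndex U ≤ (St U z).relIndex U' := by
        rcases le_total ((St U z).relIndex U') ((St U' z').relIndex U) with e | e
        · exact (side qb h h' hM hU hU' hz hn e).1.ge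
        · exact e
      obtain ⟨e, a, ha, hw, -⟩ := side qb h' h hM' hU' hU hz' (hn' hk) hk
      exact ⟨e.ge, a, ha, hw⟩
    · have hc : ∀ c ∈ U ⊓ St U' z', ∀ a ∈ U', ⁅a, c⁆ ∈ zpowers z := fun c hc a ha => by
        rcases zp_two (zz h') (hc.2.2 a ha) with e | e
        · rw [e]; exact one_mem _
        · exact absurd (e ▸ cm_right (h.KU (hU' ha)) hc.1) hz'
      have hk := bd G K F U U' (U ⊓ St U' z') z h.toMd (qz h' hU hU') inf_le_left
        (zN h h' hU hU') hc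
      rw [inf_relIndex_left] at hk
      have e := (side qb h h' hM hU hU' hz hn hk).1
      obtain ⟨b, hb, hbS⟩ := SetLike.not_le_iff_exists.1 (hn' e.ge)
      obtain ⟨w, hw, hbw⟩ : ∃ w ∈ U, ⁅b, w⁆ ∉ zpowers z := by
        by_contra hh
        push Not at hh
        refine hbS ⟨no_zp (h.Kz (hU' hb)), fun c hc => ?_⟩
        rw [← commutatorElement_inv]
        exact inv_mem (hh c hc)
      obtain ⟨a, ha, h2, h3, -⟩ := off G K F U U' (U ⊓ St U' z') z h.toMd (qz h' hU hU')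
        inf_le_left (zN h h' hU hU') hc (by rw [inf_relIndex_left]; exact e.ge) w hw b hb hbw
      exact ⟨hk, a, ha, w, hw, h2, h3⟩
  obtain ⟨hk, a, ha, w, hw, huz, hg⟩ := key
  have huU : ⁅a, w⁆ ∈ U := cm_right (h.KU (hU' ha)) hw
  have huU' : ⁅a, w⁆ ∈ U' := cm_left ha (h'.KU (hU hw))
  generalize ⁅a, w⁆ = v at huz hg huU huU'
  have hg' : Gd F (z * v) := by
    obtain ⟨E, hE, h2, h3, h4⟩ := hg
    refine ⟨E, hE, h2, h3, fun e he => mem_centralizer_singleton_iff.2 ?_⟩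
    exact ((show Commute e z from mem_centralizer_singleton_iff.1 (h.Kz (h.FK (hE he)))).mul_right
      (show Commute e v from mem_centralizer_singleton_iff.1 (h4 he))).eq
  have hv1 : v ≠ 1 := fun e => huz (e ▸ one_mem _)
  have hzv : z * v ≠ 1 := fun e => huz (by
    rw [eq_inv_of_mul_eq_one_right e]; exact inv_mem (mem_zpowers z))
  obtain ⟨-, b, hb, -, hl⟩ := side qb h h' hM hU hU' hz hn hk
  rcases hl z hz v huU' (ea_comm h.ea hb h.zU) (ea_comm h.ea hb huU) with e | e | e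
  · exact nfx h' hM h.cz e
  · exact nfx h' hM (h.gd v huU hv1 hg) e
  · exact nfx h' hM (h.gd _ (U.mul_mem h.zU huU) hzv hg') e

end H25.DpvC2
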