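/- Tower EA: the cases common to both statements. -/
import Cfsg.Agent.H68.EaSpec

set_option autoImplicit false

open scoped MonoidAlgebra

namespace H25.EA

open Cfsg H28 H34 H35 H36 H39 H24.KB H24.Ols Subgroup H68.EA

universe u

theorem jobCom : JobCom.{u} := by
  intro hST hV8 hHZ G _ _ M _ B D e h hc hcase
  classical
  have hab := le_cen_of_comm hc
  have hz : ∀ v : D, v ∈ center D := fun v => mem_center_iff.2 fun y => hc y v
  rcases hcase with h0 | ⟨Z, V, v, hS, ⟨h4, h3⟩ | ⟨h8, z, rfl⟩⟩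
  · have := Fintype.ofFinite D
    have h1 : ∀ x : D, blockRank 2 (h.s x).b = 1 := fun x =>
      rank_s h hab x (by rw [h0, bot_inf_eq, card_bot]) (by omega)
    have hR : NCj Finset.univ h.s := fun i _ j _ hij => by
      obtain ⟨α, hα, rfl⟩ := (cj_iff_AI h hab).1 hij
      rw [h0, mem_bot] at hα
      rw [hα]; rfl
    have h2 := hR.card_eq h.hM h.hB fun t => (h.exists_cj t).imp fun _ hv => ⟨Finset.mem_univ _, hv⟩
    rw [Finset.sum_congr rfl fun x _ => h1 x, Finset.sum_const, smul_eq_mul, mul_one,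
      Finset.card_univ, ← Nat.card_eq_fintype_card] at h2
    exact ⟨h2, hHZ G M B D e h 1 (hz 1) (one_pow _) (by rw [h1]; omega) h2,
      Or.inl (h.rank_one ▸ h1 1)⟩
  · have h1 : blockRank 2 B = 3 := (rank_eq_top h hab h3.le).trans h3
    have h2 : Nat.card (Stb (AI ⊤ D e) v) = 1 := by
      refine ((Nat.dvd_prime Nat.prime_three).1 hS.st).resolve_right fun h5 => hS.ne ?_
      have h6 : Stb (AI ⊤ D e) v = AI ⊤ D e := eq_of_le_of_card_ge inf_le_left (by omega)
      exact mem_bot.1 (hS.inf ▸ ⟨(hS.fix v).2 fun α hα => (h6.ge hα).2,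
        hS.mem⟩ : v ∈ (⊥ : Subgroup D))
    have hV : V.Normal := ⟨fun a ha g => by rwa [hc g a, mul_inv_cancel_right]⟩
    have h5 := (isComplement'_of_disjoint_and_mul_eq_univ (disjoint_iff.2 hS.inf)
      (by rw [← mul_normal, hS.sup, coe_top])).card_mul_card
    have h6 : Nat.card B = Nat.card D := by
      rw [(hST G M B D e h Z V v hc hS).2, h1, h2, ← h5, h4]
    exact ⟨h6, hHZ G M B D e h 1 (hz 1) (one_pow _) (by rw [h.rank_one, h1]) h6,
      Or.inr (Or.inl h1)⟩
  · obtain ⟨h1, h2⟩ := hV8 G M B D e V z v h hc hS h8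
    have h3 := (Nat.dvd_prime Nat.prime_three).1 hS.st
    refine ⟨h1, hHZ G M B D e h v (hz v) (hS.sq v hS.mem) ?_ h1, by omega⟩
    rw [rank_s h hab v rfl (Nat.le_of_dvd (by omega) hS.st)]
    exact Nat.le_of_dvd (by omega) hS.st

end H25.EA
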