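import Cfsg.Agent.H14.FESpec

/-! Tower FE (S1308), slot Db. -/

set_option autoImplicit false

namespace H25.FeDb

open Cfsg Subgroup MulAction H14 H98 H1.Gold H31.S2 H14.GC H14.FE
open scoped commutatorElement

universe u

theorem inv2 {X : Type u} [Group X] {K : Subgroup X} {x : X} (hx : x ∈ K) (h1 : x ≠ 1)
    (h : ∃ k : ℕ, x ^ 2 ^ k = 1) : ∃ m : ℕ, H14.GC.Inv (x ^ m) ∧ x ^ m ∈ K := by
  obtain ⟨k, h⟩ := h
  by_cases h2 : x * x = 1
  · exact ⟨1, by rw [pow_one]; exact ⟨h1, h2⟩, pow_mem hx 1⟩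
  · obtain ⟨m, hm⟩ := exists_pow_sq_of_two h h2
    exact ⟨m + m, by rwa [pow_add], pow_mem hx _⟩

variable {X : Type u} [Group X] {J Ω : Type u} [MulAction X J] [MulAction X Ω]
  {pt : J → Ω} {B : J → Subgroup X} {β : Subgroup X → Prop}

theorem triv_iff {x : X} : Triv Ω x ↔ toPermHom X Ω x = 1 :=
  ⟨fun h => Equiv.ext h, fun h a => congrArg (fun σ : Equiv.Perm Ω => σ a) h⟩

theorem mem_Cm {u x : X} :
    x ∈ Cm Ω u ↔ toPermHom X Ω x * toPermHom X Ω u = toPermHom X Ω u * toPermHom X Ω x :=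
  mem_centralizer_singleton_iff

theorem big_mono {H K : Subgroup X} (h : Big β H) (hl : H ≤ K) : Big β K :=
  let ⟨U, h1, h2⟩ := h
  ⟨U, h1.trans hl, h2⟩

theorem B_le_stab (h : PG pt B β) {j : J} {a : Ω} (hj : pt j = a) : B j ≤ stabilizer X a :=
  fun g hg => by
    have e : g • j = j := h.mn j j rfl hg
    rw [mem_stabilizer_iff, ← hj, ← h.pt_smul, e]

theorem conj_B (h : PG pt B β) {j : J} {g x : X} (hx : x ∈ B j) : g * x * g⁻¹ ∈ B (g • j) := by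
  rw [h.B_smul]
  exact conj_mem_cj hx

theorem conj_B' (h : PG pt B β) {i j : J} (e : pt i = pt j) {g x : X} (hg : g ∈ B i)
    (hx : x ∈ B j) : g * x * g⁻¹ ∈ B j := by
  have := conj_B h (g := g) hx
  rwa [show g • j = j from h.mn i j e hg] at this

theorem f1 (h : PG pt B β) {i j : J} (hij : i ≠ j) (e : pt i = pt j) {P : Subgroup X}
    (hP : IsPGroup 2 P) {x y : X} (hx : x ∈ P ⊓ B i) (hy : y ∈ P ⊓ B j) : x * y = y * x := by
  by_contra hne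
  have h1 : x * y * x⁻¹ * y⁻¹ ∈ B i ⊓ B j := by
    refine mem_inf.2 ⟨?_, (B j).mul_mem (conj_B' h e hx.2 hy.2) ((B j).inv_mem hy.2)⟩
    have := (B i).mul_mem hx.2 (conj_B' h e.symm hy.2 ((B i).inv_mem hx.2))
    simpa only [mul_assoc] using this
  have h2 : x * y * x⁻¹ * y⁻¹ ∈ P :=
    P.mul_mem (P.mul_mem (P.mul_mem hx.1 hy.1) (P.inv_mem hx.1)) (P.inv_mem hy.1)
  obtain ⟨m, h3, h4⟩ := inv2 h1 (fun k => hne (by
    calc x * y = x * y * x⁻¹ * y⁻¹ * (y * x) := by group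
      _ = y * x := by rw [k, one_mul])) (isPGroup_iff_forall.1 hP _ h2)
  exact h.ti i j hij _ h4 h3

omit [MulAction X J] [MulAction X Ω] in
theorem le_Yp {j : J} {a : Ω} (hj : pt j = a) : B j ≤ Yp pt B a := le_iSup₂_of_le j hj le_rfl

omit [MulAction X J] [MulAction X Ω] in
theorem le_Wp {P : Subgroup X} {j : J} {a : Ω} (hj : pt j = a) : P ⊓ B j ≤ Wp pt B P a :=
  le_iSup₂_of_le j hj le_rfl

omit [MulAction X J] [MulAction X Ω] in
theorem Wp_le {P : Subgroup X} {a : Ω} : Wp pt B P a ≤ P := iSup₂_le fun _ _ => inf_le_left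

variable [Finite X]

theorem Yp_nor (h : PG pt B β) (a : Ω) : stabilizer X a ≤ nor (Yp pt B a) := fun g hg => by
  refine mem_normalizer_of_cj_le (cj_le_iff.2 (iSup₂_le fun j hj => cj_le_iff.1 ?_))
  rw [← h.B_smul]
  exact le_Yp (by rw [h.pt_smul, hj]; exact hg)

theorem Wp_nor (h : PG pt B β) {P : Subgroup X} {a : Ω} (hP : P ≤ stabilizer X a) :
    P ≤ nor (Wp pt B P a) := fun g hg => by
  refine mem_normalizer_of_cj_le (cj_le_iff.2 (iSup₂_le fun j hj => cj_le_iff.1 ?_))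
  rw [cj_inf, ← h.B_smul, cj_eq_self_of_mem hg]
  exact le_Wp (by rw [h.pt_smul, hj]; exact hP hg)

theorem syl (h : PG pt B β) {H P : Subgroup X} {a : Ω} (hH : H ≤ stabilizer X a)
    (hP : IsSyl 2 P H) {j : J} (hj : pt j = a) : IsSyl 2 (P ⊓ B j) (H ⊓ B j) := by
  have h1 : SubN (B j) (Yp pt B a) := SubN.of_normal (le_Yp hj) (iSup₂_le fun i hi g hg =>
    mem_normalizer_of_cj_le (by
      rw [← h.B_smul, show g • j = j from h.mn i j (hi.trans hj.symm) hg]))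
  have h2 : SubN (Yp pt B a) (stabilizer X a) :=
    SubN.of_normal (iSup₂_le fun i hi => B_le_stab h hi) (Yp_nor h a)
  have h3 := hP.inf_subN ((h1.trans h2).inf_of_le hH)
  rwa [inf_comm (B j) H, ← inf_assoc, inf_eq_left.2 hP.le] at h3

theorem big_syl (h : PG pt B β) {H R : Subgroup X} (hb : Big β H) (hR : IsSyl 2 R H) : Big β R := by
  obtain ⟨U, h1, h2, h3⟩ := hb
  obtain ⟨g, -, h4⟩ := hR.exists_cj_le h2 h1
  exact ⟨_, h4, isPGroup_cj g h2, h.bt.cj U g h3⟩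

omit [Finite X] in
theorem home1 (h : PG pt B β) {x : X} {a : Ω} (ha : x • a = a) (hx : ¬ Triv Ω x)
    (hb : ∀ j, pt j = a → Big β (Cm Ω x ⊓ B j)) : Cm Ω x ≤ stabilizer X a := by
  refine (h.home _ a (fun g hg => mem_Cm.2 (by rw [MonoidHom.mem_ker.1 hg, one_mul, mul_one]))
    hb).resolve_left fun e => hx fun b => ?_
  obtain ⟨g, rfl⟩ := h.trans a b
  have := congrArg (fun σ : Equiv.Perm Ω => σ a) (mem_Cm.1 (e.ge (mem_top g)))
  simp only [Equiv.Perm.mul_apply, toPermHom_apply, toPerm_apply, ha] at this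
  exact this.symm

/-- a vertex involution that centralises `Wp P a` -/
theorem ci (h : PG pt B β) {P : Subgroup X} {a : Ω} (hP : IsPGroup 2 P)
    (hb : ∀ j, pt j = a → Big β (P ⊓ B j)) :
    ∃ e ∈ Wp pt B P a, e ∈ cen (Wp pt B P a) ∧ ∀ b : Ω, e • b = b → b = a := by
  obtain ⟨j, hj⟩ := h.surj a
  have h2 : IsPGroup 2 (P ⊓ B j : Subgroup X) := hP.to_le inf_le_left
  have hne : P ⊓ B j ≠ ⊥ := fun e => by
    obtain ⟨U, h3, -, h4⟩ := hb j hj
    refine h.bt.ne U h4 fun x hx => ?_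
    rw [mem_bot.1 (e.le (h3 hx)), one_mul]
  obtain ⟨⟨x, hx⟩, h1⟩ := ne_bot_iff_exists_ne_one.1
    (inf_centralizer_ne_bot h2 h2 le_normalizer hne)
  obtain ⟨m, h3, h4⟩ := inv2 hx (fun e => h1 (Subtype.ext e)) (isPGroup_iff_forall.1 h2 _ hx.1)
  refine ⟨_, le_Wp hj h4.1, ?_, fun b hb => (h.fix j _ h4.1.2 h3 b hb).trans hj⟩
  have : Wp pt B P a ≤ cen1 (x ^ m) := iSup₂_le fun i hi y hy =>
    mem_centralizer_singleton_iff.2 (by
      by_cases e : i = j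
      · subst e
        exact mem_centralizer_iff.1 h4.2 y hy
      · exact f1 h e (hi.trans hj.symm) hP hy h4.1)
  exact mem_centralizer_iff.2 fun y hy => mem_centralizer_singleton_iff.1 (this hy)

theorem jobDb : JobDb.{u} := by
  intro d0 X _ _ J Ω _ _ _ _ pt B β h lift da u a ha hu huu hb
  suffices H : ∀ a', u • a' = a' → a' = a from fun b c hb hc => (H b hb).trans (H c hc).symm
  intro a' ha'
  by_contra hne
  have hH := home1 h ha hu hb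
  obtain ⟨Δ, hΔ, h2Δ, ⟨δ, hδ, hδδ⟩, h4⟩ := da u a a' (Ne.symm hne) ha' huu hH
  obtain ⟨P, hP, hΔP⟩ := exists_isSyl_le h2Δ (hΔ.trans inf_le_left)
  have hPa : P ≤ stabilizer X a := hP.le.trans hH
  have hbP : ∀ j, pt j = a → Big β (P ⊓ B j) := fun j hj => big_syl h (hb j hj) (syl h hH hP hj)
  set φ := toPermHom X Ω with hφ
  set W := Wp pt B P a with hW
  have h2W : IsPGroup 2 (W.map φ) := (hP.isPGroup.to_le Wp_le).map φ
  have hn : Δ.map φ ≤ nor (W.map φ) :=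
    (map_mono (hΔP.trans (Wp_nor h hPa))).trans (le_normalizer_map φ)
  have hnZ : Δ.map φ ≤ nor (W.map φ ⊓ cen (W.map φ)) :=
    le_normalizer_inf hn (le_normalizer_centralizer hn)
  -- (3)
  have h3 : ∀ y ∈ Yp pt B a', φ y ∈ W.map φ ⊓ cen (W.map φ) → φ y = 1 := by
    rintro y hy ⟨⟨x, hx, e⟩, hz⟩
    by_contra h1
    have k1 : Cm Ω x ≤ stabilizer X a := home1 h (hPa (Wp_le hx)) (fun k => h1 (e ▸ triv_iff.1 k))
      fun j hj => big_mono (hbP j hj) (le_inf (fun w hw => mem_Cm.2 (by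
        rw [e]
        exact mem_centralizer_iff.1 hz _ ⟨w, le_Wp hj hw, rfl⟩)) inf_le_right)
    obtain ⟨k, hk⟩ := isPGroup_iff_forall.1 h2W _ ⟨x, hx, e⟩
    obtain ⟨P', hP', w, hw, e'⟩ := lift a' y (mem_sup_left hy) ⟨k, triv_iff.2 (by rw [map_pow]; exact hk)⟩
    obtain ⟨t, -, t1, t2⟩ := ci h (a := a') hP'.isPGroup fun j hj => big_syl h
      (big_mono (h.big j) (le_inf (B_le_stab h hj) le_rfl)) (syl h le_rfl hP' hj)
    refine hne (t2 a (k1 (mem_Cm.2 ?_))).symm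
    rw [e, ← e', ← map_mul, ← map_mul, mem_centralizer_iff.1 t1 w hw]
  refine hδδ (triv_iff.2 ?_)
  rw [map_mul]
  refine d0 (Equiv.Perm Ω) (W.map φ ⊓ cen (W.map φ)) (Δ.map φ)
    (W.map φ ⊓ cen (W.map φ) ⊓ stabilizer (Equiv.Perm Ω) a') (h2W.to_le inf_le_left) (h2Δ.map φ)
    (fun x hx y hy => mem_centralizer_iff.1 hy.2 x hx.1) hnZ ?_ ?_ ?_ _ ⟨δ, hδ, rfl⟩
  · obtain ⟨t, t0, t1, t2⟩ := ci h hP.isPGroup hbP
    refine lt_of_le_of_ne inf_le_left fun e => hne (t2 a' (e.ge (show φ t ∈ _ from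
      ⟨⟨t, t0, rfl⟩, mem_centralizer_iff.2 ?_⟩)).2)
    rintro _ ⟨w, hw, rfl⟩
    rw [← map_mul, ← map_mul, mem_centralizer_iff.1 t1 w hw]
  · rintro z ⟨hz, hza⟩ _ ⟨d, hd, rfl⟩
    obtain ⟨x, -, rfl⟩ := id hz.1
    have k1 : x * d * x⁻¹ * d⁻¹ ∈ Yp pt B a' :=
      mul_mem (conj_mem_of_mem_normalizer (Yp_nor h a' hza) (hΔ hd).2) (inv_mem (hΔ hd).2)
    have k2 : φ (x * d * x⁻¹ * d⁻¹) = φ x * (φ d * (φ x)⁻¹ * (φ d)⁻¹) := by
      simp only [map_mul, map_inv, mul_assoc]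
    have k3 := h3 _ k1 (by
      rw [k2]
      exact mul_mem hz (conj_mem_of_mem_normalizer (hnZ ⟨d, hd, rfl⟩) (inv_mem hz)))
    calc φ x * φ d = φ x * (φ d * (φ x)⁻¹ * (φ d)⁻¹) * (φ d * φ x) := by group
      _ = φ d * φ x := by rw [← k2, k3, one_mul]
  · rintro _ ⟨v, hv, rfl⟩ v1 hc z ⟨hz, hzv⟩
    refine ⟨hz, ?_⟩
    obtain ⟨x, -, rfl⟩ := id hz.1
    exact h4 v hv (fun k => v1 (triv_iff.1 k)) (fun d hd => hc ⟨d, hd, rfl⟩) hzv

end H25.FeDb
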