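import Cfsg.Agent.H25.FeDb
import Cfsg.Agent.H98.JoinSylow

/-! Tower FE (S1308), slot Lift. -/

set_option autoImplicit false

namespace H25.FeLift

open Cfsg Subgroup MulAction H14 H98 H1.Gold H31.S2 H14.GC H14.FE H25.FeDb

universe u

variable {X : Type u} [Group X] [Finite X] {J Ω : Type u} [MulAction X J] [MulAction X Ω]
  {pt : J → Ω} {B : J → Subgroup X} {β : Subgroup X → Prop}

theorem sub (h : PG pt B β) {a : Ω} (s : Finset J) (hs : ∀ j ∈ s, pt j = a) :
    SubN (⨆ j ∈ s, B j) (stabilizer X a) := by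
  have h1 : SubN (⨆ j ∈ s, B j) (Yp pt B a) :=
    SubN.of_normal (iSup₂_le fun j hj => le_Yp (hs j hj)) (le_normalizer_iSup fun j =>
      le_normalizer_iSup fun hj => iSup₂_le fun i hi g hg => mem_normalizer_of_cj_le (by
        rw [← h.B_smul, show g • j = j from h.mn i j (hi.trans (hs j hj).symm) hg]))
  exact h1.trans (SubN.of_normal (iSup₂_le fun i hi => B_le_stab h hi) (Yp_nor h a))

theorem wiel (h : PG pt B β) {a : Ω} {P : Subgroup X} (hP : IsSyl 2 P (stabilizer X a))
    (s : Finset J) (hs : ∀ j ∈ s, pt j = a) : (⨆ j ∈ s, B j) ⊓ P ≤ Wp pt B P a := by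
  classical
  induction s using Finset.induction_on with
  | empty => simp
  | insert j s hj ih =>
    have h1 : SubN (B j) (stabilizer X a) := by
      simpa using sub h {j} fun i hi => hs i (by rw [Finset.mem_singleton.1 hi]; simp)
    have h2 : ∀ i ∈ s, pt i = a := fun i hi => hs i (Finset.mem_insert_of_mem hi)
    rw [Finset.iSup_insert, hP.sup_inf_eq h1 (sub h s h2)]
    exact sup_le ((inf_comm _ _).le.trans (le_Wp (hs j (Finset.mem_insert_self j s)))) (ih h2)

theorem jobLift : JobLift.{u} := by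
  intro X _ _ J Ω _ _ _ _ pt B β h a x hx ⟨k, hk⟩
  classical
  have := Fintype.ofFinite J
  obtain ⟨y, hy, n, hn, rfl⟩ := mem_sup_of_normal_right.1 hx
  have e : toPermHom X Ω (y * n) = toPermHom X Ω y := by
    rw [map_mul, MonoidHom.mem_ker.1 hn, mul_one]
  rw [triv_iff, map_pow, e] at hk
  obtain ⟨R, hR⟩ := exists_isSyl 2 (zpowers y)
  have h1 := hR.map (toPermHom X Ω)
  rw [MonoidHom.map_zpowers] at h1
  obtain ⟨w, hw, e'⟩ := (h1.eq_of_isPGroup (isPGroup_zpowers hk)).ge (mem_zpowers _)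
  have hY : R ≤ Yp pt B a := hR.le.trans (zpowers_le.2 hy)
  obtain ⟨P, hP, hRP⟩ := exists_isSyl_le hR.isPGroup
    (hY.trans (iSup₂_le fun i hi => B_le_stab h hi))
  refine ⟨P, hP, w, wiel h hP (Finset.univ.filter fun j => pt j = a) (fun j hj => by simpa using hj)
    ⟨?_, hRP hw⟩, e'.trans e.symm⟩
  refine (show Yp pt B a ≤ _ from iSup₂_le fun j hj => ?_) (hY hw)
  exact le_iSup₂_of_le (f := fun j (_ : j ∈ Finset.univ.filter fun j => pt j = a) => B j) j
    (by simpa using hj) le_rfl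

end H25.FeLift
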