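import Cfsg.Agent.H63.KgvSpec
import Cfsg.Agent.H28.Degree
import Cfsg.Agent.H28.GenChar
import Cfsg.Agent.H33.IndTools

/-! # Tower KGV, slot SbSt: a cyclic subgroup of index two -/

set_option autoImplicit false

namespace H25.KgvSb

open Finset Cfsg H28 H63.Kgv

universe u

theorem ind_val {E : Type u} [Group E] [Fintype E] (H : Subgroup E) (h2 : H.index = 2) {x : E}
    (hx : x ∉ H) {ψ : H → ℂ} (hψ : IsClassFunction H ψ) (g : E) :
    indFun H ψ g = extendByZero H ψ g + extendByZero H ψ (x * g * x⁻¹) := by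
  have hb : Function.Bijective fun p : Bool × H => (if p.1 then x⁻¹ else 1) * (p.2 : E) := by
    constructor
    · rintro ⟨b, h⟩ ⟨b', h'⟩ e
      have k : ∀ u v : H, x⁻¹ * u ≠ v := fun u v e => hx (by
        have : x = u * (v : E)⁻¹ := by rw [← e]; group
        rw [this]; exact H.mul_mem u.2 (H.inv_mem v.2))
      cases b <;> cases b' <;> simp at e
      · rw [e]
      · exact absurd e.symm (k _ _)
      · exact absurd e (k _ _)
      · rw [e]
    · intro g
      by_cases hg : g ∈ H
      · exact ⟨(false, ⟨g, hg⟩), by simp⟩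
      · exact ⟨(true, ⟨x * g, (Subgroup.mul_mem_iff_of_index_two h2).2 (by simp [hx, hg])⟩), by simp⟩
  rw [H33.indFun_eq_sum_transversal H (fun b : Bool => if b then x⁻¹ else 1) hb hψ g]
  simp [add_comm]

theorem two_cases {H : Type u} [Group H] {a b c d : H →* ℂˣ}
    (h : ∀ y, (a y : ℂ) + b y = c y + d y) : a = c ∨ a = d := by
  classical
  by_contra hn
  push Not at hn
  have li := linearIndependent_monoidHom H ℂ
  let f : (H →* ℂˣ) → (H →* ℂ) := fun u => (Units.coeHom ℂ).comp u
  have fi : Function.Injective f := fun u v e =>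
    MonoidHom.ext fun y => Units.ext (DFunLike.congr_fun e y)
  have e : Finsupp.single (f a) (1 : ℂ) + Finsupp.single (f b) 1 =
      Finsupp.single (f c) 1 + Finsupp.single (f d) 1 := by
    apply li
    ext y
    simpa [f] using h y
  have e1 := DFunLike.congr_fun e (f a)
  have n1 : f c ≠ f a := fun e => hn.1 (fi e).symm
  have n2 : f d ≠ f a := fun e => hn.2 (fi e).symm
  simp only [Finsupp.add_apply, Finsupp.single_eq_same, Finsupp.single_apply, if_neg n1, if_neg n2] at e1
  split_ifs at e1 <;> norm_num at e1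

theorem job : SbSt.{u} := by
  intro E _ _ χ q H _ hχ h1 hq hinv hc h2
  classical
  have := Fintype.ofFinite H
  obtain ⟨x, hx⟩ : ∃ x, x ∉ H := by
    by_contra hn
    push Not at hn
    rw [(Subgroup.eq_top_iff' H).2 hn, Subgroup.index_top] at h2
    omega
  have hcomm : ∀ a b : H, a * b = b * a := fun a b => (hc.commGroup).mul_comm a b
  obtain ⟨ψ, hψ, hne⟩ := (hχ.isCharacter.restrict H).exists_constituent
    (fun e => hχ.apply_one_ne_zero (congrFun e 1))
  have ψ1 : ψ 1 = 1 := hψ.apply_one_of_comm hcomm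
  have hI : IsCharacter E (indFun H ψ) := hψ.isCharacter.indFun
  have hne' : classInner (indFun H ψ) χ ≠ 0 := by
    rw [hI.classInner_comm hχ.isCharacter, H33.classInner_indFun_right H ψ hχ.isClassFunction]
    exact hne
  have hs := hI.sub_irr hχ hne'
  obtain ⟨n, hn, e1⟩ := hχ.exists_degree_pos
  obtain ⟨m, e2⟩ := hs.exists_degree
  have e3 : χ = indFun H ψ := by
    have e4 : (m : ℂ) + n = 2 := by
      rw [← e2, ← e1, Pi.sub_apply, H33.indFun_apply_one, h2, ψ1]; push_cast; ring
    have e5 : m + n = 2 := by exact_mod_cast e4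
    have e6 : n ≠ 1 := fun e => h1 (by rw [e1, e, Nat.cast_one])
    have e7 : m = 0 := by omega
    exact (sub_eq_zero.1 (hs.eq_zero_of_apply_one (by rw [e2, e7, Nat.cast_zero]))).symm
  have on : ∀ h : H, χ h = ψ h + ψ (MulAut.conjNormal x h) := fun h => by
    rw [e3, ind_val H h2 hx hψ.isClassFunction, H33.ext0_coe, ← H33.ext0_coe H ψ (MulAut.conjNormal x h),
      MulAut.conjNormal_apply]
  refine ⟨x, ψ, ⟨Nat.prime_two, h2, hx, hψ.isCharacter, fun y hy => ?_, fun h => ?_⟩, ?_⟩
  · have hy' : x * y * x⁻¹ ∉ H := fun k => hy (by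
      simpa [mul_assoc] using ‹H.Normal›.conj_mem _ k x⁻¹)
    rw [e3, ind_val H h2 hx hψ.isClassFunction, H33.ext0_of_not_mem H ψ hy,
      H33.ext0_of_not_mem H ψ hy', add_zero]
  · rw [on h]; simp [Finset.sum_range_succ]
  obtain ⟨f, rfl⟩ := hψ.isCharacter.exists_hom ψ1
  let f' : H →* ℂˣ := f.comp (MulAut.conjNormal x).toMonoidHom
  have key := two_cases (a := (powMonoidHom q).comp f) (b := (powMonoidHom q).comp f') (c := f)
    (d := f') fun y => by
      have := hinv y
      rw [← Subgroup.coe_pow, on, on] at this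
      simpa [f'] using this
  by_cases hfix : ∀ h, (f (h ^ q) : ℂ) = f h
  · refine Or.inl ⟨?_, hfix⟩
    have : q.Coprime 2 := hq.coprime_dvd_right (h2 ▸ H.index_dvd_card)
    have := (Nat.coprime_two_right).1 this
    obtain ⟨k, rfl⟩ := this
    simp
  · refine Or.inr ⟨by simp, by simp, fun h => ?_, not_forall.1 hfix⟩
    rcases key with k | k
    · exact absurd (fun h => by simpa using congrArg Units.val (DFunLike.congr_fun k h)) hfix
    · simpa [f'] using congrArg Units.val (DFunLike.congr_fun k h)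

end H25.KgvSb
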