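/- Lie algebras: brackets of submodules, nilpotent action of good submodules, the theorems of
Kreknin and Kostrikin on cyclically graded Lie algebras. -/
import Cfsg.Agent.Base

set_option autoImplicit false

namespace H25.Lie
open Submodule

variable {R L : Type*} [CommRing R] [LieRing L] [LieAlgebra R L]

/-- the bracket as a bilinear map -/
def bil (R L : Type*) [CommRing R] [LieRing L] [LieAlgebra R L] : L →ₗ[R] L →ₗ[R] L :=
  LinearMap.mk₂ R (fun x y => ⁅x, y⁆) add_lie smul_lie lie_add (fun c x y => lie_smul c x y)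

/-- bracket of two submodules -/
def br (X Y : Submodule R L) : Submodule R L := map₂ (bil R L) X Y

/-- `[V, X, …, X]` -/
def lc (V X : Submodule R L) (n : ℕ) : Submodule R L := (fun Z => br Z X)^[n] V

/-- derived series -/
def ds (X : Submodule R L) (n : ℕ) : Submodule R L := (fun Z => br Z Z)^[n] X

/-- `[Z, X₁, …, Xₙ]` -/
def lcl (Z : Submodule R L) (l : List (Submodule R L)) : Submodule R L := l.foldl br Z

variable {V W X X' Y Y' Z Z' J J' : Submodule R L} {x y : L}

theorem lie_mem (hx : x ∈ X) (hy : y ∈ Y) : ⁅x, y⁆ ∈ br X Y :=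
  apply_mem_map₂ (bil R L) hx hy

theorem br_le : br X Y ≤ Z ↔ ∀ x ∈ X, ∀ y ∈ Y, ⁅x, y⁆ ∈ Z := map₂_le

theorem br_mono (h : X ≤ X') (h' : Y ≤ Y') : br X Y ≤ br X' Y' := map₂_le_map₂ h h'

theorem br_comm_le : br X Y ≤ br Y X := br_le.2 fun x hx y hy => by
  rw [← lie_skew]; exact neg_mem (lie_mem hy hx)

theorem br_iSup_left {ι : Sort*} (s : ι → Submodule R L) : br (⨆ i, s i) Y = ⨆ i, br (s i) Y :=
  map₂_iSup_left _ _ _

theorem br_iSup_right {ι : Sort*} (s : ι → Submodule R L) : br X (⨆ i, s i) = ⨆ i, br X (s i) :=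
  map₂_iSup_right _ _ _

theorem br_sup_left : br (X ⊔ X') Y = br X Y ⊔ br X' Y := map₂_sup_left _ _ _ _

@[simp] theorem br_bot_left : br ⊥ Y = ⊥ := map₂_bot_left _ _

@[simp] theorem br_bot_right : br X ⊥ = ⊥ := map₂_bot_right _ _

theorem br_span_le {s t : Set L} (h : ∀ x ∈ s, ∀ y ∈ t, ⁅x, y⁆ ∈ Z) :
    br (span R s) (span R t) ≤ Z := by
  rw [br, map₂_span_span, span_le]
  rintro _ ⟨x, hx, y, hy, rfl⟩
  exact h x hx y hy

theorem br_br_le (h : ∀ z ∈ Z, ∀ x ∈ X, ∀ y ∈ Y, ⁅⁅z, x⁆, y⁆ ∈ W) : br (br Z X) Y ≤ W := by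
  rw [show br Z X = _ from map₂_eq_span_image2 _ _ _, ← span_eq Y]
  refine br_span_le ?_
  rintro _ ⟨z, hz, x, hx, rfl⟩ y hy
  exact h z hz x hx y hy

theorem br_swap : br (br Z X) Y ≤ br (br Z Y) X ⊔ br Z (br X Y) :=
  br_br_le fun z hz x hx y hy => by
    rw [lie_lie, ← lie_skew x ⁅z, y⁆, sub_neg_eq_add, add_comm]
    exact add_mem (mem_sup_left (lie_mem (lie_mem hz hy) hx))
      (mem_sup_right (lie_mem hz (lie_mem hx hy)))

theorem br_assoc : br Z (br X Y) ≤ br (br Z X) Y ⊔ br (br Z Y) X :=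
  br_comm_le.trans (br_br_le fun x hx y hy z hz => by
    rw [← lie_skew, leibniz_lie z x y, ← lie_skew x ⁅z, y⁆]
    exact neg_mem (add_mem (mem_sup_left (lie_mem (lie_mem hz hx) hy))
      (mem_sup_right (neg_mem (lie_mem (lie_mem hz hy) hx)))))

theorem lc_succ (n : ℕ) : lc V X (n + 1) = lc (br V X) X n := rfl

theorem lc_succ' (n : ℕ) : lc V X (n + 1) = br (lc V X n) X := Function.iterate_succ_apply' _ _ _

theorem lc_add (m n : ℕ) : lc V X (m + n) = lc (lc V X m) X n := by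
  rw [lc, add_comm, Function.iterate_add_apply]; rfl

theorem lc_mono (h : V ≤ W) (h' : X ≤ Y) (n : ℕ) : lc V X n ≤ lc W Y n := by
  induction n with
  | zero => exact h
  | succ n ih => rw [lc_succ', lc_succ']; exact br_mono ih h'

theorem lc_iSup {ι : Sort*} (s : ι → Submodule R L) (n : ℕ) :
    lc (⨆ i, s i) X n = ⨆ i, lc (s i) X n := by
  induction n with
  | zero => rfl
  | succ n ih => simp only [lc_succ', ih, br_iSup_left]

theorem lc_bot (n : ℕ) : lc ⊥ X n = ⊥ := by
  induction n with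
  | zero => rfl
  | succ n ih => rw [lc_succ', ih, br_bot_left]

theorem lc_eq_bot_of_le {m n : ℕ} (h : lc V X m = ⊥) (hmn : m ≤ n) : lc V X n = ⊥ := by
  obtain ⟨k, rfl⟩ := Nat.exists_eq_add_of_le hmn
  rw [lc_add, h, lc_bot]

theorem ds_succ (n : ℕ) : ds X (n + 1) = ds (br X X) n := rfl

theorem ds_succ' (n : ℕ) : ds X (n + 1) = br (ds X n) (ds X n) :=
  Function.iterate_succ_apply' _ _ _

theorem ds_mono (h : X ≤ Y) (n : ℕ) : ds X n ≤ ds Y n := by
  induction n with
  | zero => exact h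
  | succ n ih => rw [ds_succ', ds_succ']; exact br_mono ih ih

theorem lcl_cons (l : List (Submodule R L)) : lcl Z (X :: l) = lcl (br Z X) l := rfl

theorem lcl_append (l l' : List (Submodule R L)) : lcl Z (l ++ l') = lcl (lcl Z l) l' :=
  List.foldl_append

theorem lcl_sup (l : List (Submodule R L)) : lcl (Z ⊔ Z') l = lcl Z l ⊔ lcl Z' l := by
  induction l generalizing Z Z' with
  | nil => rfl
  | cons X l ih => rw [lcl_cons, br_sup_left, ih]; rfl

theorem lcl_mono (h : Z ≤ Z') (l : List (Submodule R L)) : lcl Z l ≤ lcl Z' l := by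
  rw [← sup_eq_right.2 h, lcl_sup]; exact le_sup_left

theorem lcl_le (hY : br Y J ≤ Y) {l : List (Submodule R L)} (hl : ∀ X ∈ l, X ≤ J) :
    lcl Y l ≤ Y := by
  induction l with
  | nil => exact le_rfl
  | cons X l ih =>
    exact (lcl_mono ((br_mono le_rfl (hl X (by simp))).trans hY) l).trans
      (ih fun X hX => hl X (by simp [hX]))

theorem lcl_replicate (n : ℕ) : lcl Z (List.replicate n X) = lc Z X n := by
  induction n generalizing Z with
  | zero => rfl
  | succ n ih => rw [List.replicate_succ, lcl_cons, ih]; rfl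

theorem lcl_perm (h0 : br V J ≤ V) (hY : br Y J ≤ Y) (hc : br V (br J J) ≤ Y)
    {l l' : List (Submodule R L)} (hp : l.Perm l') (hl : ∀ X ∈ l, X ≤ J) :
    ∀ Z ≤ V, lcl Z l ≤ lcl Z l' ⊔ Y := by
  induction hp with
  | nil => exact fun _ _ => le_sup_left
  | cons X _ ih =>
    exact fun Z hZ => ih (fun X hX => hl X (by simp [hX])) _
      ((br_mono hZ (hl X (by simp))).trans h0)
  | swap X X' l =>
    intro Z hZ
    refine (lcl_mono (br_swap.trans (sup_le_sup_left ((br_mono hZ (br_mono (hl X' (by simp))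
      (hl X (by simp)))).trans hc) _)) l).trans ?_
    rw [lcl_sup]
    exact sup_le_sup_left (lcl_le hY fun X hX => hl X (by simp [hX])) _
  | trans h1 _ ih1 ih2 =>
    exact fun Z hZ => (ih1 hl Z hZ).trans (sup_le (ih2 (fun X hX => hl X (h1.mem_iff.2 hX)) Z hZ)
      le_sup_right)

/-- a vanishing sub-product kills the product, modulo `Y` -/
theorem lcl_sub {ι : Type*} (A : ι → Submodule R L) (hA : ∀ i, A i ≤ J) (h0 : br V J ≤ V)
    (hY : br Y J ≤ Y) (hc : br V (br J J) ≤ Y) (hZ : Z ≤ V) {l l' : List ι} (hs : l'.Sublist l)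
    (h : lcl Z (l'.map A) = ⊥) : lcl Z (l.map A) ≤ Y := by
  obtain ⟨l'', hp⟩ := hs.exists_perm_append
  refine (lcl_perm h0 hY hc (hp.map A) (by simpa using fun i _ => hA i) Z hZ).trans
    (sup_le ?_ le_rfl)
  rw [List.map_append, lcl_append, h]
  exact (lcl_le (J := ⊤) br_bot_left.le fun _ _ => le_top).trans bot_le

theorem lc_iSup_le {ι : Type*} (A : ι → Submodule R L) (n : ℕ)
    (h : ∀ l : List ι, l.length = n → lcl Z (l.map A) ≤ W) : lc Z (⨆ i, A i) n ≤ W := by
  induction n generalizing Z with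
  | zero => exact h [] rfl
  | succ n ih =>
    rw [lc_succ, br_iSup_right, lc_iSup]
    exact iSup_le fun i => ih fun l hl => h (i :: l) (by simp [hl])

theorem br_lc_le (h0 : br V J ≤ V) (hJ : br J' J ≤ J') (n : ℕ) : br (lc V J' n) J ≤ lc V J' n := by
  induction n with
  | zero => exact h0
  | succ n ih =>
    rw [lc_succ']
    exact br_swap.trans (sup_le (br_mono ih le_rfl) (br_mono le_rfl hJ))

theorem lc_mul_le {r : ℕ} (h : ∀ j, lc (lc V J' j) J r ≤ lc V J' (j + 1)) (n : ℕ) :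
    lc V J (r * n) ≤ lc V J' n := by
  induction n with
  | zero => exact le_rfl
  | succ n ih => rw [Nat.mul_succ, lc_add]; exact (lc_mono ih le_rfl r).trans (h n)

/-- `J` is spanned by its elements in `S` -/
def Sp (S : Set L) (J : Submodule R L) : Prop := J ≤ span R (S ∩ J)

theorem Sp.br {S : Set L} (hS : ∀ x ∈ S, ∀ y ∈ S, ⁅x, y⁆ ∈ S) (hX : Sp S X) (hY : Sp S Y) :
    Sp S (br X Y) :=
  (br_mono hX hY).trans (br_span_le fun x hx y hy =>
    subset_span ⟨hS x hx.1 y hy.1, lie_mem hx.2 hy.2⟩)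

theorem Sp.le_iSup {ι : Type*} {S : Set L} (A : ι → Submodule R L) (hS : ∀ x ∈ S, ∃ i, x ∈ A i)
    (hJ : Sp S J) : J ≤ ⨆ i, J ⊓ A i :=
  hJ.trans (span_le.2 fun x hx => (hS x hx.1).elim fun i hi => mem_iSup_of_mem i ⟨hx.2, hi⟩)

theorem sp_span (S T : Set L) : Sp S (span R (S ∩ T)) :=
  span_mono fun _ hx => ⟨hx.1, subset_span hx⟩

/-- a solvable subalgebra spanned by a bracket-closed set of elements of finitely many
nilpotently acting submodules acts nilpotently -/
theorem nil_act {T : Type*} [Finite T] {m c : ℕ} (hm : Nat.card T ≤ m) (A : T → Submodule R L)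
    (hA : ∀ t, lc ⊤ (A t) c = ⊥) {S : Set L} (hS : ∀ x ∈ S, ∀ y ∈ S, ⁅x, y⁆ ∈ S)
    (hT : ∀ x ∈ S, ∃ t, x ∈ A t) (s : ℕ) (hJ : Sp S J) (hJJ : br J J ≤ J) (hs : ds J s = ⊥) :
    lc ⊤ J ((m * c + 1) ^ s) = ⊥ := by
  classical
  induction s generalizing J with
  | zero => rw [show J = ⊥ from hs, pow_zero]; exact br_bot_right
  | succ s ih =>
    have h1 : br (br J J) J ≤ br J J := br_mono hJJ le_rfl
    rw [pow_succ', ← le_bot_iff, ← ih (hJ.br hS hJ) (br_mono hJJ hJJ) hs]
    refine lc_mul_le (fun j => (lc_mono le_rfl (hJ.le_iSup A hT) _).trans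
      (lc_iSup_le _ _ fun l hl => ?_)) _
    obtain ⟨t, ht⟩ : ∃ t, c ≤ l.count t := by
      by_contra! hn
      have := Finset.sum_le_card_nsmul l.toFinset (fun t => l.count t) c fun t _ => (hn t).le
      have := Fintype.ofFinite T
      have h2 := Finset.card_le_univ l.toFinset
      rw [List.sum_toFinset_count_eq_length, smul_eq_mul] at *
      rw [Nat.card_eq_fintype_card] at hm
      nlinarith
    refine lcl_sub _ (fun _ => inf_le_left) (br_lc_le le_top h1 j) (br_lc_le le_top h1 _)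
      (lc_succ' j).ge le_rfl (List.replicate_sublist_iff.2 ht) ?_
    rw [List.map_replicate, lcl_replicate, ← le_bot_iff, ← hA t]
    exact lc_mono le_top inf_le_right c

section Graded
variable {n : ℕ}

/-- a family closed under brackets -/
def Cl (A : ZMod n → Submodule R L) : Prop := ∀ u v, br (A u) (A v) ≤ A (u + v)

/-- the derived family -/
def dF (A : ZMod n → Submodule R L) (i : ZMod n) : Submodule R L := ⨆ u, br (A u) (A (i - u))

/-- the family generated by the components of degree at least `k` -/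
def gn (k : ℕ) (A : ZMod n → Submodule R L) (i : ZMod n) : Submodule R L :=
  ⨅ (B : ZMod n → Submodule R L) (_ : Cl B) (_ : ∀ j, k ≤ j.val → A j ≤ B j), B i

variable {A B : ZMod n → Submodule R L} {k : ℕ}

theorem dF_le (h : Cl A) : dF A ≤ A := fun i => iSup_le fun u => by simpa using h u (i - u)

theorem Cl.dF (h : Cl A) : Cl (dF A) := fun u v =>
  (br_mono (dF_le h u) (dF_le h v)).trans (le_iSup_of_le u (by simp))

theorem Cl.it (h : Cl A) (j : ℕ) : Cl (Lie.dF^[j] A) := by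
  induction j with
  | zero => exact h
  | succ j ih => rw [Function.iterate_succ_apply']; exact ih.dF

theorem it_le (h : Cl A) (j : ℕ) : dF^[j] A ≤ A := by
  induction j with
  | zero => exact le_rfl
  | succ j ih => rw [Function.iterate_succ_apply']; exact (dF_le (h.it j)).trans ih

theorem iSup_dF : ⨆ i, dF A i = br (⨆ i, A i) (⨆ i, A i) := by
  refine le_antisymm (iSup_le fun i => iSup_le fun u => br_mono (le_iSup _ _) (le_iSup _ _)) ?_
  rw [br_iSup_left]
  refine iSup_le fun u => ?_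
  rw [br_iSup_right]
  exact iSup_le fun v => le_iSup_of_le (u + v) (le_iSup_of_le u (by simp))

theorem iSup_it (j : ℕ) : ⨆ i, dF^[j] A i = ds (⨆ i, A i) j := by
  induction j with
  | zero => rfl
  | succ j ih => rw [Function.iterate_succ_apply', iSup_dF, ih, ds_succ']

theorem gn_le (hB : Cl B) (h : ∀ j, k ≤ j.val → A j ≤ B j) : gn k A ≤ B := fun _ =>
  iInf_le_of_le B (iInf_le_of_le hB (iInf_le _ h))

theorem le_gn {j : ZMod n} (hj : k ≤ j.val) : A j ≤ gn k A j :=
  le_iInf fun _ => le_iInf fun _ => le_iInf fun h => h j hj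

theorem gn_cl : Cl (gn k A) := fun u v => le_iInf fun B => le_iInf fun hB => le_iInf fun h =>
  (br_mono (gn_le hB h u) (gn_le hB h v)).trans (hB u v)

theorem br_gn_le (h : Cl A) (a u : ZMod n) :
    br (A a) (gn k A u) ≤ ⨆ (j : ZMod n) (_ : k ≤ j.val), br (A (a + u - j)) (A j) := by
  let T : ZMod n → Submodule R L := fun w => ⨆ (j : ZMod n) (_ : k ≤ j.val), br (A (w - j)) (A j)
  let B : ZMod n → Submodule R L := fun u => sSup {Y | Y ≤ A u ∧ ∀ a, br (A a) Y ≤ T (a + u)}
  have hB : ∀ u, B u ≤ A u ∧ ∀ a, br (A a) (B u) ≤ T (a + u) := fun u =>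
    ⟨sSup_le fun _ hY => hY.1, fun a => by
      simp only [B, sSup_eq_iSup', br_iSup_right]
      exact iSup_le fun Y => Y.2.2 a⟩
  refine (br_mono le_rfl (gn_le (B := B) (fun u v => le_sSup ⟨?_, fun a => ?_⟩)
    (fun j hj => le_sSup ⟨le_rfl, fun a => ?_⟩) u)).trans ((hB u).2 a)
  · exact (br_mono (hB u).1 (hB v).1).trans (h u v)
  · refine br_assoc.trans (sup_le ?_ ?_)
    · exact (br_mono ((br_mono le_rfl (hB u).1).trans (h a u)) le_rfl).trans
        (((hB v).2 _).trans (by rw [add_assoc]))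
    · exact (br_mono ((br_mono le_rfl (hB v).1).trans (h a v)) le_rfl).trans
        (((hB u).2 _).trans (by rw [add_assoc, add_comm v]))
  · exact le_iSup₂_of_le j hj (by simp)

theorem gn_br_zero (h : Cl A) (i : ZMod n) : br (gn k A i) (A 0) ≤ gn k A i := by
  let B : ZMod n → Submodule R L := fun u => sSup {Y | Y ≤ gn k A u ∧ br Y (A 0) ≤ gn k A u}
  have hB : ∀ u, B u ≤ gn k A u ∧ br (B u) (A 0) ≤ gn k A u := fun u =>
    ⟨sSup_le fun _ hY => hY.1, by
      simp only [B, sSup_eq_iSup', br_iSup_left]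
      exact iSup_le fun Y => Y.2.2⟩
  refine (br_mono (gn_le (B := B) (fun u v => le_sSup ⟨?_, ?_⟩)
    (fun j hj => le_sSup ⟨le_gn hj, ?_⟩) i) le_rfl).trans (hB i).2
  · exact (br_mono (hB u).1 (hB v).1).trans (gn_cl u v)
  · exact br_swap.trans (sup_le ((br_mono (hB u).2 (hB v).1).trans (gn_cl u v))
      ((br_mono (hB u).1 (hB v).2).trans (gn_cl u v)))
  · exact (h j 0).trans (by rw [add_zero]; exact le_gn hj)

/-- Kreknin's induction hypothesis -/
def Kr (Λ : ZMod n → Submodule R L) (k g : ℕ) : Prop := ∀ A ≤ Λ, Cl A → dF^[g] A ≤ gn k A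

theorem Kr.step [NeZero n] {Λ : ZMod n → Submodule R L} {g m : ℕ} (hk : k < n)
    (hm : ∀ i, lc (Λ i) (Λ 0) m = ⊥) (h : Kr Λ k g) : Kr Λ (k + 1) (g + (g + 1) * m) := by
  intro A hA hc
  have hκ : (k : ZMod n).val = k := ZMod.val_cast_of_lt hk
  have one : ∀ B ≤ A, Cl B → dF^[g + 1] B k ≤ br (B k) (A 0) ⊔ gn (k + 1) A k := by
    intro B hB hcB
    rw [Function.iterate_succ_apply']
    refine iSup_le fun u => (br_mono (it_le hcB g u) (h B (hB.trans hA) hcB _)).trans
      ((br_gn_le hcB _ _).trans (iSup₂_le fun j hj => ?_))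
    rw [add_sub_cancel]
    rcases hj.eq_or_lt with hj | hj
    · obtain rfl : j = k := ZMod.val_injective n (by rw [hκ, hj])
      rw [sub_self]
      exact br_comm_le.trans ((br_mono le_rfl (hB 0)).trans le_sup_left)
    · have h1 : k + 1 ≤ ((k : ZMod n) - j).val := by
        have h2 := ZMod.val_add ((k : ZMod n) - j) j
        have h3 := ZMod.val_lt j
        rw [sub_add_cancel, hκ] at h2
        by_contra h4
        rcases lt_or_ge (((k : ZMod n) - j).val + j.val) n with h5 | h5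
        · rw [Nat.mod_eq_of_lt h5] at h2; omega
        · rw [Nat.mod_eq_sub_mod h5, Nat.mod_eq_of_lt (by omega)] at h2; omega
      refine ((br_mono ((hB _).trans (le_gn h1)) ((hB _).trans (le_gn hj))).trans
        (gn_cl _ _)).trans ?_
      rw [sub_add_cancel]; exact le_sup_right
  have many : ∀ t, dF^[(g + 1) * t] A k ≤ lc (A k) (A 0) t ⊔ gn (k + 1) A k := by
    intro t
    induction t with
    | zero => exact le_sup_left
    | succ t ih =>
      rw [Nat.mul_succ, add_comm, Function.iterate_add_apply, lc_succ']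
      refine (one _ (it_le hc _) (hc.it _)).trans (sup_le ((br_mono ih le_rfl).trans ?_)
        le_sup_right)
      rw [br_sup_left]
      exact sup_le_sup_left (gn_br_zero hc _) _
  rw [Function.iterate_add_apply]
  refine (h _ ((it_le hc _).trans hA) (hc.it _)).trans (gn_le gn_cl fun j hj => ?_)
  rcases hj.eq_or_lt with hj | hj
  · obtain rfl : j = k := ZMod.val_injective n (by rw [hκ, hj])
    exact (many m).trans (sup_le (((lc_mono (hA _) (hA _) m).trans (hm _).le).trans bot_le) le_rfl)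
  · exact (it_le hc _ j).trans (le_gn hj)

theorem Kr.ds [NeZero n] {g : ℕ} (h : Kr A n g) (hc : Cl A) : ds (⨆ i, A i) g = ⊥ := by
  rw [← iSup_it, ← le_bot_iff]
  exact iSup_le fun i => (h A le_rfl hc i).trans (gn_le (B := fun _ => ⊥) (fun _ _ => by simp)
    (fun j hj => absurd (ZMod.val_lt j) (by omega)) i)

/-- the bound in the general form of Kreknin's theorem -/
def kf (m : ℕ) : ℕ → ℕ
  | 0 => 0
  | k + 1 => kf m k + (kf m k + 1) * m

theorem kreknin_gen [NeZero n] {m : ℕ} (hc : Cl A) (hm : ∀ i, lc (A i) (A 0) m = ⊥) :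
    ds (⨆ i, A i) (kf m n) = ⊥ := by
  have : ∀ k ≤ n, Kr A k (kf m k) := fun k hk => by
    induction k with
    | zero => exact fun B _ _ j => le_gn (Nat.zero_le _)
    | succ k ih => exact (ih (by omega)).step hk hm
  exact (this n le_rfl).ds hc

theorem kreknin [NeZero n] (hc : Cl A) (h0 : A 0 = ⊥) : ds (⨆ i, A i) (2 ^ (n - 1) - 1) = ⊥ := by
  have : ∀ k, k + 1 ≤ n → Kr A (k + 1) (2 ^ k - 1) := fun k hk => by
    induction k with
    | zero =>
      intro B hB _ j
      rcases Nat.eq_zero_or_pos j.val with hj | hj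
      · rw [(ZMod.val_eq_zero j).1 hj]
        exact ((hB 0).trans h0.le).trans bot_le
      · exact le_gn hj
    | succ k ih =>
      have := (ih (by omega)).step (m := 1) hk fun i => by rw [lc_succ', h0, br_bot_right]
      have h2 : 0 < 2 ^ k := by positivity
      rwa [show 2 ^ k - 1 + (2 ^ k - 1 + 1) * 1 = 2 ^ (k + 1) - 1 by rw [pow_succ]; omega] at this
  have hn := NeZero.pos n
  have h1 := this (n - 1) (by omega)
  rw [show n - 1 + 1 = n by omega] at h1
  exact h1.ds hc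

theorem lcl_deg (hc : Cl A) (l : List (ZMod n)) (a : ZMod n) :
    lcl (A a) (l.map A) ≤ A (a + l.sum) := by
  induction l generalizing a with
  | nil => simp [lcl]
  | cons d l ih =>
    rw [List.map_cons, lcl_cons, List.sum_cons, ← add_assoc]
    exact (lcl_mono (hc a d) _).trans (ih _)

theorem exists_sublist_sum {p : ℕ} [hp : Fact p.Prime] (l : List (ZMod p)) (hl : (0 : ZMod p) ∉ l)
    (hn : l.length = p - 1) (a : ZMod p) : ∃ l' : List (ZMod p), l'.Sublist l ∧ l'.sum = a := by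
  have key : ∀ l : List (ZMod p), (0 : ZMod p) ∉ l → ∃ s : Finset (ZMod p),
      min p (l.length + 1) ≤ s.card ∧ ∀ a ∈ s, ∃ l' : List (ZMod p), l'.Sublist l ∧ l'.sum = a := by
    intro l hl
    induction l with
    | nil => exact ⟨{0}, by simp, by simp⟩
    | cons d l ih =>
      obtain ⟨s, h1, h2⟩ := ih fun h => hl (by simp [h])
      have hd : (0 : ZMod p) ≠ d := fun h => hl (by simp [h])
      have hs : s.Nonempty := Finset.card_pos.1 (by have := hp.out.pos; omega)
      have h3 := ZMod.cauchy_davenport hp.out hs (t := {0, d}) (by simp)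
      rw [Finset.card_pair hd] at h3
      refine ⟨_, le_trans (by rw [List.length_cons]; omega) h3, fun a ha => ?_⟩
      obtain ⟨b, hb, c, hc, rfl⟩ := Finset.mem_add.1 ha
      obtain ⟨l', h4, rfl⟩ := h2 b hb
      rcases Finset.mem_insert.1 hc with rfl | hc
      · exact ⟨l', h4.cons d, by simp⟩
      · exact ⟨d :: l', h4.cons₂ d, by simp [Finset.mem_singleton.1 hc, add_comm]⟩
  obtain ⟨s, h1, h2⟩ := key l hl
  have := hp.out.pos
  refine h2 a (Finset.eq_univ_of_card s (le_antisymm (Finset.card_le_univ s) ?_) ▸ Finset.mem_univ a)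
  rw [ZMod.card]; omega

theorem kostrikin {p : ℕ} [hp : Fact p.Prime] {A : ZMod p → Submodule R L} (hc : Cl A)
    (h0 : A 0 = ⊥) (s : ℕ) (hJ : Sp (⋃ i, A i) J) (hJJ : br J J ≤ J) (hs : ds J s = ⊥) :
    lc J J (∑ i ∈ Finset.range s, (p - 1) ^ i) = ⊥ := by
  have hS : ∀ x ∈ (⋃ i, A i : Set L), ∀ y ∈ (⋃ i, A i : Set L), ⁅x, y⁆ ∈ (⋃ i, A i : Set L) := by
    simp only [Set.mem_iUnion]
    rintro x ⟨u, hx⟩ y ⟨v, hy⟩
    exact ⟨u + v, hc u v (lie_mem hx hy)⟩
  have hT : ∀ x ∈ (⋃ i, A i : Set L), ∃ i, x ∈ A i := fun x hx => Set.mem_iUnion.1 hx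
  induction s generalizing J with
  | zero => exact hs
  | succ s ih =>
    have h1 : br (br J J) J ≤ br J J := br_mono hJJ le_rfl
    have h2 : ∀ j, Sp (⋃ i, A i) (lc (br J J) (br J J) j) := fun j => by
      induction j with
      | zero => exact hJ.br hS hJ
      | succ j ih => rw [lc_succ']; exact ih.br hS (hJ.br hS hJ)
    rw [Finset.sum_range_succ', pow_zero, lc_succ, ← le_bot_iff,
      ← ih (hJ.br hS hJ) (br_mono hJJ hJJ) hs]
    simp only [pow_succ', ← Finset.mul_sum]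
    refine lc_mul_le (fun j => (lc_mono ((h2 j).le_iSup A hT) (hJ.le_iSup A hT) _).trans ?_) _
    rw [lc_iSup]
    refine iSup_le fun a => lc_iSup_le _ _ fun l hl => ?_
    obtain ⟨l', h3, h4⟩ : ∃ l' : List (ZMod p), l'.Sublist l ∧
        lcl (lc (br J J) (br J J) j ⊓ A a) (l'.map fun i => J ⊓ A i) = ⊥ := by
      by_cases h3 : (0 : ZMod p) ∈ l
      · exact ⟨[0], List.singleton_sublist.2 h3, by simp [lcl, h0]⟩
      · obtain ⟨l', h4, h5⟩ := exists_sublist_sum l h3 hl (-a)
        refine ⟨l', h4, le_bot_iff.1 ((lcl_mono inf_le_right _).trans ?_)⟩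
        have := lcl_deg (A := A) hc l' a
        rw [h5, add_neg_cancel, h0] at this
        refine le_trans ?_ this
        clear this h4 h5
        generalize A a = Z
        induction l' generalizing Z with
        | nil => exact le_rfl
        | cons d l' ih => exact (lcl_mono (br_mono le_rfl inf_le_right) _).trans (ih _)
    exact lcl_sub _ (fun _ => inf_le_left) (br_lc_le h1 h1 j) (br_lc_le h1 h1 _)
      (lc_succ' j).ge inf_le_left h3 h4

theorem sp_iSup (A : ZMod n → Submodule R L) : Sp (⋃ i, A i) (⨆ i, A i) :=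
  iSup_le fun i _ hx => subset_span ⟨Set.mem_iUnion.2 ⟨i, hx⟩, mem_iSup_of_mem i hx⟩

/-- Higman, Kreknin, Kostrikin -/
theorem hkk {p : ℕ} [hp : Fact p.Prime] {A : ZMod p → Submodule R L} (hc : Cl A) (h0 : A 0 = ⊥) :
    lc (⨆ i, A i) (⨆ i, A i) (∑ i ∈ Finset.range (2 ^ (p - 1) - 1), (p - 1) ^ i) = ⊥ :=
  kostrikin hc h0 _ (sp_iSup A) (iSup_dF.ge.trans (iSup_mono (dF_le hc))) (kreknin hc h0)

theorem hkk3 {A : ZMod 3 → Submodule R L} (hc : Cl A) (h0 : A 0 = ⊥) :
    lc (⨆ i, A i) (⨆ i, A i) 2 = ⊥ := by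
  rw [lc_iSup, ← le_bot_iff]
  refine iSup_le fun a => lc_iSup_le _ _ fun l hl => ?_
  obtain ⟨b, c, rfl⟩ := List.length_eq_two.1 hl
  show br (br (A a) (A b)) (A c) ≤ ⊥
  have z : ∀ u v, u + v = 0 → br (A u) (A v) = ⊥ := fun u v h =>
    le_bot_iff.1 ((hc u v).trans (by rw [h, h0]))
  have : a = 0 ∨ b = 0 ∨ c = 0 ∨ a + b = 0 ∨ a + b + c = 0 ∨ (a + c = 0 ∧ b + c = 0) := by
    revert a b c; decide
  rcases this with rfl | rfl | rfl | h | h | ⟨h, h'⟩
  · simp [h0]
  · simp [h0]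
  · simp [h0]
  · simp [z _ _ h]
  · exact (br_mono (hc a b) le_rfl).trans (z _ _ h).le
  · exact br_swap.trans (by simp [z _ _ h, z _ _ h'])

/-- the bound of `core` -/
def cf (n m c s : ℕ) : ℕ := (m * c + 1) ^ kf ((m * c + 1) ^ s) n

theorem core [NeZero n] {T : Type*} [Finite T] {m c s : ℕ} (hm : Nat.card T ≤ m)
    (X : T → Submodule R L) (hX : ∀ t, lc ⊤ (X t) c = ⊥) {S : Set L}
    (hS : ∀ x ∈ S, ∀ y ∈ S, ⁅x, y⁆ ∈ S) (hT : ∀ x ∈ S, ∃ t, x ∈ X t) (hc : Cl A)
    (hA : ∀ x ∈ S, ∃ i, x ∈ A i) (hs : ds (A 0) s = ⊥) (hsp : span R S = ⊤) :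
    lc (⊤ : Submodule R L) ⊤ (cf n m c s) = ⊥ := by
  let B : ZMod n → Submodule R L := fun i => span R (S ∩ A i)
  have hB : Cl B := fun u v => br_span_le fun x hx y hy =>
    subset_span ⟨hS x hx.1 y hy.1, hc u v (lie_mem hx.2 hy.2)⟩
  have h1 := nil_act hm X hX hS hT s (sp_span S (A 0)) (by simpa using hB 0 0)
    (le_bot_iff.1 ((ds_mono (span_le.2 Set.inter_subset_right) s).trans hs.le))
  have h2 := kreknin_gen hB fun i => le_bot_iff.1 ((lc_mono le_top le_rfl _).trans h1.le)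
  have h3 : ⨆ i, B i = ⊤ := top_le_iff.1 (hsp.ge.trans (span_le.2 fun x hx =>
    (hA x hx).elim fun i hi => mem_iSup_of_mem i (subset_span ⟨hx, hi⟩)))
  rw [h3] at h2
  exact nil_act hm X hX hS hT _ (by simpa [Sp] using hsp) le_top h2

end Graded

end H25.Lie
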