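/- The Lie ring associated with the lower central series of a group, and its extension of
scalars. -/
import Cfsg.Agent.H25.LieG
import Cfsg.Agent.H19.HallPetrescu

set_option autoImplicit false

namespace H25.Lie
open Subgroup
open scoped commutatorElement DirectSum TensorProduct

universe u
variable {G : Type u} [Group G]

/-- lower central series of `G`, `γ G 0 = G` -/
abbrev γ (G : Type u) [Group G] (i : ℕ) : Subgroup G := (⊤ : Subgroup G).lowerCentralSeries i

variable {i j k : ℕ} {g g' h h' : G}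

theorem γ_comm (hg : g ∈ γ G i) (hh : h ∈ γ G j) : ⁅g, h⁆ ∈ γ G (i + j + 1) :=
  H19.top_lcs_commutator_le i j (commutator_mem_commutator hg hh)

theorem γ_anti (h : i ≤ j) : γ G j ≤ γ G i := Subgroup.lowerCentralSeries_antitone _ h

theorem γ_comm' (h : G) (hg : g ∈ γ G i) : ⁅h, g⁆ ∈ γ G (i + 1) := by
  simpa using γ_comm (i := 0) (mem_top h) hg

theorem γ_map (φ : G →* G) (hg : g ∈ γ G i) : φ g ∈ γ G i := by
  have := map_lowerCentralSeries (⊤ : Subgroup G) φ i ▸ mem_map_of_mem φ hg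
  exact Subgroup.lowerCentralSeries_mono i le_top this

/-- a lower central factor -/
def Q (G : Type u) [Group G] (i : ℕ) : Type u := γ G i ⧸ (γ G (i + 1)).subgroupOf (γ G i)

instance : CommGroup (Q G i) :=
  { QuotientGroup.Quotient.group _ with
    mul_comm := fun a b => QuotientGroup.induction_on a fun a => QuotientGroup.induction_on b
      fun b => QuotientGroup.eq.2 (by
        have := γ_comm' (b⁻¹ : G) (inv_mem a.2)
        rw [mem_subgroupOf]
        convert this using 1
        simp [commutatorElement_def, mul_assoc]) }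

/-- the associated Lie ring -/
def LG (G : Type u) [Group G] : Type u := ⨁ i, Additive (Q G i)

instance : AddCommGroup (LG G) := inferInstanceAs (AddCommGroup (⨁ i, Additive (Q G i)))

/-- inclusion of a factor -/
def inc (i : ℕ) : Additive (Q G i) →+ LG G := DirectSum.of (fun i => Additive (Q G i)) i

/-- projection to a factor -/
def prj (i : ℕ) : γ G i →* Q G i := QuotientGroup.mk' _

open Classical in
/-- the class of `g` in the `i`-th factor -/
noncomputable def cls (i : ℕ) (g : G) : LG G :=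
  if h : g ∈ γ G i then inc i (Additive.ofMul (prj i ⟨g, h⟩)) else 0

theorem cls_eq (hg : g ∈ γ G i) : cls i g = inc i (Additive.ofMul (prj i ⟨g, hg⟩)) := dif_pos hg

theorem cls_mul (hg : g ∈ γ G i) (hh : h ∈ γ G i) : cls i (g * h) = cls i g + cls i h := by
  rw [cls_eq hg, cls_eq hh, cls_eq (mul_mem hg hh), ← map_add, ← ofMul_mul, ← map_mul]
  rfl

theorem cls_eq_zero (hg : g ∈ γ G i) : cls i g = 0 ↔ g ∈ γ G (i + 1) := by
  have : Function.Injective (inc (G := G) i) :=
    DirectSum.of_injective (β := fun i => Additive (Q G i)) i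
  rw [cls_eq hg, map_eq_zero_iff _ this, ofMul_eq_zero]
  exact (QuotientGroup.eq_one_iff (⟨g, hg⟩ : γ G i)).trans mem_subgroupOf

theorem cls_zero (hg : g ∈ γ G (i + 1)) : cls i g = 0 :=
  (cls_eq_zero (γ_anti (Nat.le_succ i) hg)).2 hg

theorem cls_conj (h : G) (hg : g ∈ γ G i) : cls i (h * g * h⁻¹) = cls i g := by
  rw [show h * g * h⁻¹ = ⁅h, g⁆ * g by simp [commutatorElement_def],
    cls_mul (γ_anti (Nat.le_succ i) (γ_comm' h hg)) hg, cls_zero (γ_comm' h hg), zero_add]

theorem LG.ind {P : LG G → Prop} (x : LG G) (h1 : ∀ i g, g ∈ γ G i → P (cls i g))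
    (h2 : ∀ x y, P x → P y → P (x + y)) : P x := by
  refine DirectSum.induction_on (β := fun i => Additive (Q G i)) x ?_ (fun i q => ?_) h2
  · exact (cls_zero (one_mem (γ G (0 + 1)))).subst (h1 0 1 (one_mem _))
  · obtain ⟨g, hg⟩ := QuotientGroup.mk_surjective (Additive.toMul q)
    have := h1 i g g.2
    rwa [cls_eq g.2, show prj (G := G) i ⟨g, g.2⟩ = q.toMul from hg] at this

theorem LG.lift {M : Type*} [AddCommGroup M] (f : ℕ → G → M)
    (h1 : ∀ i, ∀ g ∈ γ G i, ∀ h ∈ γ G i, f i (g * h) = f i g + f i h)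
    (h2 : ∀ i, ∀ g ∈ γ G (i + 1), f i g = 0) :
    ∃ F : LG G →+ M, ∀ i, ∀ g ∈ γ G i, F (cls i g) = f i g := by
  refine ⟨DirectSum.toAddMonoid (β := fun i => Additive (Q G i)) fun i =>
    MonoidHom.toAdditiveLeft (QuotientGroup.lift _ (MonoidHom.mk'
      (fun g : γ G i => Multiplicative.ofAdd (f i g)) fun a b => h1 i a a.2 b b.2)
      fun g hg => h2 i g hg), fun i g hg => ?_⟩
  rw [cls_eq hg]
  exact DirectSum.toAddMonoid_of (β := fun i => Additive (Q G i)) _ _ _

theorem LG.ext {M : Type*} [AddCommGroup M] {f f' : LG G →+ M}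
    (h : ∀ i, ∀ g ∈ γ G i, f (cls i g) = f' (cls i g)) : f = f' :=
  AddMonoidHom.ext fun x => LG.ind (P := fun x => f x = f' x) x h fun x y hx hy => by
    rw [map_add, map_add, hx, hy]

theorem exists_br (G : Type u) [Group G] : ∃ B : LG G →+ LG G →+ LG G, ∀ i j, ∀ g ∈ γ G i,
    ∀ h ∈ γ G j, B (cls i g) (cls j h) = cls (i + j + 1) ⁅g, h⁆ := by
  classical
  have one : ∀ i (g : G), ∃ F : LG G →+ LG G, g ∈ γ G i → ∀ j, ∀ h ∈ γ G j,
      F (cls j h) = cls (i + j + 1) ⁅g, h⁆ := fun i g => by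
    by_cases hg : g ∈ γ G i
    · refine (LG.lift (fun j h => cls (i + j + 1) ⁅g, h⁆) (fun j h hh h' hh' => ?_)
        fun j h hh => cls_zero (γ_comm (j := j + 1) hg hh)).imp fun _ h _ => h
      rw [← cls_conj h (γ_comm hg hh'), ← cls_mul (γ_comm hg hh)
        (Normal.conj_mem inferInstance _ (γ_comm hg hh') h)]
      simp [commutatorElement_def, mul_assoc]
    · exact ⟨0, fun h => absurd h hg⟩
  choose F hF using one
  refine (LG.lift F (fun i g hg g' hg' => LG.ext fun j h hh => ?_)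
    (fun i g hg => LG.ext fun j h hh => ?_)).imp fun B hB i j g hg h hh => by
      rw [hB i g hg, hF i g hg j h hh]
  · rw [AddMonoidHom.add_apply, hF i _ (mul_mem hg hg') j h hh, hF i g hg j h hh,
      hF i g' hg' j h hh, ← cls_conj g (γ_comm hg' hh), add_comm (cls _ ⁅g, h⁆), ← cls_mul
        (Normal.conj_mem inferInstance _ (γ_comm hg' hh) g) (γ_comm hg hh)]
    simp [commutatorElement_def, mul_assoc]
  · rw [hF i g (γ_anti (Nat.le_succ i) hg) j h hh]
    exact cls_zero (γ_anti (by omega) (γ_comm hg hh))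

noncomputable instance : Bracket (LG G) (LG G) := ⟨fun x y => (exists_br G).choose x y⟩

theorem cls_lie (hg : g ∈ γ G i) (hh : h ∈ γ G j) :
    ⁅cls i g, cls j h⁆ = cls (i + j + 1) ⁅g, h⁆ := (exists_br G).choose_spec i j g hg h hh

theorem LG.add_lie (x y z : LG G) : ⁅x + y, z⁆ = ⁅x, z⁆ + ⁅y, z⁆ := by
  show (exists_br G).choose (x + y) z = _
  rw [map_add]; rfl

theorem LG.lie_add (x y z : LG G) : ⁅x, y + z⁆ = ⁅x, y⁆ + ⁅x, z⁆ :=
  map_add ((exists_br G).choose x) y z

theorem LG.skew (x y : LG G) : ⁅x, y⁆ + ⁅y, x⁆ = 0 := by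
  induction x using LG.ind with
  | h2 x x' hx hx' => rw [LG.add_lie, LG.lie_add, add_add_add_comm, hx, hx', add_zero]
  | h1 i g hg =>
    induction y using LG.ind with
    | h2 x x' hx hx' => rw [LG.add_lie, LG.lie_add, add_add_add_comm, hx, hx', add_zero]
    | h1 j h hh =>
      rw [cls_lie hg hh, cls_lie hh hg, add_comm j, ← cls_mul (γ_comm hg hh)
        (add_comm j i ▸ γ_comm hh hg), ← commutatorElement_inv g h, mul_inv_cancel]
      exact cls_zero (one_mem _)

theorem LG.jacobi (x y z : LG G) : ⁅⁅x, y⁆, z⁆ + ⁅⁅y, z⁆, x⁆ + ⁅⁅z, x⁆, y⁆ = 0 := by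
  induction x using LG.ind with
  | h2 x x' hx hx' =>
    simp only [LG.add_lie, LG.lie_add]
    rw [← add_zero 0]; nth_rw 1 [← hx]; rw [← hx']; abel
  | h1 i g hg =>
  induction y using LG.ind with
  | h2 x x' hx hx' =>
    simp only [LG.add_lie, LG.lie_add]
    rw [← add_zero 0]; nth_rw 1 [← hx]; rw [← hx']; abel
  | h1 j h hh =>
  induction z using LG.ind with
  | h2 x x' hx hx' =>
    simp only [LG.add_lie, LG.lie_add]
    rw [← add_zero 0]; nth_rw 1 [← hx]; rw [← hx']; abel
  | h1 k l hl =>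
    have c : ∀ {i : ℕ} {g : G} (h : G), g ∈ γ G i → h * g * h⁻¹ ∈ γ G i := fun h hg =>
      Normal.conj_mem inferInstance _ hg h
    have e1 := γ_comm (γ_comm hg hh) (c h hl)
    have e2 := γ_comm (γ_comm hh hl) (c l hg)
    have e3 := γ_comm (γ_comm hl hg) (c g hh)
    rw [cls_lie hg hh, cls_lie hh hl, cls_lie hl hg, ← cls_conj h hl, ← cls_conj l hg,
      ← cls_conj g hh, cls_lie (γ_comm hg hh) (c h hl), cls_lie (γ_comm hh hl) (c l hg),
      cls_lie (γ_comm hl hg) (c g hh)]
    rw [show j + k + 1 + i + 1 = i + j + 1 + k + 1 by omega] at e2 ⊢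
    rw [show k + i + 1 + j + 1 = i + j + 1 + k + 1 by omega] at e3 ⊢
    rw [← cls_mul e1 e2, ← cls_mul (mul_mem e1 e2) e3]
    refine cls_zero (Eq.subst (motive := fun x => x ∈ _) ?_ (one_mem _))
    simp only [commutatorElement_def]
    group

noncomputable instance : LieRing (LG G) where
  add_lie := LG.add_lie
  lie_add := LG.lie_add
  lie_self x := by
    induction x using LG.ind with
    | h1 i g hg => rw [cls_lie hg hg, commutatorElement_self]; exact cls_zero (one_mem _)
    | h2 x y hx hy =>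
      rw [LG.add_lie, LG.lie_add, LG.lie_add, hx, hy, zero_add, add_zero, LG.skew]
  leibniz_lie x y z := by
    have h1 := LG.jacobi x y z
    have h2 := LG.skew x ⁅y, z⁆
    have h3 := LG.skew y ⁅x, z⁆
    have h4 : ⁅⁅z, x⁆, y⁆ + ⁅⁅x, z⁆, y⁆ = 0 := by
      rw [← LG.add_lie, LG.skew]
      show (exists_br G).choose 0 y = 0
      rw [map_zero]; rfl
    rw [eq_neg_of_add_eq_zero_left h2, eq_neg_of_add_eq_zero_left h3,
      ← eq_neg_of_add_eq_zero_left h4, neg_eq_iff_add_eq_zero, ← h1]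
    abel

/-- an `R`-form of the associated Lie ring -/
structure Model (R : Type*) (G : Type u) (L : Type*) [CommRing R] [Group G] [LieRing L]
    [LieAlgebra R L] where
  e : ℕ → G → L
  mul : ∀ {i g h}, g ∈ γ G i → h ∈ γ G i → e i (g * h) = e i g + e i h
  zero_iff : ∀ {i g}, g ∈ γ G i → (e i g = 0 ↔ g ∈ γ G (i + 1))
  lie : ∀ {i j g h}, g ∈ γ G i → h ∈ γ G j → ⁅e i g, e j h⁆ = e (i + j + 1) ⁅g, h⁆
  span : Submodule.span R {x | ∃ i g, g ∈ γ G i ∧ e i g = x} = ⊤
  act : ∀ φ : G →* G, ∃ f : L →ₗ[R] L, ∀ i g, g ∈ γ G i → f (e i g) = e i (φ g)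

theorem exists_model (R : Type) [CommRing R] [Nontrivial R] [Module.Free ℤ R] (G : Type u)
    [Group G] : Nonempty (Model R G (R ⊗[ℤ] LG G)) := by
  refine ⟨⟨fun i g => 1 ⊗ₜ cls i g, fun hg hh => ?_, fun hg => ?_, fun hg hh => ?_, ?_,
    fun φ => ?_⟩⟩
  · rw [cls_mul hg hh, TensorProduct.tmul_add]
  · rw [Module.FaithfullyFlat.one_tmul_eq_zero_iff, cls_eq_zero hg]
  · rw [LieAlgebra.ExtendScalars.bracket_tmul, cls_lie hg hh, one_mul]
  · refine top_le_iff.1 fun x _ => ?_
    induction x using TensorProduct.induction_on with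
    | zero => exact zero_mem _
    | add x y hx hy => exact add_mem (hx trivial) (hy trivial)
    | tmul r x =>
      induction x using LG.ind with
      | h2 x y hx hy => rw [TensorProduct.tmul_add]; exact add_mem (hx trivial) (hy trivial)
      | h1 i g hg =>
        rw [← mul_one r, ← smul_eq_mul, ← TensorProduct.smul_tmul']
        exact Submodule.smul_mem _ _ (Submodule.subset_span ⟨i, g, hg, rfl⟩)
  · obtain ⟨F, hF⟩ := LG.lift (fun i g => cls i (φ g))
      (fun i g hg h hh => by rw [map_mul, cls_mul (γ_map φ hg) (γ_map φ hh)])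
      fun i g hg => cls_zero (γ_map φ hg)
    exact ⟨F.toIntLinearMap.baseChange R, fun i g hg => by
      rw [LinearMap.baseChange_tmul, AddMonoidHom.coe_toIntLinearMap, hF i g hg]⟩

theorem exists_root (p : ℕ) (hp : 0 < p) : ∃ (R : Type) (_ : CommRing R) (_ : IsDomain R)
    (_ : Module.Free ℤ R) (ω : R), IsPrimitiveRoot ω p := by
  have : NeZero p := ⟨hp.ne'⟩
  have : NeZero (p : ℚ) := ⟨by exact_mod_cast hp.ne'⟩
  exact ⟨NumberField.RingOfIntegers (CyclotomicField p ℚ), inferInstance, inferInstance,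
    inferInstance, _, (@IsCyclotomicExtension.zeta_spec p _ ℚ (CyclotomicField p ℚ) _ _
      (CyclotomicField.algebra p ℚ)
      (CyclotomicField.isCyclotomicExtension p ℚ)).toInteger_isPrimitiveRoot⟩

end H25.Lie
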