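/- Working with the associated Lie ring: automorphisms, eigenspaces, Higman's theorem and its
almost fixed-point-free form. -/
import Cfsg.Agent.H25.LieA

set_option autoImplicit false

namespace H25.Lie
open Submodule
open scoped commutatorElement

universe u
variable {R L : Type*} [CommRing R] [LieRing L] [LieAlgebra R L]

section Eig
variable {p : ℕ} {ω : R} {f : Module.End R L}

/-- eigenspaces of `f` for the powers of `ω` -/
def eig (ω : R) (f : Module.End R L) (i : ZMod p) : Submodule R L := f.eigenspace (ω ^ i.val)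

theorem mem_eig {i : ZMod p} {x : L} : x ∈ eig ω f i ↔ f x = ω ^ i.val • x :=
  Module.End.mem_eigenspace_iff

theorem mem_eig_zero {x : L} : x ∈ eig ω f (0 : ZMod p) ↔ f x = x := by simp [mem_eig]

theorem eig_cl [NeZero p] (hω : ω ^ p = 1) (hf : ∀ x y, f ⁅x, y⁆ = ⁅f x, f y⁆) :
    Cl (eig ω f : ZMod p → _) := fun u v => br_le.2 fun x hx y hy => by
  rw [mem_eig] at *
  rw [hf, hx, hy, smul_lie, lie_smul, smul_smul, ← pow_add, ZMod.val_add, ← pow_eq_pow_mod _ hω]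

theorem eig_decomp [IsDomain R] (hp : p.Prime) (hω : IsPrimitiveRoot ω p) (hf : f ^ p = 1)
    {W : Submodule R L} (hW : ∀ x ∈ W, f x ∈ W) {x : L} (hx : x ∈ W) :
    p • x ∈ ⨆ i : ZMod p, W ⊓ eig ω f i := by
  have : NeZero p := ⟨hp.ne_zero⟩
  have hW' : ∀ j, (f ^ j) x ∈ W := fun j => by
    induction j with
    | zero => exact hx
    | succ j ih => rw [pow_succ']; exact hW _ ih
  have e : p • x = ∑ i ∈ Finset.range p, ∑ j ∈ Finset.range p, (ω ^ i) ^ (p - j) • (f ^ j) x := by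
    rw [Finset.sum_comm, Finset.sum_eq_single_of_mem 0 (Finset.mem_range.2 hp.pos)]
    · simp only [← pow_mul, mul_comm _ p, Nat.sub_zero]
      simp [pow_mul, hω.pow_eq_one]
    · intro j hj h0
      have hj := Finset.mem_range.1 hj
      have := (hω.pow_of_coprime (p - j) ((Nat.coprime_of_lt_prime (by omega) (by omega)
        hp).symm)).geom_sum_eq_zero hp.one_lt
      simp only [← Finset.sum_smul, ← pow_mul, mul_comm _ (p - j)]
      simp only [pow_mul, this, zero_smul]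
  rw [e]
  refine sum_mem fun i hi => mem_iSup_of_mem (i : ZMod p)
    ⟨sum_mem fun j _ => smul_mem _ _ (hW' j), mem_eig.2 ?_⟩
  rw [ZMod.val_cast_of_lt (Finset.mem_range.1 hi), map_sum, Finset.smul_sum]
  have h1 : (ω ^ i) ^ p = 1 := by rw [← pow_mul, mul_comm, pow_mul, hω.pow_eq_one, one_pow]
  generalize ω ^ i = l at h1
  have h2 := Finset.sum_range_succ (fun j => l ^ (p + 1 - j) • (f ^ j) x) p
  rw [Finset.sum_range_succ'] at h2
  simp only [hf, pow_zero, Nat.sub_zero, pow_succ l p, h1, one_mul, Nat.add_sub_cancel_left,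
    pow_one, add_left_inj, Nat.add_sub_add_right] at h2
  convert h2 using 1 <;> refine Finset.sum_congr rfl fun j hj => ?_
  · rw [map_smul, pow_succ' f]; rfl
  · rw [smul_smul, ← pow_succ', Nat.succ_sub (Finset.mem_range.1 hj).le]

end Eig

theorem smul_mem_lc {c : ℕ} {M : Submodule R L} (hM : ∀ x, c • x ∈ M) (n : ℕ) :
    ∀ x ∈ lc (⊤ : Submodule R L) ⊤ n, c ^ (n + 1) • x ∈ lc M M n := by
  induction n with
  | zero => exact fun x _ => by rw [zero_add, pow_one]; exact hM x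
  | succ n ih =>
    rw [lc_succ', lc_succ']
    refine fun x hx => (br_le (Z := (br (lc M M n) M).comap (c ^ (n + 2) • LinearMap.id))).2
      (fun x hx y _ => ?_) hx
    have := lie_mem (ih x hx) (hM y)
    rwa [nsmul_lie, lie_nsmul, smul_smul, ← pow_succ] at this

variable {G : Type u} [Group G]

/-- `[H, K, …, K]` -/
def gc (H K : Subgroup G) (n : ℕ) : Subgroup G := (fun Z => ⁅Z, K⁆)^[n] H

/-- derived series of a subgroup -/
def dg (H : Subgroup G) (n : ℕ) : Subgroup G := (fun Z => ⁅Z, Z⁆)^[n] H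

theorem gc_succ' (H K : Subgroup G) (n : ℕ) : gc H K (n + 1) = ⁅gc H K n, K⁆ :=
  Function.iterate_succ_apply' _ _ _

theorem dg_succ' (H : Subgroup G) (n : ℕ) : dg H (n + 1) = ⁅dg H n, dg H n⁆ :=
  Function.iterate_succ_apply' _ _ _

namespace Model
variable (m : Model R G L) {i j : ℕ} {g h : G} {H K : Subgroup G} {x y : L}

theorem e_zero (hg : g ∈ γ G (i + 1)) : m.e i g = 0 :=
  (m.zero_iff (γ_anti (Nat.le_succ i) hg)).2 hg

theorem e_one (i : ℕ) : m.e i 1 = 0 := m.e_zero (one_mem _)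

theorem e_inv (hg : g ∈ γ G i) : m.e i g⁻¹ = - m.e i g :=
  eq_neg_of_add_eq_zero_left (by rw [← m.mul (inv_mem hg) hg, inv_mul_cancel, e_one])

theorem e_pow (hg : g ∈ γ G i) (n : ℕ) : m.e i (g ^ n) = n • m.e i g := by
  induction n with
  | zero => rw [pow_zero, e_one, zero_smul]
  | succ n ih => rw [pow_succ, m.mul (pow_mem hg n) hg, ih, succ_nsmul]

theorem e_eq_iff (hg : g ∈ γ G i) (hh : h ∈ γ G i) : m.e i h = m.e i g ↔ g⁻¹ * h ∈ γ G (i + 1) := by
  rw [← m.zero_iff (mul_mem (inv_mem hg) hh), m.mul (inv_mem hg) hh, m.e_inv hg,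
    neg_add_eq_zero, eq_comm]

theorem hom_ext {M : Type*} [AddCommGroup M] [Module R M] {f f' : L →ₗ[R] M}
    (h : ∀ i g, g ∈ γ G i → f (m.e i g) = f' (m.e i g)) : f = f' :=
  LinearMap.ext_on m.span (by rintro _ ⟨i, g, hg, rfl⟩; exact h i g hg)

/-- the action of the automorphism group -/
noncomputable def ρ : MulAut G →* Module.End R L where
  toFun φ := (m.act φ.toMonoidHom).choose
  map_one' := m.hom_ext fun i g hg => (m.act _).choose_spec i g hg
  map_mul' φ ψ := m.hom_ext fun i g hg => by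
    rw [Module.End.mul_apply, (m.act _).choose_spec i g hg, (m.act _).choose_spec i g hg,
      (m.act _).choose_spec i _ (γ_map _ hg)]
    rfl

theorem ρ_e (φ : MulAut G) (hg : g ∈ γ G i) : m.ρ φ (m.e i g) = m.e i (φ g) :=
  (m.act _).choose_spec i g hg

theorem ρ_lie (φ : MulAut G) (x y : L) : m.ρ φ ⁅x, y⁆ = ⁅m.ρ φ x, m.ρ φ y⁆ := by
  have : (bil R L).compr₂ (m.ρ φ) = (bil R L).compl₁₂ (m.ρ φ) (m.ρ φ) :=
    m.hom_ext fun i g hg => m.hom_ext fun j h hh => by
      show m.ρ φ ⁅m.e i g, m.e j h⁆ = ⁅m.ρ φ (m.e i g), m.ρ φ (m.e j h)⁆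
      rw [m.lie hg hh, m.ρ_e φ (γ_comm hg hh), m.ρ_e φ hg, m.ρ_e φ hh, map_commutatorElement]
      exact (m.lie (γ_map φ.toMonoidHom hg) (γ_map φ.toMonoidHom hh)).symm
  exact LinearMap.congr_fun₂ this x y

include m in
theorem card_smul [Finite G] (x : L) : Nat.card G • x = 0 :=
  LinearMap.congr_fun (m.hom_ext (f := Nat.card G • LinearMap.id) (f' := 0) fun i g hg => by
    simp [← m.e_pow hg, m.e_one]) x

/-- the part of the Lie ring coming from a subgroup -/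
def sub (H : Subgroup G) : Submodule R L :=
  Submodule.span R {x | ∃ i g, g ∈ γ G i ∧ g ∈ H ∧ m.e i g = x}

theorem mem_sub (hg : g ∈ γ G i) (hH : g ∈ H) : m.e i g ∈ m.sub H := subset_span ⟨i, g, hg, hH, rfl⟩

theorem sub_le {W : Submodule R L} (h : ∀ i g, g ∈ γ G i → g ∈ H → m.e i g ∈ W) : m.sub H ≤ W :=
  span_le.2 (by rintro _ ⟨i, g, hg, hH, rfl⟩; exact h i g hg hH)

theorem sub_mono (h : H ≤ K) : m.sub H ≤ m.sub K := m.sub_le fun _ _ hg hH => m.mem_sub hg (h hH)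

theorem sub_top : m.sub ⊤ = ⊤ := top_le_iff.1 (m.span.ge.trans (span_mono (by
  rintro _ ⟨i, g, hg, rfl⟩; exact ⟨i, g, hg, trivial, rfl⟩)))

theorem sub_bot : m.sub ⊥ = ⊥ := le_bot_iff.1 (m.sub_le fun i g _ hg => by
  rw [Subgroup.mem_bot.1 hg, m.e_one]; exact zero_mem _)

theorem br_sub : br (m.sub H) (m.sub K) ≤ m.sub ⁅H, K⁆ := br_span_le (by
  rintro _ ⟨i, g, hg, hH, rfl⟩ _ ⟨j, h, hh, hK, rfl⟩
  rw [m.lie hg hh]
  exact m.mem_sub (γ_comm hg hh) (Subgroup.commutator_mem_commutator hH hK))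

theorem lc_sub (n : ℕ) : lc (m.sub H) (m.sub K) n ≤ m.sub (gc H K n) := by
  induction n with
  | zero => exact le_rfl
  | succ n ih => rw [lc_succ', gc_succ']; exact (br_mono ih le_rfl).trans m.br_sub

theorem ds_sub (n : ℕ) : ds (m.sub H) n ≤ m.sub (dg H n) := by
  induction n with
  | zero => exact le_rfl
  | succ n ih => rw [ds_succ', dg_succ']; exact (br_mono ih ih).trans m.br_sub

theorem ρ_sub {φ : MulAut G} (hH : ∀ g ∈ H, φ g ∈ H) (hx : x ∈ m.sub H) : m.ρ φ x ∈ m.sub H :=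
  m.sub_le (W := (m.sub H).comap (m.ρ φ)) (fun i g hg h => by
    rw [mem_comap, m.ρ_e φ hg]; exact m.mem_sub (γ_map φ.toMonoidHom hg) (hH g h)) hx

theorem e_mem_closure {W : Submodule R L} {s : Set G} (hs : ∀ g ∈ s, g ∈ γ G i ∧ m.e i g ∈ W)
    (hg : g ∈ Subgroup.closure s) : g ∈ γ G i ∧ m.e i g ∈ W := by
  induction hg using Subgroup.closure_induction with
  | mem g hg => exact hs g hg
  | one => exact ⟨one_mem _, m.e_one i ▸ zero_mem _⟩
  | mul g h _ _ hg hh => exact ⟨mul_mem hg.1 hh.1, m.mul hg.1 hh.1 ▸ add_mem hg.2 hh.2⟩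
  | inv g _ hg => exact ⟨inv_mem hg.1, m.e_inv hg.1 ▸ neg_mem hg.2⟩

theorem e_mem {W : ℕ → Submodule R L} (h0 : ∀ g, m.e 0 g ∈ W 0)
    (h1 : ∀ i, br (W i) (W 0) ≤ W (i + 1)) (i : ℕ) : ∀ g ∈ γ G i, m.e i g ∈ W i := by
  induction i with
  | zero => exact fun g _ => h0 g
  | succ i ih =>
    refine fun g hg => (m.e_mem_closure ?_ hg).2
    rintro _ ⟨a, ha, b, hb, rfl⟩
    exact ⟨γ_comm (j := 0) ha hb, m.lie (j := 0) ha hb ▸ h1 i (lie_mem (ih a ha) (h0 b))⟩

theorem e_mem_lc (hg : g ∈ γ G i) : m.e i g ∈ lc (⊤ : Submodule R L) ⊤ i :=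
  m.e_mem (W := lc ⊤ ⊤) (fun _ => trivial) (fun i => (lc_succ' i).ge) i g hg

theorem sum_e {ι : Type*} (s : Finset ι) (f : ι → G) (hf : ∀ j, f j ∈ γ G i ⊓ K) :
    ∃ h ∈ γ G i ⊓ K, ∑ j ∈ s, m.e i (f j) = m.e i h := by
  classical
  induction s using Finset.induction_on with
  | empty => exact ⟨1, one_mem _, (m.e_one i).symm⟩
  | insert j s hj ih =>
    obtain ⟨h, hh, e⟩ := ih
    exact ⟨f j * h, mul_mem (hf j) hh, by rw [Finset.sum_insert hj, e, m.mul (hf j).1 hh.1]⟩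

include m in
/-- Higman's theorem for an almost fixed-point-free automorphism -/
theorem almost [IsDomain R] {p N c : ℕ} (hp : p.Prime) {ω : R} (hω : IsPrimitiveRoot ω p)
    {α : MulAut G} (hα : α ^ p = 1)
    (hN : ∀ i, ∀ g ∈ γ G i, g⁻¹ * α g ∈ γ G (i + 1) → g ^ N ∈ γ G (i + 1))
    (hc : ∀ A : ZMod p → Submodule R L, Cl A → A 0 = ⊥ → lc (⨆ i, A i) (⨆ i, A i) c = ⊥)
    (hg : g ∈ γ G c) : g ^ (N * p * p) ^ (c + 1) ∈ γ G (c + 1) := by
  have : NeZero p := ⟨hp.ne_zero⟩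
  have hf : m.ρ α ^ p = 1 := by rw [← map_pow, hα, map_one]
  have hT : N • ∑ j ∈ Finset.range p, m.ρ α ^ j = 0 := m.hom_ext fun i g hg => by
    obtain ⟨h, hh, e⟩ := m.sum_e (K := ⊤) (Finset.range p) (fun j => (α ^ j) g)
      fun j => ⟨γ_map (α ^ j).toMonoidHom hg, trivial⟩
    have e' : (∑ j ∈ Finset.range p, m.ρ α ^ j) (m.e i g) = m.e i h := by
      simp only [← e, LinearMap.sum_apply, ← map_pow, m.ρ_e _ hg]
    have h1 := LinearMap.congr_fun (mul_geom_sum (m.ρ α) p) (m.e i g)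
    rw [hf, sub_self, Module.End.mul_apply, e', LinearMap.sub_apply, LinearMap.zero_apply,
      sub_eq_zero, m.ρ_e α hh.1] at h1
    rw [LinearMap.smul_apply, e', ← m.e_pow hh.1]
    exact m.e_zero (hN i h hh.1 ((m.e_eq_iff hh.1 (γ_map α.toMonoidHom hh.1)).1 h1))
  let A : ZMod p → Submodule R L := fun i => (eig ω (m.ρ α) i).map ((N * p) • LinearMap.id)
  have h1 := hc A (fun u v => br_le.2 (by
    rintro _ ⟨x, hx, rfl⟩ _ ⟨y, hy, rfl⟩
    exact ⟨_, eig_cl hω.pow_eq_one (m.ρ_lie α) u v (lie_mem hx (nsmul_mem hy (N * p))), by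
      simp only [LinearMap.smul_apply, LinearMap.id_apply, nsmul_lie]⟩))
    (le_bot_iff.1 (by
      rintro _ ⟨x, hx, rfl⟩
      have h2 : ∀ j, (m.ρ α ^ j) x = x := fun j =>
        Module.End.pow_apply (m.ρ α) j x ▸ Function.iterate_fixed (mem_eig_zero.1 hx) j
      simpa [h2, mul_smul] using LinearMap.congr_fun hT x))
  have h2 := smul_mem_lc (c := N * p * p) (M := ⨆ i, A i) (fun x => by
    have := mem_map_of_mem (f := (N * p) • LinearMap.id)
      (eig_decomp hp hω hf (W := ⊤) (fun _ _ => trivial) (x := x) trivial)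
    simp only [Submodule.map_iSup, top_inf_eq] at this
    rw [mul_smul]
    exact this) c _ (m.e_mem_lc hg)
  rwa [h1, mem_bot, ← m.e_pow hg, m.zero_iff (pow_mem hg _)] at h2

end Model

theorem almost {p N c : ℕ} (hp : p.Prime) {α : MulAut G} (hα : α ^ p = 1)
    (hN : ∀ i, ∀ g ∈ γ G i, g⁻¹ * α g ∈ γ G (i + 1) → g ^ N ∈ γ G (i + 1))
    (hc : c = ∑ i ∈ Finset.range (2 ^ (p - 1) - 1), (p - 1) ^ i ∨ p = 3 ∧ c = 2) {g : G}
    (hg : g ∈ γ G c) : g ^ (N * p * p) ^ (c + 1) ∈ γ G (c + 1) := by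
  obtain ⟨R, _, _, _, ω, hω⟩ := exists_root p hp.pos
  obtain ⟨m⟩ := exists_model R G
  have := Fact.mk hp
  refine m.almost hp hω hα hN (fun A h1 h2 => ?_) hg
  rcases hc with rfl | ⟨rfl, rfl⟩
  exacts [hkk h1 h2, hkk3 h1 h2]

theorem γ_eq_bot [Group.IsNilpotent G] {c : ℕ} (h : γ G c ≤ γ G (c + 1)) : γ G c = ⊥ := by
  obtain ⟨n, hn⟩ := (Subgroup.nilpotent_iff_lowerCentralSeries (G := G)).1 inferInstance
  have : ∀ j, γ G c ≤ γ G (c + j) := fun j => by
    induction j with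
    | zero => exact le_rfl
    | succ j ih => exact h.trans (Subgroup.commutator_mono ih le_rfl)
  exact le_bot_iff.1 ((this n).trans ((γ_anti (Nat.le_add_left n c)).trans hn.le))

end H25.Lie
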