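/- Higman's theorem, P. Hall's index bound, Alperin's theorem. -/
import Cfsg.Agent.H25.LieM
import Cfsg.Agent.H2.PrimeCore
import Cfsg.Agent.H2.MinNormal
import Cfsg.Agent.H18.PLength
import Cfsg.Agent.H24.Comm
import Cfsg.Agent.H3.AutP
import Cfsg.Agent.S3780
import Cfsg.Agent.S0033
import Cfsg.Agent.S0032

set_option autoImplicit false

namespace H25.Lie
open Subgroup Cfsg
open scoped commutatorElement

universe u
variable {G : Type u} [Group G] {p : ℕ} {α : MulAut G}

/-- fixed points of an automorphism -/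
abbrev fx (α : MulAut G) : Subgroup G := α.toMonoidHom.eqLocus (MonoidHom.id G)

theorem chr (N : Subgroup G) [N.Characteristic] (α : MulAut G) {x : G} (hx : x ∈ N) : α x ∈ N :=
  characteristic_iff_le_comap.1 inferInstance α hx

theorem dg_add (H : Subgroup G) (m n : ℕ) : dg H (m + n) = dg (dg H m) n := by
  rw [dg, add_comm, Function.iterate_add_apply]; rfl

theorem dg_mono {H K : Subgroup G} (h : H ≤ K) (n : ℕ) : dg H n ≤ dg K n := by
  induction n with
  | zero => exact h
  | succ n ih => rw [dg_succ', dg_succ']; exact commutator_mono ih ih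

theorem dg_le_lcs (H : Subgroup G) (n : ℕ) : dg H n ≤ H.lowerCentralSeries n := by
  induction n with
  | zero => exact le_rfl
  | succ n ih =>
    rw [dg_succ']
    exact commutator_mono ih (ih.trans (H.lowerCentralSeries_antitone (Nat.zero_le n)))

theorem map_dg {Y : Type*} [Group Y] (f : G →* Y) (H : Subgroup G) (n : ℕ) :
    (dg H n).map f = dg (H.map f) n := by
  induction n with
  | zero => rfl
  | succ n ih => rw [dg_succ', dg_succ', map_commutator, ih]

theorem dg_top (n : ℕ) : dg (⊤ : Subgroup G) n = derivedSeries G n := by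
  induction n with
  | zero => rfl
  | succ n ih => rw [dg_succ', ih, derivedSeries_succ]

theorem dg_of_sub {H : Subgroup G} {n : ℕ} (h : dg (⊤ : Subgroup H) n = ⊥) : dg H n = ⊥ := by
  simpa [map_dg, ← MonoidHom.range_eq_map] using congrArg (Subgroup.map H.subtype) h

variable [Finite G]

theorem higman {c : ℕ} (hp : p.Prime) (hα : α ^ p = 1) (hf : ∀ g, α g = g → g = 1)
    (hc : c = ∑ i ∈ Finset.range (2 ^ (p - 1) - 1), (p - 1) ^ i ∨ p = 3 ∧ c = 2) :
    γ G c = ⊥ := by
  classical
  have := Fact.mk hp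
  by_cases h1 : α = 1
  · exact eq_bot_iff.2 fun g _ => hf g (by rw [h1]; rfl)
  have := Cfsg.Agent.S0033.result α hf p hp (orderOf_eq_prime hα h1)
  have hcop : p.Coprime (Nat.card G) := by
    have h2 := (IsPGroup.of_card (G := zpowers α) (n := 1) (by
      rw [Nat.card_zpowers, orderOf_eq_prime hα h1, pow_one])).card_modEq_card_fixedPoints G
    rw [show MulAction.fixedPoints (zpowers α) G = {1} from Set.eq_singleton_iff_unique_mem.2
      ⟨fun a => map_one a.1, fun x hx => hf x (hx ⟨α, mem_zpowers α⟩)⟩,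
      Nat.card_unique (α := ({1} : Set G))] at h2
    exact (Nat.coprime_of_mul_modEq_one 1 (by rwa [mul_one])).symm
  refine γ_eq_bot fun g hg => ?_
  have := almost (N := 1) hp hα (fun i g _ h => by
    simpa using Cfsg.Agent.S0032.result α hf _ (fun n => chr _ α) g (by simpa using inv_mem h)) hc hg
  obtain ⟨k, hk⟩ := exists_pow_eq_self_of_coprime (x := g) (n := (1 * p * p) ^ (c + 1))
    (Nat.Coprime.pow_left _ (by
      simpa [Nat.coprime_mul_iff_left] using hcop.coprime_dvd_right (orderOf_dvd_natCard g)))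
  exact hk ▸ pow_mem this k

theorem card_fx_sub (H : Subgroup G) [H.Characteristic] :
    Nat.card (fx (MulAut.characteristic H α)) ≤ Nat.card (fx α) :=
  Nat.card_le_card_of_injective (fun x => ⟨x.1.1, congrArg Subtype.val x.2⟩) fun _ _ e =>
    Subtype.ext (Subtype.ext (congrArg (fun z : fx α => (z : G)) e))

theorem card_fx_quot {A : Type*} [Group A] (φ : A →* MulAut G) (N : Subgroup G) [N.Normal]
    (hN : ∀ a, ∀ x ∈ N, φ a x ∈ N) (a : A) :
    Nat.card (fx (H5.quotAut φ N hN a)) ≤ Nat.card (fx (φ a)) := by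
  let X : Subgroup G := (fx (H5.quotAut φ N hN a)).comap (QuotientGroup.mk' N)
  have h1 : Nat.card X = Nat.card N * Nat.card (fx (H5.quotAut φ N hN a)) :=
    QuotientGroup.card_preimage_mk N (fx (H5.quotAut φ N hN a))
  let f : X → N := fun x => ⟨(φ a x)⁻¹ * x, QuotientGroup.eq.1 x.2⟩
  let s := Function.invFun f
  have hs : ∀ x, (φ a (s (f x)))⁻¹ * s (f x) = (φ a x)⁻¹ * x := fun x =>
    congrArg Subtype.val (Function.invFun_eq (f := f) ⟨x, rfl⟩)
  have h2 : Nat.card X ≤ Nat.card (N × fx (φ a)) := Nat.card_le_card_of_injective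
    (fun x => (f x, ⟨x * (s (f x) : G)⁻¹, by
      show φ a _ = (x : G) * _
      rw [map_mul, map_inv, eq_mul_inv_of_mul_eq (hs x)]; group⟩)) fun x y e => by
      have e1 : f x = f y := congrArg Prod.fst e
      have e2 : (x : G) * (s (f x) : G)⁻¹ = y * (s (f y) : G)⁻¹ := congrArg (fun z => z.2.1) e
      exact Subtype.ext (mul_right_cancel (e1 ▸ e2))
  rw [h1, Nat.card_prod] at h2
  exact Nat.le_of_mul_le_mul_left h2 Nat.card_pos

theorem card_ab {V : Type*} [CommGroup V] [Finite V] (hp : p.Prime) {β : MulAut V}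
    (hβ : β ^ p = 1) {E : ℕ} (he : ∀ v : V, v ^ p ^ E = 1) :
    Nat.card V ≤ Nat.card (fx β) ^ (p * E) := by
  let a : Module.End ℤ (Additive V) := (MonoidHom.toAdditive β.toMonoidHom).toIntLinearMap
  have ha : ∀ (k : ℕ) (v : V), (a ^ k) (Additive.ofMul v) = Additive.ofMul ((β ^ k) v) := by
    intro k
    induction k with
    | zero => intro v; rfl
    | succ k ih => intro v; rw [pow_succ, pow_succ]; exact ih (β v)
  have h1 : a ^ p = 1 := LinearMap.ext fun v => (ha p v.toMul).trans (by rw [hβ]; rfl)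
  obtain ⟨r, hr⟩ := (Commute.one_right (a - 1)).exists_add_pow_prime_eq hp
  rw [sub_add_cancel, h1, one_pow, add_right_comm, mul_one, right_eq_add, add_eq_zero_iff_eq_neg,
    mul_assoc, ← mul_neg] at hr
  have h2 : (a - 1) ^ (p * E) = 0 := by
    rw [pow_mul, hr, (Nat.cast_commute p _).mul_pow, ← Nat.cast_pow]
    refine LinearMap.ext fun v => ?_
    rw [Module.End.mul_apply, Module.End.natCast_apply]
    exact Additive.toMul.injective (he _)
  have h3 := Cfsg.Agent.S3780.card_ker_pow_le (a - 1) (p * E)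
  rw [h2, LinearMap.ker_zero, Nat.card_congr Submodule.topEquiv.toEquiv] at h3
  exact h3.trans (Nat.pow_le_pow_left (Nat.card_le_card_of_injective
    (fun x : LinearMap.ker (a - 1) => (⟨x.1.toMul, by
      have := LinearMap.mem_ker.1 x.2
      rw [LinearMap.sub_apply, sub_eq_zero] at this
      exact Additive.ofMul.injective this⟩ : fx β)) fun _ _ e =>
      Subtype.ext (Additive.toMul.injective (congrArg (fun z : fx β => (z : V)) e))) _)

theorem card_sec (hp : p.Prime) (hα : α ^ p = 1) (A B : Subgroup G) [A.Characteristic]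
    [B.Characteristic] (hc : ⁅A, A⁆ ≤ B) {E : ℕ} (he : ∀ g ∈ A, g ^ p ^ E ∈ B) :
    B.relIndex A ≤ Nat.card (fx α) ^ (p * E) := by
  letI : CommGroup (A ⧸ B.subgroupOf A) :=
    { QuotientGroup.Quotient.group _ with
      mul_comm := fun a b => QuotientGroup.induction_on a fun a => QuotientGroup.induction_on b
        fun b => QuotientGroup.eq.2 (by
          have := hc (commutator_mem_commutator (inv_mem b.2) (inv_mem a.2))
          rw [mem_subgroupOf]
          convert this using 1
          simp [commutatorElement_def, mul_assoc]) }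
  have hN : ∀ a, ∀ x ∈ B.subgroupOf A, MulAut.characteristic A a x ∈ B.subgroupOf A :=
    fun a x hx => chr B a hx
  refine (card_ab (β := H5.quotAut _ _ hN α) hp (by rw [← map_pow, hα, map_one]) fun v =>
    QuotientGroup.induction_on v fun g => (QuotientGroup.eq_one_iff (g ^ p ^ E)).2
      (he g g.2)).trans (Nat.pow_le_pow_left ((card_fx_quot _ _ hN α).trans (card_fx_sub A)) _)

theorem card_mul_relIndex {H K : Subgroup G} (h : H ≤ K) :
    Nat.card H * H.relIndex K = Nat.card K := by
  rw [← Nat.card_congr (subgroupOfEquivOfLe h).toEquiv]; exact card_mul_index _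

theorem hall_index [hp : Fact p.Prime] (hG : IsPGroup p G) {n : ℕ} {M N : Subgroup G} [M.Normal]
    (hN : N ≤ γ G n) (hne : ⁅M, N⁆ ≠ ⊥) : p ^ (n + 1) ≤ ⁅M, N⁆.relIndex M := by
  have hn : ∀ j, (gc M ⊤ j).Normal := fun j => by
    induction j with
    | zero => assumption
    | succ j ih => rw [gc_succ']; infer_instance
  have h1 : ⁅M, N⁆ ≤ gc M ⊤ (n + 1) := (commutator_mono le_rfl hN).trans (by
    have := H24.commutator_lowerCentralSeries_le (gc M ⊤) hn ⊤ (fun i => (gc_succ' _ _ i).ge) 0 n
    rwa [zero_add] at this)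
  have h2 : ∀ j, gc M ⊤ (j + 1) ≤ gc M ⊤ j := fun j => by
    rw [gc_succ']; exact commutator_le_left _ _
  have h3 : ∀ j ≤ n + 1, p ^ j * Nat.card (gc M ⊤ j) ≤ Nat.card M := fun j hj => by
    induction j with
    | zero => simp [gc]
    | succ j ih =>
      refine le_trans ?_ (ih (by omega))
      rw [pow_succ, mul_assoc, ← card_mul_relIndex (h2 j), mul_comm p]
      refine Nat.mul_le_mul_left _ (Nat.mul_le_mul_left _ ?_)
      obtain ⟨k, hk⟩ := (hG.to_subgroup (gc M ⊤ j)).index ((gc M ⊤ (j + 1)).subgroupOf _)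
      rcases k with _ | k
      · have := hG.isNilpotent
        obtain ⟨c, hc⟩ := (Subgroup.nilpotent_iff_lowerCentralSeries (G := G)).1 this
        have h4 : ∀ i, gc M ⊤ j ≤ γ G i := fun i => by
          induction i with
          | zero => exact le_top
          | succ i ih =>
            exact (relIndex_eq_one.1 hk).trans ((gc_succ' _ _ j).le.trans
              (commutator_mono ih le_rfl))
        exact absurd (le_bot_iff.1 (h1.trans ((antitone_nat_of_succ_le h2 (by omega)).trans
          ((h4 c).trans hc.le)))) hne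
      · exact (Nat.le_self_pow (by omega) p).trans hk.ge
  have h4 := (Nat.mul_le_mul_left _ (card_le_of_le h1)).trans (h3 _ le_rfl)
  rw [← card_mul_relIndex (commutator_le_left M N), mul_comm] at h4
  exact Nat.le_of_mul_le_mul_left h4 Nat.card_pos

/-- the Higman–Kreknin–Kostrikin bound -/
def hf (p : ℕ) : ℕ := ∑ i ∈ Finset.range (2 ^ (p - 1) - 1), (p - 1) ^ i

theorem alperin_p [hp : Fact p.Prime] (hG : IsPGroup p G) (hα : α ^ p = 1) {n : ℕ}
    (hn : Nat.card (fx α) ≤ p ^ n) :
    dg (⊤ : Subgroup G) (n * (p * ((n + 2) * (hf p + 1))) + (hf p + 1)) = ⊥ := by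
  set k := n * (p * ((n + 2) * (hf p + 1)))
  have hβ : MulAut.characteristic (γ G k) α ^ p = 1 := by rw [← map_pow, hα, map_one]
  have hn' := (card_fx_sub (γ G k)).trans hn
  have hH := hG.to_subgroup (γ G k)
  have h1 := card_sec hp.out hβ (γ _ (hf p)) (γ _ (hf p + 1)) (commutator_mono le_rfl le_top)
    (E := (n + 2) * (hf p + 1)) fun g hg => by
      have := almost (N := p ^ n) hp.out hβ (fun i g _ h => by
        have h2 := (card_fx_quot (MonoidHom.id _) (γ _ (i + 1)) (fun a x => chr _ a)
          (MulAut.characteristic (γ G k) α)).trans hn'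
        obtain ⟨j, hj⟩ := IsPGroup.iff_card.1 ((hH.to_quotient (γ _ (i + 1))).to_subgroup
          (fx (H5.quotAut (MonoidHom.id _) (γ _ (i + 1)) (fun a x => chr _ a)
            (MulAut.characteristic (γ G k) α))))
        rw [hj, Nat.pow_le_pow_iff_right hp.out.one_lt] at h2
        rw [← QuotientGroup.eq_one_iff, QuotientGroup.mk_pow, ← orderOf_dvd_iff_pow_eq_one]
        exact (hj ▸ orderOf_dvd_natCard _ (QuotientGroup.eq.2 h).symm).trans (pow_dvd_pow p h2))
        (Or.inl rfl) hg
      rwa [← pow_succ, ← pow_succ, ← pow_mul] at this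
  rw [← relIndex_map_map_of_injective _ _ (subtype_injective _), top_subtype_lowerCentralSeries,
    top_subtype_lowerCentralSeries] at h1
  have h2 : (γ G k).lowerCentralSeries (hf p + 1) = ⊥ := by_contra fun h => by
    have := H24.lowerCentralSeries_normal (γ G k) (hf p)
    have h3 := (hall_index hG le_rfl h).trans (h1.trans (Nat.pow_le_pow_left hn' _))
    rw [← pow_mul, Nat.pow_le_pow_iff_right hp.out.one_lt] at h3
    omega
  rw [dg_add, ← le_bot_iff, ← h2]
  exact (dg_mono (dg_le_lcs _ _) _).trans (dg_le_lcs _ _)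

theorem dg_card [Group.IsSolvable G] (b : ℕ) (H : Subgroup G) (h : Nat.card H ≤ b + 1) :
    dg H b = ⊥ := by
  induction b generalizing H with
  | zero => exact (card_le_one_iff_eq_bot H).1 h
  | succ b ih =>
    refine ih ⁅H, H⁆ ?_
    by_cases h1 : H = ⊥
    · simp [h1]
    · have := Set.Finite.card_lt_card (Set.toFinite _)
        (Group.IsSolvable.commutator_lt_of_ne_bot h1)
      exact Nat.le_of_lt_succ (this.trans_le h)

theorem alperin (hp : p.Prime) (n : ℕ) : ∃ l : ℕ, ∀ (G : Type u) [Group G] [Finite G],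
    Group.IsSolvable G → ∀ α : MulAut G, α ^ p = 1 → Nat.card (fx α) = p ^ n →
    derivedSeries G l = ⊥ := by
  have := Fact.mk hp
  refine ⟨((p ^ n) ^ (p * 1)).factorial + (n * (p * ((n + 2) * (hf p + 1))) + (hf p + 1)) + hf p,
    fun G _ _ _ α hα hn => ?_⟩
  let β := H5.quotAut (MonoidHom.id _) (pPrimeCore p G) (fun a x => chr _ a) α
  have hβ : β ^ p = 1 := by rw [← map_pow, hα, map_one]
  have hn1 : Nat.card (fx β) ≤ p ^ n := (card_fx_quot _ _ _ α).trans hn.le
  let P := pCore p (G ⧸ pPrimeCore p G)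
  have hP : IsPGroup p P := H18.isPGroup_pCore p
  have hδ : MulAut.characteristic P β ^ p = 1 := by rw [← map_pow, hβ, map_one]
  have hn2 := (card_fx_sub P).trans hn1
  have h1 := (card_sec hp hδ ⊤ (frattini P) (H3.commutator_le_frattini_pgroup hP) (E := 1)
    fun g _ => by simpa using H3.pow_mem_frattini_pgroup hP g).trans (Nat.pow_le_pow_left hn2 _)
  rw [relIndex_top_right] at h1
  let ψ := (MulAut.toPerm _).comp ((H3.frattiniAut P).comp (MulAut.conjNormal (H := P)))
  have h2 : dg ⊤ ((p ^ n) ^ (p * 1)).factorial ≤ P := by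
    have := Group.isSolvable_of_surjective ψ.rangeRestrict_surjective
    have h3 := dg_card ((p ^ n) ^ (p * 1)).factorial (⊤ : Subgroup ψ.range) (by
      rw [card_top]
      refine (card_le_card_group _).trans (le_trans ?_ (Nat.le_succ _))
      rw [Nat.card_perm]
      exact Nat.factorial_le h1)
    rw [← map_top_of_surjective _ ψ.rangeRestrict_surjective, ← map_dg, Subgroup.map_eq_bot_iff,
      MonoidHom.ker_rangeRestrict] at h3
    refine h3.trans fun g hg => H18.mem_pCore_of_frattini (H2.centralizer_pCore_le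
      (H2.pPrimeCore_quotient_pPrimeCore p G)) fun x hx => ?_
    have h4 := (H3.mem_ker_frattiniAut (MulAut.conjNormal g)).1
      (MulEquiv.ext fun y => Equiv.congr_fun hg y) ⟨x⁻¹, inv_mem hx⟩
    exact ⟨_, inv_mem h4, by simp [mul_assoc]⟩
  have h3 := (dg_mono h2 _).trans (dg_of_sub (alperin_p hP hδ hn2)).le
  rw [← dg_add, ← map_top_of_surjective _ (QuotientGroup.mk'_surjective _), ← map_dg, le_bot_iff,
    Subgroup.map_eq_bot_iff, QuotientGroup.ker_mk'] at h3
  have h4 := higman (α := MulAut.characteristic (pPrimeCore p G) α) hp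
    (by rw [← map_pow, hα, map_one]) (fun g hg => by
      have h5 : orderOf (g : G) ∣ p ^ n := hn ▸ orderOf_dvd_natCard (fx α) (congrArg Subtype.val hg)
      have h6 := ((H2.coprime_card_pPrimeCore p G).pow_right n).coprime_dvd_left
        (orderOf_dvd_natCard _ g.2)
      exact Subtype.ext (orderOf_eq_one_iff.1 (h6.eq_one_of_dvd h5))) (Or.inl rfl)
  rw [← dg_top, dg_add, ← le_bot_iff]
  exact (dg_mono h3 _).trans (dg_of_sub (le_bot_iff.1 ((dg_le_lcs _ _).trans h4.le))).le

end H25.Lie
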