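/- Coprime action of an elementary abelian group with conditions on the centralizers of its
elements (Acciarri, Shumyatsky). -/
import Cfsg.Agent.H25.LieH
import Cfsg.Agent.H1.CoprimeGen
import Cfsg.Agent.H1.Cocycle
import Cfsg.Agent.H2.Fitting
import Cfsg.Agent.S3937
import Cfsg.Agent.S0515
import Cfsg.Agent.H22.ChiefRep

set_option autoImplicit false

namespace H25.Lie
open scoped commutatorElement

universe u v
variable {G : Type u} [Group G] {A : Type v} [Group A] {p : ℕ} {φ : A →* MulAut G}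

/-- fixed points of a group of operators -/
def cA (φ : A →* MulAut G) (D : Subgroup A) : Subgroup G := ⨅ a ∈ D, fx (φ a)

/-- invariant subgroups -/
def Inv (φ : A →* MulAut G) (H : Subgroup G) : Prop := ∀ a, ∀ x ∈ H, φ a x ∈ H

variable {D B : Subgroup A} {H J K : Subgroup G}

theorem mem_cA {x : G} : x ∈ cA φ D ↔ ∀ a ∈ D, φ a x = x := by
  simp only [cA, Subgroup.mem_iInf]; rfl

theorem cA_le {a : A} (ha : a ∈ D) : cA φ D ≤ fx (φ a) := iInf₂_le a ha

theorem Inv.inf (h : Inv φ H) (h' : Inv φ K) : Inv φ (H ⊓ K) := fun a x hx =>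
  ⟨h a x hx.1, h' a x hx.2⟩

theorem Inv.comm (h : Inv φ H) (h' : Inv φ K) : Inv φ ⁅H, K⁆ := fun a _ hx =>
  (Subgroup.commutator_le (H₃ := ⁅H, K⁆.comap (φ a).toMonoidHom)).2 (fun x hx y hy => by
    rw [Subgroup.mem_comap, map_commutatorElement]
    exact Subgroup.commutator_mem_commutator (h a x hx) (h' a y hy)) hx

theorem inv_cA [IsMulCommutative A] : Inv φ (cA φ D) := fun a x hx => mem_cA.2 fun b hb => by
  rw [← MulAut.mul_apply, ← map_mul, mul_comm' b a, map_mul, MulAut.mul_apply, mem_cA.1 hx b hb]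

theorem exists_mem_inf [Finite A] (hD : D.index ≤ p) (hB : p < Nat.card B) :
    ∃ a ∈ B, a ∈ D ∧ a ≠ 1 := by
  by_contra! h
  have h1 : D.subgroupOf B = ⊥ := eq_bot_iff.2 fun a ha => Subtype.ext (h a a.2 ha)
  have h2 := Subgroup.relIndex_le_of_le_right (H := D) (le_top (a := B))
    Subgroup.index_ne_zero_of_finite
  rw [Subgroup.relIndex_top_right, Subgroup.relIndex, h1, Subgroup.index_bot] at h2
  omega

/-- the standing hypotheses -/
structure Op (p : ℕ) (G : Type u) (A : Type v) [Group G] [Group A] : Prop where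
  pr : p.Prime
  ex : ∀ a : A, a ^ p = 1
  cop : (Nat.card G).Coprime p

variable [Finite G] [Finite A]

omit [Finite G] in
theorem Op.copA (h : Op p G A) (D : Subgroup A) (H : Subgroup G) :
    (Nat.card D).Coprime (Nat.card H) := by
  have := Fact.mk h.pr
  obtain ⟨n, hn⟩ := IsPGroup.iff_card.1 (IsPGroup.to_subgroup (p := p)
    (fun a => ⟨1, by rw [pow_one, h.ex]⟩) D)
  exact hn ▸ ((h.cop.coprime_dvd_left H.card_subgroup_dvd_card).pow_right n).symm

theorem Op.gen [IsMulCommutative A] (h : Op p G A) (hH : Inv φ H)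
    (hK : ∀ D : Subgroup A, D.index ≤ p → H ⊓ cA φ D ≤ K) : H ≤ K :=
  H1.le_of_cocyclic_fixed φ H hH (by simpa using h.copA ⊤ H) K fun Y hY x hx hx' => hK Y (by
    rw [Subgroup.index, ← IsCyclic.exponent_eq_card]
    exact Nat.le_of_dvd h.pr.pos (Monoid.exponent_dvd_of_forall_pow_eq_one fun q =>
      QuotientGroup.induction_on q fun a => by rw [← QuotientGroup.mk_pow, h.ex]; rfl))
    ⟨hx, mem_cA.2 hx'⟩

namespace Model
open Submodule
variable {R L : Type*} [CommRing R] [LieRing L] [LieAlgebra R L] (m : Model R G L) {x y : L}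

omit [Finite A] in
include m in
theorem mem_of_smul {n : ℕ} (h : n.Coprime (Nat.card G)) {W : Submodule R L} (hx : n • x ∈ W) :
    x ∈ W := by
  obtain ⟨a, b, e⟩ := Nat.isCoprime_iff_coprime.2 h
  rw [← one_zsmul x, ← e, add_zsmul, mul_zsmul, mul_zsmul, natCast_zsmul, natCast_zsmul,
    m.card_smul, smul_zero, add_zero]
  exact zsmul_mem hx a

/-- stabilizer of an element of the Lie ring -/
def stb (φ : A →* MulAut G) (x : L) : Subgroup A where
  carrier := {a | m.ρ (φ a) x = x}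
  one_mem' := by simp
  mul_mem' {a b} ha hb := by
    rw [Set.mem_setOf_eq] at *
    rw [map_mul, map_mul, Module.End.mul_apply, hb, ha]
  inv_mem' {a} ha := by
    rw [Set.mem_setOf_eq] at *
    nth_rw 1 [← ha]
    rw [← Module.End.mul_apply, ← map_mul, ← map_mul, inv_mul_cancel, map_one, map_one]; rfl

theorem fix_sub (h : Op p G A) (hK : Inv φ K) (hx : x ∈ m.sub K) :
    x ∈ m.sub (K ⊓ cA φ (m.stb φ x)) := by
  generalize hD : m.stb φ x = D
  have := Fintype.ofFinite D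
  have hT : ∀ d : D, m.ρ (φ d) * ∑ a : D, m.ρ (φ a) = ∑ a : D, m.ρ (φ a) := fun d => by
    rw [Finset.mul_sum, ← Equiv.sum_comp (Equiv.mulLeft d) fun a : D => m.ρ (φ a)]
    simp
  have h1 := m.sub_le (W := (m.sub (K ⊓ cA φ D)).comap (∑ a : D, m.ρ (φ a))) (fun i g hg hg' => by
    obtain ⟨k, hk, e⟩ := m.sum_e (K := K) Finset.univ (fun a : D => φ a g)
      fun a => ⟨γ_map (φ a).toMonoidHom hg, hK a g hg'⟩
    have e' : (∑ a : D, m.ρ (φ a)) (m.e i g) = m.e i k := by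
      simp only [← e, LinearMap.sum_apply, m.ρ_e _ hg]
    have := Fact.mk h.pr
    have : Group.IsNilpotent D := IsPGroup.isNilpotent (p := p)
      (IsPGroup.to_subgroup (fun a => ⟨1, by rw [pow_one, h.ex]⟩) D)
    obtain ⟨n, hn, hf⟩ := H1.exists_fixed_mem_coset (φ.comp D.subtype) (γ G (i + 1) ⊓ K)
      (fun a x hx => ⟨chr _ _ hx.1, hK a x hx.2⟩) (h.copA _ _) (Or.inl inferInstance) k
      fun d => ⟨(m.e_eq_iff hk.1 (chr _ _ hk.1)).1 (by
        have := LinearMap.congr_fun (hT d) (m.e i g)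
        rwa [Module.End.mul_apply, e', m.ρ_e _ hk.1] at this),
        K.mul_mem (K.inv_mem hk.2) (hK d k hk.2)⟩
    have hn' := γ_anti (Nat.le_succ i) hn.1
    rw [mem_comap, e', ← add_zero (m.e i k), ← m.e_zero hn.1, ← m.mul hk.1 hn']
    exact m.mem_sub (mul_mem hk.1 hn') ⟨mul_mem hk.2 hn.2, mem_cA.2 fun a ha => hf ⟨a, ha⟩⟩) hx
  refine m.mem_of_smul (n := Nat.card D) (by simpa using h.copA D ⊤) ?_
  rwa [mem_comap, LinearMap.sum_apply, Finset.sum_congr rfl fun (a : D) _ =>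
    show m.ρ (φ a) x = x from (hD.ge a.2), Finset.sum_const, Finset.card_univ,
    ← Nat.card_eq_fintype_card] at h1

variable {ω : R}

/-- common eigenvectors -/
def Hom (p : ℕ) (ω : R) (φ : A →* MulAut G) (x : L) : Prop :=
  ∀ a, ∃ i : ZMod p, x ∈ eig ω (m.ρ (φ a)) i

omit [Finite G] [Finite A] in
theorem Hom.index [NeZero p] (hx : m.Hom p ω φ x) : (m.stb φ x).index ≤ p := by
  choose i hi using hx
  refine (Nat.card_le_card_of_injective (fun q => i q.out) fun q q' e => ?_).trans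
    (Nat.card_zmod p).le
  rw [← q.out_eq', ← q'.out_eq', QuotientGroup.eq]
  show m.ρ (φ _) x = x
  rw [map_mul, map_mul, Module.End.mul_apply, mem_eig.1 (hi _), ← show i q.out = i q'.out from e,
    ← mem_eig.1 (hi _), ← Module.End.mul_apply, ← map_mul, ← map_mul, inv_mul_cancel, map_one,
    map_one]
  rfl

theorem sp_hom [IsDomain R] [IsMulCommutative A] (h : Op p G A) (hω : IsPrimitiveRoot ω p)
    {W : Submodule R L} (hW : ∀ a, ∀ x ∈ W, m.ρ (φ a) x ∈ W) : Sp {x | m.Hom p ω φ x} W := by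
  classical
  have := Fintype.ofFinite A
  have key : ∀ s : Finset A, ∀ W : Submodule R L, (∀ a, ∀ x ∈ W, m.ρ (φ a) x ∈ W) →
      Sp {x | ∀ a ∈ s, ∃ i : ZMod p, x ∈ eig ω (m.ρ (φ a)) i} W := by
    intro s
    induction s using Finset.induction_on with
    | empty => exact fun W _ x hx => subset_span ⟨by simp, hx⟩
    | insert a s _ ih =>
      refine fun W hW x hx => m.mem_of_smul h.cop.symm (SetLike.le_def.1 (iSup_le fun i => ?_)
        (eig_decomp h.pr hω (by rw [← map_pow, ← map_pow, h.ex, map_one, map_one]) (hW a) hx))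
      refine le_trans (ih (W ⊓ eig ω (m.ρ (φ a)) i) fun b y hy => ⟨hW b y hy.1, mem_eig.2 ?_⟩)
        (Submodule.span_mono
        fun y hy => ⟨(Finset.forall_mem_insert _ _ _).2 ⟨⟨i, hy.2.2⟩, hy.1⟩, hy.2.1⟩)
      rw [← map_smul, ← mem_eig.1 hy.2, ← Module.End.mul_apply, ← Module.End.mul_apply, ← map_mul,
        ← map_mul, ← map_mul, ← map_mul, mul_comm' a b]
  simpa [Hom] using key Finset.univ W hW

end Model

theorem core_grp [IsMulCommutative A] [Group.IsNilpotent G] (h : Op p G A) {F : Set (Subgroup G)}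
    {P : A → Subgroup G} {c s : ℕ} (hinv : ∀ J ∈ F, Inv φ J) (hgen : ⊤ ≤ sSup F)
    (hcl : ∀ J ∈ F, ∀ K ∈ F, ∀ D : Subgroup A, D.index ≤ p → ∃ H ∈ F, ⁅J, K⁆ ⊓ cA φ D ≤ H)
    (hB : ∀ J ∈ F, ∃ B : Subgroup A, p < Nat.card B ∧ ∀ a ∈ B, J ≤ P a)
    (hP : ∀ a ≠ 1, gc (fx (φ a)) (P a) c = ⊥) {a₀ : A} (hs : dg (fx (φ a₀)) s = ⊥) :
    γ G (cf p (2 ^ Nat.card A) c s) = ⊥ := by
  obtain ⟨R, _, _, _, ω, hω⟩ := exists_root p h.pr.pos
  obtain ⟨m⟩ := exists_model R G
  have : NeZero p := ⟨h.pr.ne_zero⟩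
  have hfx : ∀ a x, m.ρ (φ a) x = x → x ∈ m.sub (fx (φ a)) := fun a x hx =>
    m.sub_mono (inf_le_right.trans (cA_le hx)) (m.fix_sub h (K := ⊤) (fun _ _ _ => trivial)
      (m.sub_top ▸ trivial))
  have hS : ∀ x ∈ {x | m.Hom p ω φ x ∧ ∃ J ∈ F, x ∈ m.sub J},
      ∀ y ∈ {x | m.Hom p ω φ x ∧ ∃ J ∈ F, x ∈ m.sub J},
      ⁅x, y⁆ ∈ {x | m.Hom p ω φ x ∧ ∃ J ∈ F, x ∈ m.sub J} := by
    rintro x ⟨hx, J, hJ, hxJ⟩ y ⟨hy, K, hK, hyK⟩
    have h1 : m.Hom p ω φ ⁅x, y⁆ := fun a => (hx a).elim fun i hi => (hy a).elim fun j hj =>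
      ⟨i + j, eig_cl hω.pow_eq_one (m.ρ_lie _) i j (lie_mem hi hj)⟩
    obtain ⟨H, hH, e⟩ := hcl J hJ K hK _ h1.index
    exact ⟨h1, H, hH, m.sub_mono e (m.fix_sub h ((hinv J hJ).comm (hinv K hK))
      (m.br_sub (lie_mem hxJ hyK)))⟩
  have h1 := core (T := {B : Subgroup A // p < Nat.card B}) (m := 2 ^ Nat.card A) (c := c) (s := s)
    (A := (eig ω (m.ρ (φ a₀)) : ZMod p → _))
    ((Nat.card_le_card_of_injective (fun B => (B.1 : Set A))
      (SetLike.coe_injective.comp Subtype.val_injective)).trans (by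
        have := Fintype.ofFinite A
        simp))
    (fun B => m.sub (⨅ a ∈ B.1, P a)) (fun B => by
      have h2 : ⊤ ≤ ⨆ a : {a // a ∈ B.1 ∧ a ≠ 1}, m.sub (fx (φ a)) :=
        (m.sp_hom (φ := φ) (W := ⊤) h hω fun _ _ _ => trivial).trans (Submodule.span_le.2 fun y hy => by
          obtain ⟨a, ha, h3, h4⟩ := exists_mem_inf hy.1.index B.2
          exact Submodule.mem_iSup_of_mem ⟨a, ha, h4⟩ (hfx a y h3))
      rw [top_le_iff.1 h2 |>.symm, lc_iSup, ← le_bot_iff, ← m.sub_bot]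
      exact iSup_le fun a => (lc_mono le_rfl (m.sub_mono (iInf₂_le a.1 a.2.1)) c).trans
        ((m.lc_sub c).trans (m.sub_mono (hP a a.2.2).le))) hS
    (by
      rintro x ⟨-, J, hJ, hx⟩
      obtain ⟨B, h2, h3⟩ := hB J hJ
      exact ⟨⟨B, h2⟩, m.sub_mono (le_iInf₂ h3) hx⟩)
    (eig_cl hω.pow_eq_one (m.ρ_lie _)) (fun x hx => hx.1 a₀)
    (le_bot_iff.1 ((ds_mono (fun x hx => hfx a₀ x (mem_eig_zero.1 hx)) s).trans
      ((m.ds_sub s).trans (by rw [hs, m.sub_bot]))))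
    (top_le_iff.1 (m.span.ge.trans (Submodule.span_le.2 (by
      rintro _ ⟨i, g, hg, rfl⟩
      have h2 : sSup F ≤ Subgroup.closure {g | ∃ J ∈ F, g ∈ J} := sSup_le fun J hJ g hg =>
        Subgroup.subset_closure ⟨J, hJ, hg⟩
      refine m.e_mem (W := fun _ => Submodule.span R {x | m.Hom p ω φ x ∧ ∃ J ∈ F, x ∈ m.sub J})
        (fun g => (m.e_mem_closure ?_ (h2 (hgen trivial))).2)
        (fun _ => br_span_le fun x hx y hy => Submodule.subset_span (hS x hx y hy)) i g hg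
      rintro g ⟨J, hJ, hg⟩
      exact ⟨trivial, SetLike.le_def.1 (Submodule.span_mono fun y hy => by
        exact ⟨hy.1, J, hJ, hy.2⟩)
        (m.sp_hom h hω (fun a x => m.ρ_sub (hinv J hJ a)) (m.mem_sub trivial hg))⟩))))
  exact γ_eq_bot fun g hg => (m.zero_iff hg).1 ((Submodule.mem_bot R).1 (h1 ▸ m.e_mem_lc hg))

section Fam
open Subgroup
omit [Finite G] [Finite A]

/-- the elements of `U` whose commutator with `y` lies in `W` -/
def cm (U W : Subgroup G) (h : U ≤ normalizer (W : Set G)) (y : G) : Subgroup G where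
  carrier := {x | x ∈ U ∧ ⁅x, y⁆ ∈ W}
  one_mem' := ⟨one_mem _, by simp⟩
  mul_mem' {a b} ha hb := ⟨mul_mem ha.1 hb.1, by
    convert mul_mem ((mem_normalizer_iff.1 (h ha.1) _).1 hb.2) ha.2 using 1
    simp [commutatorElement_def, mul_assoc]⟩
  inv_mem' {a} ha := ⟨inv_mem ha.1, by
    convert (mem_normalizer_iff.1 (h (inv_mem ha.1)) _).1 (inv_mem ha.2) using 1
    simp [commutatorElement_def, mul_assoc]⟩

theorem gc_map {Y : Type*} [Group Y] (f : G →* Y) (H K : Subgroup G) (n : ℕ) :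
    (gc H K n).map f = gc (H.map f) (K.map f) n := by
  induction n with
  | zero => rfl
  | succ n ih => rw [gc_succ', gc_succ', map_commutator, ih]

theorem gc_mono {H' K' : Subgroup G} (h : H ≤ H') (h' : K ≤ K') (n : ℕ) :
    gc H K n ≤ gc H' K' n := by
  induction n with
  | zero => exact h
  | succ n ih => rw [gc_succ', gc_succ']; exact commutator_mono ih h'

theorem gc_self (n : ℕ) : gc K K n = K.lowerCentralSeries n := by
  induction n with
  | zero => rfl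
  | succ n ih => rw [gc_succ', ih]; rfl

variable (p φ) in
/-- special subgroups of the next degree -/
def st (E F : Set (Subgroup G)) : Set (Subgroup G) :=
  {H | ∃ J ∈ E, ∃ K ∈ F, ∃ D : Subgroup A, D.index ≤ p ∧ H = ⁅J, K⁆ ⊓ cA φ D}

variable (p φ) in
/-- special subgroups of degree zero -/
def f0 : Set (Subgroup G) := {H | ∃ D : Subgroup A, D.index ≤ p ∧ H = cA φ D}

/-- refinement of families -/
def Rf (E F : Set (Subgroup G)) : Prop := ∀ H ∈ E, ∃ J ∈ F, H ≤ J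

variable (p φ) in
/-- the members lie in verbal subgroups of centralizers -/
def Bd (E : Set (Subgroup G)) (w : Subgroup G → Subgroup G) (e : ℕ) : Prop :=
  ∀ J ∈ E, ∃ B : Subgroup A, B.index ≤ p ^ e ∧ ∀ a ∈ B, J ≤ w (fx (φ a))

variable {E E' F F' : Set (Subgroup G)}

theorem Rf.st (h : Rf E E') (h' : Rf F F') : Rf (st p φ E F) (st p φ E' F') := by
  rintro _ ⟨J, hJ, K, hK, D, hD, rfl⟩
  obtain ⟨J', h1, h2⟩ := h J hJ
  obtain ⟨K', h3, h4⟩ := h' K hK
  exact ⟨_, ⟨J', h1, K', h3, D, hD, rfl⟩, inf_le_inf_right _ (commutator_mono h2 h4)⟩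

theorem Rf.refl : Rf E E := fun H hH => ⟨H, hH, le_rfl⟩

theorem Rf.trans (h : Rf E E') (h' : Rf E' F) : Rf E F := fun H hH =>
  (h H hH).elim fun J hJ => (h' J hJ.1).imp fun _ hK => ⟨hK.1, hJ.2.trans hK.2⟩

theorem rf_f0 : Rf (st p φ E F) (f0 p φ) := by
  rintro _ ⟨J, -, K, -, D, hD, rfl⟩
  exact ⟨_, ⟨D, hD, rfl⟩, inf_le_right⟩

theorem inv_f0 [IsMulCommutative A] : ∀ J ∈ f0 p φ, Inv φ J := by
  rintro _ ⟨D, -, rfl⟩; exact inv_cA

theorem inv_st [IsMulCommutative A] (h : ∀ J ∈ E, Inv φ J) (h' : ∀ J ∈ F, Inv φ J) :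
    ∀ J ∈ st p φ E F, Inv φ J := by
  rintro _ ⟨J, hJ, K, hK, D, -, rfl⟩
  exact ((h J hJ).comm (h' K hK)).inf inv_cA

theorem bd_f0 : Bd p φ (f0 p φ) id 1 := by
  rintro _ ⟨D, hD, rfl⟩
  exact ⟨D, by rwa [pow_one], fun a => cA_le⟩

theorem Bd.st {w w' : Subgroup G → Subgroup G} {e e' : ℕ} (h : Bd p φ E w e) (h' : Bd p φ F w' e') :
    Bd p φ (st p φ E F) (fun X => ⁅w X, w' X⁆) (e + e') := by
  rintro _ ⟨J, hJ, K, hK, D, -, rfl⟩
  obtain ⟨B, h1, h2⟩ := h J hJ
  obtain ⟨B', h3, h4⟩ := h' K hK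
  exact ⟨B ⊓ B', index_inf_le.trans (pow_add p e e' ▸ Nat.mul_le_mul h1 h3), fun a ha =>
    inf_le_left.trans (commutator_mono (h2 a ha.1) (h4 a ha.2))⟩

end Fam

open Subgroup

theorem Op.sSup_f0 [IsMulCommutative A] (h : Op p G A) : sSup (f0 p φ) = ⊤ :=
  top_le_iff.1 (h.gen (φ := φ) (fun _ _ _ => trivial) fun D hD =>
    inf_le_right.trans (le_sSup ⟨D, hD, rfl⟩))

theorem Op.sSup_st [IsMulCommutative A] (h : Op p G A) {E F : Set (Subgroup G)}
    (hE : ∀ J ∈ E, Inv φ J) (hF : ∀ J ∈ F, Inv φ J) (hr : Rf (st p φ E F) E)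
    (hle : sSup E ≤ sSup F) : sSup (st p φ E F) = ⁅sSup E, sSup F⁆ := by
  refine le_antisymm (sSup_le ?_) ?_
  · rintro _ ⟨J, hJ, K, hK, D, -, rfl⟩
    exact inf_le_left.trans (commutator_mono (le_sSup hJ) (le_sSup hK))
  have h1 : ∀ J ∈ E, ∀ K ∈ F, ⁅J, K⁆ ≤ sSup (st p φ E F) := fun J hJ K hK =>
    h.gen ((hE J hJ).comm (hF K hK)) fun D hD => le_sSup ⟨J, hJ, K, hK, D, hD, rfl⟩
  have h2 : sSup F ≤ normalizer ((sSup (st p φ E F) : Subgroup G) : Set G) :=
    sSup_le fun K hK => le_normalizer_iff_commutator_le_left.2 (commutator_le.2 fun x hx y hy =>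
      (sSup_le (a := cm _ _ le_normalizer y) (fun H hH z hz => ⟨le_sSup hH hz,
        (hr H hH).elim fun J hJ => h1 J hJ.1 K hK (commutator_mem_commutator (hJ.2 hz) hy)⟩) hx).2)
  refine commutator_le.2 fun x hx y hy => (sSup_le (a := cm _ _ h2 y) (fun J hJ z hz =>
    ⟨hle (le_sSup hJ hz), ?_⟩) hx).2
  rw [← commutatorElement_inv]
  exact inv_mem (sSup_le (a := cm _ _ h2 z) (fun K hK t ht => ⟨le_sSup hK ht, h1 J hJ K hK
    (commutator_comm K J ▸ commutator_mem_commutator ht hz)⟩) hy).2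

theorem Op.solvable [IsMulCommutative A] (h : Op p G A) (hr : p ^ 3 ≤ Nat.card A)
    (hs : ∀ a ≠ 1, Group.IsSolvable (fx (φ a))) : Group.IsSolvable G := by
  have := Fact.mk h.pr
  obtain ⟨Γ, _, _, i, j, hi, hj, hn, hij, -⟩ := H22.exists_ambient φ
  have h1 := Cfsg.Agent.S0515.result p j.range i.range inferInstance
    (by rintro _ ⟨a, rfl⟩; rw [← map_pow, h.ex, map_one])
    (by rwa [← Nat.card_congr (MonoidHom.ofInjective hj).toEquiv])
    (by rw [← Nat.card_congr (MonoidHom.ofInjective hi).toEquiv]; exact h.cop)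
    (by rw [normalizer_eq_top]; exact le_top) (by
      rintro _ ⟨a, rfl⟩ h1
      have := hs a fun e => h1 (by rw [e, map_one])
      have := Group.isSolvable_of_surjective (i.subgroupMap_surjective (fx (φ a)))
      refine Group.isSolvable_of_isSolvable_injective (inclusion_injective (K := (fx (φ a)).map i) ?_)
      rintro _ ⟨⟨x, rfl⟩, hx⟩
      exact ⟨x, hi ((hij a x).trans (by
        rw [← mem_centralizer_singleton_iff.1 hx, mul_inv_cancel_right]; rfl)), rfl⟩)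
  exact Group.isSolvable_of_isSolvable_injective (f := (MonoidHom.ofInjective hi).toMonoidHom)
    (MonoidHom.ofInjective hi).injective

theorem Op.mem_fitting [IsMulCommutative A] [hG : Group.IsSolvable G] (h : Op p G A)
    {P : A → Subgroup G} {c : ℕ} (hP : ∀ a ≠ 1, gc (fx (φ a)) (P a) c = ⊥) (hB : p < Nat.card B)
    {j : G} (hj : ∀ a ∈ B, j ∈ P a) : j ∈ Cfsg.fittingSubgroup G := by
  have one : ∀ N : Subgroup G, N.Characteristic → ∀ x ∈ N, (fun x => ⁅x, j⁆)^[c] x ∈ ⁅N, N⁆ := by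
    intro N _
    have : ∀ t, ∃ W, ⁅N, N⁆ ≤ W ∧ W ≤ N ∧ ∀ x ∈ N, x ∈ W ↔ (fun x => ⁅x, j⁆)^[t] x ∈ ⁅N, N⁆ := by
      intro t
      induction t with
      | zero => exact ⟨_, le_rfl, commutator_le_left _ _, fun _ _ => Iff.rfl⟩
      | succ t ih =>
        obtain ⟨W, h1, h2, h3⟩ := ih
        exact ⟨cm N W (le_normalizer_iff_commutator_le_left.2 ((commutator_mono h2 le_rfl).trans
          h1)) j, fun x hx => ⟨commutator_le_left _ _ hx, h1 (commutator_le_left _ ⊤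
            (commutator_mem_commutator hx trivial))⟩, fun _ hx => hx.1, fun x hx =>
          (and_iff_right hx).trans (h3 _ (commutator_le_left _ ⊤
            (commutator_mem_commutator hx trivial)))⟩
    obtain ⟨W, -, -, hW⟩ := this c
    refine fun x hx => (hW x hx).1 (h.gen (φ := φ) (fun a _ => chr N _) (fun D hD x hx => ?_) hx)
    obtain ⟨a, ha, h1, h2⟩ := exists_mem_inf hD hB
    have : ∀ t, (fun x => ⁅x, j⁆)^[t] x ∈ gc (fx (φ a)) (P a) t := fun t => by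
      induction t with
      | zero => exact cA_le h1 hx.2
      | succ t ih =>
        rw [Function.iterate_succ_apply', gc_succ']
        exact commutator_mem_commutator ih (hj a ha)
    exact (hW x hx.1).2 (((hP a h2).le.trans bot_le) (this c))
  obtain ⟨n, hn⟩ := hG
  refine (Cfsg.Agent.S3937.result j).2 fun x => ⟨c * n, ?_⟩
  have h1 : ∀ n, (fun x => ⁅x, j⁆)^[c * n] x ∈ derivedSeries G n := fun n => by
    induction n with
    | zero => trivial
    | succ n ih =>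
      rw [Nat.mul_succ, add_comm (c * n), Function.iterate_add_apply]
      exact one _ inferInstance _ ih
  have h2 : ∀ n x, (List.replicate n j).foldl (fun a b => a * b * a⁻¹ * b⁻¹) x =
      (fun x => ⁅x, j⁆)^[n] x := fun n => by
    induction n with
    | zero => exact fun _ => rfl
    | succ n ih => exact fun x => ih _
  rw [h2, ← mem_bot, ← hn]
  exact h1 n

theorem Op.fam [IsMulCommutative A] (h : Op p G A) {k e r c : ℕ} (hk : Nat.card A = p ^ k)
    (h3 : 3 ≤ k) (he : e + 2 ≤ k) {F : Set (Subgroup G)} {w : Subgroup G → Subgroup G}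
    {M : Subgroup G} [M.Characteristic] (hinv : ∀ J ∈ F, Inv φ J) (hgen : sSup F = M)
    (hcl : Rf (st p φ F F) F) (hB : Bd p φ F w e) (hw : ∀ X, dg X r ≤ w X ∧ ⁅X, w X⁆ ≤ w X)
    (hc : ∀ a ≠ 1, (w (fx (φ a))).lowerCentralSeries c = ⊥) :
    M.lowerCentralSeries (cf p (2 ^ p ^ k) (c + 1) (r + c)) = ⊥ := by
  have h1 := h.pr.one_lt
  have hs : ∀ a ≠ 1, dg (fx (φ a)) (r + c) = ⊥ := fun a ha => le_bot_iff.1 (by
    rw [dg_add, ← hc a ha]; exact (dg_mono (hw _).1 c).trans (dg_le_lcs _ _))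
  have hP : ∀ a ≠ 1, gc (fx (φ a)) (w (fx (φ a))) (c + 1) = ⊥ := fun a ha =>
    le_bot_iff.1 ((gc_mono (hw _).2 le_rfl c).trans ((gc_self c).trans (hc a ha)).le)
  have hB' : ∀ J ∈ F, ∃ B : Subgroup A, p < Nat.card B ∧ ∀ a ∈ B, J ≤ w (fx (φ a)) := fun J hJ =>
    (hB J hJ).imp fun B hB => ⟨by
      by_contra! h2
      have := (hk ▸ B.card_mul_index).ge.trans (Nat.mul_le_mul h2 hB.1)
      rw [← pow_succ', Nat.pow_le_pow_iff_right h1] at this
      omega, hB.2⟩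
  have := h.solvable (φ := φ) (hk ▸ Nat.pow_le_pow_right h1.le h3) fun a ha => ⟨⟨r + c, by
    rw [← dg_top, ← map_eq_bot_iff_of_injective _ (subtype_injective _), map_dg,
      ← MonoidHom.range_eq_map, range_subtype, hs a ha]⟩⟩
  have := H2.isNilpotent_of_le_fitting (hgen.ge.trans (sSup_le fun J hJ j hj =>
    (hB' J hJ).elim fun B hB => h.mem_fitting hP hB.1 fun a ha => hB.2 a ha hj))
  obtain ⟨a₀, ha₀⟩ : ∃ a : A, a ≠ 1 := by
    have := (Finite.one_lt_card_iff_nontrivial (α := A)).1 (hk ▸ Nat.one_lt_pow (by omega) h1)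
    exact exists_ne 1
  have hfx : ∀ a, (fx (((MulAut.characteristic M).comp φ) a)).map M.subtype ≤ fx (φ a) := by
    rintro a _ ⟨x, hx, rfl⟩
    exact congrArg Subtype.val hx
  rw [← top_subtype_lowerCentralSeries, ← hk, map_eq_bot_iff_of_injective _ (subtype_injective _)]
  refine core_grp (φ := (MulAut.characteristic M).comp φ)
    ⟨h.pr, h.ex, h.cop.coprime_dvd_left M.card_subgroup_dvd_card⟩
    (F := (fun J => J.subgroupOf M) '' F) (P := fun a => (w (fx (φ a))).subgroupOf M)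
    (a₀ := a₀) ?_ ?_ ?_ ?_ (fun a ha => ?_) ?_
  · rintro _ ⟨J, hJ, rfl⟩ a x hx
    exact hinv J hJ a x hx
  · rw [← map_subtype_le_map_subtype, ← MonoidHom.range_eq_map, range_subtype, ← hgen]
    refine sSup_le fun J hJ => le_trans ?_ (map_mono (le_sSup ⟨J, hJ, rfl⟩))
    rw [subgroupOf_map_subtype]
    exact le_inf le_rfl (le_sSup hJ)
  · rintro _ ⟨J, hJ, rfl⟩ _ ⟨K, hK, rfl⟩ D hD
    obtain ⟨H, hH, e⟩ := hcl _ ⟨J, hJ, K, hK, D, hD, rfl⟩
    refine ⟨_, ⟨H, hH, rfl⟩, fun x hx => e ⟨?_, mem_cA.2 fun a ha =>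
      congrArg Subtype.val (mem_cA.1 hx.2 a ha)⟩⟩
    exact (commutator_le (H₃ := ⁅J, K⁆.subgroupOf M)).2
      (fun _ hx _ hy => commutator_mem_commutator hx hy) hx.1
  · rintro _ ⟨J, hJ, rfl⟩
    exact (hB' J hJ).imp fun B hB => ⟨hB.1, fun a ha => comap_mono (hB.2 a ha)⟩
  · rw [← map_eq_bot_iff_of_injective _ (subtype_injective _), gc_map, ← le_bot_iff, ← hP a ha]
    exact gc_mono (hfx a) (map_comap_le _ _) _
  · rw [← map_eq_bot_iff_of_injective _ (subtype_injective _), map_dg, ← le_bot_iff, ← hs a₀ ha₀]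
    exact dg_mono (hfx a₀) _

theorem Op.lcs [IsMulCommutative A] (h : Op p G A) {k c : ℕ} (hk : Nat.card A = p ^ k) (h3 : 3 ≤ k)
    (hc : ∀ a ≠ 1, ((fx (φ a)).lowerCentralSeries (k - 3)).lowerCentralSeries c = ⊥) :
    (γ G (k - 3)).lowerCentralSeries (cf p (2 ^ p ^ k) (c + 1) (k - 3 + c)) = ⊥ := by
  have : ∀ i, ∃ F, (∀ J ∈ F, Inv φ J) ∧ sSup F = γ G i ∧ Rf (st p φ F (f0 p φ)) F ∧
      Rf F (f0 p φ) ∧ Bd p φ F (fun X => X.lowerCentralSeries i) (i + 1) := fun i => by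
    induction i with
    | zero => exact ⟨_, inv_f0, h.sSup_f0, rf_f0, .refl, bd_f0⟩
    | succ i ih =>
      obtain ⟨F, h1, h2, h3, -, h5⟩ := ih
      exact ⟨_, inv_st h1 inv_f0, by
        rw [h.sSup_st h1 inv_f0 h3 (le_top.trans h.sSup_f0.ge), h2, h.sSup_f0]; rfl,
        h3.st .refl, rf_f0, h5.st bd_f0⟩
  obtain ⟨F, h1, h2, h4, h5, h6⟩ := this (k - 3)
  exact h.fam hk h3 (by omega) h1 h2 ((Rf.refl.st h5).trans h4) h6 (fun X => ⟨dg_le_lcs _ _,
    le_normalizer_iff_commutator_le_right.1 (X.self_le_normalizer_lowerCentralSeries _)⟩) hc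

theorem Op.der [IsMulCommutative A] (h : Op p G A) {k c d : ℕ} (hk : Nat.card A = p ^ k)
    (h3 : 3 ≤ k) (hd : 2 ^ d + 2 ≤ k) (hc : ∀ a ≠ 1, (dg (fx (φ a)) d).lowerCentralSeries c = ⊥) :
    (derivedSeries G d).lowerCentralSeries (cf p (2 ^ p ^ k) (c + 1) (d + c)) = ⊥ := by
  have : ∀ i, ∃ F, (∀ J ∈ F, Inv φ J) ∧ sSup F = derivedSeries G i ∧ Rf (st p φ F F) F ∧
      Bd p φ F (fun X => dg X i) (2 ^ i) := fun i => by
    induction i with
    | zero => exact ⟨_, inv_f0, h.sSup_f0, rf_f0, bd_f0⟩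
    | succ i ih =>
      obtain ⟨F, h1, h2, h3, h5⟩ := ih
      refine ⟨_, inv_st h1 h1, by rw [h.sSup_st h1 h1 h3 le_rfl, h2]; rfl, h3.st h3, ?_⟩
      simpa only [dg_succ', pow_succ, mul_two] using h5.st h5
  obtain ⟨F, h1, h2, h4, h6⟩ := this d
  refine h.fam hk h3 hd h1 h2 h4 h6 (fun X => ⟨le_rfl, ?_⟩) hc
  have := commutator_le_right (⊤ : Subgroup X) (derivedSeries X d)
  rwa [← map_subtype_le_map_subtype, map_commutator, ← dg_top, map_dg, ← MonoidHom.range_eq_map,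
    range_subtype] at this

end H25.Lie
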