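import Cfsg.Agent.H25.NSSpec

/-! The property `NS` for alternating groups and for `PSL₂(q)` with `2` a square. -/

set_option autoImplicit false

namespace H25.NS
open Cfsg Equiv Equiv.Perm
open scoped commutatorElement

section Alt
variable {α : Type*} [Fintype α] [DecidableEq α]

theorem swap_comm_of {u : Perm α} {a b : α} (h : (u a = a ∧ u b = b) ∨ (u a = b ∧ u b = a)) :
    swap a b * u = u * swap a b := by
  rw [mul_swap_eq_swap_mul]
  rcases h with ⟨h1, h2⟩ | ⟨h1, h2⟩
  · rw [h1, h2]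
  · rw [h1, h2, swap_comm]

/-- A product of two transpositions of an involution is a square in its centralizer. -/
theorem pair_mem (h6 : 6 ≤ Fintype.card α) (u : alternatingGroup α) (hu : ∀ x, u.1 (u.1 x) = x)
    {x y : α} (hx : u.1 x ≠ x) (hy : u.1 y ≠ y) (hxy : y ≠ x) (hxy' : y ≠ u.1 x)
    (hm : swap x (u.1 x) * swap y (u.1 y) ∈ alternatingGroup α) :
    (⟨_, hm⟩ : alternatingGroup α) ∈ SqC u := by
  have hinj := u.1.injective
  have h3 : u.1 y ≠ x := fun e => hxy' (by rw [← e, hu])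
  have h4 : u.1 y ≠ u.1 x := fun e => hxy (hinj e)
  obtain ⟨a, b, hab, ha, hb, hu'⟩ : ∃ a b : α, a ≠ b ∧ a ∉ ({x, u.1 x, y, u.1 y} : Finset α) ∧
      b ∉ ({x, u.1 x, y, u.1 y} : Finset α) ∧
      ((u.1 a = a ∧ u.1 b = b) ∨ (u.1 a = b ∧ u.1 b = a)) := by
    have hc : 1 < (({x, u.1 x, y, u.1 y} : Finset α)ᶜ).card := by
      rw [Finset.card_compl]
      have : ({x, u.1 x, y, u.1 y} : Finset α).card ≤ 4 := Finset.card_le_four
      omega
    obtain ⟨a, ha, b, hb, hab⟩ := Finset.one_lt_card.1 hc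
    rw [Finset.mem_compl] at ha hb
    have key : ∀ c, c ∉ ({x, u.1 x, y, u.1 y} : Finset α) →
        u.1 c ∉ ({x, u.1 x, y, u.1 y} : Finset α) := fun c hc e => hc (by
      simp only [Finset.mem_insert, Finset.mem_singleton] at e ⊢
      rcases e with e | e | e | e
      · exact Or.inr (Or.inl (by rw [← e, hu]))
      · exact Or.inl (hinj e)
      · exact Or.inr (Or.inr (Or.inr (by rw [← e, hu])))
      · exact Or.inr (Or.inr (Or.inl (hinj e))))
    by_cases h1 : u.1 a = a
    · by_cases h2 : u.1 b = b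
      · exact ⟨a, b, hab, ha, hb, Or.inl ⟨h1, h2⟩⟩
      · exact ⟨b, u.1 b, Ne.symm h2, hb, key b hb, Or.inr ⟨rfl, hu b⟩⟩
    · exact ⟨a, u.1 a, Ne.symm h1, ha, key a ha, Or.inr ⟨rfl, hu a⟩⟩
  simp only [Finset.mem_insert, Finset.mem_singleton, not_or] at ha hb
  have k1 := swap_comm_of hu'
  have k2 := swap_comm_of (u := u.1) (a := x) (b := u.1 x) (Or.inr ⟨rfl, hu x⟩)
  have k3 : (swap x y * swap (u.1 x) (u.1 y)) * u.1 = u.1 * (swap x y * swap (u.1 x) (u.1 y)) := by
    rw [← mul_assoc, mul_swap_eq_swap_mul u.1, mul_assoc (swap _ _) u.1, mul_swap_eq_swap_mul u.1,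
      hu, hu, ← mul_assoc]
    congr 1
    ext z
    simp only [Perm.mul_apply, swap_apply_def]
    grind
  have s1 : sign (swap x (u.1 x) * swap a b) = 1 := by
    rw [map_mul, sign_swap hx.symm, sign_swap hab]; decide
  have s2 : sign (swap x y * swap (u.1 x) (u.1 y)) = 1 := by
    rw [map_mul, sign_swap hxy.symm, sign_swap h4.symm]; decide
  have := comm_mem (u := u) (a := ⟨_, mem_alternatingGroup.2 s1⟩)
    (b := ⟨_, mem_alternatingGroup.2 s2⟩)
    (Subtype.ext ((show Commute _ _ from k2).mul_left (show Commute _ _ from k1)).eq)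
    (Subtype.ext k3)
  convert this using 1
  apply Subtype.ext
  change _ = swap x (u.1 x) * swap a b * (swap x y * swap (u.1 x) (u.1 y)) *
    (swap x (u.1 x) * swap a b)⁻¹ * (swap x y * swap (u.1 x) (u.1 y))⁻¹
  ext z
  simp only [mul_inv_rev, swap_inv, Perm.mul_apply, swap_apply_def]
  grind

theorem sub_mem (h6 : 6 ≤ Fintype.card α) (u : alternatingGroup α) (hu : ∀ x, u.1 (u.1 x) = x)
    (n : ℕ) : ∀ v : alternatingGroup α, v.1.support.card ≤ n →
      (∀ x, v.1 x = x ∨ v.1 x = u.1 x) → v ∈ SqC u := by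
  induction n with
  | zero =>
    intro v hv _
    have : v = 1 := Subtype.ext (by simpa using hv)
    rw [this]; exact one_mem _
  | succ n ih =>
    intro v hv hs
    have hst : ∀ x, v.1 x ≠ x → v.1 x = u.1 x ∧ v.1 (u.1 x) = x := fun x hx => by
      have h1 := (hs x).resolve_left hx
      refine ⟨h1, ?_⟩
      rcases hs (u.1 x) with h2 | h2
      · exact absurd (v.1.injective (h2.trans h1.symm)) (h1 ▸ hx)
      · rw [h2, hu]
    by_cases h1 : v = 1
    · rw [h1]; exact one_mem _
    obtain ⟨x, hx⟩ : ∃ x, v.1 x ≠ x := by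
      by_contra hc
      push Not at hc
      exact h1 (Subtype.ext (Equiv.ext hc))
    obtain ⟨hx1, hx2⟩ := hst x hx
    have hx' : u.1 x ≠ x := hx1 ▸ hx
    obtain ⟨y, hy, hy1, hy2⟩ : ∃ y, v.1 y ≠ y ∧ y ≠ x ∧ y ≠ u.1 x := by
      by_contra hc
      push Not at hc
      have : v.1 = swap x (u.1 x) := by
        ext z
        rw [swap_apply_def]
        grind
      have h2 := mem_alternatingGroup.1 v.2
      rw [this, sign_swap hx'.symm] at h2
      exact absurd h2 (by decide)
    obtain ⟨hy3, hy4⟩ := hst y hy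
    have hy' : u.1 y ≠ y := hy3 ▸ hy
    have hm : swap x (u.1 x) * swap y (u.1 y) ∈ alternatingGroup α := by
      rw [mem_alternatingGroup, map_mul, sign_swap hx'.symm, sign_swap hy'.symm]; decide
    have h3 : u.1 y ≠ x := fun e => hy2 (by rw [← e, hu])
    have h4 : u.1 y ≠ u.1 x := fun e => hy1 (u.1.injective e)
    have hw : ∀ z, (v * ⟨_, hm⟩).1 z =
        if z = x ∨ z = u.1 x ∨ z = y ∨ z = u.1 y then z else v.1 z := fun z => by
      change v.1 (swap x (u.1 x) (swap y (u.1 y) z)) = _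
      simp only [swap_apply_def]
      grind
    have h5 := ih (v * ⟨_, hm⟩) (by
      have : (v * ⟨_, hm⟩).1.support ⊆ v.1.support.erase x := fun z hz => by
        rw [mem_support, hw] at hz
        rw [Finset.mem_erase, mem_support]
        grind
      have h6 := Finset.card_le_card this
      rw [Finset.card_erase_of_mem (mem_support.2 hx)] at h6
      omega) (fun z => by
        rw [hw]
        split_ifs
        · exact Or.inl rfl
        · exact hs z)
    exact (Subgroup.mul_mem_cancel_right _ (pair_mem h6 u hu hx' hy' hy1 hy2 hm)).1 h5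

theorem jobAlt : JobAlt := fun n hn => ns_of_all fun u hu =>
  sub_mem (by simpa using hn) u (fun x => by
    have := pow_orderOf_eq_one u
    rw [hu, pow_two] at this
    exact congrArg (fun g : alternatingGroup (Fin n) => g.1 x) this) _ u le_rfl fun _ => Or.inr rfl

end Alt

theorem jobL2 : JobL2 := by
  intro F _ _ h2 ⟨s, hs⟩
  classical
  have hs0 : s ≠ 0 := fun e => h2 (by rw [hs, e, mul_zero])
  refine ns_quot _ ⊥ (IsPGroup.of_bot) fun g hg hgg _ => ⟨1, one_mem _, ?_⟩
  rw [mul_one]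
  obtain ⟨r, -, hr⟩ := Matrix.SpecialLinearGroup.mem_center_iff.1 hgg
  have hd := g.det_coe
  rw [Matrix.det_fin_two] at hd
  have e := fun i j => congrFun (congrFun hr i) j
  have e00 := e 0 0
  have e01 := e 0 1
  have e10 := e 1 0
  have e11 := e 1 1
  simp [Matrix.mul_apply, Fin.sum_univ_two] at e00 e01 e10 e11
  have htr : g 0 0 + g 1 1 = 0 := by
    by_contra hc
    have hb : g 0 1 = 0 := (mul_eq_zero.1 (show g 0 1 * (g 0 0 + g 1 1) = 0 by
      linear_combination -e01)).resolve_right hc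
    have hc' : g 1 0 = 0 := (mul_eq_zero.1 (show g 1 0 * (g 0 0 + g 1 1) = 0 by
      linear_combination -e10)).resolve_right hc
    have ha : g 0 0 - g 1 1 = 0 := (mul_eq_zero.1 (show (g 0 0 - g 1 1) * (g 0 0 + g 1 1) = 0 by
      linear_combination e11 - e00)).resolve_right hc
    refine hg (Matrix.SpecialLinearGroup.mem_center_iff.2 ⟨g 0 0, ?_, ?_⟩)
    · simp only [Fintype.card_fin]
      linear_combination hd + g 0 0 * ha + g 0 1 * hc'
    · ext i j
      fin_cases i <;> fin_cases j <;> simp [hb, hc', sub_eq_zero.1 ha]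
  let c : Matrix.SpecialLinearGroup (Fin 2) F :=
    ⟨!![s⁻¹ * (1 + g 0 0), s⁻¹ * g 0 1; s⁻¹ * g 1 0, s⁻¹ * (1 + g 1 1)], by
      rw [Matrix.det_fin_two_of]
      field_simp
      linear_combination hd + htr + hs⟩
  refine mem_of_sq (c := c) (Subtype.ext ?_)
  rw [Matrix.SpecialLinearGroup.coe_mul]
  ext i j
  fin_cases i <;> fin_cases j <;> simp [c, Matrix.mul_apply, Fin.sum_univ_two] <;> field_simp
  · linear_combination -hd + g 0 0 * htr + g 0 0 * hs
  · linear_combination g 0 1 * htr + g 0 1 * hs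
  · linear_combination g 1 0 * htr + g 1 0 * hs
  · linear_combination -hd + g 1 1 * htr + g 1 1 * hs

end H25.NS
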