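import Cfsg.Agent.H25.NSSpec
import Cfsg.Agent.H65.PhanBlk
import Cfsg.Agent.H54.SpSimple

/-! The property `NS` for the linear, symplectic and unitary groups: quaternion groups on
two-dimensional blocks. -/

set_option autoImplicit false

namespace H25.NS
open Cfsg Matrix
open scoped commutatorElement

section Blk
variable {ι : Type*} [Fintype ι] [DecidableEq ι] {K : Type*} [Field K]

/-- `M` is the identity outside the coordinates `i`, `j`, where it is `!![a, b; c, d]`. -/
structure IsBlk (i j : ι) (a b c d : K) (M : Matrix ι ι K) : Prop where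
  ii : M i i = a
  ij : M i j = b
  ji : M j i = c
  jj : M j j = d
  row : ∀ x, x ≠ i → x ≠ j → ∀ y, M x y = if x = y then 1 else 0
  col : ∀ x, x ≠ i → x ≠ j → ∀ y, M y x = if y = x then 1 else 0

variable {i j : ι} {a b c d : K} {M : Matrix ι ι K}

theorem IsBlk.mul_i (h : IsBlk i j a b c d M) (hij : i ≠ j) (g : Matrix ι ι K) (x : ι) :
    (g * M) x i = g x i * a + g x j * c := by
  rw [mul_apply, Fintype.sum_eq_add i j hij fun k hk => by
    rw [h.row k hk.1 hk.2, if_neg hk.1, mul_zero], h.ii, h.ji]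

theorem IsBlk.mul_j (h : IsBlk i j a b c d M) (hij : i ≠ j) (g : Matrix ι ι K) (x : ι) :
    (g * M) x j = g x i * b + g x j * d := by
  rw [mul_apply, Fintype.sum_eq_add i j hij fun k hk => by
    rw [h.row k hk.1 hk.2, if_neg hk.2, mul_zero], h.ij, h.jj]

theorem IsBlk.mul_o (h : IsBlk i j a b c d M) (g : Matrix ι ι K) (x : ι) {y : ι} (h1 : y ≠ i)
    (h2 : y ≠ j) : (g * M) x y = g x y := by
  rw [mul_apply, Fintype.sum_eq_single y fun k hk => by rw [h.col y h1 h2, if_neg hk, mul_zero],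
    h.col y h1 h2, if_pos rfl, mul_one]

theorem IsBlk.i_mul (h : IsBlk i j a b c d M) (hij : i ≠ j) (g : Matrix ι ι K) (y : ι) :
    (M * g) i y = a * g i y + b * g j y := by
  rw [mul_apply, Fintype.sum_eq_add i j hij fun k hk => by
    rw [h.col k hk.1 hk.2, if_neg hk.1.symm, zero_mul], h.ii, h.ij]

theorem IsBlk.j_mul (h : IsBlk i j a b c d M) (hij : i ≠ j) (g : Matrix ι ι K) (y : ι) :
    (M * g) j y = c * g i y + d * g j y := by
  rw [mul_apply, Fintype.sum_eq_add i j hij fun k hk => by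
    rw [h.col k hk.1 hk.2, if_neg hk.2.symm, zero_mul], h.ji, h.jj]

theorem IsBlk.o_mul (h : IsBlk i j a b c d M) (g : Matrix ι ι K) {x : ι} (h1 : x ≠ i)
    (h2 : x ≠ j) (y : ι) : (M * g) x y = g x y := by
  rw [mul_apply, Fintype.sum_eq_single x fun k hk => by
    rw [h.row x h1 h2, if_neg hk.symm, zero_mul], h.row x h1 h2, if_pos rfl, one_mul]

theorem IsBlk.mul (h : IsBlk i j a b c d M) (hij : i ≠ j) {a' b' c' d' : K} {N : Matrix ι ι K}
    (k : IsBlk i j a' b' c' d' N) :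
    IsBlk i j (a * a' + b * c') (a * b' + b * d') (c * a' + d * c') (c * b' + d * d') (M * N) where
  ii := by rw [h.i_mul hij, k.ii, k.ji]
  ij := by rw [h.i_mul hij, k.ij, k.jj]
  ji := by rw [h.j_mul hij, k.ii, k.ji]
  jj := by rw [h.j_mul hij, k.ij, k.jj]
  row x h1 h2 y := by rw [h.o_mul _ h1 h2, k.row x h1 h2]
  col x h1 h2 y := by rw [k.mul_o _ _ h1 h2, h.col x h1 h2]

omit [Fintype ι] in
theorem IsBlk.ext (h : IsBlk i j a b c d M) {a' b' c' d' : K} {N : Matrix ι ι K}
    (k : IsBlk i j a' b' c' d' N) (ha : a = a') (hb : b = b') (hc : c = c') (hd : d = d') :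
    M = N := by
  ext x y
  by_cases x1 : x ≠ i ∧ x ≠ j
  · rw [h.row x x1.1 x1.2, k.row x x1.1 x1.2]
  by_cases y1 : y ≠ i ∧ y ≠ j
  · rw [h.col y y1.1 y1.2, k.col y y1.1 y1.2]
  have h1 := h.ii; have h2 := h.ij; have h3 := h.ji; have h4 := h.jj
  have k1 := k.ii; have k2 := k.ij; have k3 := k.ji; have k4 := k.jj
  grind

omit [Fintype ι] in
theorem isBlk_one (hij : i ≠ j) : IsBlk i j (1 : K) 0 0 1 1 :=
  ⟨one_apply_eq _, one_apply_ne hij, one_apply_ne hij.symm, one_apply_eq _,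
    fun _ _ _ _ => one_apply, fun _ _ _ _ => one_apply⟩

omit [Fintype ι] in
theorem isBlk_diag (hij : i ≠ j) :
    IsBlk i j (-1 : K) 0 0 (-1) (diagonal fun x => if x = i ∨ x = j then -1 else 1) :=
  ⟨by simp, diagonal_apply_ne _ hij, diagonal_apply_ne _ hij.symm, by simp,
    fun x h1 h2 y => by simp [diagonal_apply, h1, h2], fun x h1 h2 y => by
      rw [diagonal_apply]; split_ifs with h h' <;> simp_all⟩

theorem IsBlk.comm (h : IsBlk i j a b c d M) (hij : i ≠ j) {i' j' : ι} {a' b' c' d' : K}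
    {N : Matrix ι ι K} (k : IsBlk i' j' a' b' c' d' N) (h1 : i ≠ i') (h2 : i ≠ j') (h3 : j ≠ i')
    (h4 : j ≠ j') : M * N = N * M := by
  ext x y
  by_cases x1 : x = i
  · subst x1
    rw [k.o_mul _ h1 h2, h.i_mul hij, k.row _ h1 h2, k.row _ h3 h4]
    by_cases y1 : y ≠ x ∧ y ≠ j
    · rw [h.col y y1.1 y1.2]; grind
    · have := h.ii; have := h.ij; grind
  by_cases x2 : x = j
  · subst x2
    rw [k.o_mul _ h3 h4, h.j_mul hij, k.row _ h1 h2, k.row _ h3 h4]
    by_cases y1 : y ≠ i ∧ y ≠ x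
    · rw [h.col y y1.1 y1.2]; grind
    · have := h.ji; have := h.jj; grind
  rw [h.o_mul _ x1 x2]
  by_cases y1 : y = i
  · rw [y1, h.mul_i hij, k.col _ h1 h2, k.col _ h3 h4]; grind
  by_cases y2 : y = j
  · rw [y2, h.mul_j hij, k.col _ h1 h2, k.col _ h3 h4]; grind
  rw [h.mul_o _ _ y1 y2]

/-- A matrix commuting up to scalars with a quaternion group on a block is scalar on the block. -/
theorem block_scalar (h2 : (2 : K) ≠ 0) (hij : i ≠ j) (hab : a * a + b * b = -1)
    {I J g g' : Matrix ι ι K} (hI : IsBlk i j 0 1 (-1) 0 I) (hJ : IsBlk i j a b b (-a) J)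
    (hg : g * g' = 1) {μ ν : K} (e1 : g * I = μ • (I * g)) (e2 : g * J = ν • (J * g))
    {k : ι} (k1 : k ≠ i) (k2 : k ≠ j) :
    (∀ x, x ≠ i → g x i = 0 ∧ g i x = 0) ∧ (∀ x, x ≠ j → g x j = 0 ∧ g j x = 0) ∧ g i i = g j j := by
  have f1 : ∀ x y, (g * I) x y = μ * (I * g) x y := fun x y => by rw [e1]; rfl
  have f2 : ∀ x y, (g * J) x y = ν * (J * g) x y := fun x y => by rw [e2]; rfl
  have row : ∀ x, x ≠ i → x ≠ j → g x i = 0 ∧ g x j = 0 := fun x x1 x2 => by
    have a1 := f1 x i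
    have a2 := f1 x j
    have a3 := f2 x i
    have a4 := f2 x j
    rw [hI.mul_i hij, hI.o_mul _ x1 x2] at a1
    rw [hI.mul_j hij, hI.o_mul _ x1 x2] at a2
    rw [hJ.mul_i hij, hJ.o_mul _ x1 x2] at a3
    rw [hJ.mul_j hij, hJ.o_mul _ x1 x2] at a4
    have p : 2 * (b * g x i - a * g x j) = 0 := by
      linear_combination b * a2 + a * a1 + μ * a3 + a4 - ν * a1
    have q : 2 * (a * g x i + b * g x j) = 0 := by
      linear_combination -(b * a1 - a * a2 + μ * a4 - a3 - ν * a2)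
    have p' := (mul_eq_zero.1 p).resolve_left h2
    have q' := (mul_eq_zero.1 q).resolve_left h2
    exact ⟨by linear_combination -(a * q' + b * p') + g x i * hab,
      by linear_combination -(b * q' - a * p') + g x j * hab⟩
  have col : ∀ y, y ≠ i → y ≠ j → g i y = 0 ∧ g j y = 0 := fun y y1 y2 => by
    have a1 := f1 i y
    have a2 := f1 j y
    have a3 := f2 i y
    have a4 := f2 j y
    rw [hI.i_mul hij, hI.mul_o _ _ y1 y2] at a1
    rw [hI.j_mul hij, hI.mul_o _ _ y1 y2] at a2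
    rw [hJ.i_mul hij, hJ.mul_o _ _ y1 y2] at a3
    rw [hJ.j_mul hij, hJ.mul_o _ _ y1 y2] at a4
    have p : 2 * g i y = 0 := by
      linear_combination a1 + μ * a4 + a3 + ν * a * a1 + ν * b * a2
    have q : 2 * g j y = 0 := by
      linear_combination a2 - μ * a3 + a4 + ν * b * a1 - ν * a * a2
    exact ⟨(mul_eq_zero.1 p).resolve_left h2, (mul_eq_zero.1 q).resolve_left h2⟩
  obtain ⟨y, hy⟩ : ∃ y, g k y ≠ 0 := by
    by_contra hc
    push Not at hc
    have := congrFun (congrFun hg k) k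
    simp [mul_apply, hc] at this
  have y1 : y ≠ i := fun e => hy (e ▸ (row k k1 k2).1)
  have y2 : y ≠ j := fun e => hy (e ▸ (row k k1 k2).2)
  have m1 := f1 k y
  have m2 := f2 k y
  rw [hI.mul_o _ _ y1 y2, hI.o_mul _ k1 k2] at m1
  rw [hJ.mul_o _ _ y1 y2, hJ.o_mul _ k1 k2] at m2
  obtain rfl : μ = 1 := mul_right_cancel₀ hy (by rw [← m1, one_mul])
  obtain rfl : ν = 1 := mul_right_cancel₀ hy (by rw [← m2, one_mul])
  have a1 := f1 i i
  have a2 := f1 i j
  have a3 := f2 i i
  have a4 := f2 i j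
  rw [hI.mul_i hij, hI.i_mul hij] at a1
  rw [hI.mul_j hij, hI.i_mul hij] at a2
  rw [hJ.mul_i hij, hJ.i_mul hij] at a3
  rw [hJ.mul_j hij, hJ.i_mul hij] at a4
  have p : 2 * g i j = 0 := by
    linear_combination -(b * a3 - a * a4) + 2 * g i j * hab + b * b * a1 - a * b * a2
  have p' := (mul_eq_zero.1 p).resolve_left h2
  have p'' : g j i = 0 := by linear_combination -a1 - p'
  refine ⟨fun x hx => ?_, fun x hx => ?_, by linear_combination a2⟩
  · by_cases e : x = j
    · rw [e]; exact ⟨p'', p'⟩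
    · exact ⟨(row x hx e).1, (col x hx e).1⟩
  · by_cases e : x = i
    · rw [e]; exact ⟨p', p''⟩
    · exact ⟨(row x e hx).2, (col x e hx).2⟩

theorem isPGroup_iSup_of_norm {G : Type*} [Group G] [Finite G] {κ : Type*} [Finite κ]
    (Q : κ → Subgroup G) (hQ : ∀ i, IsPGroup 2 (Q i)) (hn : ∀ i j, Q i ≤ Subgroup.normalizer (Q j)) :
    ∃ P : Subgroup G, IsPGroup 2 P ∧ ∀ i, Q i ≤ P := by
  have := Fintype.ofFinite κ
  obtain ⟨P, h1, -, -, h4⟩ := exists_two_subgroup ⊥ IsPGroup.of_bot Q (fun _ => bot_le) hn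
    Finset.univ
  refine ⟨P, h1, fun i x hx => ?_⟩
  obtain ⟨S, hS⟩ := h4 i (Finset.mem_univ i)
  exact hS ⟨x, hx⟩ (S.is_maximal' ((hQ i).to_subgroup ⊤) le_top ▸ Subgroup.mem_top _)

theorem isPGroup_zpowers_four {G : Type*} [Group G] {x : G} (h : x ^ 4 = 1) :
    IsPGroup 2 (Subgroup.zpowers x) := by
  rintro ⟨_, k, rfl⟩
  refine ⟨2, Subtype.ext ?_⟩
  change (x ^ k) ^ 4 = 1
  rw [← zpow_natCast, ← _root_.zpow_mul, mul_comm, _root_.zpow_mul, zpow_natCast, h,
    _root_.one_zpow]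

theorem ns_blk (h2 : (2 : K) ≠ 0) {H : Type*} [Group H] [Finite H] (ρ : H →* Matrix ι ι K)
    (hρ : Function.Injective ρ) (hZ : ∀ z ∈ Subgroup.center H, ∃ c : K, ρ z = c • 1)
    {κ : Type*} [Finite κ] (i j : κ → ι) (hij : ∀ s t, i s ≠ j t) (hi : Function.Injective i)
    (hj : Function.Injective j) (h3 : 3 ≤ Fintype.card ι)
    (ho : ∀ x y, (∀ s, x ≠ i s ∧ x ≠ j s) → (∀ s, y ≠ i s ∧ y ≠ j s) → x = y)
    (hab : a * a + b * b = -1) (I J : κ → H) (hI : ∀ s, IsBlk (i s) (j s) 0 1 (-1) 0 (ρ (I s)))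
    (hJ : ∀ s, IsBlk (i s) (j s) a b b (-a) (ρ (J s))) : NS (H ⧸ Subgroup.center H) := by
  classical
  have hz : ∀ s, IsBlk (i s) (j s) (-1) 0 0 (-1) (ρ (I s * I s)) := fun s => by
    simpa using (hI s).mul (hij s s) (hI s)
  have hJJ : ∀ s, J s * J s = I s * I s := fun s => hρ (by
    rw [map_mul]
    exact ((hJ s).mul (hij s s) (hJ s)).ext (hz s) hab (by ring) (by ring)
      (by linear_combination hab))
  have h4 : ∀ s, I s * I s * (I s * I s) = 1 := fun s => hρ (by
    rw [map_mul, map_one]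
    exact ((hz s).mul (hij s s) (hz s)).ext (isBlk_one (hij s s)) (by ring) (by ring) (by ring)
      (by ring))
  have hIJ : ∀ s, I s * J s * I s = J s := fun s => hρ (by
    rw [map_mul, map_mul]
    exact (((hI s).mul (hij s s) (hJ s)).mul (hij s s) (hI s)).ext (hJ s) (by ring) (by ring)
      (by ring) (by ring))
  have hc : ∀ s t, s ≠ t → ∀ {x y : H} {a b c d a' b' c' d' : K},
      IsBlk (i s) (j s) a b c d (ρ x) → IsBlk (i t) (j t) a' b' c' d' (ρ y) → Commute x y :=
    fun s t hst x y _ _ _ _ _ _ _ _ hx hy => hρ (by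
      rw [map_mul, map_mul]
      exact hx.comm (hij s s) hy (hi.ne hst) (hij s t) (hij t s).symm (hj.ne hst))
  obtain ⟨R, hR, hQ⟩ := isPGroup_iSup_of_norm
    (fun s => Subgroup.zpowers (J s) ⊔ Subgroup.zpowers (I s)) (fun s => by
      refine (isPGroup_zpowers_four ?_).to_sup_of_normal_right' (isPGroup_zpowers_four ?_) ?_
      · rw [← h4 s, ← hJJ s]; simp only [pow_succ, pow_zero, one_mul, mul_assoc]
      · rw [← h4 s]; simp only [pow_succ, pow_zero, one_mul, mul_assoc]
      · refine Subgroup.zpowers_le.2 (Subgroup.mem_normalizer_fintype ?_)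
        rintro _ ⟨k, rfl⟩
        have : J s * I s * (J s)⁻¹ = (I s)⁻¹ := by
          rw [mul_inv_eq_iff_eq_mul, eq_inv_mul_iff_mul_eq, ← mul_assoc, hIJ]
        exact ⟨-k, by simp only [← conj_zpow, this, _root_.zpow_neg, _root_.inv_zpow]⟩) (fun s t => by
      by_cases hst : s = t
      · rw [hst]; exact Subgroup.le_normalizer
      refine le_trans ?_ (Subgroup.centralizer_le_normalizer _)
      rw [Subgroup.zpowers_eq_closure, Subgroup.zpowers_eq_closure, ← Subgroup.closure_union,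
        Subgroup.zpowers_eq_closure, Subgroup.zpowers_eq_closure, ← Subgroup.closure_union,
        Subgroup.centralizer_closure, Subgroup.closure_le]
      rintro x (rfl | rfl) y (rfl | rfl)
      · exact (hc s t hst (hJ s) (hJ t)).symm.eq
      · exact (hc s t hst (hJ s) (hI t)).symm.eq
      · exact (hc s t hst (hI s) (hJ t)).symm.eq
      · exact (hc s t hst (hI s) (hI t)).symm.eq)
  refine ns_quot _ R hR fun g _ hgg hg => ?_
  have hinv : ρ g * ρ g⁻¹ = 1 := by rw [← map_mul, mul_inv_cancel, map_one]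
  have hsc : ∀ r ∈ R, ∃ μ : K, ρ g * ρ r = μ • (ρ r * ρ g) := fun r hr => by
    obtain ⟨z, hz, e⟩ := hg r hr
    obtain ⟨c, hc⟩ := hZ z hz
    exact ⟨c, by rw [← map_mul, e, map_mul, hc, map_mul, smul_mul_assoc, one_mul]⟩
  have hb : ∀ s, (∀ x, x ≠ i s → ρ g x (i s) = 0 ∧ ρ g (i s) x = 0) ∧
      (∀ x, x ≠ j s → ρ g x (j s) = 0 ∧ ρ g (j s) x = 0) ∧ ρ g (i s) (i s) = ρ g (j s) (j s) :=
    fun s => by
      obtain ⟨μ, e1⟩ := hsc _ (hQ s (Subgroup.mem_sup_right (Subgroup.mem_zpowers _)))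
      obtain ⟨ν, e2⟩ := hsc _ (hQ s (Subgroup.mem_sup_left (Subgroup.mem_zpowers _)))
      obtain ⟨k, hk⟩ : ∃ k, k ∉ ({i s, j s} : Finset ι) := by
        by_contra hc
        push Not at hc
        have h5 := Finset.card_le_card (fun x _ => hc x : Finset.univ ⊆ ({i s, j s} : Finset ι))
        have h6 : ({i s, j s} : Finset ι).card ≤ 2 := Finset.card_le_two
        rw [Finset.card_univ] at h5
        omega
      simp only [Finset.mem_insert, Finset.mem_singleton, not_or] at hk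
      exact block_scalar h2 (hij s s) hab (hI s) (hJ s) hinv e1 e2 hk.1 hk.2
  have hd : ρ g = diagonal fun x => ρ g x x := by
    ext x y
    by_cases e : x = y
    · rw [e, diagonal_apply_eq]
    rw [diagonal_apply_ne _ e]
    by_contra hc
    refine e (ho x y (fun s => ⟨?_, ?_⟩) fun s => ⟨?_, ?_⟩)
    · rintro rfl; exact hc ((hb s).1 y (Ne.symm e)).2
    · rintro rfl; exact hc ((hb s).2.1 y (Ne.symm e)).2
    · rintro rfl; exact hc ((hb s).1 x e).1
    · rintro rfl; exact hc ((hb s).2.1 x e).1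
  have hcI : ∀ s, I s * g = g * I s := fun s => hρ (by
    rw [map_mul, map_mul, hd]
    ext x y
    rw [mul_diagonal, diagonal_mul]
    by_cases x1 : x ≠ i s ∧ x ≠ j s
    · rw [(hI s).row x x1.1 x1.2]; grind
    by_cases y1 : y ≠ i s ∧ y ≠ j s
    · rw [(hI s).col y y1.1 y1.2]; grind
    have := (hb s).2.2
    grind)
  obtain ⟨l, hl⟩ := hZ _ hgg
  have hl' : ∀ x, ρ g x x * ρ g x x = l := fun x => by
    have := congrFun (congrFun hl x) x
    rw [map_mul, hd, diagonal_mul_diagonal] at this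
    simpa using this
  obtain ⟨x0, hx0⟩ : ∃ x0, ∀ x, (∀ s, x ≠ i s ∧ x ≠ j s) → x = x0 := by
    by_cases h : ∃ x, ∀ s, x ≠ i s ∧ x ≠ j s
    · obtain ⟨x, hx⟩ := h
      exact ⟨x, fun y hy => ho y x hy hx⟩
    · obtain ⟨x⟩ : Nonempty ι := Fintype.card_pos_iff.1 (by omega)
      exact ⟨x, fun y hy => absurd ⟨y, hy⟩ h⟩
  have hw : ∀ S : Finset κ, ∃ w ∈ SqC g,
      ρ w = diagonal fun x => if ∃ s ∈ S, x = i s ∨ x = j s then -1 else 1 := fun S => by
    induction S using Finset.induction_on with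
    | empty => exact ⟨1, one_mem _, by simp⟩
    | insert t S ht ih =>
      obtain ⟨w, hw, e⟩ := ih
      refine ⟨I t * I t * w, mul_mem (sq_mem (hcI t)) hw, ?_⟩
      have h7 : ρ (I t * I t) = diagonal fun x => if x = i t ∨ x = j t then -1 else 1 :=
        (hz t).ext (isBlk_diag (hij t t)) rfl rfl rfl rfl
      rw [map_mul, e, h7, diagonal_mul_diagonal]
      congr 1
      funext x
      simp only [Finset.mem_insert, exists_eq_or_imp]
      by_cases h5 : x = i t ∨ x = j t
      · rw [if_pos h5, if_pos (Or.inl h5), if_neg, mul_one]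
        rintro ⟨s, hs, e⟩
        rcases h5 with rfl | rfl <;> rcases e with e | e
        · exact ht (hi e ▸ hs)
        · exact hij _ _ e
        · exact hij _ _ e.symm
        · exact ht (hj e ▸ hs)
      · simp only [h5, if_false, one_mul, false_or]
  have := Fintype.ofFinite κ
  obtain ⟨w, hw, e⟩ := hw (Finset.univ.filter fun s => ρ g (i s) (i s) ≠ ρ g x0 x0)
  have hy : ρ (w * g) = ρ g x0 x0 • 1 := by
    rw [map_mul, e, smul_one_eq_diagonal]
    refine (congrArg _ hd).trans ?_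
    rw [diagonal_mul_diagonal]
    congr 1
    funext x
    have h5 : ρ g x x = ρ g x0 x0 ∨ ρ g x x = -ρ g x0 x0 :=
      mul_self_eq_mul_self_iff.1 ((hl' x).trans (hl' x0).symm)
    simp only [Finset.mem_filter, Finset.mem_univ, true_and]
    split_ifs with h
    · obtain ⟨s, hs, rfl | rfl⟩ := h
      · rw [h5.resolve_left hs]; ring
      · rw [(hb s).2.2] at hs
        rw [h5.resolve_left hs]; ring
    · rw [one_mul]
      by_contra hc
      suffices hx : x = x0 from hc (by rw [hx])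
      refine hx0 x fun s => ⟨?_, ?_⟩
      · rintro rfl; exact h ⟨s, hc, Or.inl rfl⟩
      · rintro rfl; exact h ⟨s, (hb s).2.2 ▸ hc, Or.inr rfl⟩
  refine ⟨(w * g)⁻¹, inv_mem (Subgroup.mem_center_iff.2 fun h => hρ ?_), ?_⟩
  · rw [map_mul ρ h, map_mul ρ _ h, hy, mul_smul_comm, smul_mul_assoc, mul_one, one_mul]
  · rw [_root_.mul_inv_rev, mul_inv_cancel_left]
    exact inv_mem hw

end Blk

theorem exists_sq_add_sq (F : Type*) [Field F] [Fintype F] (h2 : (2 : F) ≠ 0) :
    ∃ a b : F, a * a + b * b = -1 := by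
  have hc : Fintype.card F % 2 = 1 :=
    FiniteField.odd_card_of_char_ne_two fun e => h2 (by
      have := ringChar.Nat.cast_ringChar (R := F)
      rw [e] at this
      exact_mod_cast this)
  obtain ⟨a, b, h⟩ := FiniteField.exists_root_sum_quadratic (f := Polynomial.X ^ 2 + 1)
    (g := (Polynomial.X ^ 2 : Polynomial F)) (Polynomial.degree_X_pow_add_C (by norm_num) 1)
    (Polynomial.degree_X_pow 2) hc
  exact ⟨a, b, by simp at h; linear_combination h⟩

section Fin
variable {n : ℕ}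

/-- The pairs of consecutive coordinates. -/
def pr (s : Fin (n / 2)) : Fin 2 ↪ Fin n := H65.Phan.off (2 * s) (by omega)

theorem isBlk_pr {F : Type*} [Field F] (s : Fin (n / 2)) (a b c d : F) :
    IsBlk (pr s 0) (pr s 1) a b c d (H65.Phan.blk (pr s) !![a, b; c, d]) :=
  ⟨H65.Phan.blk_apply _ _ 0 0, H65.Phan.blk_apply _ _ 0 1, H65.Phan.blk_apply _ _ 1 0,
    H65.Phan.blk_apply _ _ 1 1,
    fun _ h1 h2 y => H65.Phan.blk_apply_left _ _ (Fin.forall_fin_two.2 ⟨h1.symm, h2.symm⟩) y,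
    fun _ h1 h2 y => H65.Phan.blk_apply_right _ _ y (Fin.forall_fin_two.2 ⟨h1.symm, h2.symm⟩)⟩

theorem ns_fin {F : Type*} [Field F] (h2 : (2 : F) ≠ 0) (h3 : 3 ≤ n) {H : Type*} [Group H]
    [Finite H] (ρ : H →* Matrix (Fin n) (Fin n) F) (hρ : Function.Injective ρ)
    (hZ : ∀ z ∈ Subgroup.center H, ∃ c : F, ρ z = c • 1) {a b : F} (hab : a * a + b * b = -1)
    (hI : ∀ s, ∃ x, ρ x = H65.Phan.blk (pr s) !![0, 1; -1, 0])
    (hJ : ∀ s, ∃ x, ρ x = H65.Phan.blk (pr s) !![a, b; b, -a]) : NS (H ⧸ Subgroup.center H) := by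
  choose I hI using hI
  choose J hJ using hJ
  have e0 : ∀ s : Fin (n / 2), (pr s 0 : ℕ) = 2 * s := fun _ => rfl
  have e1 : ∀ s : Fin (n / 2), (pr s 1 : ℕ) = 2 * s + 1 := fun _ => rfl
  refine ns_blk h2 ρ hρ hZ (fun s => pr s 0) (fun s => pr s 1) (fun s t e => ?_) (fun s t e => ?_)
    (fun s t e => ?_) (by simpa using h3) (fun x y hx hy => ?_) hab I J
    (fun s => hI s ▸ isBlk_pr s _ _ _ _) fun s => hJ s ▸ isBlk_pr s _ _ _ _
  · have := congrArg Fin.val e
    rw [e0, e1] at this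
    omega
  · have := congrArg Fin.val e
    simp only [e0] at this
    exact Fin.ext (by omega)
  · have := congrArg Fin.val e
    simp only [e1] at this
    exact Fin.ext (by omega)
  · have k : ∀ x : Fin n, (∀ s, x ≠ pr s 0 ∧ x ≠ pr s 1) → ¬ (x : ℕ) / 2 < n / 2 := fun x hx h => by
      have h1 := (hx ⟨_, h⟩).1
      have h2 := (hx ⟨_, h⟩).2
      rw [Ne, Fin.ext_iff, e0] at h1
      rw [Ne, Fin.ext_iff, e1] at h2
      simp only at h1 h2
      omega
    have := k x hx
    have := k y hy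
    exact Fin.ext (by omega)

theorem jobL : JobL := by
  intro F _ _ n h2 h3
  obtain ⟨a, b, hab⟩ := exists_sq_add_sq F h2
  refine ns_fin h2 h3 (slToMat n F) (fun x y e => Subtype.ext e) (fun z hz => ?_) hab
    (fun s => ⟨⟨H65.Phan.blk (pr s) !![0, 1; -1, 0], ?_⟩, rfl⟩)
    fun s => ⟨⟨H65.Phan.blk (pr s) !![a, b; b, -a], ?_⟩, rfl⟩
  · obtain ⟨r, -, hr⟩ := Matrix.SpecialLinearGroup.mem_center_iff.1 hz
    exact ⟨r, hr.symm.trans (by rw [scalar_apply, smul_one_eq_diagonal])⟩
  · rw [H65.Phan.det_blk]; simp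
  · rw [H65.Phan.det_blk, det_fin_two_of]; linear_combination -hab

theorem jobU : JobU := by
  intro F _ _ n q h2 hF h3
  obtain ⟨a, b, hab, ha, hb⟩ : ∃ a b : F, a * a + b * b = -1 ∧ H59.frob hF a = -a ∧
      H59.frob hF b = -b := by
    obtain ⟨i, hi⟩ : IsSquare (-1 : F) := FiniteField.isSquare_neg_one_iff.2 (by
      rw [hF, Nat.pow_mod]
      have : q % 4 < 4 := Nat.mod_lt _ (by norm_num)
      interval_cases q % 4 <;> simp)
    have h4 : H59.frob hF i * H59.frob hF i = i * i := by rw [← map_mul, ← hi, map_neg, map_one]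
    rcases mul_self_eq_mul_self_iff.1 h4 with h5 | h5
    · obtain ⟨x, hx⟩ : ∃ x, H59.frob hF x ≠ x := by
        by_contra hc
        push Not at hc
        exact H59.frob_ne_id hF (RingHom.ext hc)
      have h6 : x - H59.frob hF x ≠ 0 := sub_ne_zero.2 hx.symm
      have h7 : H59.frob hF (x - H59.frob hF x) = -(x - H59.frob hF x) := by
        rw [map_sub, H59.frob_frob, neg_sub]
      generalize x - H59.frob hF x = s at h6 h7
      have hi0 : i ≠ 0 := fun e => by simp [e] at hi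
      refine ⟨(s - s⁻¹) / 2, (s + s⁻¹) / (2 * i), ?_, ?_, ?_⟩
      · field_simp
        linear_combination (-(s ^ 2 + 1) ^ 2) * hi
      · simp only [map_div₀, map_sub, map_inv₀, h7, map_ofNat]; field_simp; ring
      · simp only [map_div₀, map_add, map_inv₀, map_mul, h7, h5, map_ofNat]; field_simp; ring
    · exact ⟨i, 0, by rw [hi]; ring, h5, by simp⟩
  refine ns_fin h2 h3 ((slToMat n F).comp (SU n F q).subtype)
    (fun x y e => Subtype.ext (Subtype.ext e))
    (fun z hz => (H59.mem_center_SU_iff hF (by omega) z).1 hz) hab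
    (fun s => ⟨H65.Phan.blkHom hF (pr s) (H65.Phan.mkSU hF !![0, 1; -1, 0] (by simp) ?_), rfl⟩)
    fun s => ⟨H65.Phan.blkHom hF (pr s) (H65.Phan.mkSU hF !![a, b; b, -a] ?_ ?_), rfl⟩
  · ext i j
    fin_cases i <;> fin_cases j <;> simp [mul_apply, Fin.sum_univ_two]
  · rw [det_fin_two_of]; linear_combination -hab
  · ext i j
    fin_cases i <;> fin_cases j <;> simp [mul_apply, Fin.sum_univ_two, ha, hb]
    · linear_combination -hab
    · ring
    · ring
    · linear_combination -hab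

end Fin

section Sp
variable {l : Type*} [Fintype l] [DecidableEq l] {F : Type*} [Field F]

/-- A two by two matrix on one hyperbolic plane. -/
def spB (s : l) (a b c d : F) : Matrix (l ⊕ l) (l ⊕ l) F :=
  fromBlocks (diagonal fun x => if x = s then a else 1) (diagonal fun x => if x = s then b else 0)
    (diagonal fun x => if x = s then c else 0) (diagonal fun x => if x = s then d else 1)

omit [Fintype l] in
theorem isBlk_spB (s : l) (a b c d : F) : IsBlk (.inl s) (.inr s) a b c d (spB s a b c d) := by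
  refine ⟨by simp [spB], by simp [spB], by simp [spB], by simp [spB], ?_, ?_⟩
  · rintro (x | x) h1 h2 (y | y) <;> simp_all [spB, diagonal_apply] <;> grind
  · rintro (x | x) h1 h2 (y | y) <;> simp_all [spB, diagonal_apply] <;> grind

theorem spB_mem (s : l) {a b c d : F} (h : a * d - b * c = 1) :
    spB s a b c d ∈ symplecticGroup l F := by
  rw [SymplecticGroup.mem_iff, spB, J, fromBlocks_transpose, fromBlocks_multiply,
    fromBlocks_multiply]
  simp only [diagonal_transpose, Matrix.mul_zero, Matrix.mul_one, Matrix.mul_neg, zero_add,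
    add_zero, Matrix.neg_mul, diagonal_mul_diagonal, diagonal_neg, diagonal_add]
  congr 1 <;> ext x y <;> 
    simp only [diagonal_apply, Matrix.neg_apply, one_apply, Matrix.zero_apply] <;> grind

theorem jobS : JobS := by
  intro F _ _ m h2 h3
  obtain ⟨a, b, hab⟩ := exists_sq_add_sq F h2
  refine ns_blk h2 (symplecticGroup (Fin m) F).subtype Subtype.val_injective (fun z hz => ?_)
    Sum.inl Sum.inr (fun _ _ => Sum.inl_ne_inr) Sum.inl_injective Sum.inr_injective
    (by simp; omega) ?_ hab (fun s => ⟨_, spB_mem s (a := 0) (b := 1) (c := -1) (d := 0) (by ring)⟩)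
    (fun s => ⟨_, spB_mem s (a := a) (b := b) (c := b) (d := -a) (by linear_combination -hab)⟩)
    (fun s => isBlk_spB s _ _ _ _) fun s => isBlk_spB s _ _ _ _
  · rcases H54.mem_center_sp_iff.1 hz with rfl | rfl
    · exact ⟨1, by simp⟩
    · exact ⟨-1, by simp [H54.spNegOne]⟩
  · rintro (x | x) _ hx
    · exact absurd rfl (hx x).1
    · exact absurd rfl (hx x).2

end Sp

end H25.NS
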