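import Cfsg.Agent.H25.NSBlk
import Cfsg.Agent.H67.RootSL
import Cfsg.Agent.H67.InvJobs

/-! The property `NS` for the exceptional groups of odd characteristic: an involution centralizing
a large 2-subgroup built on a frame of strongly orthogonal roots is a product of the central
involutions of the fundamental subgroups of the frame. -/

set_option autoImplicit false
set_option linter.unusedSectionVars false

namespace H25.NS
open Cfsg Cfsg.Lie H63 H64 H65 H46 H67 Matrix
open scoped Pointwise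

section grp
variable {G : Type*} [Group G] [Finite G]

theorem ns_sub {ι : Type*} [Finite ι] (Y R : Subgroup G) (hRY : R ≤ Y) (hR : IsPGroup 2 R)
    (M : ι → Subgroup G) (hMY : ∀ i, M i ≤ Y) (hRM : ∀ i, R ≤ Subgroup.normalizer (M i))
    (hM : ∀ i j, M i ≤ Subgroup.normalizer (M j))
    (h : ∀ u ∈ Y, u * u = 1 → (∀ r ∈ R, r * u = u * r) →
      (∀ i, ∃ Q : Sylow 2 (M i), ∀ x ∈ (Q : Subgroup (M i)), (x : G) * u = u * x) →
      ∀ Z : Subgroup G, (∀ c ∈ Y, c * u = u * c → c * c ∈ Z) → u ∈ Z) : NS Y := by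
  have := Fintype.ofFinite ι
  obtain ⟨P, h1, h2, -, h4⟩ := exists_two_subgroup R hR M hRM hM Finset.univ
  refine ns_of (P.subgroupOf Y) (h1.comap_of_injective _ Y.subtype_injective) fun u hu hc => ?_
  have h5 : ∀ r ∈ P, r ∈ Y → r * (u : G) = u * r := fun r hr hr' =>
    congrArg Subtype.val (hc ⟨r, hr'⟩ hr)
  obtain ⟨v, hv, e⟩ := h u u.2 (by
      have := pow_orderOf_eq_one u
      rw [hu, pow_two] at this
      exact congrArg Subtype.val this) (fun r hr => h5 r (h2 hr) (hRY hr))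
    (fun i => by
      obtain ⟨Q, hQ⟩ := h4 i (Finset.mem_univ i)
      exact ⟨Q, fun x hx => h5 _ (hQ x hx) (hMY i x.2)⟩)
    ((SqC u).map Y.subtype) fun c hc e => ⟨⟨c, hc⟩ * ⟨c, hc⟩, sq_mem (Subtype.ext e), rfl⟩
  rwa [show v = u from Subtype.ext e] at hv

variable {K : Type*} [Field K]

/-- The second generator of a quaternion group in `SL₂`. -/
def sl2J (a b : K) (h : a * a + b * b = -1) : SpecialLinearGroup (Fin 2) K :=
  ⟨!![a, b; b, -a], by rw [Matrix.det_fin_two_of]; linear_combination -h⟩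

theorem sl2_ext {g g' : SpecialLinearGroup (Fin 2) K} (h : g.1 = g'.1) : g = g' := Subtype.ext h

theorem comm_of_comm_W {g g' : SpecialLinearGroup (Fin 2) K} (h : g * sl2W = sl2W * g)
    (h' : g' * sl2W = sl2W * g') : g * g' = g' * g := by
  have key : ∀ g : SpecialLinearGroup (Fin 2) K, g * sl2W = sl2W * g →
      g 1 0 = - g 0 1 ∧ g 1 1 = g 0 0 := fun g h => by
    have e : g.1 * (sl2W : SpecialLinearGroup (Fin 2) K).1 = (sl2W : SpecialLinearGroup (Fin 2) K).1 * g.1 :=
      congrArg Subtype.val h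
    have e0 := congrFun (congrFun e 0) 0
    have e1 := congrFun (congrFun e 0) 1
    simp [Matrix.mul_apply, Fin.sum_univ_two] at e0 e1
    exact ⟨e0.symm, e1.symm⟩
  obtain ⟨a1, a2⟩ := key g h
  obtain ⟨b1, b2⟩ := key g' h'
  refine sl2_ext (show g.1 * g'.1 = g'.1 * g.1 from ?_)
  ext i j
  fin_cases i <;> fin_cases j <;> simp [Matrix.mul_apply, Fin.sum_univ_two] <;>
    simp only [a1, a2, b1, b2] <;> ring

theorem W_sq : (sl2W * sl2W : SpecialLinearGroup (Fin 2) K) = -1 := by
  refine sl2_ext (show (sl2W : SpecialLinearGroup (Fin 2) K).1 * (sl2W : SpecialLinearGroup (Fin 2) K).1 = -1 from ?_)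
  ext i j
  fin_cases i <;> fin_cases j <;> simp [Matrix.mul_apply, Fin.sum_univ_two]

theorem J_sq {a b : K} (h : a * a + b * b = -1) : sl2J a b h * sl2J a b h = -1 := by
  refine sl2_ext (show !![a, b; b, -a] * !![a, b; b, -a] = -1 from ?_)
  ext i j
  fin_cases i <;> fin_cases j <;> simp [Matrix.mul_apply, Fin.sum_univ_two] <;>
    first | linear_combination h | ring

theorem J_W {a b : K} (h : a * a + b * b = -1) : sl2W * sl2J a b h * sl2W = sl2J a b h := by
  refine sl2_ext (show !![0, 1; -1, 0] * !![a, b; b, -a] * !![0, 1; -1, 0] = !![a, b; b, -a] from ?_)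
  ext i j
  fin_cases i <;> fin_cases j <;> simp [Matrix.mul_apply, Fin.sum_univ_two]

/-- A Sylow 2-subgroup of a subgroup of `SL₂` containing a quaternion group does not centralize
the Weyl element. -/
theorem not_comm_sylow (h2 : (2 : K) ≠ 0) (φ : SpecialLinearGroup (Fin 2) K →* G)
    (hφ : Function.Injective φ) (M : Subgroup G) (hM : M ≤ φ.range) (hW : φ sl2W ∈ M) {a b : K}
    (hab : a * a + b * b = -1) (hJ : φ (sl2J a b hab) ∈ M) (Q : Sylow 2 M)
    (hQ : ∀ x ∈ (Q : Subgroup M), (x : G) * φ sl2W = φ sl2W * x) : False := by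
  have hc : ∀ x ∈ (Q : Subgroup M), ∀ y ∈ (Q : Subgroup M), x * y = y * x := fun x hx y hy => by
    obtain ⟨g, hg⟩ := hM x.2
    obtain ⟨g', hg'⟩ := hM y.2
    have h1 := hQ x hx
    have h3 := hQ y hy
    rw [← hg, ← map_mul, ← map_mul] at h1
    rw [← hg', ← map_mul, ← map_mul] at h3
    refine Subtype.ext ?_
    rw [Subgroup.coe_mul, Subgroup.coe_mul, ← hg, ← hg', ← map_mul, ← map_mul,
      comm_of_comm_W (hφ h1) (hφ h3)]
  set I : M := ⟨_, hW⟩ with hI
  set J : M := ⟨_, hJ⟩ with hJ'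
  have f4 : ∀ (g : SpecialLinearGroup (Fin 2) K) (hg : φ g ∈ M), g * g = -1 →
      (⟨φ g, hg⟩ : M) ^ 4 = 1 := fun g hg e => Subtype.ext (by
    rw [Subgroup.coe_pow, ← map_pow, show g ^ 4 = g * g * (g * g) by simp [pow_succ, mul_assoc], e]
    simp)
  have hIJ : I * J * I = J := Subtype.ext (by
    change φ _ * φ _ * φ _ = φ _
    rw [← map_mul, ← map_mul, J_W])
  have hP : IsPGroup 2 (Subgroup.zpowers J ⊔ Subgroup.zpowers I : Subgroup M) := by
    refine (isPGroup_zpowers_four (f4 _ _ (J_sq hab))).to_sup_of_normal_right'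
      (isPGroup_zpowers_four (f4 _ _ W_sq)) (Subgroup.zpowers_le.2 ?_)
    refine Subgroup.mem_normalizer_fintype ?_
    rintro _ ⟨k, rfl⟩
    have e : J * I * J⁻¹ = I⁻¹ := by
      rw [mul_inv_eq_iff_eq_mul, eq_inv_mul_iff_mul_eq, ← mul_assoc, hIJ]
    exact ⟨-k, by rw [← conj_zpow, e]; simp⟩
  obtain ⟨P, hP'⟩ := hP.exists_le_sylow
  obtain ⟨g, rfl⟩ := MulAction.exists_smul_eq M Q P
  have h1 := hP' (Subgroup.mem_sup_left (Subgroup.mem_zpowers J))
  have h3 := hP' (Subgroup.mem_sup_right (Subgroup.mem_zpowers I))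
  rw [Sylow.coe_subgroup_smul, Subgroup.mem_pointwise_smul_iff_inv_smul_mem] at h1 h3
  have h4 := hc _ h1 _ h3
  rw [← smul_mul', ← smul_mul', smul_left_cancel_iff] at h4
  have h5 : sl2J a b hab * sl2W = sl2W * sl2J a b hab :=
    hφ (by rw [map_mul, map_mul]; exact congrArg Subtype.val h4)
  have h6 := J_W hab
  rw [← h5, mul_assoc, W_sq, mul_eq_left] at h6
  have := congrFun (congrFun (congrArg Subtype.val h6) 0) 0
  simp at this
  exact h2 (by linear_combination -this)

end grp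

section lie
variable {D : ChevalleyDatum} [RS D] [Tab D] [Comm D] {K : Type*} [Field K] [Fintype K]

theorem slR_W (r : Rt D) : slR K r sl2W = nn D (xG D K) r 1 := by
  rw [nn_eq]; exact SL2Rel.hom_W _

theorem nn_sq (r : Rt D) :
    nn D (xG D K) r 1 * nn D (xG D K) r 1 = torG D K (zp (-1) (cov r)) := by
  rw [← slR_W, ← map_mul, W_sq, slR_neg_one]

theorem slR_comm' {r s : Rt D} (h0 : D.pairing r s = 0)
    (h1 : ∀ u : Rt D, H63.len u ≠ H63.len r + H63.len s) (g g' : SpecialLinearGroup (Fin 2) K) :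
    slR K r g * slR K s g' = slR K s g' * slR K r g := by
  have h : StB D (xG D K) := stBG
  have hf : form (rt r) (rt s) = 0 := by rw [← len_mul_pairing, h0, mul_zero]
  have key : ∀ a ∈ ({r, negR r} : Set (Rt D)), ∀ b ∈ ({s, negR s} : Set (Rt D)), ∀ t u,
      xG D K a t * xG D K b u = xG D K b u * xG D K a t := fun a ha b hb t u => by
    have e : form (rt a) (rt b) = 0 ∧ H63.len a = H63.len r ∧ H63.len b = H63.len s := by
      rcases ha with rfl | rfl <;> rcases hb with rfl | rfl <;>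
        simp [form_neg_left, form_neg_right, hf]
    have la := len_pos a
    refine h.toSt.commute_of_not_add ?_ ?_ (fun v hv => h1 v ?_) u t
    · rintro rfl
      have := form_rt_self a
      omega
    · rintro rfl
      have := form_rt_self b
      have lb := len_pos b
      rw [rt_negR, form_neg_left] at e
      omega
    · have := form_rt_self v
      rw [hv, form_add_left, form_add_right, form_add_right, form_rt_self, form_rt_self,
        form_symm (rt b), e.1] at this
      omega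
  have : (slR K r).range ≤ Subgroup.centralizer ((slR K s).range : Set _) := by
    rw [range_slR, range_slR]
    refine gen_le fun a ha y hy => ?_
    have : gen (XR D (xG D K)) {s, negR s} ≤ Subgroup.centralizer {y} := gen_le fun b hb z hz => by
      obtain ⟨t, rfl⟩ := h.toSt.mem_XR.1 hy
      obtain ⟨u, rfl⟩ := h.toSt.mem_XR.1 hz
      exact Subgroup.mem_centralizer_singleton_iff.2 (key a ha b hb t u).symm
    exact fun z hz => Subgroup.mem_centralizer_singleton_iff.1 (this hz)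
  exact (this ⟨g, rfl⟩ _ ⟨g', rfl⟩).symm

theorem nn_mem {Y : Subgroup (D.group K)} {r : Rt D} (h1 : xG D K r 1 ∈ Y)
    (h2 : xG D K (D.neg r) 1 ∈ Y) : nn D (xG D K) r 1 ∈ Y := by
  have h : StB D (xG D K) := stBG
  rw [nn_eq, inv_one, ← negR_val, ← h.toSt.x_inv]
  exact mul_mem (mul_mem h1 (inv_mem h2)) h1

theorem exists_J_mem {Y : Subgroup (D.group K)} {r : Rt D} (h1 : xG D K r 1 ∈ Y)
    (h2 : xG D K (D.neg r) 1 ∈ Y) :
    ∃ (a b : K) (hab : a * a + b * b = -1), slR K r (sl2J a b hab) ∈ Y := by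
  have h : StB D (xG D K) := stBG
  obtain ⟨p, hp⟩ := CharP.exists K
  have : Fact p.Prime := ⟨CharP.char_is_prime K p⟩
  let ι : ZMod p →+* K := ZMod.castHom dvd_rfl K
  have key : ∀ g : SpecialLinearGroup (Fin 2) (ZMod p), slR K r (SpecialLinearGroup.map ι g) ∈ Y := by
    intro g
    induction g using sl2_induction with
    | hU t =>
      obtain ⟨n, rfl⟩ := ZMod.natCast_zmod_surjective t
      have e : SpecialLinearGroup.map ι (sl2U (n : ZMod p)) = sl2U (n : K) := by
        ext i j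
        fin_cases i <;> fin_cases j <;> simp [SpecialLinearGroup.map_apply_coe]
      rw [e, slR_U]
      clear e
      induction n with
      | zero => rw [Nat.cast_zero, h.toSt.x_zero]; exact one_mem _
      | succ n ih => rw [Nat.cast_succ, ← h.toSt.add r r.2]; exact mul_mem ih h1
    | hW =>
      have e : SpecialLinearGroup.map ι sl2W = sl2W := by
        ext i j
        fin_cases i <;> fin_cases j <;> simp [SpecialLinearGroup.map_apply_coe]
      rw [e, slR_W]
      exact nn_mem h1 h2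
    | hmul a b ha hb => rw [map_mul, map_mul]; exact mul_mem ha hb
  obtain ⟨a, b, hab⟩ := ZMod.sq_add_sq p (-1)
  rw [sq, sq] at hab
  refine ⟨ι a, ι b, by simpa using congrArg ι hab, ?_⟩
  convert key (sl2J a b hab) using 2
  refine sl2_ext (show !![ι a, ι b; ι b, -ι a] = (!![a, b; b, -a]).map ι from ?_)
  ext i j
  fin_cases i <;> fin_cases j <;> simp

theorem neg_one_zpow_units (h2 : (2 : K) ≠ 0) {a b : ℤ} :
    (-1 : Kˣ) ^ a = (-1) ^ b ↔ a % 2 = b % 2 := by
  have h : (-1 : Kˣ) ≠ 1 := fun h => h2 (by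
    have : (-1 : K) = 1 := by simpa using congrArg Units.val h
    linear_combination -this)
  rcases Int.even_or_odd a with ha | ha <;> rcases Int.even_or_odd b with hb | hb <;>
    simp only [ha.neg_one_zpow, hb.neg_one_zpow]
  · simp [Int.even_iff.1 ha, Int.even_iff.1 hb]
  · simp [Int.even_iff.1 ha, Int.odd_iff.1 hb, h.symm]
  · simp [Int.odd_iff.1 ha, Int.even_iff.1 hb, h]
  · simp [Int.odd_iff.1 ha, Int.odd_iff.1 hb]

/-- An element of `N` commuting with `n_r` fixes `r`, or acts on the fundamental subgroup as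
`n_r` does. -/
theorem fix_or_swap {u : D.group K} {w : (H64.wdata D).W} (hu : u ∈ (stBG (D := D) (k := K)).rgd.N)
    (hw : (stBG (D := D) (k := K)).rgd.Act u w) {r s : Rt D} (hr : Pos r) (hs : D.pairing r s = 1)
    (hc : nn D (xG D K) r 1 * u = u * nn D (xG D K) r 1) :
    w.1 r = r ∨ ∀ g, u * slR K r g * u⁻¹ = slR K r (sl2W * g * sl2W⁻¹) := by
  have h : StB D (xG D K) := stBG
  obtain ⟨v, hv, hv'⟩ := h.toStN.sgn_nn_one r
  have h1 := (h.act_of_sgn hv').mul hw
  rw [hc] at h1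
  have h2 := congrArg (fun z : (H64.wdata D).W => rt (z.1 r)) (h1.unique (hw.mul (h.act_of_sgn hv')))
  simp only [WData.mul_apply, hv, refl_self] at h2
  rw [← H64.wdata_neg, WData.w_neg, H64.wdata_neg, rt_negR, rt_refl] at h2
  have h3 : (2 : ℤ) • rt (w.1 r) = D.pairing r (w.1 r) • rt r := by
    linear_combination (exp := 1) h2
  have h4 : form ((2 : ℤ) • rt (w.1 r)) ((2 : ℤ) • rt (w.1 r)) = 2 * (2 * (2 * H63.len r)) := by
    rw [form_smul_left, form_smul_right, form_rt_self, len_apply w.2]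
  rw [h3, form_smul_left, form_smul_right, form_rt_self] at h4
  have h5 : D.pairing r (w.1 r) = 2 ∨ D.pairing r (w.1 r) = -2 := by
    have lr := len_pos r
    have : D.pairing r (w.1 r) * D.pairing r (w.1 r) = 2 * 2 := by nlinarith
    exact mul_self_eq_mul_self_iff.1 this
  have h6 : w.1 r = r ∨ w.1 r = negR r := by
    rcases h5 with e | e <;> rw [e] at h3
    · exact Or.inl (rt_inj (smul_right_injective _ two_ne_zero h3))
    · exact Or.inr (rt_inj (smul_right_injective _ (two_ne_zero (α := ℤ)) (by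
        simp only [h3, rt_negR, smul_neg, neg_smul])))
  refine h6.imp_right fun e => ?_
  obtain ⟨a, -, ha⟩ := exists_conj_N h hu hw r
  obtain ⟨b, -, hb⟩ := exists_conj_N h hu hw (negR r)
  rw [show w.1 (negR r) = r from (WData.w_neg _ w r).trans (by rw [e]; exact negR_negR r)] at hb
  rw [e] at ha
  have e1 : slR K r (sl2L a * sl2U (-b) * sl2L a) = slR K r sl2W := by
    rw [map_mul, map_mul, slR_L, slR_U, slR_W, ← mul_one a, ← ha, ← mul_neg_one b, ← hb,
      ← mul_inv_cancel_right (nn D (xG D K) r 1) u, hc, nn_eq, inv_one]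
    simp only [negR_val]
    group
  have e2 : (sl2L a).1 * (sl2U (-b)).1 * (sl2L a).1 = (sl2W : SpecialLinearGroup (Fin 2) K).1 :=
    congrArg Subtype.val (slR_injective hr hs e1)
  have e3 := congrFun (congrFun e2 0) 0
  have e4 := congrFun (congrFun e2 0) 1
  simp [Matrix.mul_apply, Fin.sum_univ_two] at e3 e4
  have e5 : a = -1 := by linear_combination e3 - a * e4
  intro g
  induction g using sl2_induction with
  | hU t =>
    rw [slR_U, ha, e5, ← slR_L]
    congr 1
    rw [eq_mul_inv_iff_mul_eq]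
    refine sl2_ext (show (sl2L _).1 * (sl2W : SpecialLinearGroup (Fin 2) K).1 =
      (sl2W : SpecialLinearGroup (Fin 2) K).1 * (sl2U _).1 from ?_)
    ext i j
    fin_cases i <;> fin_cases j <;> simp [Matrix.mul_apply, Fin.sum_univ_two]
  | hW => rw [mul_inv_cancel_right, slR_W, ← hc, mul_inv_cancel_right]
  | hmul a b ha hb =>
    rw [map_mul, show sl2W * (a * b) * sl2W⁻¹ = sl2W * a * sl2W⁻¹ * (sl2W * b * sl2W⁻¹) by group,
      map_mul, ← ha, ← hb]
    group

variable (D) in
/-- The combinatorial facts about a frame `Fr` of strongly orthogonal roots. -/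
structure Frame (ρ : ℕ → ℕ) (L Fr Bs A : List (Rt D)) : Prop where
  odd : ∀ r : Rt D, ∃ γ ∈ L, D.pairing γ r % 2 = 1
  sub : ∀ b ∈ Fr, b ∈ L ∧ Pos b ∧ ∃ s : Rt D, D.pairing b s = 1
  orth : ∃ m ∈ List.range 4, (∀ u : Rt D, H63.len u ≤ m) ∧ ∀ a ∈ Fr, ∀ b ∈ Fr, a ≠ b →
    D.pairing a b = 0 ∧ m < H63.len a + H63.len b
  bs : ∀ b ∈ Bs, b ∈ Fr
  fixA : ∀ a ∈ A, ρ a = a ∧ ∀ s : Rt D, ρ s = s → (∀ b ∈ Fr, D.pairing b s = D.pairing b a) →
    (∀ γ ∈ L, D.pairing γ s % 2 = D.pairing γ a % 2) → s = a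
  posS : ∀ s : Rt D, Pos s ∨ ∀ i : Fin D.rank, ∃ b ∈ Fr ++ A,
    D.pairing b s ≠ D.pairing b (D.simple i)
  sign : ∀ n < 2 ^ D.rank,
    (∀ b ∈ Fr, (∑ j : Fin D.rank, (if n.testBit j then 1 else 0) * rt b j) % 2 = 0) →
    (∀ j k : Fin D.rank, ρ (D.simple j) = D.simple k → n.testBit j = n.testBit k) →
    ∃ S ∈ Bs.sublists, ∀ j : Fin D.rank,
      (S.map fun b : Rt D => D.pairing b (D.simple j)).sum % 2 = (if n.testBit j then 1 else 0) % 2

theorem chi_prod (S : List (Rt D)) (r : Rt D) :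
    chi D (S.map fun b => zp (-1 : Kˣ) (cov b)).prod r =
      (-1) ^ (S.map fun b : Rt D => D.pairing b r).sum := by
  induction S with
  | nil => simp [chi]
  | cons b S ih => rw [List.map_cons, List.prod_cons, chi_mul, ih, chi_zp, pr_co, List.map_cons,
      List.sum_cons, _root_.zpow_add]

theorem ns_frame (h2 : (2 : K) ≠ 0) {ρ : ℕ → ℕ} {η : ℕ → ℤ} {L Fr Bs A : List (Rt D)}
    (c : Frame D ρ L Fr Bs A) (Y : Subgroup (D.group K))
    (hL : ∀ γ ∈ L, xG D K γ 1 ∈ Y ∧ xG D K (D.neg γ) 1 ∈ Y)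
    (σ : D.group K →* D.group K) (φ : K →+* K) (hρ : ∀ r < D.nroots, ρ r < D.nroots)
    (hη : ∀ r < D.nroots, η r * η r = 1)
    (hσ : ∀ r < D.nroots, ∀ t, σ (xG D K r t) = xG D K (ρ r) (η r * φ t))
    (hY : ∀ y ∈ Y, σ y = y) : NS Y := by
  classical
  have h : StB D (xG D K) := stBG
  have hτ : TorOK D (xG D K) (torG D K) := torOK_xG
  have hnY : ∀ γ ∈ L, nn D (xG D K) γ 1 ∈ Y := fun γ hγ => nn_mem (hL γ hγ).1 (hL γ hγ).2
  have hsq : ∀ d, torG D K d * torG D K d = 1 → ∀ r : Rt D, chi D d r = 1 ∨ chi D d r = -1 :=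
    fun d hd r => by
      rw [← map_mul, torG_eq_one_iff] at hd
      have := chi_of_mem_cker hd r
      rw [chi_mul] at this
      exact (mul_self_eq_one_iff.1 (show ((chi D d r : Kˣ) : K) * (chi D d r : Kˣ) = 1 from
        congrArg Units.val this)).imp (fun e => Units.ext e) fun e => Units.ext e
  let E : Subgroup (D.group K) :=
    { carrier := {y | y ∈ Y ∧ y ∈ HH D (xG D K) ∧ y * y = 1}
      one_mem' := ⟨one_mem _, one_mem _, mul_one _⟩
      inv_mem' := fun ha => ⟨inv_mem ha.1, inv_mem ha.2.1, by rw [← _root_.mul_inv_rev, ha.2.2, inv_one]⟩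
      mul_mem' := fun {a b} ha hb => ⟨mul_mem ha.1 hb.1, mul_mem ha.2.1 hb.2.1, by
        obtain ⟨d, rfl⟩ := hτ.exists h.toStN ha.2.1
        obtain ⟨d', rfl⟩ := hτ.exists h.toStN hb.2.1
        have h1 := ha.2.2
        have h3 := hb.2.2
        rw [← map_mul] at h1 h3 ⊢
        rw [← map_mul, mul_mul_mul_comm, map_mul, h1, h3, mul_one]⟩ }
  have hE : ∀ γ ∈ L, torG D K (zp (-1) (cov γ)) ∈ E := fun γ hγ =>
    ⟨nn_sq (K := K) γ ▸ mul_mem (hnY γ hγ) (hnY γ hγ), hτ.mem h.toStN _, by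
      rw [← map_mul, ← sq, zp_pow]
      exact (congrArg _ (funext fun i => by simp [zp])).trans (map_one _)⟩
  obtain ⟨m, -, hm, hm'⟩ := c.orth
  have hcomm : ∀ a ∈ Fr, ∀ b ∈ Fr, a ≠ b → ∀ g g', slR K a g * slR K b g' = slR K b g' * slR K a g :=
    fun a ha b hb hab => slR_comm' (hm' a ha b hb hab).1 fun u =>
      ((hm u).trans_lt (hm' a ha b hb hab).2).ne
  let Q : Option {b // b ∈ Fr} → Subgroup (D.group K) := fun o =>
    o.elim E fun b => Subgroup.zpowers (nn D (xG D K) b.1 1)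
  let M : {b // b ∈ Fr} → Subgroup (D.group K) := fun b => Y ⊓ (slR K b.1).range
  have hQM : ∀ b, Q (some b) ≤ M b := fun b =>
    Subgroup.zpowers_le.2 ⟨hnY _ (c.sub _ b.2).1, _, slR_W _⟩
  have hMM : ∀ a b, a ≠ b → M a ≤ Subgroup.centralizer (M b : Set (D.group K)) := by
    rintro a b hab _ ⟨-, g, rfl⟩ _ ⟨-, g', rfl⟩
    exact (hcomm _ a.2 _ b.2 (fun e => hab (Subtype.ext e)) g g').symm
  have hMN : ∀ a b, M a ≤ Subgroup.normalizer (M b : Set (D.group K)) := fun a b => by
    by_cases hab : a = b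
    · exact hab ▸ Subgroup.le_normalizer
    · exact (hMM a b hab).trans (Subgroup.centralizer_le_normalizer _)
  obtain ⟨P, hP, hQP⟩ := isPGroup_iSup_of_norm Q (by
      rintro (_ | b)
      · exact fun g => ⟨1, Subtype.ext (by simpa [sq] using g.2.2.2)⟩
      · refine isPGroup_zpowers_four ?_
        rw [show (4 : ℕ) = 2 * 2 from rfl, pow_mul, sq, sq, nn_sq]
        exact (hE _ (c.sub _ b.2).1).2.2) (by
      rintro (_ | a) (_ | b)
      · exact Subgroup.le_normalizer
      · intro y hy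
        obtain ⟨d, rfl⟩ := hτ.exists h.toStN hy.2.1
        refine Subgroup.mem_normalizer_fintype ?_
        rintro _ ⟨k, rfl⟩
        have e := conj_nn (hτ.conj h.toStN d b.1) (fun t => by
          rw [← negR_val, hτ.conj h.toStN, chi_negR, Units.val_inv_eq_inv_val]) 1
        rcases hsq d hy.2.2 b.1 with e' | e' <;> rw [e'] at e
        · exact ⟨k, by rw [← conj_zpow, e]; simp⟩
        · exact ⟨-k, by rw [← conj_zpow, e]; simp [← h.toSt.nn_inv]⟩
      · refine Subgroup.zpowers_le.2 (Subgroup.mem_normalizer_fintype fun y hy => ?_)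
        have := hnY _ (c.sub _ a.2).1
        refine ⟨mul_mem (mul_mem this hy.1) (inv_mem this),
          h.rgd.conj_H (h.nn_mem_N _ one_ne_zero) hy.2.1, ?_⟩
        rw [conj_mul, hy.2.2, mul_one, mul_inv_cancel]
      · by_cases hab : a = b
        · exact hab ▸ Subgroup.le_normalizer
        · exact ((hQM a).trans (hMM a b hab)).trans ((Subgroup.centralizer_le (hQM b)).trans
            (Subgroup.centralizer_le_normalizer _)))
  refine ns_sub Y (⨆ o, Q o) (iSup_le ?_) (hP.to_le (iSup_le hQP)) M (fun _ => inf_le_left)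
    (fun b => iSup_le ?_) hMN fun u huY hu2 hR hS Z hZ => ?_
  · rintro (_ | b)
    exacts [fun y hy => hy.1, (hQM b).trans inf_le_left]
  · rintro (_ | a)
    · intro y hy
      refine Subgroup.inf_normalizer_le_normalizer_inf ⟨Subgroup.le_normalizer hy.1, ?_⟩
      rw [range_slR]
      exact h.rgd.H_le_normalizer_gen _ hy.2.1
    · exact (hQM a).trans (hMN a b)
  have hun : ∀ b ∈ Fr, nn D (xG D K) b 1 * u = u * nn D (xG D K) b 1 := fun b hb =>
    hR _ (Subgroup.mem_iSup_of_mem (some ⟨b, hb⟩) (Subgroup.mem_zpowers _))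
  obtain ⟨w, a, ha, m, hm, b, hb, hw, he, rfl⟩ := hτ.nf h (g := u) (GG_xG (D := D) (F := K) ▸ trivial)
    (c := fun γ : {γ // γ ∈ L} => zp (-1) (cov γ.1)) (c' := fun γ => zp (-1) (cov γ.1))
    fun γ => (hR _ (Subgroup.mem_iSup_of_mem none (hE _ γ.2))).symm
  have hemp : ∀ (p : Rt D → Prop), gen (XR D (xG D K)) {r | p r ∧ ∀ γ : {γ // γ ∈ L},
      chi D (zp (-1 : Kˣ) (cov γ.1)) r = 1} = ⊥ := fun p => by
    rw [← gen_empty (XR D (xG D K))]
    congr 1
    refine Set.eq_empty_of_forall_notMem fun r hr => ?_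
    obtain ⟨γ, hγ, e⟩ := c.odd r
    have := hr.2 ⟨γ, hγ⟩
    rw [chi_zp, pr_co] at this
    have := (neg_one_zpow_units h2 (b := 0)).1 (this.trans (zpow_zero _).symm)
    simp only at this
    omega
  rw [hemp, Subgroup.mem_bot] at ha hb
  subst ha hb
  rw [one_mul, mul_one] at *
  rename' m => u
  have hpar : ∀ γ ∈ L, ∀ r : Rt D, D.pairing γ (w.1 r) % 2 = D.pairing γ r % 2 := fun γ hγ r => by
    have := hτ.chi_conj h hm hw (he ⟨γ, hγ⟩) r
    rwa [chi_zp, chi_zp, pr_co, pr_co, neg_one_zpow_units h2] at this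
  have hfix : ∀ b ∈ Fr, w.1 b = b := fun b hb => by
    obtain ⟨hbL, hp, s, hs⟩ := c.sub b hb
    refine (fix_or_swap hm hw hp hs (hun b hb)).resolve_right fun e => ?_
    obtain ⟨T, hT⟩ := hS ⟨b, hb⟩
    obtain ⟨a', b', hab, hJ⟩ := exists_J_mem (hL b hbL).1 (hL b hbL).2
    refine not_comm_sylow h2 (slR K b) (slR_injective hp hs) (M ⟨b, hb⟩) inf_le_right
      ⟨slR_W (K := K) b ▸ hnY b hbL, _, rfl⟩ hab ⟨hJ, _, rfl⟩ T fun y hy => ?_
    obtain ⟨g, hg⟩ := y.2.2
    have h1 := e g
    rw [map_mul, map_mul, map_inv, hg, ← hT y hy, mul_inv_cancel_right, eq_mul_inv_iff_mul_eq] at h1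
    exact h1
  have hη0 : ∀ r : Rt D, (η r : K) ≠ 0 := fun r =>
    left_ne_zero_of_mul_eq_one (b := (η r : K)) (by exact_mod_cast congrArg (Int.cast (R := K)) (hη r r.2))
  have hσu : ∀ (r s : Rt D) (t : K), u * xG D K r 1 * u⁻¹ = xG D K s t →
      u * xG D K (ρ r) (η r) * u⁻¹ = xG D K (ρ s) (η s * φ t) := fun r s t e => by
    have := congrArg σ e
    rwa [map_mul, map_mul, map_inv, hY u huY, hσ r r.2, hσ s s.2, map_one, mul_one] at this
  have hfixA : ∀ a ∈ A, w.1 a = a := fun a ha => by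
    obtain ⟨h1, h3⟩ := c.fixA a ha
    refine h3 _ ?_ (fun b hb => by conv_lhs => rw [← hfix b hb, H64.pairing_apply w.2])
      fun γ hγ => hpar γ hγ a
    obtain ⟨t, ht, e⟩ := exists_conj_N h hm hw a
    have e1 := hσu _ _ _ (e 1)
    rw [h1, e] at e1
    refine (congrArg Fin.val (eq_of_mem_X h.rgd (a := w.1 a) (b := ⟨_, hρ _ (w.1 a).2⟩)
      (x_mem_XR D _ _ (t * η a)) (e1 ▸ x_mem_XR D _ ⟨_, hρ _ (w.1 a).2⟩ _) fun e2 => ?_)).symm
    exact mul_ne_zero ht (hη0 a) (h.eq_zero_of_x_eq_one _ e2)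
  obtain rfl : w = 1 := WData.eq_one_of_pos _ fun i => (c.posS _).resolve_right fun e => by
    obtain ⟨b, hb, e⟩ := e i
    refine e ?_
    conv_lhs => rw [← show w.1 b = b from (List.mem_append.1 hb).elim (hfix b) (hfixA b)]
    exact H64.pairing_apply w.2 b (simpleR i)
  obtain ⟨d, rfl⟩ := hτ.exists h.toStN (h.rgd.mem_H_of_act_one hm hw)
  obtain ⟨n, hn, hd⟩ : ∃ n < 2 ^ D.rank, ∀ j : Fin D.rank,
      chi D d (D.simple j) = (-1) ^ (if n.testBit j then 1 else 0 : ℤ) := by
    refine ⟨Nat.ofBits fun j : Fin D.rank => decide (chi D d (D.simple j) ≠ 1),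
      Nat.ofBits_lt_two_pow _, fun j => ?_⟩
    rw [Nat.testBit_ofBits_lt _ _ j.2]
    by_cases e : chi D d (D.simple j) = 1
    · simp [e]
    · simpa [e] using (hsq d hu2 (simpleR j)).resolve_left e
  obtain ⟨S, hS, hS'⟩ := c.sign n hn (fun b hb => by
      obtain ⟨-, hp, s, hs⟩ := c.sub b hb
      have e := conj_nn (hτ.conj h.toStN d b) (fun t => by
        rw [← negR_val, hτ.conj h.toStN, chi_negR, Units.val_inv_eq_inv_val]) 1
      have e1 : chi D d b = 1 := (hsq d hu2 b).resolve_right fun e' => by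
        rw [← hun b hb, mul_inv_cancel_right, e', mul_one, Units.val_neg, Units.val_one,
          ← h.toSt.nn_inv, eq_inv_iff_mul_eq_one, ← slR_W, ← map_mul, W_sq, ← map_one (slR K b)] at e
        have := congrFun (congrFun (congrArg Subtype.val (slR_injective hp hs e)) 0) 0
        simp at this
        exact h2 (by linear_combination -this)
      rw [chi_eq_prod] at e1
      simp only [hd] at e1
      exact (neg_one_zpow_units h2 (b := 0)).1 ((zpow_fun_ev (-1 : Kˣ) _ (rt b)).symm.trans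
        (e1.trans (zpow_zero _).symm)))
    (fun j k e => by
      have e1 := hσu _ _ _ (hτ.conj h.toStN d (simpleR j) 1)
      rw [simpleR_val, e, ← simpleR_val k, hτ.conj h.toStN, mul_one] at e1
      have e2 := h.x_injective _ e1
      rw [mul_comm, mul_right_inj' (by exact hη0 (simpleR j)), simpleR_val, hd, hd] at e2
      have e3 : (-1 : Kˣ) ^ (if n.testBit k then 1 else 0 : ℤ) =
          (-1) ^ (if n.testBit j then 1 else 0 : ℤ) := Units.ext (by
        rw [e2]; split_ifs <;> simp)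
      rw [neg_one_zpow_units h2] at e3
      cases h1 : n.testBit j <;> cases h3 : n.testBit k <;> simp_all)
  rw [tor_eq_of_chi (τ := torG D K) (fun d hd => torG_eq_one_iff.2 hd) (c := d)
    (c' := (S.map fun b => zp (-1 : Kˣ) (cov b)).prod) fun r => by
      rw [chi_eq_prod, chi_eq_prod]
      refine Finset.prod_congr rfl fun j _ => ?_
      rw [hd, ← (neg_one_zpow_units h2).2 (hS' j), ← simpleR_val, chi_prod], map_list_prod]
  refine list_prod_mem fun y hy => ?_
  simp only [List.map_map, List.mem_map, Function.comp] at hy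
  obtain ⟨b, hb, rfl⟩ := hy
  have hb' := c.bs b ((List.mem_sublists.1 hS).subset hb)
  rw [← nn_sq]
  exact hZ _ (hnY b (c.sub b hb').1) (hun b hb')

theorem ns_chev (h2 : (2 : K) ≠ 0) {L Fr Bs : List (Rt D)} (c : Frame D id L Fr Bs []) :
    NS (D.group K) :=
  NS.of_mulEquiv Subgroup.topEquiv.symm (ns_frame h2 (η := fun _ => 1) c ⊤
    (fun _ _ => ⟨trivial, trivial⟩) (MonoidHom.id _) (RingHom.id K) (fun _ h => h)
    (fun _ _ => rfl) (fun _ _ _ => by simp) fun _ _ => rfl)

end lie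

/-- A list of roots given by their numbers. -/
def rl (D : ChevalleyDatum) (l : List ℕ) (h : ∀ r ∈ l, r < D.nroots := by decide +kernel) :
    List (Rt D) := l.pmap Fin.mk h

theorem frameG2 : Frame chevG2 id (rl _ [6, 11, 7]) (rl _ [11, 7])
    (rl _ [11]) [] :=
  ⟨by decide +kernel, by decide +kernel, by decide +kernel, by decide +kernel, by decide +kernel,
    by decide +kernel, by decide +kernel⟩

theorem frameF4 : Frame chevF4 id (rl _ [24, 47, 41, 30, 25]) (rl _ [47, 41, 30, 25])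
    (rl _ [47, 41, 30]) [] :=
  ⟨by decide +kernel, by decide +kernel, by decide +kernel, by decide +kernel, by decide +kernel,
    by decide +kernel, by decide +kernel⟩

theorem frameE6 : Frame chevE6 id (rl _ [46, 71, 60, 44, 39]) (rl _ [71, 60, 44, 39])
    (rl _ [71, 60, 44]) [] :=
  ⟨by decide +kernel, by decide +kernel, by decide +kernel, by decide +kernel, by decide +kernel,
    by decide +kernel, by decide +kernel⟩

theorem frameE7 : Frame chevE7 id (rl _ [93, 69, 64, 125, 92, 87, 78, 73, 66, 63]) (rl _ [125, 92, 87, 78, 73, 66, 63])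
    (rl _ [125, 92, 87]) [] :=
  ⟨by decide +kernel, by decide +kernel, by decide +kernel, by decide +kernel, by decide +kernel,
    by decide +kernel, by decide +kernel⟩

theorem frameE8 : Frame chevE8 id (rl _ [130, 120, 239, 226, 159, 152, 141, 135, 126, 121]) (rl _ [239, 226, 159, 152, 141, 135, 126, 121])
    (rl _ [239, 226, 159, 152]) [] :=
  ⟨by decide +kernel, by decide +kernel, by decide +kernel, by decide +kernel, by decide +kernel,
    by decide +kernel, by decide +kernel⟩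

theorem frameD4 : Frame chevD4 H68.rhoD4 (rl _ [14, 23]) (rl _ [23])
    (rl _ [23]) (rl _ [14]) :=
  ⟨by decide +kernel, by decide +kernel, by decide +kernel, by decide +kernel, by decide +kernel,
    by decide +kernel, by decide +kernel⟩

theorem jobG2 : JobChev chevG2 := fun _ _ _ h2 =>
  haveI := tabG2; haveI := commG2; ns_chev h2 frameG2

theorem jobF4 : JobChev chevF4 := fun _ _ _ h2 =>
  haveI := tabF4; haveI := commF4; ns_chev h2 frameF4

theorem jobE6 : JobChev chevE6 := fun _ _ _ h2 => ns_chev h2 frameE6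

theorem jobE7 : JobChev chevE7 := fun _ _ _ h2 =>
  haveI := tabE7; haveI := commE7; ns_chev h2 frameE7

theorem jobE8 : JobChev chevE8 := fun _ _ _ h2 =>
  haveI := tabE8; haveI := commE8; ns_chev h2 frameE8

theorem gen_le_group (D : ChevalleyDatum) [RS D] [Tab D] [Comm D] {K : Type*} [Field K]
    (S : Set (List (ℕ × K))) : D.genSubgroup K S ≤ D.group K := by
  rw [H68.mat_genSubgroup, Subgroup.closure_le]
  rintro _ ⟨w, -, rfl⟩
  induction w with
  | nil => exact one_mem _
  | cons p w ih => rw [H68.CM.wd_cons]; exact mul_mem (xU_mem_group _ _) ih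

theorem job2E6 : Job2E6 := fun K _ _ q h2 hq hK => by
  have hx : ∀ r, r < chevE6.nroots ∧ H68.rhoE6 r = r ∧ H68.gamE6 r = 1 →
      xU chevE6 K r 1 ∈ twistedE6 K q := fun r h => by
    have := (H68.smE6 hq hK).wd_mem_Fix (H68.nontriv_E6 hq hK) (w := [(r, 1)]) (by simpa using h.1)
      (by simp [H68.smE6_ρ, H68.smE6_γ, h.2.1, h.2.2])
    rw [H68.twistedE6_eq_Fix hq hK]
    simpa [H68.tgE6] using this
  refine NS.of_mulEquiv (Subgroup.subgroupOfEquivOfLe (gen_le_group chevE6 _)).symm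
    (ns_frame h2 (η := fun _ => 1) frameE6 _ (fun γ hγ => ⟨hx _ ?_, hx _ ?_⟩) (MonoidHom.id _)
      (RingHom.id K) (fun _ h => h) (fun _ _ => rfl) (fun _ _ _ => by simp) fun _ _ => rfl) <;>
    revert γ <;> decide +kernel

theorem job3D4 : Job3D4 := fun K _ _ q h2 hq hK => by
  obtain ⟨φ, hφ⟩ := H68.exists_frob hq hK
  have hm : ∀ g : chevD4.group K, (g : GL chevD4.Idx K) ∈ twistedD4 K q ↔
      Sub.gF H68.graphD4 φ g = g := fun g => by
    have h := SetLike.ext_iff.1 (H55.Tri.map_eq_Fix hq hK (RingHom.id K) φ hφ fun t _ => ⟨t, rfl⟩)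
      (g : GL chevD4.Idx K)
    rw [H68.TwG.mem_Fix, Sub.sm_D4, ← Sub.gF_val, H68.mat_Gp] at h
    refine ⟨fun e => Subtype.ext (h.1 ⟨g, e, Units.ext (Matrix.ext fun _ _ => rfl)⟩).2, fun e => ?_⟩
    obtain ⟨y, hy, e⟩ := h.2 ⟨g.2, congrArg Subtype.val e⟩
    rwa [← e, show Matrix.GeneralLinearGroup.map (RingHom.id K) y = y from
      Units.ext (Matrix.ext fun _ _ => rfl)]
  have hx : ∀ r, r < chevD4.nroots ∧ H68.rhoD4 r = r ∧ H68.gamD4 r = 1 →
      xU chevD4 K r 1 ∈ twistedD4 K q := fun r h =>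
    (hm (xG chevD4 K r 1)).2 (by rw [Sub.gF_x _ _ h.1, h.2.1, h.2.2]; simp)
  refine NS.of_mulEquiv (Subgroup.subgroupOfEquivOfLe (gen_le_group chevD4 _)).symm
    (ns_frame h2 frameD4 _ (fun γ hγ => ⟨hx _ ?_, hx _ ?_⟩) (Sub.gF H68.graphD4 φ) φ
      (by decide +kernel) H68.graphD4.sq (fun _ h t => Sub.gF_x _ _ h t) fun y hy => (hm y).1 hy) <;>
    revert γ <;> decide +kernel

end H25.NS
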