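import Cfsg.Agent.Base

/-! The property `NS`: every involution central in a Sylow 2-subgroup is a product of squares of
elements of its centralizer. Kit and the family-by-family statements used for row S3226. -/

set_option autoImplicit false

namespace H25.NS
open Cfsg
open scoped commutatorElement Pointwise

variable {G : Type*} [Group G]

/-- The subgroup generated by the squares of the elements commuting with `u`. -/
def SqC (u : G) : Subgroup G := Subgroup.closure {x | ∃ c, c * u = u * c ∧ x = c * c}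

/-- `u` commutes with a Sylow 2-subgroup. -/
def Cen2 (u : G) : Prop := ∃ T : Sylow 2 G, ∀ s ∈ (T : Subgroup G), s * u = u * s

variable (G) in
/-- Every 2-central involution is a product of squares of elements commuting with it. -/
def NS : Prop := ∀ u : G, orderOf u = 2 → Cen2 u → u ∈ SqC u

theorem sq_mem {u c : G} (h : c * u = u * c) : c * c ∈ SqC u :=
  Subgroup.subset_closure ⟨c, h, rfl⟩

theorem mem_of_sq {u c : G} (h : c * c = u) : u ∈ SqC u := by
  have := sq_mem (u := u) (c := c) (by rw [← h, mul_assoc])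
  rwa [h] at this

theorem comm_mem {u a b : G} (ha : a * u = u * a) (hb : b * u = u * b) : ⁅a, b⁆ ∈ SqC u := by
  have ha' : Commute a u := ha
  have hb' : Commute b u := hb
  have e : ⁅a, b⁆ = a * a * (a⁻¹ * b * (a⁻¹ * b)) * (b⁻¹ * b⁻¹) := by
    rw [commutatorElement_def]; group
  rw [e]
  exact mul_mem (mul_mem (sq_mem ha) (sq_mem (ha'.inv_left.mul_left hb').eq)) (sq_mem hb'.inv_left.eq)

theorem SqC_le_centralizer (u : G) : SqC u ≤ Subgroup.centralizer {u} := by
  refine (Subgroup.closure_le _).2 ?_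
  rintro _ ⟨c, hc, rfl⟩
  have hc' : c ∈ Subgroup.centralizer {u} := Subgroup.mem_centralizer_singleton_iff.2 hc
  exact mul_mem hc' hc'

theorem map_mem {H : Type*} [Group H] (f : G →* H) {u x : G} (h : x ∈ SqC u) :
    f x ∈ SqC (f u) := by
  have : SqC u ≤ (SqC (f u)).comap f := by
    refine (Subgroup.closure_le _).2 ?_
    rintro _ ⟨c, hc, rfl⟩
    change f (c * c) ∈ SqC (f u)
    rw [map_mul]
    exact sq_mem (by rw [← map_mul, hc, map_mul])
  exact this h

/-- A subgroup of index at most two in the centralizer contains `SqC`. -/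
theorem SqC_le {u : G} {X : Subgroup G} (h : ∀ c, c * u = u * c → c * c ∈ X) : SqC u ≤ X := by
  refine (Subgroup.closure_le _).2 ?_
  rintro _ ⟨c, hc, rfl⟩
  exact h c hc

theorem of_isConj {u v : G} (h : IsConj u v) (hv : v ∈ SqC v) : u ∈ SqC u := by
  obtain ⟨c, rfl⟩ := isConj_iff.1 h.symm
  exact map_mem (MulAut.conj c).toMonoidHom hv

theorem Cen2.map {H : Type*} [Group H] [Finite G] (e : G ≃* H) {u : G} (h : Cen2 u) :
    Cen2 (e u) := by
  obtain ⟨T, hT⟩ := h
  refine ⟨T.mapSurjective (f := e.toMonoidHom) e.surjective, ?_⟩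
  rintro _ ⟨s, hs, rfl⟩
  change e s * e u = e u * e s
  rw [← map_mul, hT s hs, map_mul]

theorem NS.of_mulEquiv {H : Type*} [Group H] [Finite G] (e : G ≃* H) (h : NS H) : NS G := by
  intro u hu hc
  have := map_mem e.symm.toMonoidHom (h (e u) (by rw [MulEquiv.orderOf_eq, hu]) (hc.map e))
  simpa using this

/-- It is enough to treat the involutions centralizing one 2-subgroup. -/
theorem ns_of [Finite G] (R : Subgroup G) (hR : IsPGroup 2 R)
    (h : ∀ u, orderOf u = 2 → (∀ r ∈ R, r * u = u * r) → u ∈ SqC u) : NS G := by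
  rintro u hu ⟨T, hT⟩
  obtain ⟨P, hP⟩ := hR.exists_le_sylow
  obtain ⟨g, rfl⟩ := MulAction.exists_smul_eq G T P
  refine of_isConj (v := g * u * g⁻¹) (isConj_iff.2 ⟨g, rfl⟩) (h _ ?_ fun r hr => ?_)
  · rw [← hu]; exact (MulAut.conj g).orderOf_eq u
  · have h1 := hP hr
    rw [Sylow.coe_subgroup_smul, Subgroup.mem_pointwise_smul_iff_inv_smul_mem] at h1
    have h2 := hT _ h1
    simp only [MulAut.smul_def, MulAut.conj_inv_apply] at h2
    calc r * (g * u * g⁻¹) = g * (g⁻¹ * r * g * u) * g⁻¹ := by group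
      _ = g * u * g⁻¹ * r := by rw [h2]; group

/-- If every involution is a product of squares there is nothing to choose. -/
theorem ns_of_all (h : ∀ u : G, orderOf u = 2 → u ∈ SqC u) : NS G := fun u hu _ => h u hu

/-- A 2-group normalizing `K` normalizes a Sylow 2-subgroup of `K`. -/
theorem exists_sylow_norm [Finite G] {R K : Subgroup G} (hR : IsPGroup 2 R)
    (hK : R ≤ Subgroup.normalizer K) :
    ∃ Q : Sylow 2 K, R ≤ Subgroup.normalizer (((Q : Subgroup K).map K.subtype : Subgroup G) : Set G) := by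
  let φ : R →* MulAut K := K.normalizerMonoidHom.comp (Subgroup.inclusion hK)
  letI : MulAction R (Sylow 2 K) := MulAction.compHom _ φ
  obtain ⟨Q, hQ⟩ := hR.nonempty_fixed_point_of_prime_not_dvd_card (Sylow 2 K)
    (not_dvd_card_sylow 2 K)
  refine ⟨Q, fun r hr => ?_⟩
  have key : ∀ r ∈ R, ∀ x ∈ (Q : Subgroup K).map K.subtype,
      r * x * r⁻¹ ∈ (Q : Subgroup K).map K.subtype := by
    rintro r hr _ ⟨x, hx, rfl⟩
    have e : φ ⟨r, hr⟩ • Q = Q := hQ ⟨r, hr⟩
    have : φ ⟨r, hr⟩ • x ∈ ((φ ⟨r, hr⟩ • Q : Sylow 2 K) : Subgroup K) :=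
      Subgroup.smul_mem_pointwise_smul x _ _ hx
    rw [e] at this
    exact ⟨_, this, rfl⟩
  refine Subgroup.mem_normalizer_iff.2 fun x => ⟨key r hr x, fun hx => ?_⟩
  have := key r⁻¹ (inv_mem hr) _ hx
  simpa [mul_assoc] using this

theorem exists_two_subgroup [Finite G] {ι : Type*} (R : Subgroup G) (hR : IsPGroup 2 R)
    (K : ι → Subgroup G) (hRK : ∀ i, R ≤ Subgroup.normalizer (K i))
    (hK : ∀ i j, K i ≤ Subgroup.normalizer (K j)) (s : Finset ι) :
    ∃ P : Subgroup G, IsPGroup 2 P ∧ R ≤ P ∧ (∀ i, P ≤ Subgroup.normalizer (K i)) ∧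
      ∀ i ∈ s, ∃ Q : Sylow 2 (K i), ∀ x ∈ (Q : Subgroup (K i)), (x : G) ∈ P := by
  classical
  induction s using Finset.induction_on with
  | empty => exact ⟨R, hR, le_rfl, hRK, by simp⟩
  | insert a s _ ih =>
    obtain ⟨P, h1, h2, h3, h4⟩ := ih
    obtain ⟨Q, hQ⟩ := exists_sylow_norm h1 (h3 a)
    refine ⟨P ⊔ (Q : Subgroup (K a)).map (K a).subtype,
      h1.to_sup_of_normal_right' (Q.isPGroup'.map _) hQ, h2.trans le_sup_left,
      fun i => sup_le (h3 i) ((Subgroup.map_subtype_le _).trans (hK a i)), fun i hi => ?_⟩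
    rcases Finset.mem_insert.1 hi with rfl | hi
    · exact ⟨Q, fun x hx => Subgroup.mem_sup_right ⟨x, hx, rfl⟩⟩
    · obtain ⟨Q', hQ'⟩ := h4 i hi
      exact ⟨Q', fun x hx => Subgroup.mem_sup_left (hQ' x hx)⟩

/-- One may also assume that the involution centralizes a Sylow 2-subgroup of each member of a
family of subgroups normalizing each other and normalized by `R`. -/
theorem ns_of_fam [Finite G] {ι : Type*} [Finite ι] (R : Subgroup G) (hR : IsPGroup 2 R)
    (K : ι → Subgroup G) (hRK : ∀ i, R ≤ Subgroup.normalizer (K i))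
    (hK : ∀ i j, K i ≤ Subgroup.normalizer (K j))
    (h : ∀ u, orderOf u = 2 → (∀ r ∈ R, r * u = u * r) →
      (∀ i, ∃ Q : Sylow 2 (K i), ∀ x ∈ (Q : Subgroup (K i)), (x : G) * u = u * x) → u ∈ SqC u) :
    NS G := by
  have := Fintype.ofFinite ι
  obtain ⟨P, h1, h2, -, h4⟩ := exists_two_subgroup R hR K hRK hK Finset.univ
  refine ns_of P h1 fun u hu hc => h u hu (fun r hr => hc r (h2 hr)) fun i => ?_
  obtain ⟨Q, hQ⟩ := h4 i (Finset.mem_univ i)
  exact ⟨Q, fun x hx => hc _ (hQ x hx)⟩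

/-- Passing to a quotient: the form used for the projective classical groups. -/
theorem ns_quot [Finite G] (Z : Subgroup G) [Z.Normal] (R : Subgroup G) (hR : IsPGroup 2 R)
    (h : ∀ g, g ∉ Z → g * g ∈ Z → (∀ r ∈ R, ∃ z ∈ Z, g * r = z * (r * g)) →
      ∃ z ∈ Z, g * z ∈ SqC g) : NS (G ⧸ Z) := by
  refine ns_of (R.map (QuotientGroup.mk' Z)) (hR.map _) fun u hu hc => ?_
  obtain ⟨g, rfl⟩ := QuotientGroup.mk'_surjective Z u
  have h1 : g ∉ Z := fun hg => by
    have : QuotientGroup.mk' Z g = 1 := (QuotientGroup.eq_one_iff g).2 hg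
    rw [this, orderOf_one] at hu
    omega
  have h2 : g * g ∈ Z := by
    have := pow_orderOf_eq_one (QuotientGroup.mk' Z g)
    rw [hu, pow_two, ← map_mul] at this
    exact (QuotientGroup.eq_one_iff _).1 this
  obtain ⟨z, hz, hgz⟩ := h g h1 h2 fun r hr => by
    refine ⟨g * r * (r * g)⁻¹, ?_, by group⟩
    have := hc _ ⟨r, hr, rfl⟩
    rw [← QuotientGroup.eq_one_iff]
    change QuotientGroup.mk' Z _ = 1
    rw [map_mul, map_inv, map_mul, map_mul, this, mul_inv_cancel]
  have := map_mem (QuotientGroup.mk' Z) hgz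
  rwa [map_mul, show QuotientGroup.mk' Z z = 1 from (QuotientGroup.eq_one_iff z).2 hz,
    mul_one] at this

/-! ### The families -/

def JobAlt : Prop := ∀ n : ℕ, 6 ≤ n → NS (alternatingGroup (Fin n))

def JobL2 : Prop := ∀ (F : Type) [Field F] [Fintype F], (2 : F) ≠ 0 → IsSquare (2 : F) →
  NS (Matrix.ProjectiveSpecialLinearGroup (Fin 2) F)

def JobL : Prop := ∀ (F : Type) [Field F] [Fintype F] (n : ℕ), (2 : F) ≠ 0 → 3 ≤ n →
  NS (Matrix.ProjectiveSpecialLinearGroup (Fin n) F)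

def JobS : Prop := ∀ (F : Type) [Field F] [Fintype F] (m : ℕ), (2 : F) ≠ 0 → 2 ≤ m → NS (PSp m F)

def JobU : Prop := ∀ (F : Type) [Field F] [Fintype F] (n q : ℕ), (2 : F) ≠ 0 →
  Fintype.card F = q ^ 2 → 3 ≤ n → NS (PSU n F q)

/-- All three orthogonal families at once. -/
def JobO : Prop := ∀ (F : Type) [Field F] [Fintype F] (ι : Type) [Fintype ι] [DecidableEq ι]
  (Q : QuadraticForm F (ι → F)) (q : (ι → F) → F), (2 : F) ≠ 0 → ⇑Q = q →
  LinearMap.Nondegenerate (QuadraticMap.polarBilin Q) → 7 ≤ Fintype.card ι → NS (POmega F q)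

def JobOodd : Prop := ∀ (F : Type) [Field F] [Fintype F] (m : ℕ), (2 : F) ≠ 0 → 3 ≤ m →
  NS (POmega F (quadFormOdd m F))

def JobOplus : Prop := ∀ (F : Type) [Field F] [Fintype F] (m : ℕ), (2 : F) ≠ 0 → 4 ≤ m →
  NS (POmega F (quadFormPlus m F))

def JobOminus : Prop := ∀ (F : Type) [Field F] [Fintype F] (m : ℕ) (a b : F), (2 : F) ≠ 0 → 3 ≤ m →
  (∀ z₁ z₂ : F, z₁ ^ 2 + a * z₁ * z₂ + b * z₂ ^ 2 = 0 → z₁ = 0 ∧ z₂ = 0) →
  NS (POmega F (quadFormMinus m F a b))

def JobChev (D : Lie.ChevalleyDatum) : Prop := ∀ (F : Type) [Field F] [Fintype F], (2 : F) ≠ 0 →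
  NS (D.group F)

def Job2E6 : Prop := ∀ (K : Type) [Field K] [Fintype K] (q : ℕ), (2 : K) ≠ 0 → IsPrimePow q →
  Fintype.card K = q ^ 2 → NS (Lie.twistedE6 K q)

def Job3D4 : Prop := ∀ (K : Type) [Field K] [Fintype K] (q : ℕ), (2 : K) ≠ 0 → IsPrimePow q →
  Fintype.card K = q ^ 3 → NS (Lie.twistedD4 K q)

end H25.NS
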