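import Cfsg.Agent.H25.NSSpec
import Cfsg.Agent.H17.TransferInv
import Cfsg.Agent.S3800

/-! A 2-central involution `t` with `C(t) = ⟨t⟩ × F`: transfer, fusion into `F`, and the reduction
to a simple group. -/

set_option autoImplicit false

namespace H25.NS
open Cfsg
open scoped commutatorElement Pointwise

universe u

/-- Thompson's transfer lemma for an involution central in the Sylow subgroup. -/
theorem extremal {G : Type*} [Group G] [Finite G] (S : Sylow 2 G) (T : Subgroup G)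
    (hTS : T ≤ S) (h2 : (T.subgroupOf (S : Subgroup G)).index = 2) {y : G} (hyy : y * y = 1)
    (hyS : y ∈ (S : Subgroup G)) (hyT : y ∉ T) (hc : ∀ s ∈ (S : Subgroup G), s * y = y * s)
    (hno : ∀ H : Subgroup G, H.index = 2 → y ∈ H) :
    ∃ a : G, a⁻¹ * y * a ∈ T ∧ ∀ r ∈ (S : Subgroup G), a⁻¹ * r * a ∈ (S : Subgroup G) := by
  classical
  haveI hTn : (T.subgroupOf (S : Subgroup G)).Normal := Subgroup.normal_of_index_eq_two h2
  by_contra hcon
  push Not at hcon
  let A := ↥(S : Subgroup G) ⧸ T.subgroupOf (S : Subgroup G)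
  have hA : Nat.card A = 2 := h2
  haveI : Fact (Nat.Prime 2) := ⟨Nat.prime_two⟩
  have hcyc : IsCyclic A := isCyclic_of_prime_card hA
  let _ : CommGroup A := hcyc.commGroup
  let ϕ : (S : Subgroup G) →* A := QuotientGroup.mk' _
  have hϕ : ∀ x : (S : Subgroup G), ϕ x = 1 ↔ (x : G) ∈ T := fun x => QuotientGroup.eq_one_iff x
  have huniq : ∀ a b : A, a ≠ 1 → b ≠ 1 → a = b := by
    obtain ⟨c, -, hc⟩ := (Nat.card_eq_two_iff' (1 : A)).1 hA
    exact fun a b ha hb => (hc a ha).trans (hc b hb).symm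
  let X : Set (G ⧸ (S : Subgroup G)) := {q | y • q = q ∧ ∀ a : G, (a : G ⧸ (S : Subgroup G)) = q →
    a⁻¹ * y * a ∉ T}
  have hXa : ∀ a : G, a⁻¹ * y * a ∈ (S : Subgroup G) → a⁻¹ * y * a ∉ T →
      (a : G ⧸ (S : Subgroup G)) ∈ X := by
    intro a ha haT
    refine ⟨(H17.smul_quotient_eq_iff _ _).mpr ha, fun b hb hbT => haT ?_⟩
    rw [QuotientGroup.eq] at hb
    have := hTn.conj_mem (⟨b⁻¹ * y * b, hTS hbT⟩ : (S : Subgroup G)) hbT ⟨b⁻¹ * a, hb⟩⁻¹
    rw [Subgroup.mem_subgroupOf] at this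
    simpa [mul_assoc] using this
  have ht1 : ϕ ⟨y, hyS⟩ ≠ 1 := fun h => hyT ((hϕ _).mp h)
  have ht2 : ϕ ⟨y, hyS⟩ * ϕ ⟨y, hyS⟩ = 1 := by
    rw [← map_mul, ← map_one ϕ]
    congr 1
    exact Subtype.ext hyy
  have htr := H17.transfer_involution ϕ y hyy (ϕ ⟨y, hyS⟩) X (fun q hq => hq.1)
    (fun a h hx => huniq _ _ (fun h1 => hx.2 a rfl ((hϕ _).mp h1)) ht1)
    (fun a h hx => (hϕ _).mpr (by by_contra h1; exact hx (hXa a h h1)))
  let Y : SubMulAction (S : Subgroup G) (G ⧸ (S : Subgroup G)) :=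
    { carrier := X
      smul_mem' := by
        rintro ⟨r, hr⟩ q hq
        obtain ⟨a, rfl⟩ := QuotientGroup.mk_surjective q
        have e : (r * a)⁻¹ * y * (r * a) = a⁻¹ * y * a := by
          calc (r * a)⁻¹ * y * (r * a) = a⁻¹ * r⁻¹ * (y * r) * a := by group
            _ = _ := by rw [← hc r hr]; group
        exact hXa (r * a) (e ▸ (H17.smul_quotient_eq_iff _ _).mp hq.1) (e ▸ hq.2 a rfl) }
  have h1 := S.isPGroup'.card_modEq_card_fixedPoints Y
  have h2' := S.isPGroup'.card_modEq_card_fixedPoints (G ⧸ (S : Subgroup G))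
  have h3 : Nat.card (MulAction.fixedPoints (S : Subgroup G) Y) =
      Nat.card (MulAction.fixedPoints (S : Subgroup G) (G ⧸ (S : Subgroup G))) := by
    refine Nat.card_congr ⟨fun q => ⟨q.1.1, fun r => congrArg Subtype.val (q.2 r)⟩,
      fun q => ⟨⟨q.1, ?_⟩, fun r => Subtype.ext (q.2 r)⟩, fun q => rfl, fun q => rfl⟩
    obtain ⟨q, hq⟩ := q
    obtain ⟨a, rfl⟩ := QuotientGroup.mk_surjective q
    have h4 : ∀ r ∈ (S : Subgroup G), a⁻¹ * r * a ∈ (S : Subgroup G) := fun r hr =>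
      (H17.smul_quotient_eq_iff _ _).mp (hq ⟨r, hr⟩)
    refine hXa a (h4 y hyS) (fun hT => ?_)
    obtain ⟨r, hr, hr2⟩ := hcon a hT
    exact hr2 (h4 r hr)
  have h4 : Odd X.ncard := by
    have h5 : Nat.card Y = X.ncard := rfl
    have h6 : ¬ 2 ∣ Nat.card (G ⧸ (S : Subgroup G)) := S.not_dvd_index
    rw [h5, h3] at h1
    have h7 := h1.trans h2'.symm
    rw [Nat.odd_iff]
    unfold Nat.ModEq at h7
    omega
  obtain ⟨k, hk⟩ := h4
  rw [hk, pow_succ, pow_mul, pow_two, ht2, one_pow, one_mul] at htr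
  have hker : ϕ.transfer.ker.index = 2 := by
    rw [Subgroup.index_ker]
    have h8 : Nat.card ϕ.transfer.range ∣ 2 := by
      have := Subgroup.card_subgroup_dvd_card ϕ.transfer.range
      rwa [hA] at this
    rcases (Nat.dvd_prime Nat.prime_two).1 h8 with h | h
    · exfalso
      have : ϕ.transfer.range = ⊥ := Subgroup.card_eq_one.1 h
      have h9 : ϕ.transfer y ∈ ϕ.transfer.range := ⟨y, rfl⟩
      rw [this, Subgroup.mem_bot, htr] at h9
      exact ht1 h9
    · exact h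
  have := hno _ hker
  rw [MonoidHom.mem_ker, htr] at this
  exact ht1 this

/-- The hypothesis of the row, with the failure of its first alternative. -/
structure Hyp {G : Type u} [Group G] (t : G) (F : Subgroup G) : Prop where
  ord : orderOf t = 2
  cen : Cen2 t
  dp : IsInternalDirectProduct (Subgroup.zpowers t) F (Subgroup.centralizer ({t} : Set G))
  no : ∀ H : Subgroup G, H.index = 2 → t ∈ H

variable {G : Type u} [Group G] {t : G} {F : Subgroup G}

theorem Hyp.sq (h : Hyp t F) : t * t = 1 := by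
  have := pow_orderOf_eq_one t
  rwa [h.ord, pow_two] at this

theorem Hyp.ne_one (h : Hyp t F) : t ≠ 1 := fun e => by
  have := h.ord
  rw [e, orderOf_one] at this
  omega

theorem Hyp.not_mem (h : Hyp t F) : t ∉ F := fun e => by
  have : t ∈ Subgroup.zpowers t ⊓ F := ⟨Subgroup.mem_zpowers t, e⟩
  rw [h.dp.2.2.2.1, Subgroup.mem_bot] at this
  exact h.ne_one this

theorem Hyp.comm (h : Hyp t F) {f : G} (hf : f ∈ F) : f * t = t * f :=
  (h.dp.2.2.1 t (Subgroup.mem_zpowers t) f hf).symm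

theorem Hyp.cases (h : Hyp t F) {c : G} (hc : c * t = t * c) : c ∈ F ∨ t * c ∈ F := by
  let X : Subgroup G :=
    { carrier := {c | c ∈ F ∨ t * c ∈ F}
      one_mem' := Or.inl F.one_mem
      mul_mem' := by
        rintro a b (ha | ha) (hb | hb)
        · exact Or.inl (mul_mem ha hb)
        · refine Or.inr ?_
          have : t * (a * b) = a * (t * b) := by rw [← mul_assoc, ← h.comm ha, mul_assoc]
          exact this ▸ mul_mem ha hb
        · exact Or.inr (by rw [← mul_assoc]; exact mul_mem ha hb)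
        · refine Or.inl ?_
          have : a * b = (t * a) * (t * b) := by
            rw [← mul_assoc, h.comm ha, ← mul_assoc, h.sq, one_mul]
          exact this ▸ mul_mem ha hb
      inv_mem' := by
        rintro a (ha | ha)
        · exact Or.inl (inv_mem ha)
        · refine Or.inr ?_
          have e1 : t⁻¹ = t := inv_eq_of_mul_eq_one_right h.sq
          have : t * a⁻¹ = (t * a)⁻¹ := by
            have e2 := h.comm (inv_mem ha)
            rw [mul_inv_rev, e1, mul_assoc, h.sq, mul_one] at e2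
            rw [mul_inv_rev, e1]
            calc t * a⁻¹ = t * (t * (a⁻¹ * t)) := by rw [← e2]
              _ = a⁻¹ * t := by rw [← mul_assoc, h.sq, one_mul]
          exact this ▸ inv_mem ha }
  have : Subgroup.centralizer ({t} : Set G) ≤ X := by
    rw [← h.dp.2.2.2.2]
    refine sup_le ((Subgroup.zpowers_le).2 (Or.inr ?_)) fun f hf => Or.inl hf
    rw [h.sq]; exact F.one_mem
  exact this (Subgroup.mem_centralizer_singleton_iff.2 hc)

theorem Hyp.sq_mem (h : Hyp t F) {c : G} (hc : c * t = t * c) : c * c ∈ F := by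
  rcases h.cases hc with h1 | h1
  · exact mul_mem h1 h1
  · have : c * c = (t * c) * (t * c) := by
      rw [mul_assoc, ← mul_assoc c, hc, mul_assoc, ← mul_assoc t, h.sq, one_mul]
    exact this ▸ mul_mem h1 h1

theorem Hyp.mem_sylow [Finite G] (h : Hyp t F) {S : Sylow 2 G}
    (hS : ∀ s ∈ (S : Subgroup G), s * t = t * s) : t ∈ (S : Subgroup G) := by
  have h1 : IsPGroup 2 (Subgroup.zpowers t) := IsPGroup.of_card (n := 1) (by
    rw [Nat.card_zpowers, h.ord, pow_one])
  have h2 : (S : Subgroup G) ≤ Subgroup.normalizer (Subgroup.zpowers t : Set G) := by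
    refine le_trans (fun s hs => ?_) (Subgroup.centralizer_le_normalizer _)
    rintro _ ⟨k, rfl⟩
    exact ((show Commute s t from hS s hs).zpow_right k).eq.symm
  have h3 := S.isPGroup'.to_sup_of_normal_right' h1 h2
  have h4 := S.is_maximal' h3 le_sup_left
  rw [← h4]
  exact Subgroup.mem_sup_right (Subgroup.mem_zpowers t)

/-- The involution is fused into `F` by an element normalizing the Sylow subgroup. -/
theorem Hyp.fusion [Finite G] (h : Hyp t F) {S : Sylow 2 G}
    (hS : ∀ s ∈ (S : Subgroup G), s * t = t * s) :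
    ∃ a : G, a⁻¹ * t * a ∈ F ∧ ∀ r ∈ (S : Subgroup G), a * r * a⁻¹ ∈ (S : Subgroup G) := by
  have htS := h.mem_sylow hS
  obtain ⟨a, ha, haS⟩ := extremal S ((S : Subgroup G) ⊓ F) inf_le_left (by
    refine Subgroup.index_eq_two_iff.2 ⟨⟨t, htS⟩, fun b => ?_⟩
    simp only [Subgroup.mem_subgroupOf, Subgroup.mem_inf, Subgroup.coe_mul]
    have hb := hS b b.2
    rcases h.cases hb with h1 | h1
    · refine Or.inr ⟨⟨b.2, h1⟩, fun h2 => h.not_mem ?_⟩
      exact (F.mul_mem_cancel_left h1).1 h2.2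
    · refine Or.inl ⟨⟨mul_mem b.2 htS, hb ▸ h1⟩, fun h2 => h.not_mem ?_⟩
      exact (F.mul_mem_cancel_right h2.2).1 h1) h.sq htS (fun e => h.not_mem e.2) hS h.no
  refine ⟨a, ha.2, fun r hr => ?_⟩
  have : a⁻¹ ∈ Subgroup.normalizer ((S : Subgroup G) : Set G) :=
    Subgroup.mem_normalizer_fintype fun n hn => by rw [inv_inv]; exact haS n hn
  have := (Subgroup.mem_normalizer_iff.1 (inv_mem this) r).1 hr
  simpa using this

theorem Hyp.not_ns [Finite G] (h : Hyp t F) : ¬ NS F := by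
  intro hns
  obtain ⟨S, hS⟩ := h.cen
  obtain ⟨a, ha, haS⟩ := h.fusion hS
  have hu : ∀ s ∈ (S : Subgroup G), s * (a⁻¹ * t * a) = (a⁻¹ * t * a) * s := fun s hs => by
    calc s * (a⁻¹ * t * a) = a⁻¹ * (a * s * a⁻¹ * t) * a := by group
      _ = _ := by rw [hS _ (haS s hs)]; group
  -- the part of `S` inside `F` is a Sylow subgroup of `F`
  obtain ⟨P, hP⟩ := (S.isPGroup'.comap_subtype (K := F)).exists_le_sylow
  have hPS : ∀ x ∈ (P : Subgroup F), (x : G) ∈ (S : Subgroup G) := by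
    have h1 : IsPGroup 2 (Subgroup.zpowers t) := IsPGroup.of_card (n := 1) (by
      rw [Nat.card_zpowers, h.ord, pow_one])
    have h2 : (P : Subgroup F).map F.subtype ≤
        Subgroup.normalizer (Subgroup.zpowers t : Set G) := by
      refine le_trans ?_ (Subgroup.centralizer_le_normalizer _)
      rintro _ ⟨s, -, rfl⟩ _ ⟨k, rfl⟩
      exact ((show Commute (s : G) t from h.comm s.2).zpow_right k).eq.symm
    have h3 := (P.isPGroup'.map F.subtype).to_sup_of_normal_right' h1 h2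
    have h4 := S.is_maximal' h3 fun s hs => by
      rcases h.cases (hS s hs) with h5 | h5
      · exact Subgroup.mem_sup_left ⟨⟨s, h5⟩, hP hs, rfl⟩
      · have : s = t * (t * s) := by rw [← mul_assoc, h.sq, one_mul]
        rw [this]
        exact mul_mem (Subgroup.mem_sup_right (Subgroup.mem_zpowers t))
          (Subgroup.mem_sup_left ⟨⟨_, h5⟩, hP (mul_mem (h.mem_sylow hS) hs), rfl⟩)
    intro x hx
    rw [← h4]
    exact Subgroup.mem_sup_left ⟨x, hx, rfl⟩
  have h1 := hns ⟨_, ha⟩ (by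
    rw [← Subgroup.orderOf_coe, ← h.ord]
    simpa using (MulAut.conj a⁻¹).orderOf_eq t) ⟨P, fun s hs => Subtype.ext (hu _ (hPS s hs))⟩
  have h2 := map_mem ((MulAut.conj a).toMonoidHom.comp F.subtype) h1
  have e : ((MulAut.conj a).toMonoidHom.comp F.subtype) ⟨_, ha⟩ = t := by simp [mul_assoc]
  rw [e] at h2
  exact h.not_mem (SqC_le (fun c hc => h.sq_mem hc) h2)

theorem Hyp.exists_conj [Finite G] (h : Hyp t F) : ∃ a : G, a⁻¹ * t * a ∈ F := by
  obtain ⟨S, hS⟩ := h.cen
  obtain ⟨a, ha, -⟩ := h.fusion hS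
  exact ⟨a, ha⟩

theorem Hyp.mem_normal [Finite G] (h : Hyp t F) {N : Subgroup G} [hN : N.Normal] (hF : F ≤ N) :
    t ∈ N := by
  obtain ⟨a, ha⟩ := h.exists_conj
  simpa [mul_assoc] using hN.conj_mem _ (hF ha) a

theorem le_or_inf_eq_bot [IsSimpleGroup F] (N : Subgroup G) [N.Normal] :
    F ≤ N ∨ ∀ x ∈ F, x ∈ N → x = 1 := by
  rcases (inferInstance : (N.subgroupOf F).Normal).eq_bot_or_eq_top with h1 | h1
  · refine Or.inr fun x hx hxN => ?_
    have : (⟨x, hx⟩ : F) ∈ N.subgroupOf F := hxN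
    rw [h1, Subgroup.mem_bot] at this
    exact congrArg Subtype.val this
  · exact Or.inl (Subgroup.subgroupOf_eq_top.1 h1)

theorem eq_one_of_central [IsSimpleGroup F] (hna : ¬ IsMulCommutative F) {f : G} (hf : f ∈ F)
    (hc : ∀ x ∈ F, x * f = f * x) : f = 1 := by
  rcases (inferInstance : (Subgroup.center F).Normal).eq_bot_or_eq_top with h1 | h1
  · have : (⟨f, hf⟩ : F) ∈ Subgroup.center F :=
      Subgroup.mem_center_iff.2 fun x => Subtype.ext (hc x x.2)
    rw [h1, Subgroup.mem_bot] at this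
    exact congrArg Subtype.val this
  · exact absurd ⟨⟨fun a b => (Subgroup.mem_center_iff.1 (h1 ▸ Subgroup.mem_top b) a)⟩⟩ hna

theorem Hyp.odd_or [Finite G] (h : Hyp t F) [IsSimpleGroup F] (hna : ¬ IsMulCommutative F)
    (N : Subgroup G) [hN : N.Normal] : Odd (Nat.card N) ∨ F ≤ N := by
  rcases le_or_inf_eq_bot (F := F) N with h1 | h1
  · exact Or.inr h1
  refine Or.inl (Nat.not_even_iff_odd.1 fun he => ?_)
  obtain ⟨x, hx⟩ := exists_prime_orderOf_dvd_card' 2 he.two_dvd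
  obtain ⟨S, hS⟩ := h.cen
  have h2 : IsPGroup 2 (Subgroup.zpowers (x : G)) := IsPGroup.of_card (n := 1) (by
    rw [Nat.card_zpowers, Subgroup.orderOf_coe, hx, pow_one])
  obtain ⟨P, hP⟩ := h2.exists_le_sylow
  obtain ⟨g, rfl⟩ := MulAction.exists_smul_eq G S P
  have h3 := hP (Subgroup.mem_zpowers (x : G))
  rw [Sylow.coe_subgroup_smul, Subgroup.mem_pointwise_smul_iff_inv_smul_mem] at h3
  simp only [MulAut.smul_def, MulAut.conj_inv_apply] at h3
  have h4 : g⁻¹ * x * g ∈ N := hN.conj_mem' _ x.2 g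
  have h5 : g⁻¹ * x * g ≠ 1 := fun e => by
    have : (x : G) = 1 := by
      calc (x : G) = g * (g⁻¹ * x * g) * g⁻¹ := by group
        _ = 1 := by rw [e]; group
    rw [show x = 1 from Subtype.ext this, orderOf_one] at hx
    omega
  generalize g⁻¹ * x * g = y at h3 h4 h5
  rcases h.cases (hS y h3) with h6 | h6
  · exact h5 (h1 y h6 h4)
  · have h7 : t * y = 1 := eq_one_of_central hna h6 fun f hf => by
      have e : f * (t * y) * f⁻¹ * (t * y)⁻¹ = t * (f * y * f⁻¹ * y⁻¹) * t⁻¹ := by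
        rw [← mul_assoc f, h.comm hf]; group
      have := h1 _ (mul_mem (mul_mem (mul_mem hf h6) (inv_mem hf)) (inv_mem h6))
        (e ▸ hN.conj_mem _ (mul_mem (hN.conj_mem _ h4 f) (inv_mem h4)) t)
      rwa [mul_inv_eq_one, mul_inv_eq_iff_eq_mul] at this
    have h8 : t ∈ N := by
      rw [eq_inv_of_mul_eq_one_left h7]; exact inv_mem h4
    obtain ⟨a, ha⟩ := h.exists_conj
    have h9 := h1 _ ha (hN.conj_mem' _ h8 a)
    refine h.ne_one ?_
    calc t = a * (a⁻¹ * t * a) * a⁻¹ := by group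
      _ = 1 := by rw [h9]; group

theorem centralizer_zpowers' {H : Type*} [Group H] (x : H) :
    Subgroup.centralizer (Subgroup.zpowers x : Set H) = Subgroup.centralizer {x} := by
  rw [Subgroup.zpowers_eq_closure, Subgroup.centralizer_closure]

theorem Hyp.inj [Finite G] (h : Hyp t F) [IsSimpleGroup F] {N : Subgroup G} [hN : N.Normal]
    (ho : Odd (Nat.card N)) {x : G} (hx : x * t = t * x) (hxN : x ∈ N) : x = 1 := by
  have key : ∀ y ∈ N, y * y = 1 → y = 1 := fun y hy e => by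
    have h1 : orderOf y ∣ 2 := orderOf_dvd_of_pow_eq_one (by rw [pow_two, e])
    have h2 : orderOf y ∣ Nat.card N := Subgroup.orderOf_dvd_natCard N hy
    exact orderOf_eq_one_iff.1 (Nat.eq_one_of_dvd_coprimes (Nat.coprime_two_left.2 ho) h1 h2)
  rcases le_or_inf_eq_bot (F := F) N with h1 | h1
  · exact absurd (key t (h.mem_normal h1) h.sq) h.ne_one
  · exact key x hxN (h1 _ (h.sq_mem hx) (mul_mem hxN hxN))

theorem Hyp.quot [Finite G] (h : Hyp t F) [IsSimpleGroup F] {N : Subgroup G} [hN : N.Normal]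
    (ho : Odd (Nat.card N)) :
    Hyp (QuotientGroup.mk' N t) (F.map (QuotientGroup.mk' N)) ∧
      Nonempty (F.map (QuotientGroup.mk' N) ≃* F) := by
  have hp : IsPGroup 2 (Subgroup.zpowers t) := IsPGroup.of_card (n := 1) (by
    rw [Nat.card_zpowers, h.ord, pow_one])
  have hc := (Cfsg.Agent.S3800.result (p := 2) N (Nat.coprime_two_right.2 ho) _ hp).2
  rw [MonoidHom.map_zpowers, centralizer_zpowers', centralizer_zpowers'] at hc
  have hinj : ∀ x, x * t = t * x → QuotientGroup.mk' N x = 1 → x = 1 := fun x hx e =>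
    h.inj ho hx ((QuotientGroup.eq_one_iff x).1 e)
  refine ⟨⟨orderOf_eq_prime (by rw [pow_two, ← map_mul, h.sq, map_one])
    fun e => h.ne_one (hinj t rfl e), ?_, ?_, fun H hH => ?_⟩, ?_⟩
  · obtain ⟨S, hS⟩ := h.cen
    refine ⟨S.mapSurjective (QuotientGroup.mk'_surjective N), ?_⟩
    rintro _ ⟨s, hs, rfl⟩
    rw [← map_mul, hS s hs, map_mul]
  · rw [hc, ← MonoidHom.map_zpowers]
    refine ⟨Subgroup.map_mono h.dp.1, Subgroup.map_mono h.dp.2.1, ?_, ?_, ?_⟩
    · rintro _ ⟨a, ha, rfl⟩ _ ⟨b, hb, rfl⟩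
      rw [← map_mul, h.dp.2.2.1 a ha b hb, map_mul]
    · refine eq_bot_iff.2 ?_
      rintro _ ⟨⟨a, ha, rfl⟩, b, hb, e⟩
      have h1 : a * b⁻¹ = 1 := hinj _
        (Subgroup.mem_centralizer_singleton_iff.1 (mul_mem (h.dp.1 ha) (inv_mem (h.dp.2.1 hb))))
        (by rw [map_mul, map_inv, e, mul_inv_cancel])
      have h2 : a ∈ Subgroup.zpowers t ⊓ F := ⟨ha, by rw [mul_inv_eq_one.1 h1]; exact hb⟩
      rw [h.dp.2.2.2.1, Subgroup.mem_bot] at h2
      rw [h2, map_one]
      exact Subgroup.one_mem _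
    · rw [← Subgroup.map_sup, h.dp.2.2.2.2]
  · exact h.no (H.comap (QuotientGroup.mk' N)) (by
      rw [Subgroup.index_comap_of_surjective _ (QuotientGroup.mk'_surjective N), hH])
  · refine ⟨(MulEquiv.ofBijective ((QuotientGroup.mk' N).subgroupMap F)
      ⟨?_, MonoidHom.subgroupMap_surjective _ _⟩).symm⟩
    refine (injective_iff_map_eq_one _).2 fun x hx => Subtype.ext (hinj x (h.comm x.2) ?_)
    exact congrArg Subtype.val hx

theorem Hyp.sub [Finite G] (h : Hyp t F) [IsSimpleGroup F] (hna : ¬ IsMulCommutative F)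
    {N : Subgroup G} [hN : N.Normal] (hF : F ≤ N) :
    Hyp (⟨t, h.mem_normal hF⟩ : N) (F.subgroupOf N) := by
  have htN := h.mem_normal hF
  have hC : ∀ c, c * t = t * c → c ∈ N := fun c hc => by
    rcases h.cases hc with h1 | h1
    · exact hF h1
    · exact (N.mul_mem_cancel_left htN).1 (hF h1)
  refine ⟨by rw [← Subgroup.orderOf_coe, h.ord], ?_, ⟨?_, ?_, ?_, ?_, ?_⟩, fun H hH => ?_⟩
  · obtain ⟨S, hS⟩ := h.cen
    exact ⟨S.subtype fun s hs => hC s (hS s hs), fun s hs => Subtype.ext (hS s hs)⟩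
  · exact Subgroup.zpowers_le.2 (Subgroup.mem_centralizer_singleton_iff.2 rfl)
  · exact fun f hf => Subgroup.mem_centralizer_singleton_iff.2 (Subtype.ext (h.comm hf))
  · rintro _ ⟨k, rfl⟩ b hb
    exact Subtype.ext (h.dp.2.2.1 _ ⟨k, rfl⟩ b hb)
  · refine eq_bot_iff.2 ?_
    rintro _ ⟨⟨k, rfl⟩, hb⟩
    have h2 : t ^ k ∈ Subgroup.zpowers t ⊓ F := ⟨⟨k, rfl⟩, hb⟩
    rw [h.dp.2.2.2.1, Subgroup.mem_bot] at h2
    exact Subgroup.mem_bot.2 (Subtype.ext h2)
  · refine le_antisymm (sup_le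
      (Subgroup.zpowers_le.2 (Subgroup.mem_centralizer_singleton_iff.2 rfl))
      fun f hf => Subgroup.mem_centralizer_singleton_iff.2 (Subtype.ext (h.comm hf))) fun c hc => ?_
    rcases h.cases (congrArg Subtype.val (Subgroup.mem_centralizer_singleton_iff.1 hc)) with h1 | h1
    · exact Subgroup.mem_sup_right h1
    · have : c = ⟨t, htN⟩ * (⟨t, htN⟩ * c) := Subtype.ext (by
        change (c : G) = t * (t * c)
        rw [← mul_assoc, h.sq, one_mul])
      rw [this]
      exact mul_mem (Subgroup.mem_sup_left (Subgroup.mem_zpowers _)) (Subgroup.mem_sup_right h1)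
  · have h1 : F ≤ ⁅N, N⁆ := by
      rcases le_or_inf_eq_bot (F := F) ⁅N, N⁆ with h1 | h1
      · exact h1
      · refine absurd ⟨⟨fun a b => Subtype.ext ?_⟩⟩ hna
        exact commutatorElement_eq_one_iff_mul_comm.1 (h1 _
          (mul_mem (mul_mem (mul_mem a.2 b.2) (inv_mem a.2)) (inv_mem b.2))
          (Subgroup.commutator_mem_commutator (hF a.2) (hF b.2)))
    have h2 : ⁅N, N⁆ ≤ H.map N.subtype := Subgroup.commutator_le.2 fun a ha b hb => by
      have e : ⁅a, b⁆ = a * a * (a⁻¹ * b * (a⁻¹ * b)) * (b⁻¹ * b⁻¹) := by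
        rw [commutatorElement_def]; group
      have k : ∀ x ∈ N, x * x ∈ H.map N.subtype := fun x hx =>
        ⟨_, Subgroup.mul_self_mem_of_index_two hH ⟨x, hx⟩, rfl⟩
      rw [e]
      exact mul_mem (mul_mem (k a ha) (k _ (mul_mem (inv_mem ha) hb))) (k _ (inv_mem hb))
    obtain ⟨x, hx, e⟩ := h2 (h.mem_normal h1)
    rwa [show x = ⟨t, htN⟩ from Subtype.ext e] at hx

/-- Reduction to a simple group. -/
theorem reduce (n : ℕ) : ∀ {G : Type u} [Group G] [Finite G] {t : G} {F : Subgroup G},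
    Nat.card G = n → Hyp t F → IsSimpleGroup F → ¬ IsMulCommutative F →
    ∃ (G' : Type u) (_ : Group G') (_ : Finite G') (_ : IsSimpleGroup G') (t' : G')
      (F' : Subgroup G'), Hyp t' F' ∧ Nonempty (F' ≃* F) := by
  induction n using Nat.strong_induction_on with
  | _ n ih =>
  intro G _ _ t F hn h hs hna
  by_cases hG : IsSimpleGroup G
  · exact ⟨G, inferInstance, inferInstance, hG, t, F, h, ⟨MulEquiv.refl _⟩⟩
  haveI : Nontrivial G := ⟨t, 1, h.ne_one⟩
  have : ∃ N : Subgroup G, N.Normal ∧ N ≠ ⊥ ∧ N ≠ ⊤ := by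
    by_contra hc
    push Not at hc
    exact hG ⟨fun N hN => or_iff_not_imp_left.2 (hc N hN)⟩
  obtain ⟨N, hN, h1, h2⟩ := this
  have tr : ∀ {G' : Type u} [Group G'] [Finite G'] {t' : G'} {F' : Subgroup G'},
      Nat.card G' < n → Hyp t' F' → (F' ≃* F) →
      ∃ (G' : Type u) (_ : Group G') (_ : Finite G') (_ : IsSimpleGroup G') (t' : G')
        (F' : Subgroup G'), Hyp t' F' ∧ Nonempty (F' ≃* F) := by
    intro G' _ _ t' F' hlt h' e
    obtain ⟨G'', i1, i2, i3, t'', F'', h'', ⟨e'⟩⟩ := ih _ hlt rfl h' e.isSimpleGroup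
      fun hc => hna ⟨⟨fun a b => e.symm.injective (by
        rw [map_mul, map_mul]; exact hc.is_comm.comm _ _)⟩⟩
    exact ⟨G'', i1, i2, i3, t'', F'', h'', ⟨e'.trans e⟩⟩
  rcases h.odd_or hna N with ho | hF
  · obtain ⟨h3, ⟨e⟩⟩ := h.quot ho
    refine tr ?_ h3 e
    rw [← hn, Subgroup.card_eq_card_quotient_mul_card_subgroup N]
    exact lt_mul_of_one_lt_right Nat.card_pos (Subgroup.one_lt_card_iff_ne_bot N |>.2 h1)
  · refine tr ?_ (h.sub hna hF) (Subgroup.subgroupOfEquivOfLe hF)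
    rw [← hn]
    exact Nat.lt_of_le_of_ne (Subgroup.card_le_card_group N)
      fun e => h2 (Subgroup.eq_top_of_card_eq N e)

end H25.NS
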