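/- Counting lemmas for permutations and orbits; a non-existence result for strongly regular graphs. -/
import Cfsg.Agent.Base
import Cfsg.Agent.H25.SimpleSyl
import Cfsg.Agent.H25.Jordan

set_option autoImplicit false

namespace H25

open Subgroup MulAction Equiv

theorem dvd_card_of_orbits {G X : Type*} [Group G] [MulAction G X] (Y : Finset X) (n : ℕ)
    (hY : ∀ y ∈ Y, ∀ g : G, g • y ∈ Y) (hn : ∀ y ∈ Y, n ∣ Nat.card (orbit G y)) : n ∣ Y.card := by
  classical
  rw [Finset.card_eq_sum_card_image (fun y => (Quotient.mk (orbitRel G X) y))]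
  refine Finset.dvd_sum fun q hq => ?_
  obtain ⟨y, hy, rfl⟩ := Finset.mem_image.1 hq
  refine (hn y hy).trans (dvd_of_eq (Eq.symm ?_))
  rw [Nat.card_coe_set_eq, ← Set.ncard_coe_finset]
  congr 1
  ext z
  simp only [Finset.coe_filter, Set.mem_ofPred_eq, Quotient.eq, orbitRel_apply]
  exact ⟨fun h => h.2, fun h => ⟨by obtain ⟨g, rfl⟩ := h; exact hY y hy g, h⟩⟩

section perm
variable {α : Type*} [Fintype α] [DecidableEq α]

theorem prime_dvd_card_of_invariant {p : ℕ} [hp : Fact p.Prime] {σ : Perm α} (hσ : σ ^ p = 1)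
    {s : Finset α} (h1 : ∀ x ∈ s, σ x ∈ s) (hs : s ⊆ σ.support) : p ∣ s.card := by
  have h1' : ∀ x, σ x ∈ s ↔ x ∈ s := by
    intro x
    refine ⟨fun h => ?_, h1 x⟩
    obtain ⟨a, ha, hb⟩ := Finset.surj_on_of_inj_on_of_card_le (s := s) (t := s) (fun a _ => σ a)
      (fun a ha => h1 a ha) (fun a b _ _ h => σ.injective h) le_rfl _ h
    rwa [σ.injective hb]
  have h2 : (σ.subtypePerm h1') ^ p ^ 1 = 1 := by
    rw [pow_one, Perm.subtypePerm_pow]
    ext x
    simp [hσ]
  by_contra h3
  obtain ⟨a, ha⟩ := Perm.exists_fixed_point_of_prime (by rwa [Fintype.card_coe]) h2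
  exact Perm.mem_support.1 (hs a.2) (congrArg Subtype.val ha)

omit [Fintype α] [DecidableEq α] in
theorem eq_one_of_mem_zpowers_of_apply_eq {q : ℕ} [hq : Fact q.Prime] {σ h : Perm α}
    (hσ : σ ^ q = 1) (hh : h ∈ zpowers σ) {x : α} (hx : σ x ≠ x) (hhx : h x = x) : h = 1 := by
  have ho : orderOf σ = q := orderOf_eq_prime hσ (by rintro rfl; exact hx rfl)
  by_contra h1
  have : Finite (zpowers σ) := Nat.finite_of_card_ne_zero (by rw [Nat.card_zpowers, ho]; exact hq.out.ne_zero)
  have hc : Nat.card (zpowers σ) = q := by rw [Nat.card_zpowers, ho]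
  have h2 : (⟨σ, mem_zpowers σ⟩ : zpowers σ) ∈ zpowers (⟨h, hh⟩ : zpowers σ) := by
    rw [zpowers_eq_top_of_prime_card hc (fun h' => h1 (congrArg Subtype.val h'))]
    trivial
  obtain ⟨k, hk⟩ := h2
  have h3 : h ^ k = σ := congrArg Subtype.val hk
  exact hx (h3 ▸ Perm.zpow_apply_eq_self_of_apply_eq_self hhx k)

/-- an element normalizing but not centralizing a group of prime order `q` fixes at most one point
in each of its regular orbits -/
theorem mul_card_sdiff_support_le {q : ℕ} [hq : Fact q.Prime] {σ τ : Perm α} (hσ : σ ^ q = 1)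
    (hτ : τ ∈ normalizer (zpowers σ : Set (Perm α))) (hc : ¬ Commute τ σ) :
    q * (σ.support \ τ.support).card ≤ σ.support.card := by
  have hσ1 : σ ≠ 1 := by rintro rfl; exact hc (Commute.one_right τ)
  have ho : orderOf σ = q := orderOf_eq_prime hσ hσ1
  have hcz : Nat.card (zpowers σ) = q := by rw [Nat.card_zpowers, ho]
  rw [← hcz, ← Nat.card_eq_finsetCard, ← Nat.card_eq_finsetCard, ← Nat.card_prod]
  refine Nat.card_le_card_of_injective
    (fun z : zpowers σ × (σ.support \ τ.support : Finset α) => (⟨z.1.1 z.2, ?_⟩ : σ.support)) ?_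
  · obtain ⟨⟨_, k, rfl⟩, x, hx⟩ := z
    exact Perm.zpow_apply_mem_support.2 (Finset.mem_sdiff.1 hx).1
  rintro ⟨⟨g, hg⟩, x, hx⟩ ⟨⟨g', hg'⟩, y, hy⟩ hxy
  have h1 : g x = g' y := congrArg Subtype.val hxy
  rw [Finset.mem_sdiff, Perm.mem_support, Perm.notMem_support] at hx hy
  have hh : g'⁻¹ * g ∈ zpowers σ := mul_mem (inv_mem hg') hg
  have hhx : (g'⁻¹ * g) x = y := by rw [Perm.mul_apply, h1]; simp
  generalize hdef : g'⁻¹ * g = h at hh hhx
  have h2 : h⁻¹ * (τ * h * τ⁻¹) = 1 := by
    refine eq_one_of_mem_zpowers_of_apply_eq hσ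
      (mul_mem (inv_mem hh) ((mem_normalizer_iff.1 hτ h).1 hh)) hx.1 ?_
    have : τ⁻¹ x = x := by rw [Perm.inv_eq_iff_eq, hx.2]
    rw [Perm.mul_apply, Perm.mul_apply, Perm.mul_apply, this, hhx, hy.2, ← hhx]
    simp
  have h3 : h = 1 := by
    by_contra h1
    have h2' : (⟨σ, mem_zpowers σ⟩ : zpowers σ) ∈ zpowers (⟨h, hh⟩ : zpowers σ) := by
      rw [zpowers_eq_top_of_prime_card hcz (fun h' => h1 (congrArg Subtype.val h'))]
      trivial
    obtain ⟨k, hk⟩ := h2'
    have h3 : h ^ k = σ := congrArg Subtype.val hk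
    apply hc
    rw [← h3]
    apply Commute.zpow_right
    rw [inv_mul_eq_one, eq_mul_inv_iff_mul_eq] at h2
    exact h2.symm
  rw [h3, inv_mul_eq_one] at hdef
  rw [h3] at hhx
  subst hdef
  have : x = y := hhx
  subst this
  rfl

theorem four_dvd_card_support {σ : Perm α} (hσ : σ ^ 2 = 1) (hs : Perm.sign σ = 1) :
    4 ∣ σ.support.card := by
  have h1 := Perm.two_dvd_card_support hσ
  rw [sign_of_sq_eq_one hσ, neg_one_pow_eq_one_iff_even (by decide)] at hs
  obtain ⟨k, hk⟩ := hs
  omega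

omit [Fintype α] [DecidableEq α] in
theorem isPreprimitive_range {G : Type*} [Group G] [MulAction G α] (h : IsPreprimitive G α) :
    IsPreprimitive (toPermHom G α).range α := by
  let f : α →ₑ[(toPermHom G α).rangeRestrict] α := ⟨id, fun _ _ => rfl⟩
  exact IsPreprimitive.of_surjective (f := f) Function.surjective_id

end perm

instance factPrimeFive : Fact (Nat.Prime 5) := ⟨by norm_num⟩

theorem no_srg_22_9 {V : Type*} [Fintype V] [DecidableEq V] (Γ : SimpleGraph V)
    [DecidableRel Γ.Adj] {l m : ℕ} (h : Γ.IsSRGWith 22 9 l m) : False := by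
  have hp := h.param_eq Γ (by norm_num)
  have hl : l ≤ 8 := by
    obtain ⟨v⟩ : Nonempty V := Fintype.card_pos_iff.1 (by rw [h.card]; norm_num)
    obtain ⟨w, hw⟩ := (Γ.degree_pos_iff_exists_adj v).1 (by rw [h.regular.degree_eq]; norm_num)
    have := hw.card_commonNeighbors_lt_degree
    rw [h.of_adj v w hw, h.regular.degree_eq] at this
    omega
  have hm := h.matrix_eq (α := ZMod 5)
  set A := Γ.adjMatrix (ZMod 5) with hA
  set J : Matrix V V (ZMod 5) := Matrix.of 1 with hJ
  have hC : Γᶜ.adjMatrix (ZMod 5) = J - 1 - A := by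
    rw [hJ, ← Γ.one_add_adjMatrix_add_compl_adjMatrix_eq_of_one (α := ZMod 5),
      Γ.compl_adjMatrix_eq_adjMatrix_compl (ZMod 5)]
    abel
  rw [hC, pow_two] at hm
  have h5 : ∀ M : Matrix V V (ZMod 5), (5 : ℕ) • M = 0 := by
    intro M
    ext i j
    rw [Matrix.smul_apply, nsmul_eq_mul]
    exact mul_eq_zero_of_left (by decide) _
  have hAJ : A * J = 9 • J := by
    ext i j
    simp [hA, hJ, h.regular.degree_eq]
  have hJA : J * A = 9 • J := by
    ext i j
    simp [hA, hJ, h.regular.degree_eq]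
  have hJJ : J * J = 22 • J := by
    ext i j
    simp [hJ, Matrix.mul_apply, h.card]
  have htA : A.trace = 0 := Γ.trace_adjMatrix _
  have htJ : J.trace = 22 := by simp [hJ, Matrix.trace, h.card]
  have ht1 : (1 : Matrix V V (ZMod 5)).trace = 22 := by simp [h.card]
  have hcase : (l = 0 ∧ m = 6) ∨ (l = 4 ∧ m = 3) ∨ (l = 8 ∧ m = 0) := by omega
  rcases hcase with ⟨rfl, rfl⟩ | ⟨rfl, rfl⟩ | ⟨rfl, rfl⟩
  · have h1 : (A + 3 • 1) * (A + 3 • 1) = (2 : ZMod 5) • (1 +
        Matrix.replicateCol Unit (fun _ : V => (3 : ZMod 5)) *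
        Matrix.replicateRow Unit (fun _ : V => (1 : ZMod 5))) := by
      have h2 : (2 : ZMod 5) • (1 + Matrix.replicateCol Unit (fun _ : V => (3 : ZMod 5)) *
        Matrix.replicateRow Unit (fun _ : V => (1 : ZMod 5))) = 2 • 1 + 6 • J := by
        rw [smul_add, two_smul, two_nsmul]
        congr 1
        ext i j
        simp [hJ, Matrix.mul_apply]
        norm_num
      rw [h2, ← sub_eq_zero, ← h5 (2 • 1)]
      simp only [add_mul, mul_add, hm, smul_mul_assoc, mul_smul_comm, mul_one, one_mul]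
      abel
    have h3 := congrArg Matrix.det h1
    rw [Matrix.det_mul, Matrix.det_smul, Matrix.det_one_add_replicateCol_mul_replicateRow,
      h.card] at h3
    simp only [dotProduct, Finset.sum_const, Finset.card_univ, h.card] at h3
    revert h3
    generalize (A + 3 • 1).det = d
    revert d
    decide
  · have h1 : IsNilpotent (2 • A + 4 • 1 - J) := by
      refine ⟨2, ?_⟩
      rw [pow_two, ← h5 (2 • (2 • A + 4 • 1 - J))]
      simp only [add_mul, mul_add, sub_mul, mul_sub, hm, hAJ, hJA, hJJ, smul_mul_assoc,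
        mul_smul_comm, mul_one, one_mul]
      abel
    have h2 := (Matrix.isNilpotent_trace_of_isNilpotent h1).eq_zero
    rw [Matrix.trace_sub, Matrix.trace_add, Matrix.trace_smul, Matrix.trace_smul, htA, htJ,
      ht1] at h2
    revert h2
    decide
  · have h1 : IsNilpotent (A + 1) := by
      refine ⟨2, ?_⟩
      rw [pow_two, ← h5 (2 • (A + 1))]
      simp only [add_mul, mul_add, hm, mul_one, one_mul]
      abel
    have h2 := (Matrix.isNilpotent_trace_of_isNilpotent h1).eq_zero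
    rw [Matrix.trace_add, htA, ht1] at h2
    revert h2
    decide

end H25
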