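/- Tower R5: a solvable group with cyclic Sylow subgroups away from `s` and no `s`-quotient. -/
import Cfsg.Agent.H34.R5Spec
import Cfsg.Agent.H2.MinNormal

set_option autoImplicit false

namespace H25.R5

open Subgroup

universe u

theorem map_eq_one {X A : Type*} [Group X] [Finite X] [CommGroup A] [Finite A] {s : ℕ}
    [hs : Fact s.Prime] (h : ∀ (K : Subgroup X) (k : ℕ), K.Normal → K.index = s ^ k → K = ⊤)
    (φ : X →* A) {g : X} {j : ℕ} (hg : g ^ s ^ j = 1) : φ g = 1 := by
  obtain ⟨a, m, hm, e⟩ := Nat.exists_eq_pow_mul_and_not_dvd (Nat.card_pos (α := A)).ne' s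
    hs.out.ne_one
  let ψ : X →* A := (powMonoidHom m).comp φ
  have h1 : IsPGroup s ψ.range := by
    rintro ⟨_, x, rfl⟩
    refine ⟨a, Subtype.ext ?_⟩
    change (φ x ^ m) ^ s ^ a = 1
    rw [← pow_mul, mul_comm, ← e, pow_card_eq_one']
  obtain ⟨k, hk⟩ := IsPGroup.iff_card.1 h1
  have h2 := h ψ.ker k inferInstance (by rw [index_ker, hk])
  have h3 : φ g ^ m = 1 := (h2 ▸ mem_top g : g ∈ ψ.ker)
  have h4 : φ g ^ s ^ j = 1 := by rw [← map_pow, hg, map_one]
  have h5 := pow_gcd_eq_one.2 ⟨h3, h4⟩
  rwa [(((Nat.Prime.coprime_iff_not_dvd hs.out).2 hm).symm.pow_right j).gcd_eq_one, pow_one] at h5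

theorem aux (s : ℕ) [hs : Fact s.Prime] (n : ℕ) : ∀ (X : Type u) [Group X] [Finite X],
    Nat.card X = n → Group.IsSolvable X → ∀ (P : Sylow s X),
    (∀ (r : ℕ) (R : Sylow r X), r.Prime → r ≠ s → IsCyclic R) →
    (∀ (K : Subgroup X) (k : ℕ), K.Normal → K.index = s ^ k → K = ⊤) → (P : Subgroup X).Normal := by
  induction n using Nat.strong_induction_on with
  | _ n ih =>
  intro X _ _ hn hX P hc hq
  by_cases h0 : (⊤ : Subgroup X) = ⊥
  · rw [eq_bot_iff.2 (h0 ▸ le_top : (P : Subgroup X) ≤ ⊥)]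
    infer_instance
  obtain ⟨r, N, hr, hN, -, hN1, -, hNr, -⟩ := H2.exists_elementaryAbelian_normal_le ⊤ h0
  have := Fact.mk hr
  have hf := QuotientGroup.mk'_surjective N
  have h1 := ih _ (by
      rw [← hn, ← N.index_eq_card, ← N.card_mul_index]
      exact lt_mul_of_one_lt_left (Nat.pos_of_ne_zero N.index_ne_zero_of_finite)
        (one_lt_card_iff_ne_bot N |>.2 hN1)) (X ⧸ N) rfl inferInstance (P.mapSurjective hf)
    (fun r' R hr' hs' => by
      have := Fact.mk hr'
      obtain ⟨R, rfl⟩ := Sylow.mapSurjective_surjective hf r' R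
      have := hc r' R hr' hs'
      exact isCyclic_of_surjective _ ((QuotientGroup.mk' N).subgroupMap_surjective R))
    (fun K k hK e => by
      have := hq (K.comap (QuotientGroup.mk' N)) k inferInstance
        (by rw [index_comap_of_surjective _ hf, e])
      rw [← map_comap_eq_self_of_surjective hf K, this, ← MonoidHom.range_eq_map,
        MonoidHom.range_eq_top_of_surjective _ hf])
  have h2 : N ≤ normalizer ((P : Subgroup X) : Set X) := by
    by_cases e : r = s
    · subst e
      exact (hNr.le_sylow_of_normal P).trans le_normalizer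
    obtain ⟨R, hR⟩ := hNr.exists_le_sylow
    have := hc r R hr e
    have : IsCyclic N := isCyclic_of_injective _ (inclusion_injective hR)
    intro x hx
    have h3 : ∀ g ∈ (P : Subgroup X), g * x * g⁻¹ = x := fun g hg => by
      obtain ⟨j, e⟩ := P.isPGroup' ⟨g, hg⟩
      have := map_eq_one hq ((IsCyclic.mulAutMulEquiv N).toMonoidHom.comp MulAut.conjNormal)
        (g := g) (j := j) (congrArg Subtype.val e)
      have h4 : (MulAut.conjNormal g : MulAut N) = 1 := 
        (IsCyclic.mulAutMulEquiv N).injective (this.trans (map_one _).symm)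
      exact congrArg (fun f : MulAut N => (f ⟨x, hx⟩ : X)) h4
    refine centralizer_le_normalizer _ fun g hg => ?_
    exact mul_inv_eq_iff_eq_mul.1 (h3 g hg)
  have : (((P : Subgroup X).map (QuotientGroup.mk' N)).comap (QuotientGroup.mk' N)).Normal :=
    Normal.comap h1 _
  have h4 := P.normalizer_sup_eq_top' (le_comap_map (QuotientGroup.mk' N) (P : Subgroup X))
  rw [comap_map_eq, QuotientGroup.ker_mk'] at h4
  exact normalizer_eq_top_iff.1 ((sup_eq_left.2 (sup_le le_normalizer h2)).symm.trans h4)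

theorem jobPN : H34.R5.JobPN.{u} := fun X _ _ hX s _ P => aux s _ X rfl hX P

end H25.R5
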