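/- Tower RIT: the groups `E(d)` form a class of `k`-root subgroups. -/
import Cfsg.Agent.H66.RITSpec
import Cfsg.Agent.H70.R2S

set_option autoImplicit false

namespace H25.RIT

open Cfsg H70 H66.RST H66.RIT
open scoped MatrixGroups

universe u

theorem psl2_congr {G F K : Type*} [Group G] [Field F] [Field K] (e : F ≃+* K)
    (φ : SL(2, K) →* G) (h : Function.Injective φ) :
    IsPSL2PairOver F ((upperUnipotentSL2 K).map φ) ((lowerUnipotentSL2 K).map φ) := by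
  let ψ : SL(2, F) →* SL(2, K) := Matrix.SpecialLinearGroup.map (e : F →+* K)
  have hu : ∀ r, ψ (xu r) = xu (e r) := fun r => by
    ext i j; fin_cases i <;> fin_cases j <;> simp [ψ]
  have hl : ∀ r, ψ (xl r) = xl (e r) := fun r => by
    ext i j; fin_cases i <;> fin_cases j <;> simp [ψ]
  have hi : Function.Injective ψ := fun a b e' => by
    ext i j
    exact e.injective (congrArg (fun g : SL(2, K) => (g : Matrix (Fin 2) (Fin 2) K) i j) e')
  have h1 : (upperUnipotentSL2 F).map ψ = upperUnipotentSL2 K := by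
    ext g
    rw [upperUnipotentSL2_eq]
    constructor
    · rintro ⟨g, hg, rfl⟩
      obtain ⟨r, rfl⟩ := (upperUnipotentSL2_eq F).1 hg
      exact ⟨_, hu r⟩
    · rintro ⟨r, rfl⟩
      exact ⟨_, (upperUnipotentSL2_eq F).2 ⟨e.symm r, rfl⟩, by rw [hu, e.apply_symm_apply]⟩
  have h2 : (lowerUnipotentSL2 F).map ψ = lowerUnipotentSL2 K := by
    ext g
    rw [lowerUnipotentSL2_eq]
    constructor
    · rintro ⟨g, hg, rfl⟩
      obtain ⟨r, rfl⟩ := (lowerUnipotentSL2_eq F).1 hg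
      exact ⟨_, hl r⟩
    · rintro ⟨r, rfl⟩
      exact ⟨_, (lowerUnipotentSL2_eq F).2 ⟨e.symm r, rfl⟩, by rw [hl, e.apply_symm_apply]⟩
  have := isPSL2PairOver_of_hom (φ.comp ψ) (h.comp hi)
  rwa [← Subgroup.map_map, ← Subgroup.map_map, h1, h2] at this

variable {G : Type u} [Group G] {D : Set G} {a b d : G}

theorem conj_E (hD : IsRootInvolutionSet D) (d g : G) : conjBy (EE D d) g = EE D (g * d * g⁻¹) := by
  ext x
  rw [mem_conjBy]
  constructor
  · intro h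
    simpa [mul_assoc] using H66.RI.conj_mem_E hD h g
  · intro h
    simpa [mul_assoc] using H66.RI.conj_mem_E hD h g⁻¹

theorem self_mem (ha : a ∈ D) : a ∈ EE D a := H66.RI.mem_E ha (H66.RI.SE.refl a)

theorem ne_one (hD : IsRootInvolutionSet D) (ha : a ∈ D) : a ≠ 1 := fun e => by
  have := hD.orderOf_eq a ha
  rw [e, orderOf_one] at this
  exact absurd this (by decide)

theorem mem_S (h : HE D) (hd : d ∈ D) {A : Subgroup G} :
    A ∈ {A : Subgroup G | ∃ g : G, A = conjBy (EE D d) g} ↔ ∃ a ∈ D, A = EE D a := by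
  constructor
  · rintro ⟨g, rfl⟩
    exact ⟨_, h.ri.conj_mem d hd g, conj_E h.ri d g⟩
  · rintro ⟨a, ha, rfl⟩
    obtain ⟨g, rfl⟩ := h.cl d hd a ha
    exact ⟨g, (conj_E h.ri d g).symm⟩

theorem card_E (h : HE D) (hd : d ∈ D) (ha : a ∈ D) : Nat.card (EE D a) = Nat.card (EE D d) := by
  obtain ⟨g, rfl⟩ := h.cl d hd a ha
  rw [← conj_E h.ri]
  exact (Nat.card_congr (conjByEquiv _ g).toEquiv).symm

theorem opp_E (h : HE D) (ha : a ∈ D) (hb : b ∈ D) (o : IOpp a b) {x : G} (hx : x ∈ EE D a)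
    (x1 : x ≠ 1) : IOpp x b := by
  obtain ⟨h1, h2⟩ := mem_E.1 (((h.mem_Z ha).1 hx).resolve_right x1)
  exact opp_of_comm_subset h.ri ha h1 (fun y hy c => (h2 y hy).2 c) hb o

theorem opp_of_r1 (h : HE D) (ha : a ∈ D) (hb : b ∈ D) (r : IsRankOnePair (EE D a) (EE D b)) :
    IOpp a b := by
  have a1 := ne_one h.ri ha
  rcases ri_tri h.ri ha hb with c | o | f
  · exact (r1_not_commute r (self_mem ha) a1 (self_mem hb) (ne_one h.ri hb) c).elim
  · exact o
  obtain ⟨b', hb', b1, e⟩ := r1_exists_partner r (self_mem ha) a1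
  have h1 := ((h.mem_Z hb).1 hb').resolve_right b1
  have f' := h.four_E hb h1 ha f
  have sa := ri_sq h.ri ha
  have sb := ri_sq h.ri h1.1
  have h2 := mem_conjBy.1 (e ▸ conj_mem_conjBy b' (self_mem ha))
  rw [ri_inv h.ri ha, ri_inv h.ri h1.1,
    show a * (b' * a * b') * a = a * b' * a * b' * a by simp only [mul_assoc]] at h2
  have h3 := H66.RI.commute_E hb (Commute.refl b) hb' h2
  have h4 := ((f'.comm_right sa sb).inv_right).mul_right h3
  rw [inv_mul_cancel_left] at h4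
  exact (f'.not_commute sa sb h4.symm).elim

theorem sl2_of_opp [Finite G] (h : HE D) (hp : PairOK D) (ha : a ∈ D) (hb : b ∈ D) (o : IOpp a b) :
    ∃ (K : Type) (_ : Field K) (_ : Fintype K), Fintype.card K = Nat.card (EE D a) ∧
      ∃ φ : SL(2, K) →* G, Function.Injective φ ∧ (upperUnipotentSL2 K).map φ = EE D a ∧
        (lowerUnipotentSL2 K).map φ = EE D b := by
  obtain ⟨K, iK, jK, -, hK, φ, h1, h2, h3⟩ := H70.R2.jobS G _ _ (hp a ha b hb o)
    (fun _ hx => H66.RI.sq_of_mem_E h.ri ha hx) (fun _ hx => H66.RI.sq_of_mem_E h.ri hb hx)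
    fun x hx y hy x1 y1 => (opp_E h hb (((h.mem_Z ha).1 hx).resolve_right x1).1
      (opp_E h ha hb o hx x1).symm hy y1).symm.2
  exact ⟨K, iK, jK, hK, φ, h1, (H70.R2.up_eq φ).symm.trans h2, (H70.R2.lo_eq φ).symm.trans h3⟩

theorem jobAS : JobAS.{u} := by
  intro hC G _ _ D h hp d hd
  obtain ⟨b0, hb0, o0⟩ := h.opp d hd
  obtain ⟨F, iF, jF, hF, -⟩ := sl2_of_opp h hp hd hb0 o0
  refine ⟨F, iF, jF, hF, ⟨⟨fun A hA => ?_, fun A hA => ?_, ?_, fun A hA g => ?_, fun A hA B hB => ?_⟩,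
    fun A hA B hB r => ?_⟩, ⟨_, 1, rfl⟩, ?_⟩
  · obtain ⟨a, ha, rfl⟩ := (mem_S h hd).1 hA
    exact isMulCommutative_iff.2 fun x hx y hy => H66.RI.commute_E ha (Commute.refl a) hx hy
  · obtain ⟨a, ha, rfl⟩ := (mem_S h hd).1 hA
    exact fun e => ne_one h.ri ha (Subgroup.mem_bot.1 (e ▸ self_mem ha))
  · rw [eq_top_iff, ← h.ri.generates, Subgroup.closure_le]
    intro a ha
    exact (le_iSup₂_of_le (f := fun (A : Subgroup G)
      (_ : A ∈ {A : Subgroup G | ∃ g : G, A = conjBy (EE D d) g}) => A) _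
      ((mem_S h hd).2 ⟨a, ha, rfl⟩) le_rfl : EE D a ≤ _) (self_mem ha)
  · obtain ⟨k, rfl⟩ := hA
    exact ⟨_, conjBy_conjBy _ _ _⟩
  · obtain ⟨a, ha, rfl⟩ := (mem_S h hd).1 hA
    obtain ⟨b, hb, rfl⟩ := (mem_S h hd).1 hB
    rcases ri_tri h.ri ha hb with c | o | f
    · exact Or.inl (commutator_eq_bot_iff.2 fun x hx y hy => H66.RI.commute_E ha c hx hy)
    · exact Or.inr (Or.inl (hp a ha b hb o))
    · exact Or.inr (Or.inr (hC G D h d hd a ha b hb f))
  · obtain ⟨a, ha, rfl⟩ := (mem_S h hd).1 hA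
    obtain ⟨b, hb, rfl⟩ := (mem_S h hd).1 hB
    obtain ⟨K, _, _, hK, φ, h1, h2, h3⟩ := sl2_of_opp h hp ha hb (opp_of_r1 h ha hb r)
    rw [← h2, ← h3]
    exact psl2_congr (FiniteField.ringEquivOfCardEq (by rw [hF, hK, card_E h hd ha])) φ h1
  · rintro _ ⟨k, rfl⟩ _ ⟨k', rfl⟩
    exact ⟨k' * k⁻¹, by rw [conjBy_conjBy, inv_mul_cancel_right]⟩

end H25.RIT
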