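import Cfsg.Agent.H67.SPIII
import Cfsg.Agent.H98.Basic

/-! STD-SP chapter III, slot SD: the parabolic subgroups in the case `β = 0`. -/

set_option autoImplicit false
set_option linter.unusedSectionVars false

namespace H25.SP3

open Matrix Subgroup H67.SP
open H67.UA hiding Par
open H67.SA (la cm)
open scoped commutatorElement

universe u

variable {n : ℕ} {F : Type} [Field F] [StarRing F] [TrivialStar F] [CharP F 2] [Finite F]
  [Par n F] [Base n F] {G : Type u} [Group G] {e : XU n F →* G} {τ : Vn n F → G} {δ : F}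

theorem hf_sm (a : F) {x y : Vn n F} (h : hf x y = 0) : hf x (a • y) = 0 := by
  rw [hf_smul_right, h, mul_zero]

theorem hf_sm' (a : F) {x y : Vn n F} (h : hf x y = 0) : hf (a • x) y = 0 := by
  rw [hf_smul_left, h, mul_zero]

theorem hf_cm (x y : Vn n F) : hf x y = hf y x := by rw [← star_hf, star_trivial]

theorem sg_def (u v : Vn n F) : sg e τ 0 u v = τ (u + v) * τ u * τ v := by simp [H67.SP.sg]

theorem tt (h : RD e τ δ) (v : Vn n F) : τ v * τ v = 1 := by simpa using h.sq v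

theorem tinv (h : RD e τ δ) (v : Vn n F) : (τ v)⁻¹ = τ v := inv_eq_of_mul_eq_one_right (tt h v)

theorem tc (h : RD e τ δ) {u v : Vn n F} (huv : hf u v = 0) : Commute (τ u) (τ v) := by
  have := h.cmp u v huv
  rw [zero_smul, qq, EE_zero, map_one] at this
  exact commutatorElement_eq_one_iff_mul_comm.mp this

theorem s_sm (h : RD e τ δ) (a : F) (u : Vn n F) : sg e τ 0 u (a • u) = 1 := by
  simpa using h.shift a u

theorem s_zero (h : RD e τ δ) (u : Vn n F) : sg e τ 0 u 0 = 1 := by simpa using s_sm h 0 u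

theorem t_add (h : RD e τ δ) (a b : F) (u : Vn n F) : τ (a • u) * τ (b • u) = τ ((a + b) • u) := by
  simpa using h.nadd a b u

theorem cEs (h : RD e τ δ) {u x v : Vn n F} (c : F) (hx : hf x u = 0) (hv : hf u v = 0) :
    Commute (e (EE u x c)) (sg e τ 0 u v) := by
  have := h.toR0.sg_eqv 0 (EE u x c) u v
  rw [ac_EE_self (FV.ok u x c hx), ac_EE_perp (FV.ok u x c hx) (hf_symm hv),
    h.sadd u v _ ⟨hv, hf_sm _ (FV.iso u), hf_sm _ (hf_symm hv)⟩, s_sm h, mul_one] at this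
  exact mul_inv_eq_iff_eq_mul.mp this

theorem cEt (h : RD e τ δ) {u x : Vn n F} (c a : F) (hx : hf x u = 0) :
    Commute (e (EE u x c)) (τ (a • u)) :=
  h.toR0.fix (by rw [ac_smul, ac_EE_self (FV.ok u x c hx)])

theorem cts (h : RD e τ δ) {u v : Vn n F} (a : F) (hv : hf u v = 0) :
    Commute (τ (a • u)) (sg e τ 0 u v) :=
  h.stau u v _ ⟨hv, hf_sm _ (FV.iso u), hf_sm _ (hf_symm hv)⟩

theorem mem_AD {u x v : Vn n F} (c a : F) (hx : hf x u = 0) (hv : hf u v = 0) :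
    e (EE u x c) * sg e τ 0 u v * τ (a • u) ∈ AD e τ u :=
  subset_closure ⟨x, c, v, a, hx, hv, rfl⟩

theorem E_AD (h : RD e τ δ) {u x : Vn n F} (c : F) (hx : hf x u = 0) : e (EE u x c) ∈ AD e τ u := by
  have := mem_AD (e := e) (τ := τ) c 0 hx (hf_zero_right u)
  rwa [s_zero h, zero_smul, h.zero, mul_one, mul_one] at this

theorem s_AD (h : RD e τ δ) {u v : Vn n F} (hv : hf u v = 0) : sg e τ 0 u v ∈ AD e τ u := by
  have := mem_AD (e := e) (τ := τ) 0 0 (hf_zero_left u) hv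
  rwa [EE_zero, map_one, zero_smul, h.zero, mul_one, one_mul] at this

theorem t_AD (h : RD e τ δ) (a : F) (u : Vn n F) : τ (a • u) ∈ AD e τ u := by
  have := mem_AD (e := e) (τ := τ) 0 a (hf_zero_left u) (hf_zero_right u)
  rwa [EE_zero, map_one, s_zero h, mul_one, one_mul] at this

theorem nf (h : RD e τ δ) (u : Vn n F) : ∀ g ∈ AD e τ u, ∃ x c v, ∃ a : F, hf x u = 0 ∧
    hf u v = 0 ∧ g = e (EE u x c) * sg e τ 0 u v * τ (a • u) := fun g hg => by
  induction hg using closure_induction with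
  | mem g hg => exact hg
  | one => exact ⟨0, 0, 0, 0, hf_zero_left u, hf_zero_right u, by
      rw [EE_zero, map_one, s_zero h, zero_smul, h.zero, mul_one, mul_one]⟩
  | mul g g' _ _ ih ih' =>
    obtain ⟨x, c, v, a, hx, hv, rfl⟩ := ih
    obtain ⟨x', c', v', a', hx', hv', rfl⟩ := ih'
    have hx2 : hf (x + x') u = 0 := by rw [hf_add_left, hx, hx', add_zero]
    have hv2 : hf u (v + v') = 0 := by rw [hf_add_right, hv, hv', add_zero]
    have o := FV.ok u x c hx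
    have o' := FV.ok u x' c' hx'
    have o0 := FV.ok u 0 (δ * hf v v') (hf_zero_left u)
    refine ⟨x + x' + 0, c + c' + hf x' x + δ * hf v v' + hf 0 (x + x'), v + v',
      rt ((1 + 0) * hf v v') + (a + a'), by rw [add_zero, hx2], hv2, ?_⟩
    rw [← EE_mul (o.add o') o0, ← EE_mul o o', map_mul, map_mul, ← t_add h, ← t_add h]
    calc _ = e (EE u x c) * (sg e τ 0 u v * (τ (a • u) * e (EE u x' c'))) * sg e τ 0 u v' *
          τ (a' • u) := by group
      _ = e (EE u x c) * e (EE u x' c') * sg e τ 0 u v * (τ (a • u) * sg e τ 0 u v') *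
          τ (a' • u) := by
        rw [← (cEt h c' a hx').eq, ← mul_assoc (sg e τ 0 u v), ← (cEs h c' hx' hv).eq]; group
      _ = e (EE u x c) * e (EE u x' c') * (sg e τ 0 u v * sg e τ 0 u v') * τ (a • u) *
          τ (a' • u) := by rw [(cts h a hv').eq]; group
      _ = _ := by
        rw [h.mul u v v' hv hv', ← ((cEs h _ (hf_zero_left u) hv2).mul_right
          (cEt h _ _ (hf_zero_left u))).eq]
        group
  | inv g _ ih =>
    obtain ⟨x, c, v, a, hx, hv, rfl⟩ := ih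
    refine ⟨x, c, v, a, hx, hv, ?_⟩
    rw [_root_.mul_inv_rev, _root_.mul_inv_rev, tinv h, inv_eq_of_mul_eq_one_right (h.ssq u v hv),
      ← map_inv, EE_inv (FV.ok u x c hx), star_trivial, ← (cEs h c hx hv).eq,
      ((cEt h c a hx).symm.mul_right (cts h a hv)).eq]

theorem t_dec (h : RD e τ δ) (a : F) {u y : Vn n F} (hy : hf u y = 0) :
    τ (y + a • u) = sg e τ 0 u (a • y) * τ (a • u) * τ y := by
  rw [← h.sscal a u y hy, sg_def, add_comm y,
    show τ (a • u + y) * τ (a • u) * τ y * τ (a • u) * τ y =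
      τ (a • u + y) * τ (a • u) * (τ y * τ (a • u)) * τ y by group, ← (tc h (hf_sm' a hy)).eq,
    show τ (a • u + y) * τ (a • u) * (τ (a • u) * τ y) * τ y =
      τ (a • u + y) * (τ (a • u) * τ (a • u)) * (τ y * τ y) by group, tt h, tt h, mul_one, mul_one]

theorem conj_AD {u : Vn n F} {g : G}
    (h1 : ∀ x c, hf x u = 0 → g * e (EE u x c) * g⁻¹ ∈ AD e τ u)
    (h2 : ∀ v, hf u v = 0 → g * sg e τ 0 u v * g⁻¹ ∈ AD e τ u)
    (h3 : ∀ a : F, g * τ (a • u) * g⁻¹ ∈ AD e τ u) : ∀ a ∈ AD e τ u, g * a * g⁻¹ ∈ AD e τ u := by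
  have : AD e τ u ≤ (AD e τ u).comap (MulAut.conj g).toMonoidHom := (closure_le _).mpr (by
    rintro _ ⟨x, c, v, a, hx, hv, rfl⟩
    rw [SetLike.mem_coe, mem_comap, map_mul, map_mul]
    exact mul_mem (mul_mem (h1 x c hx) (h2 v hv)) (h3 a))
  exact fun a ha => this ha

theorem conj_e (h : RD e τ δ) {u : Vn n F} {p : XU n F} (hp : ac p u = u) :
    ∀ a ∈ AD e τ u, e p * a * (e p)⁻¹ ∈ AD e τ u := by
  refine conj_AD (fun x c hx => ?_) (fun v hv => ?_) fun a => ?_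
  · rw [← map_inv, ← map_mul, ← map_mul, EE_conj (FV.ok u x c hx), hp]
    exact E_AD h c (by rw [← hp, hf_ac, hx])
  · rw [h.toR0.sg_eqv, hp]
    exact s_AD h (by rw [← hp, hf_ac, hv])
  · rw [h.eqv, ac_smul, hp]
    exact t_AD h a u

theorem conj_t (h : RD e τ δ) {u y : Vn n F} (hy : hf y u = 0) :
    ∀ a ∈ AD e τ u, τ y * a * (τ y)⁻¹ ∈ AD e τ u := by
  refine conj_AD (fun x c hx => ?_) (fun v hv => ?_) fun a => ?_
  · have o := FV.ok u x c hx
    have h1 := h.eqv (EE u x c)⁻¹ y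
    rw [map_inv, inv_inv, EE_inv o, star_trivial, ac_EE_perp o hy, t_dec h _ (hf_symm hy)] at h1
    rw [show τ y * e (EE u x c) * (τ y)⁻¹ =
      e (EE u x c) * ((e (EE u x c))⁻¹ * τ y * e (EE u x c)) * (τ y)⁻¹ by group, h1, ← mul_assoc,
      mul_inv_cancel_right, ← mul_assoc]
    exact mem_AD c _ hx (hf_sm _ (hf_symm hy))
  · rw [h.cS u v y hv (hf_symm hy)]
    exact mem_AD 0 _ (hf_sm' _ hy) (by rw [hf_add_right, hv, hf_sm _ (hf_symm hy), add_zero])
  · rw [(tc h (hf_sm a hy)).eq, mul_inv_cancel_right]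
    exact t_AD h a u

theorem nrm (h : RD e τ δ) (u : Vn n F) : PD e τ u ≤ normalizer (AD e τ u : Set G) := by
  have k : ∀ {g : G}, (∀ a ∈ AD e τ u, g * a * g⁻¹ ∈ AD e τ u) →
      (∀ a ∈ AD e τ u, g⁻¹ * a * g⁻¹⁻¹ ∈ AD e τ u) → g ∈ normalizer (AD e τ u : Set G) :=
    fun {g} h1 h2 => mem_normalizer_iff.mpr fun a => ⟨h1 a, fun ha => by
      have := h2 _ ha
      rwa [show g⁻¹ * (g * a * g⁻¹) * g⁻¹⁻¹ = a by group] at this⟩
  refine (closure_le _).mpr ?_
  rintro _ (⟨p, hp, rfl⟩ | ⟨y, hy, rfl⟩)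
  · refine k (conj_e h hp) ?_
    rw [← map_inv]
    exact conj_e h (ac_inj p (by rw [ac_ac_inv, hp]))
  · refine k (conj_t h hy) ?_
    rw [tinv h]
    exact conj_t h hy

theorem dec (h : RD e τ δ) {u u' : Vn n F} (hu : hf u u' = 1) :
    PD e τ u ≤ AD e τ u ⊔ LD e τ u u' := by
  refine (closure_le _).mpr ?_
  rintro _ (⟨p, hp, rfl⟩ | ⟨y, hy, rfl⟩)
  · obtain ⟨g, g1, g2⟩ := FW.wh u u' hu
    obtain ⟨q, hq, s, hs, es⟩ := FW.ps (g⁻¹ * p * g) (by
      rw [mem_Stab, ac_mul, ac_mul, g1, hp, ← g1, ac_inv_ac])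
    obtain ⟨x, c, hx, rfl⟩ := (FV.mem_QQ q).mp hq
    have : p = EE u (ac g x) c * (g * s * g⁻¹) := by
      rw [← g1, ← EE_conj (FV.ok _ x c hx.1), show g * EE (ev 0) x c * g⁻¹ * (g * s * g⁻¹) =
        g * (EE (ev 0) x c * s) * g⁻¹ by group, ← es]
      group
    rw [SetLike.mem_coe, this, map_mul]
    refine mul_mem (mem_sup_left (E_AD h c (by rw [← g1, hf_ac, hx.1])))
      (mem_sup_right (subset_closure (Or.inl ⟨_, ?_, ?_, rfl⟩)))
    · rw [← g1, ac_mul, ac_mul, ac_inv_ac, mem_Stab.mp hs.1]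
    · rw [← g2, ac_mul, ac_mul, ac_inv_ac, mem_Stab.mp hs.2]
  · have h1 : hf (y + hf y u' • u) u = 0 := by rw [hf_add_left, hy, hf_sm' _ (FV.iso u), add_zero]
    have h2 : hf (y + hf y u' • u) u' = 0 := by
      rw [hf_add_left, hf_smul_left, hu, mul_one, CharTwo.add_self_eq_zero]
    have := t_dec h (hf y u') (hf_symm h1)
    rw [add_assoc, v_add_self, add_zero] at this
    rw [SetLike.mem_coe, this]
    exact mul_mem (mem_sup_left (mul_mem (s_AD h (hf_sm _ (hf_symm h1))) (t_AD h _ u)))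
      (mem_sup_right (subset_closure (Or.inr ⟨_, h1, h2, rfl⟩)))

theorem TT_mem {A : Subgroup (XU n F)} {u u' v : Vn n F} (hu : hf u' u = 1)
    (h1 : ∀ x c, hf x u = 0 → EE u x c ∈ A) (h2 : ∀ c, Tc c u' ∈ A) (hv : hf v u ≠ 0) :
    TT v ∈ A := by
  have hx : hf ((hf v u)⁻¹ • v + u') u = 0 := by
    rw [hf_add_left, hf_smul_left, inv_mul_cancel₀ hv, hu, CharTwo.add_self_eq_zero]
  have := Tc_conj (FV.iso (hf v u • u')) (star_one F)
    (EE u ((hf v u)⁻¹ • v + u') (hf u' ((hf v u)⁻¹ • v + u')))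
  rw [ac_EE (FV.ok _ _ _ hx), hf_smul_left, hf_smul_left, hu, mul_one, smul_add, smul_smul,
    mul_inv_cancel₀ hv, one_smul, mul_comm (hf v u), add_right_comm, add_assoc (hf v u • u'),
    v_add_self, add_zero, add_comm v, ← add_assoc, v_add_self, zero_add, Tc_smul] at this
  rw [TT, ← this]
  exact mul_mem (mul_mem (h1 _ _ hx) (h2 _)) (inv_mem (h1 _ _ hx))

theorem gen_X {A : Subgroup (XU n F)} {u u' : Vn n F} (hu : hf u u' = 1)
    (h1 : ∀ x c, hf x u = 0 → EE u x c ∈ A) (h2 : ∀ x c, hf x u' = 0 → EE u' x c ∈ A) : A = ⊤ := by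
  refine FW.genT A fun v => ?_
  have k1 := fun v => TT_mem (v := v) ((hf_cm u' u).trans hu) h1 fun c => h2 0 c (hf_zero_left _)
  have k2 := fun v => TT_mem (v := v) hu h2 fun c => h1 0 c (hf_zero_left _)
  by_cases a1 : hf v u = 0
  swap
  · exact k1 v a1
  by_cases a2 : hf v u' = 0
  swap
  · exact k2 v a2
  by_cases a3 : ∀ y, hf y u = 0 → hf y v = 0
  · obtain ⟨a, rfl⟩ := FW.dual u v (fun h0 => by simp [h0] at hu) a3
    rw [TT, Tc_smul]
    exact h1 0 _ (hf_zero_left _)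
  · push Not at a3
    obtain ⟨y, hy, hy'⟩ := a3
    have := k2 (ac (EE u y 0) v) (by
      rwa [ac_EE_perp (FV.ok u y 0 hy) a1, hf_add_left, a2, hf_smul_left, hu, mul_one, zero_add,
        hf_cm])
    rw [TT, ← Tc_conj (FV.iso v) (star_one F)] at this
    have h3 := mul_mem (mul_mem (inv_mem (h1 y 0 hy)) this) (h1 y 0 hy)
    rwa [show (EE u y 0)⁻¹ * (EE u y 0 * Tc 1 v * (EE u y 0)⁻¹) * EE u y 0 = Tc 1 v by group] at h3

theorem e_GD (g : XU n F) : e g ∈ GD e τ := subset_closure (Or.inl ⟨g, rfl⟩)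

theorem t_GD (v : Vn n F) : τ v ∈ GD e τ := subset_closure (Or.inr ⟨v, rfl⟩)

theorem AD_le (u : Vn n F) : AD e τ u ≤ GD e τ := (closure_le _).mpr (by
  rintro _ ⟨x, c, v, a, -, -, rfl⟩
  rw [sg_def]
  exact mul_mem (mul_mem (e_GD _) (mul_mem (mul_mem (t_GD _) (t_GD _)) (t_GD _))) (t_GD _))

theorem trans {u v : Vn n F} (hu : u ≠ 0) (hv : v ≠ 0) : ∃ g : XU n F, ac g u = v := by
  obtain ⟨a, rfl⟩ := FW.w1 u hu
  obtain ⟨b, rfl⟩ := FW.w1 v hv
  exact ⟨b * a⁻¹, by rw [ac_mul, ac_inv_ac]⟩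

theorem gen (h : RD e τ δ) {u u' : Vn n F} (hu : hf u u' = 1) :
    AD e τ u ⊔ AD e τ u' = GD e τ := by
  refine le_antisymm (sup_le (AD_le u) (AD_le u')) ((closure_le _).mpr ?_)
  have he : ∀ g, e g ∈ AD e τ u ⊔ AD e τ u' := fun g =>
    (gen_X (A := (AD e τ u ⊔ AD e τ u').comap e) hu (fun x c hx => mem_sup_left (E_AD h c hx))
      fun x c hx => mem_sup_right (E_AD h c hx)).ge (mem_top g)
  rintro _ (⟨g, rfl⟩ | ⟨v, rfl⟩)
  · exact he g
  · by_cases hv : v = 0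
    · rw [hv, h.zero]; exact one_mem _
    · obtain ⟨g, rfl⟩ := trans (u := u) (fun h0 => by simp [h0] at hu) hv
      rw [← h.eqv]
      have := t_AD h 1 u
      rw [one_smul] at this
      exact mul_mem (mul_mem (he g) (mem_sup_left this)) (inv_mem (he g))

theorem perf (h : RD e τ δ) : GD e τ ≤ ⁅GD e τ, GD e τ⁆ := by
  have he : ∀ g, e g ∈ ⁅GD e τ, GD e τ⁆ := fun g =>
    (FW.genT ((⁅GD e τ, GD e τ⁆ : Subgroup G).comap e) fun v => by
      by_cases hv : v = 0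
      · rw [hv, TT, Tc, EE_zero_left]; exact one_mem _
      · refine (commutator_le.mpr fun a _ b _ => ?_ : ⁅Stab v, Stab v⁆ ≤ _) (FR.perf v hv
          (mem_Stab.mpr (ac_EE_self (FV.ok v 0 1 (hf_zero_left v)))))
        rw [mem_comap, map_commutatorElement]
        exact commutator_mem_commutator (e_GD a) (e_GD b)).ge (mem_top g)
  have h5 := Par.five (n := n) (F := F)
  let T : Vn n F → Abelianization (GD e τ) := fun v => Abelianization.of ⟨τ v, t_GD v⟩
  have hT : ∀ {v w : Vn n F}, v ≠ 0 → w ≠ 0 → T v = T w := fun {v w} hv hw => by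
    obtain ⟨g, rfl⟩ := trans hv hw
    have : (⟨τ (ac g v), t_GD _⟩ : GD e τ) = ⟨e g, e_GD g⟩ * ⟨τ v, t_GD v⟩ * ⟨e g, e_GD g⟩⁻¹ :=
      Subtype.ext (h.eqv g v).symm
    simp only [T, this, map_mul, map_inv, mul_inv_cancel_comm]
  let i : ℕ → Fin (n + 1) := fun k => ⟨min k n, by omega⟩
  have hp : ∀ a b, a < 3 → b < 3 → hf (ev (i a) : Vn n F) (ev (i b)) = 0 := fun a b ha hb => by
    rw [hf_ev, if_neg fun e0 => ?_]
    have := congrArg Fin.val e0
    simp only [i, Fin.val_rev] at this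
    omega
  have nz : ∀ a (w : Vn n F), w (i a) = 0 → ev (i a) + w ≠ 0 := fun a w hw e0 => by
    have := congrFun e0 (i a)
    simp [ev_apply, hw] at this
  have z : ∀ a b, a < 3 → b < 3 → a ≠ b → (ev (i b) : Vn n F) (i a) = 0 := fun a b ha hb hab => by
    rw [ev_apply, if_neg fun e0 => ?_]
    have := congrArg Fin.val e0
    simp only [i] at this
    omega
  have key : T (ev (i 0) + (ev (i 1) + ev (i 2))) * T (ev (i 0)) * T (ev (i 1) + ev (i 2)) =
      T (ev (i 0) + ev (i 1)) * T (ev (i 0)) * T (ev (i 1)) *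
        (T (ev (i 0) + ev (i 2)) * T (ev (i 0)) * T (ev (i 2))) := by
    simp only [T, ← map_mul]
    congr 1
    have := h.sadd _ _ _ ⟨hp 0 1 (by omega) (by omega), hp 0 2 (by omega) (by omega),
      hp 1 2 (by omega) (by omega)⟩
    rw [sg_def, sg_def, sg_def] at this
    exact Subtype.ext this
  have e0 := ev_ne (K := F) (i 0)
  rw [hT (nz 0 _ (by simp [z 0 1, z 0 2])) e0, hT (nz 1 _ (z 1 2 (by omega) (by omega) (by omega))) e0,
    hT (nz 0 _ (z 0 1 (by omega) (by omega) (by omega))) e0,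
    hT (nz 0 _ (z 0 2 (by omega) (by omega) (by omega))) e0, hT (ev_ne (i 1)) e0,
    hT (ev_ne (i 2)) e0, left_eq_mul] at key
  have t2 : T (ev (i 0)) * T (ev (i 0)) = 1 := by
    simp only [T, ← map_mul]
    rw [← map_one Abelianization.of]
    congr 1
    exact Subtype.ext (tt h _)
  rw [t2, one_mul] at key
  refine (closure_le _).mpr ?_
  rintro _ (⟨g, rfl⟩ | ⟨v, rfl⟩)
  · exact he g
  · by_cases hv : v = 0
    · rw [hv, h.zero]; exact one_mem _
    · rw [← map_subtype_commutator]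
      exact ⟨⟨τ v, t_GD v⟩, by
        rw [← Abelianization.ker_of]
        exact (hT hv e0).trans key, rfl⟩

theorem jobSD : JobSD.{u} := by
  intro n F _ _ _ _ _ _ _ G _ e τ δ h
  refine ⟨nf h, fun u u' hu p hp => ?_, fun u p hp a ha => ?_, fun u u' hu => gen h hu, perf h⟩
  · refine (H98.mem_sup_right_norm (le_trans (closure_mono ?_) (nrm h u))).mp (dec h hu hp)
    rintro _ (⟨p, h1, -, rfl⟩ | ⟨y, h1, -, rfl⟩)
    exacts [Or.inl ⟨p, h1, rfl⟩, Or.inr ⟨y, h1, rfl⟩]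
  · exact H98.conj_mem_of_mem_normalizer (nrm h u hp) ha

end H25.SP3
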