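import Cfsg.Agent.H67.SAInd
import Cfsg.Agent.H99.WrSpec
import Cfsg.Prelude.Def_Spor_ON
import Cfsg.Prelude.Def_Spor_He
import Cfsg.Prelude.Def_Spor_Suz

/-! STD-S (row S3095, job 1973): no standard subgroup `ON`, `He`, `Suz`.  Spec; proof notes in
`blueprints/STDS.md`.  `X` is the abstract simple group, `e : X →* G` the embedding. -/

set_option autoImplicit false

namespace H25.ST

open H64.SG
open H67.SA (cm)

universe u

section Defs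

variable {X : Type*} [Group X]

/-- `2`-central involutions. -/
def I (x : X) : Prop := Inv2 x ∧ Odd (Cz x).index

/-- Inner automorphisms. -/
def Inn (β : MulAut X) : Prop := ∃ g, β = MulAut.conj g

/-- The inner automorphisms given by `A`. -/
abbrev cI (A : Subgroup X) : Subgroup (MulAut X) := A.map MulAut.conj

/-- The subgroup generated by the involutions of `A`. -/
def ivs (A : Subgroup X) : Subgroup X := Subgroup.closure {v | v ∈ A ∧ v * v = 1}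

/-- The subgroup generated by the squares of `A`. -/
def sqs (A : Subgroup X) : Subgroup X := Subgroup.closure {y | ∃ x ∈ A, y = x * x}

/-- Exponent at most `2`. -/
def El (A : Subgroup X) : Prop := ∀ a ∈ A, a * a = 1

/-- The largest perfect subgroup of `A`. -/
def Pf (A : Subgroup X) : Subgroup X := sSup {N | N ≤ A ∧ N ≤ ⁅N, N⁆}

/-- The largest perfect subgroup of `C(y)`. -/
abbrev Py (y : X) : Subgroup X := Pf (Cz y)

/-- The centraliser of `Py y` in `C(y)`. -/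
abbrev Vy (y : X) : Subgroup X := Cs (Py y) ⊓ Cz y

/-- Automorphisms centralising `U` are induced by `U`. -/
def SC (U : Subgroup X) : Prop := ∀ β : MulAut X, U ≤ fx β → ∃ u ∈ U, β = MulAut.conj u

/-- A chain from `U` up to `S`, each term inside the involution span of the previous normaliser. -/
inductive Lnk (S : Subgroup X) : Subgroup X → Prop
  | top : Lnk S S
  | step {U U' : Subgroup X} : U ≤ U' → U' ≤ ivs (Ns U) → Lnk S U' → Lnk S U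

/-- Lines for `He`, `Suz`. -/
def Ln2 (z e : X) : Prop := I z ∧ I e ∧ e ≠ z ∧ e ∈ Cfsg.pCoreOf 2 (Cz z)

/-- Lines for `ON`. -/
def Ln3 (z e : X) : Prop := I z ∧ I e ∧ e ≠ z ∧ e ∈ Py z

/-- The involutions normalising `Z` and fixing `y` modulo `Z`. -/
def Sy (Z : Subgroup X) (y : X) : Subgroup X :=
  Subgroup.closure {v | v * v = 1 ∧ v ∈ Ns Z ∧ cm v y ∈ Z}

/-- The image of `A` in the subgroup `N` of `Aut X`. -/
abbrev cN (A : Subgroup X) (N : Subgroup (MulAut X)) : Subgroup N := (cI A).subgroupOf N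

/-- Facts on the centraliser of the involution `y`. -/
structure PV (y : X) : Prop where
  ne : Py y ≠ ⊥
  cv : ∀ β : MulAut X, β y = y → Py y ≤ fx β → Inn β
  card : Nat.card (Vy y) = 2 ∨ Nat.card (Vy y) = 4
  mv : ∃ s ∈ Cz y, ∀ v ∈ Vy y, v ∉ Subgroup.zpowers y → s * v * s⁻¹ = v * y
  g0 : ∀ Y ≤ Py y, Cz y ≤ Ns Y → ¬ Y ≤ Cs (Py y) → ∀ B : Subgroup X, Cz y ≤ B →
    (∀ u ∈ Y, Inv2 u → Cz u ≤ B) → B = ⊤
  q8 : Nat.card (Vy y) = 4 → ∀ N ≤ Py y, Py y ≤ Ns N → N = Py y ∨ 8 ∣ N.relIndex (Py y)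

/-- Facts on the line `z, e` (`He`, `Suz`). -/
structure LH (z e : X) : Prop where
  ln : Ln2 z e
  rot : ∃ ρ : X, ρ ^ 3 = 1 ∧ ρ * z * ρ⁻¹ = e ∧ ρ * e * ρ⁻¹ = z * e
  cV : ∀ β : MulAut X, Cz z ⊓ Cz e ≤ fx β → ∃ v ∈ Subgroup.closure {z, e}, β = MulAut.conj v
  oV : ∀ O ≤ Cz z ⊓ Cz e, Odd (Nat.card O) → Cz z ⊓ Cz e ≤ Ns O → O = ⊥
  h2 : ∃ (Y : Subgroup X) (x : X), (Y = ⊥ ∨ Y = Pf (Cz z ⊓ Cz e)) ∧ x ∈ Y ∧
    (∀ x' ∈ Y, orderOf x' = orderOf x → ∃ y ∈ Y, x' = y * x * y⁻¹ ∨ x' = y * x ^ 2 * y⁻¹) ∧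
    ∀ γ : MulAut (Cz z), (∀ a : Cz z, (a : X) = e → γ a = a) →
      (∀ a : Cz z, (a : X) = x → ∃ y ∈ Y, (γ a : X) = y * x * y⁻¹) → Inn γ
  p2 : ∃ w₁ w₂ q : X, (∃ x ∈ Cz z, w₁ = x * e * x⁻¹) ∧ (∃ x ∈ Cz z, w₂ = x * e * x⁻¹) ∧
    (∃ x ∈ Cz z, w₁ * w₂ = x * e * x⁻¹) ∧ q ∈ Cz z ∧ q * w₁ * q⁻¹ = z * w₁ ∧
    q * w₂ * q⁻¹ = z * w₂ ∧ ∀ β : MulAut X, Cz w₁ ⊓ Cz w₂ ≤ fx β →
      ∃ f, β = MulAut.conj f ∧ cm q f ∈ Subgroup.zpowers z

/-- Facts on `E = 2³ ≤ L = 4³` (`ON`). -/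
structure FOd (z ζ s j₁ j₂ a : X) (E L : Subgroup X) : Prop where
  zI : I z
  el : El E
  card : Nat.card E = 8
  zE : z ∈ E
  ab : L ≤ Cs L
  sq : ∀ μ ∈ L, μ * μ ∈ E
  rt : ∀ x ∈ E, ∃ μ ∈ L, μ * μ = x
  om : ∀ μ, μ ∈ E ↔ μ ∈ L ∧ μ * μ = 1
  ce : Cs E ≤ L
  sc : SC L
  gl : ∀ φ : MulAut E, ∃ m ∈ Ns E, ∀ x : E, m * x * m⁻¹ = φ x
  LP : L ≤ Py z
  h1 : ∀ γ : MulAut (Py z), ∃ x ∈ Py z, ∀ y : Py z, (y : X) ∈ E → x * γ y * x⁻¹ ∈ E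
  h2 : ∀ γ : MulAut (Py z), (∀ y : Py z, (y : X) ∈ L → γ y = y) →
    ∃ μ ∈ L, ∀ y : Py z, (γ y : X) = μ * y * μ⁻¹
  ζL : ζ ∈ L
  ζz : ζ * ζ = z
  ζc : ζ ∈ Cs (Py z)
  vz : L ⊓ Cs (Py z) ≤ Subgroup.zpowers ζ
  j1 : j₁ ∈ Py z ⊓ Ns E
  j2 : j₂ ∈ Py z ⊓ Ns E
  jj : j₁ * j₁ ∈ L ∧ j₂ * j₂ ∈ L ∧ cm j₁ j₂ ∈ L
  nrm : ∀ μ ∈ L, μ * (j₁ * μ * j₁⁻¹) * (j₂ * μ * j₂⁻¹) * (j₁ * j₂ * μ * (j₁ * j₂)⁻¹) = 1
  aE : a ∈ E
  ja : j₁ * a * j₁⁻¹ = a * z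
  sN : s ∈ O2 (Ns E) ⊓ Cz z
  idx : ∀ x ∈ Cz z, x ∈ Py z ∨ x * s ∈ Py z
  rep : ∀ y, Ln3 z y → ∃ x ∈ Cz z, x * y * x⁻¹ ∈ E

/-- Facts on the group `Q` used for "near" pairs. -/
structure NQ (z : X) (Q : Subgroup X) : Prop where
  zI : I z
  le : Q ≤ Cz z
  cl : ∀ a ∈ Q, ∀ b ∈ Q, a * b * a⁻¹ = b ∨ a * b * a⁻¹ = z * b
  cq : ∀ β : MulAut X, Q ≤ fx β → ∃ v, β = MulAut.conj v ∧ (v * v = 1 → v = 1 ∨ v = z)

/-- Facts for the endgame. -/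
structure FEd (z : X) (S U₁ U₂ : Subgroup X) : Prop where
  zI : I z
  syl : Syl S ⊤
  zS : z ∈ S ⊓ Cs S
  ca : ∀ β : MulAut X, S ≤ fx β → β = 1 ∨ β = MulAut.conj z
  sc1 : SC U₁
  sc2 : SC U₂
  lk1 : Lnk S U₁
  lk2 : Lnk S U₂
  gen : S ⊔ O2 (ivs (Ns U₁)) ⊔ O2 (ivs (Ns U₂)) = ⊤
  z1 : z ∈ sqs U₁
  z2 : z ∈ sqs U₂
  oi : ∀ N : Subgroup (MulAut X), IsPGroup 2 N → cI S ≤ N → ∀ α : MulAut N, Odd (orderOf α) →
    (cN U₁ N).map α.toMonoidHom = cN U₁ N ∧ (cN U₂ N).map α.toMonoidHom = cN U₂ N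
  st : ∀ β : MulAut X, S.map β.toMonoidHom = S → U₂.map β.toMonoidHom = U₂
  el : El (sqs U₂)
  big : 2 < Nat.card (sqs U₂)
  ya : ∀ y, Inv2 y → ∃ g U, SC U ∧ Lnk S U ∧ cjs g U ≤ ivs (Cz y)
  yb : ∀ y ∈ U₂, ∃ g U, SC U ∧ Lnk S U ∧ cjs g U ≤ Sy (sqs U₂) y
  zo : ∀ y ∈ U₂, ∀ O ≤ Cs (sqs U₂), Odd (Nat.card O) → Sy (sqs U₂) y ≤ Ns O → O = ⊥

end Defs

section Packs

variable (X : Type) [Group X]

/-- Basic facts. -/
structure F0 : Prop where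
  fin : Finite X
  simple : IsSimpleGroup X
  nab : ¬ IsMulCommutative X
  out : ∀ β γ : MulAut X, ¬ Inn β → ¬ Inn γ → Inn (β * γ)
  ex : ∃ z : X, I z
  one : ∀ x y : X, I x → I y → IsConj x y
  odd : ∀ x : X, Inv2 x → ∀ O ≤ Cz x, Odd (Nat.card O) → Cz x ≤ Ns O → O = ⊥
  der : ∀ x : X, Inv2 x → x ∈ ⁅Cz x, Cz x⁆

/-- Facts for steps 0 and 1 (`b = z` for `ON`). -/
structure FAd {X : Type} [Group X] (z b : X) : Prop where
  zI : I z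
  bI : Inv2 b
  cls : ∀ x, Inv2 x → IsConj z x ∨ IsConj b x
  pz : PV z
  pb : PV b
  zP : z ∈ Py z
  fin : b ∈ Py b ∨ (Nat.card (Vy z) = 2 ∧ El (Vy b) ∧ (∀ u ∈ Py b, Inv2 u → I u) ∧
    ∃ a u, u ∈ Py b ∧ Inv2 u ∧ a * b * a⁻¹ = b * u ∧ cjs a (Vy b) ≤ Cz b)
  c6 : ¬ I b → ¬ Nat.card (Py z) ∣ Nat.card (Py b)
  s1 : ¬ I b → (∀ Y ≤ Vy b ⊔ Py b, El Y → Nat.card Y = 64 → ¬ Ns Y ≤ Cz b) ∧
    ∃ E ≤ Vy b ⊔ Py b, El E ∧ Nat.card E = 64 ∧ b ∈ E ∧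
      Even (Nat.card {x // x ∈ E ∧ IsConj b x}) ∧ ∀ x ∈ E, Ns E ≤ Cz x → x = 1

/-- Steps 0 and 1, involution centralisers. -/
def FA : Prop := ∃ z b : X, FAd z b

/-- Outer involutions. -/
def FW : Prop := ∀ β : MulAut X, β * β = 1 → ¬ Inn β →
  ∃ u x : X, Inv2 u ∧ u ∈ sqs (fx β) ∧ x * (β x)⁻¹ = u

/-- Step 2 for `He`, `Suz`. -/
structure FHd {X : Type} [Group X] (z e₀ e₁ : X) : Prop where
  pf : Cz z ≤ ⁅Cz z, Cz z⁆
  cz : ∀ β : MulAut X, Cz z ≤ fx β → β = 1 ∨ β = MulAut.conj z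
  l0 : LH z e₀
  l1 : LH z e₁
  rep : ∀ y, Ln2 z y → ∃ x ∈ Cz z, y = x * e₀ * x⁻¹ ∨ y = x * e₁ * x⁻¹
  h1 : ∀ (γ : MulAut (Cz z)) (a : Cz z), (a : X) = e₀ → Ln2 z (γ a : X)

def FH : Prop := ∃ z e₀ e₁ : X, FHd z e₀ e₁

/-- Step 2 for `ON`. -/
def FO : Prop := ∃ (z ζ s j₁ j₂ a : X) (E L : Subgroup X), FOd z ζ s j₁ j₂ a E L

/-- The endgame. -/
def FE : Prop := ∃ (z : X) (S U₁ U₂ : Subgroup X), FEd z S U₁ U₂

/-- `Suz`, `ON`: commuting `2`-central involutions. -/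
structure FTa : Prop where
  zz : ∀ a b : X, I a → I b → a * b = b * a → a ≠ b → I (a * b)
  fx : ∀ β : MulAut X, β * β = 1 →
    ∃ a b : X, I a ∧ I b ∧ a ≠ b ∧ a * b = b * a ∧ β a = a ∧ β b = b

/-- `He`: elementary abelian subgroups. -/
structure FTb : Prop where
  j6 : ∀ Y : Subgroup (MulAut X), El Y → 64 ≤ Nat.card Y → ∃ Y₀ : Subgroup X, Y = cI Y₀ ∧
    Nat.card Y₀ = 64 ∧ Nat.card {x // x ∈ Y₀ ∧ x ≠ 1 ∧ ¬ I x} ≤ 18
  e6 : ∀ x : X, Inv2 x → ∃ E : Subgroup X, El E ∧ Nat.card E = 64 ∧ x ∈ E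
  two : ∀ x y : X, Inv2 x → Inv2 y → ¬ I x → ¬ I y → IsConj x y
  fx : ∀ β : MulAut X, β * β = 1 → ∃ U ≤ fx β, El U ∧ Nat.card U = 8 ∧
    Nat.card {x // x ∈ U ∧ I x} = 3

def FT : Prop := (FTa X ∧ ∀ x y : X, Inv2 x → Inv2 y → ¬ I x → ¬ I y → IsConj x y) ∨ FTb X

end Packs

section Amb

variable {X : Type} [Group X] {G : Type u} [Group G]

/-- `g` induces `β` on the image of `e`. -/
def Ind (e : X →* G) (g : G) (β : MulAut X) : Prop := ∀ s, g * e s * g⁻¹ = e (β s)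

/-- The basic configuration. -/
structure B1 (e : X →* G) (t : G) : Prop where
  inj : Function.Injective e
  inv : Inv2 t
  cen : t ∈ Cs e.range
  cz : Cz t ≤ Ns e.range

/-- `⟨t⟩` is a Sylow `2`-subgroup of `K = C(A)`. -/
structure CE (e : X →* G) (t : G) : Prop extends B1 e t where
  two : ∀ R ≤ Cs e.range, IsPGroup 2 R → Nat.card R ≤ 2

/-- The structure of `C(t)`. -/
structure AB (e : X →* G) (t : G) (O : Subgroup G) : Prop where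
  odd : Odd (Nat.card O)
  le : O ≤ Cs e.range ⊓ Cz t
  ko : ∀ k ∈ Cs e.range, k ∈ Cz t → k ∈ O ∨ k * t ∈ O
  ct : Cz t ≤ Ns O
  cm : ∀ y ∈ ⁅Cz t, Cz t⁆, Is2 y → y ∈ e.range
  pf : ∀ N ≤ Cz t, N ≤ ⁅N, N⁆ → N ≤ e.range
  inn : ∀ y ∈ Cz t, Is2 y → ∀ g, Ind e y (MulAut.conj g) → y = e g ∨ y = t * e g
  nr : ∀ a, ¬ IsConj t (e a)

/-- Some element fixes `e z` and moves `t` to `t z`. -/
def Mv (e : X →* G) (t : G) (z : X) : Prop :=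
  ∃ g, g * t * g⁻¹ = t * e z ∧ g * e z * g⁻¹ = e z

/-- The "halves" `h a` of the `2`-central involutions. -/
structure HC (e : X →* G) (t : G) (h : X → G) : Prop extends B1 e t where
  sq : ∀ a, I a → h a * h a = 1
  ht : ∀ a, I a → h a * t * h a = t * e a
  eqv : ∀ a g, I a → h (g * a * g⁻¹) = e g * h a * (e g)⁻¹
  ker : ∀ k ∈ Cz t, k ∈ Cs e.range →
    k ∈ Subgroup.closure (Set.range e ∪ h '' {a | I a} ∪ {t}) →
    ∃ o, Odd (orderOf o) ∧ (∀ a, I a → Commute o (h a)) ∧ (k = o ∨ k = t * o)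

/-- The product formula on lines. -/
structure HP (Ln : X → X → Prop) (e : X →* G) (t : G) (h : X → G) : Prop extends HC e t h where
  pf : ∀ a b, Ln a b → I (a * b) ∧ a * b = b * a ∧ h (a * b) = h a * h b

/-- `a, b` is a good pair. -/
def Gd (e : X →* G) (h : X → G) (a b : X) : Prop := Commute (h a) (h b * e b)

/-- A generating set of pairwise good involutions. -/
def Gen (e : X →* G) (h : X → G) : Prop :=
  ∃ D : Set X, (∀ a ∈ D, I a) ∧ Subgroup.closure D = ⊤ ∧ ∀ a ∈ D, ∀ b ∈ D, Gd e h a b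

/-- The doubling of `L = 4³` (`ON`). -/
structure OP (e : X →* G) (t : G) (O : Subgroup G) (E L : Subgroup X) (P : Subgroup G) : Prop where
  ab : P ≤ Cs P
  two : IsPGroup 2 P
  le : L.map e ≤ P
  co : P ≤ Cs O
  th : ∀ u ∈ P, ∃ a ∈ E, u * t * u⁻¹ = t * e a
  on : ∀ a ∈ E, ∃ u ∈ P, u * t * u⁻¹ = t * e a
  ct : P ⊓ Cz t ≤ L.map e
  nor : (Ns E).map e ≤ Ns P

/-- `G₁ = B B^t` -/
abbrev G1 (t : G) (B : Subgroup G) : Subgroup G := B ⊔ cjs t B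
/-- `M = N(G₁)` -/
abbrev MM (t : G) (B : Subgroup G) : Subgroup G := Ns (G1 t B)

/-- The lift to `B` of the `2`-subgroup `P`. -/
def Up {B : Subgroup G} (c : Cov X B) (P : Subgroup X) : Subgroup G :=
  Subgroup.closure {g | g ∈ B ∧ Is2 g ∧ c.pi g ∈ P}

/-- `P₁ P₂` -/
abbrev U12 {B : Subgroup G} (c : Cov X B) (t : G) (P : Subgroup X) : Subgroup G :=
  Up c P ⊔ cjs t (Up c P)

/-- The wreath configuration. -/
structure CW (e : X →* G) (t : G) {B : Subgroup G} (c : Cov X B) : Prop extends CE e t where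
  comm : B ≤ Cs (cjs t B)
  diag : ∀ l ∈ B, l * (t * l * t⁻¹) = e (c.pi l)
  perf : B ≤ ⁅B, B⁆
  odd : Odd (Nat.card (Cs (G1 t B)))
  ne : t ∉ Ns B
  pm : ∀ m ∈ MM t B, m ∈ Ns B ⊓ Ns (cjs t B) ∨ m * t ∈ Ns B ⊓ Ns (cjs t B)
  ct : Cz t ≤ MM t B
  ufs : ∀ g, g * t * g⁻¹ ∈ MM t B → g * t * g⁻¹ ∉ Ns B → g ∈ MM t B

/-- All conjugates of `t` in `M` interchange the factors. -/
structure GW (e : X →* G) (t : G) {B : Subgroup G} (c : Cov X B) : Prop extends CW e t c where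
  sw : ∀ s ∈ MM t B, IsConj t s → s ∉ Ns B

end Amb

/-- A statement for all `X`, `G`, `e`, `t`. -/
def All (P : ∀ (X : Type) [Group X] (G : Type u) [Group G], (X →* G) → G → Prop) : Prop :=
  ∀ (X : Type) [Group X] (G : Type u) [Group G] [Finite G] (e : X →* G) (t : G), F0 X → P X G e t

/-- The pairs `K, K^g`: only groups of order at most `2`. -/
def Small {G : Type u} [Group G] (K : Subgroup G) : Prop :=
  ∀ g ∉ Ns K, ∀ T ≤ cjs g K ⊓ Ns K, IsPGroup 2 T → Nat.card T ≤ 2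

def Job0a : Prop := All.{u} fun X _ _ _ e _ => FA X → Function.Injective e →
  Cfsg.IsStandardSubgroup e.range → Small (Cs e.range)

def Job0b : Prop := All.{u} fun X _ G _ e _ => FA X → FW X → H99.Wr.AS G → Function.Injective e →
  Cfsg.IsStandardSubgroup e.range → Small (Cs e.range) →
  ∃ t y, CE e t ∧ Inv2 y ∧ IsConj t (t * e y)

def JobAB : Prop := All.{u} fun _ _ _ _ e t => CE e t → ∃ O, AB e t O

def Job1 : Prop := All.{u} fun X _ _ _ e t => FA X → CE e t → ∀ O, AB e t O →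
  ∀ y, Inv2 y → IsConj t (t * e y) → ∀ z, I z → Mv e t z

/-- A half of `z`. -/
def Hf {X : Type} [Group X] {G : Type u} [Group G] (e : X →* G) (t : G) (O : Subgroup G) (z : X)
    (w : G) : Prop := w * w = 1 ∧ w * t * w = t * e z ∧ w ∈ Cs ((Cz z).map e) ∧ w ∈ Cs O

def JobH2 : Prop := All.{u} fun _ _ _ _ e t => ∀ z e₀ e₁, FHd z e₀ e₁ → CE e t → ∀ O, AB e t O →
  Mv e t z → ∃ w, Hf e t O z w

def JobPF : Prop := All.{u} fun X _ _ _ e t => FH X → ∀ h, HC e t h → HP Ln2 e t h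

def JobO1 : Prop := All.{u} fun _ _ _ _ e t => ∀ z ζ s j₁ j₂ a E L, FOd z ζ s j₁ j₂ a E L →
  CE e t → ∀ O, AB e t O → Mv e t z → ∃ P, OP e t O E L P

def JobO2 : Prop := All.{u} fun _ _ _ _ e t => ∀ z ζ s j₁ j₂ a E L, FOd z ζ s j₁ j₂ a E L →
  CE e t → ∀ O, AB e t O → ∀ P, OP e t O E L P → ∃ w, Hf e t O z w ∧
    ∀ m ∈ Ns E, ∀ n ∈ Ns E, m * z * m⁻¹ ≠ z → n * z * n⁻¹ = z * (m * z * m⁻¹) →
      e n * w * (e n)⁻¹ = w * (e m * w * (e m)⁻¹)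

def JobB : Prop := All.{u} fun X _ G _ e t => CE e t → ∀ O, AB e t O → ∀ h, HC e t h → Gen e h →
  ∃ (B : Subgroup G) (c : Cov X B), CW e t c

/-- A statement in the wreath case. -/
def AllW (P : ∀ (X : Type) [Group X] (G : Type u) [Group G], (X →* G) → G →
    ∀ B : Subgroup G, Cov X B → X → Subgroup X → Subgroup X → Subgroup X → Prop) : Prop :=
  All.{u} fun X _ G _ e t => ∀ (B : Subgroup G) (c : Cov X B) (z : X) (S U₁ U₂ : Subgroup X),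
    FEd z S U₁ U₂ → P X G e t B c z S U₁ U₂

/-- The lift of `z` to a factor is conjugate neither to `t` nor to `e z`. -/
def NF {X : Type} [Group X] {G : Type u} [Group G] (e : X →* G) (t : G) {B : Subgroup G}
    (c : Cov X B) : Prop :=
  ∀ l ∈ B, Is2 l → I (c.pi l) → ¬ IsConj t l ∧ ¬ IsConj (e (c.pi l)) l

/-- Centralisers of the self-centralising subgroups. -/
def CU {X : Type} [Group X] {G : Type u} [Group G] (e : X →* G) (t : G) (B : Subgroup G)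
    (S : Subgroup X) : Prop := ∀ U, SC U → Lnk S U → Cs (U.map e) ≤ MM t B

def JobT1 : Prop := AllW.{u} fun _ _ _ _ e t _ c _ _ _ _ => CW e t c → NF e t c

def JobT2 : Prop := All.{u} fun X _ G _ e t => FT X → ∀ (B : Subgroup G) (c : Cov X B) O,
  CW e t c → AB e t O → NF e t c → GW e t c

def JobCU : Prop := AllW.{u} fun _ _ _ _ e t B c _ S _ _ => GW e t c → CU e t B S

/-- Case I: `U* ≤ W`. -/
def JobW1 : Prop := AllW.{u} fun _ _ G _ e t B c _ S _ _ => GW e t c → CU e t B S →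
  ∀ (W : Subgroup G) (o : G), IsPGroup 2 W → W ≤ MM t B → U12 c t S ≤ W → t ∈ Ns W → o ∈ Ns W →
    Odd (orderOf o) → o ∈ MM t B

/-- Case II: the odd part of `t b` centralises `W`. -/
def JobW2 : Prop := All.{u} fun X _ G _ e t => ∀ (B : Subgroup G) (c : Cov X B), GW e t c →
  ∀ (W : Subgroup G) (b : G) (k : ℕ) (y : G), IsPGroup 2 W → W ≤ MM t B → t ∈ Ns W → b ∈ Ns W →
    b * b = 1 → Odd k → (t * b) ^ k ∈ W → y ∈ B → Is2 y → y * y ∈ W → y⁻¹ * t ∈ W →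
    (y * y = 1 ∨ 2 < Nat.card ↥(W ⊓ B)) →
    ∀ o ∈ Subgroup.zpowers (t * b), Odd (orderOf o) → o ∈ Cs W

/-- Centralisers of `d = y⁻¹ t`. -/
def W3 {X : Type} [Group X] {G : Type u} [Group G] (t : G) {B : Subgroup G} (c : Cov X B)
    (U₂ : Subgroup X) : Prop :=
  (∀ y ∈ B, Inv2 y → Cz (y * t) ≤ MM t B) ∧
    ∀ y ∈ Up c U₂, Cs (U12 c t (sqs U₂) ⊔ Subgroup.zpowers (y⁻¹ * t)) ≤ MM t B

def JobW3 : Prop := AllW.{u} fun _ _ _ _ e t B c _ S _ U₂ => GW e t c → CU e t B S → W3 t c U₂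

def JobWE : Prop := JobW1.{u} → JobW2.{u} →
  AllW.{u} fun _ _ _ _ e t B c _ S _ U₂ => GW e t c → CU e t B S → W3 t c U₂ → MM t B = ⊤

/-- The good generating set exists in every ambient group (`He`, `Suz`). -/
def GA2 (X : Type) [Group X] : Prop := ∀ (G : Type u) [Group G] [Finite G] (e : X →* G) (t : G)
  (O : Subgroup G) (h : X → G), CE e t → AB e t O → HP Ln2 e t h → Gen e h

/-- The good generating set exists in every ambient group (`ON`). -/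
def GA3 (X : Type) [Group X] : Prop := ∀ (G : Type u) [Group G] [Finite G] (e : X →* G) (t : G)
  (O : Subgroup G) (h : X → G), CE e t → AB e t O → HP Ln3 e t h → Gen e h

/-- `NQ` for `Q = O₂(C(z))` (`He`, `Suz`). -/
def FN (X : Type) [Group X] : Prop := ∀ z : X, I z → NQ z (Cfsg.pCoreOf 2 (Cz z))

/-- Everything about `He` or `Suz`. -/
def Pk2 (X : Type) [Group X] : Prop :=
  F0 X ∧ FA X ∧ FW X ∧ FH X ∧ FE X ∧ FT X ∧ GA2.{u} X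

/-- Everything about `ON`. -/
def Pk3 (X : Type) [Group X] : Prop :=
  F0 X ∧ FA X ∧ FW X ∧ FO X ∧ FE X ∧ FT X ∧ GA3.{u} X

end H25.ST
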