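import Cfsg.Agent.H25.SQSpec
import Cfsg.Agent.H25.STSpec

/-! Tower SQ, chapter D (`3.Suz`): spec.  Notes in `blueprints/SQ.md`. -/

set_option autoImplicit false

namespace H25.SQ

open H64.SG

universe u

/-- The case of a four-group `Vy y` with `y ∉ Py y`. -/
def FR {X : Type*} [Group X] (y : X) : Prop := (∀ u ∈ Py y, Inv2 u → I u) ∧
  ∃ a u, u ∈ Py y ∧ Inv2 u ∧ a * y * a⁻¹ = y * u ∧ cjs a (Vy y) ≤ Cz y

/-- Step 0, general form. -/
def FA' (X : Type) [Group X] : Prop := (∀ y : X, Inv2 y → PV y) ∧ ((∀ y : X, Inv2 y → y ∈ Py y) ∨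
  (∀ y : X, I y → Nat.card (Vy y) = 2) ∧ ∀ y : X, Inv2 y → Nat.card (Vy y) = 4 → FR y)

/-- Every involution is a commutator in its centraliser. -/
def Der (X : Type) [Group X] : Prop := ∀ y : X, Inv2 y → y ∈ ⁅Cz y, Cz y⁆

def Job0a' : Prop := All.{u} fun X _ _ _ e _ => FA' X → Function.Injective e →
  Cfsg.IsStandardSubgroup e.range → Small (Cs e.range)

def Job0b' : Prop := All.{u} fun X _ G _ e _ => FA' X → FW X → H99.Wr.AS G → Function.Injective e →
  Cfsg.IsStandardSubgroup e.range → Small (Cs e.range) →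
  ∃ t y, CE e t ∧ Inv2 y ∧ (IsConj t (t * e y) ∨ IsConj t (e y))

/-- A statement for all perfect central extensions with odd kernel. -/
def AllE (P : ∀ (X Y : Type) [Group X] [Group Y], Prop) : Prop :=
  ∀ (X Y : Type) [Group X] [Group Y] (p : X →* Y), Ext p → H25.ST.F0 Y → P X Y

def JobDK : Prop := AllE fun X _ _ _ => F0 X ∧ Der X
def JobDA : Prop := AllE fun X Y _ _ => H25.ST.FA Y → FA' X
def JobDW : Prop := AllE fun X Y _ _ => H25.ST.FW Y → FW X
def JobDE : Prop := AllE fun X Y _ _ => H25.ST.FE Y → FE X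
def JobDT : Prop := AllE fun X Y _ _ => H25.ST.FTa Y →
  (∀ x y : Y, Inv2 x → Inv2 y → ¬ H25.ST.I x → ¬ H25.ST.I y → IsConj x y) → FT X

def JobDQ1 : Prop := All.{u} fun X _ _ _ e t => Der X → CE e t → ∀ O, AB e t O →
  ∀ y g, Inv2 y → g * t * g⁻¹ = t * e y → g ∈ Ns O

/-- `π : N(O) → H` is the quotient by `O`, and `f : Y → H` is induced by `e`. -/
structure Qt {X Y : Type} [Group X] [Group Y] {G H : Type u} [Group G] [Group H] (p : X →* Y)
    (e : X →* G) (O : Subgroup G) (π : Ns O →* H) (f : Y →* H) : Prop where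
  surj : Function.Surjective π
  ker : ∀ n, π n = 1 ↔ (n : G) ∈ O
  ee : ∀ x (n : Ns O), (n : G) = e x → π n = f (p x)

/-- A statement on the quotient `N(O)/O`. -/
def AllQ (P : ∀ (X Y : Type) [Group X] [Group Y] (G : Type u) [Group G],
    (X →* Y) → (X →* G) → G → Subgroup G → Prop) : Prop :=
  ∀ (X Y : Type) [Group X] [Group Y] (G : Type u) [Group G] [Finite G] (p : X →* Y) (e : X →* G)
    (t : G) (O : Subgroup G), Ext p → F0 X → CE e t → AB e t O → P X Y G p e t O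

def JobDQ2 : Prop := AllQ.{u} fun _ Y _ _ _ _ p e t O =>
  ∃ (H : Type u) (_ : Group H) (_ : Finite H) (π : Ns O →* H) (f : Y →* H), Qt p e O π f ∧
    ∀ t' : Ns O, (t' : _) = t → H25.ST.CE f (π t')

/-- The odd part of the multiplier of `Y` has order at most `3`. -/
def Mu (Y : Type) [Group Y] : Prop := ∀ (L : Type u) [Group L] [Finite L] (φ : L →* Y),
  Function.Surjective φ → φ.ker ≤ Subgroup.center L → φ.ker ≤ commutator L → Nat.card φ.ker ∣ 6

def JobDQ3 : Prop := AllQ.{u} fun X Y _ _ G _ p e t O => Mu.{u} Y → Subgroup.center X ≠ ⊥ →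
  ∀ (H : Type u) [Group H] [Finite H] (π : Ns O →* H) (f : Y →* H), Qt p e O π f →
    ∀ t' : Ns O, (t' : G) = t → ∀ (B' : Subgroup H) (c' : Cov Y B'), H25.ST.CW f (π t') c' →
      ∃ (B : Subgroup G) (c : Cov X B), B ≤ Cs (cjs t B) ∧ B ≤ ⁅B, B⁆ ∧
        ∀ l ∈ B, l * (t * l * t⁻¹) = e (c.pi l)

end H25.SQ
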