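import Cfsg.Agent.H25.SQBase
import Cfsg.Agent.H25.SQSpec2
import Cfsg.Agent.H47.ZSKit2
import Cfsg.Agent.H46.Prod

/-! Tower SQ: job 0a (port of `H23/ST0a`). -/

set_option autoImplicit false
set_option linter.unusedSectionVars false

namespace H25.SQ.A0

open H64.SG Subgroup H25.SQ
open H67.SA (cm conj_mem_cjs mem_cjs card_cjs cjs_inv_le)
open H7 (conj_mem_of_mem_normalizer inv_conj_mem_of_mem_normalizer mem_normalizer_of_forall)

universe u

variable {X : Type} [Group X] {G : Type u} [Group G] [Finite G] {e e' : X →* G}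

/-- The facts on a standard subgroup that are used. -/
structure Sd (e : X →* G) : Prop where
  inj : Function.Injective e
  te : ∀ u ∈ Cs e.range, Is2 u → u ≠ 1 → ∀ g, g * u * g⁻¹ ∈ Cs e.range → g ∈ Ns e.range
  nc : ∀ g ∉ Ns e.range, ¬ e.range ≤ Cs (cjs g e.range)

theorem sd_of (hi : Function.Injective e) (h : Cfsg.IsStandardSubgroup e.range) : Sd e := by
  refine ⟨hi, fun u hu u2 u1 g hg => ?_, fun g hg c => h.2.2.1 g (fun k => hg (mem_Ns_iff.2 k))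
    (commutator_eq_bot_iff_le_centralizer.2 c)⟩
  by_contra c
  have h1 := odd_orderOf_of_mem (h.2.1.2 g (h.2.2.2 ▸ c)) (g := g * u * g⁻¹) ⟨hg, conj_mem_cjs.2 hu⟩
  exact u1 (by simpa using (u2.conj g).eq_one h1)

theorem Sd.cje (h : Sd e) (a : G) : Sd (cje a e) := by
  refine ⟨inj_cje h.inj a, fun u hu u2 u1 g hg => ?_, fun g hg c => ?_⟩
  · rw [range_cje, ← cj_Cs, mem_cjs] at hu hg
    rw [range_cje, ← cj_Ns, mem_cjs]
    exact h.te _ hu (by simpa using u2.conj a⁻¹) (fun k => u1 (by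
      simpa [mul_assoc] using congrArg (fun w => a * w * a⁻¹) k)) _ (by convert hg using 1; group)
  · rw [range_cje, ← cj_Ns, mem_cjs] at hg
    refine h.nc _ hg ?_
    rintro _ ⟨x, rfl⟩ _ ⟨_, ⟨y, rfl⟩, rfl⟩
    have := c ⟨x, rfl⟩ _ ⟨_, ⟨y, rfl⟩, rfl⟩
    simp only [cje_apply, MulEquiv.coe_toMonoidHom, MulAut.conj_apply] at this ⊢
    calc _ = a⁻¹ * (g * (a * e y * a⁻¹) * g⁻¹ * (a * e x * a⁻¹)) * a := by group
      _ = _ := by rw [this]; group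

theorem Ns_le_Ns_Cs (A : Subgroup G) : Ns A ≤ Ns (Cs A) := fun g hg =>
  mem_Ns_iff.2 (by rw [cj_Cs, mem_Ns_iff.1 hg])

theorem cm_mem {A : Subgroup G} {a b : G} (ha : a ∈ A) (hb : b ∈ Ns A) : cm a b ∈ A := by
  rw [show cm a b = a * (b * a⁻¹ * b⁻¹) by unfold cm; group]
  exact mul_mem ha (conj_mem_of_mem_normalizer hb (inv_mem ha))

theorem cm_mem' {A : Subgroup G} {a b : G} (ha : a ∈ A) (hb : b ∈ Ns A) : cm b a ∈ A :=
  mul_mem (conj_mem_of_mem_normalizer hb ha) (inv_mem ha)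

theorem Sd.cz (h : Sd e) {u : G} (hu : u ∈ Cs e.range) (u2 : Inv2 u) : Cz u ≤ Ns e.range :=
  fun g hg => h.te u hu (is2_of_sq u2.1) u2.2 g (by rwa [← mem_Cz.1 hg, mul_inv_cancel_right])

/-- Two different conjugates. -/
structure Pr (e e' : X →* G) : Prop where
  s : Sd e
  s' : Sd e'
  kk : ∀ u ∈ Cs e.range, u ∈ Cs e'.range → Is2 u → u = 1
  nc : ¬ e.range ≤ Cs e'.range

theorem Pr.symm (h : Pr e e') : Pr e' e :=
  ⟨h.s', h.s, fun u a b => h.kk u b a, fun c => h.nc (le_centralizer_iff.1 c)⟩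

theorem Sd.pr (h : Sd e) {g : G} (hg : g ∉ Ns e.range) : Pr e (H25.SQ.cje g e) := by
  refine ⟨h, h.cje g, fun u a b u2 => ?_, by rw [range_cje]; exact h.nc g hg⟩
  rw [range_cje, ← cj_Cs, mem_cjs] at b
  by_contra c
  exact hg (by simpa using inv_mem (h.te u a u2 c g⁻¹ (by simpa using b)))

theorem fix_of_cen {P : Subgroup X} {β : MulAut X} (hp : P ≤ ⁅P, P⁆) (hβ : ∀ p ∈ P, β p ∈ P)
    (h : ∀ p ∈ P, β p * p⁻¹ ∈ Cs P) : P ≤ fx β := by
  refine hp.trans (commutator_le.2 fun a ha b hb => ?_)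
  obtain ⟨c, hc, e1⟩ : ∃ c ∈ Cs P, β a = c * a := ⟨_, h a ha, by group⟩
  obtain ⟨d, hd, e2⟩ : ∃ d ∈ Cs P, β b = b * d := ⟨b⁻¹ * β b, by
    have := h b⁻¹ (inv_mem hb)
    rw [map_inv, inv_inv] at this
    simpa using inv_mem this, by group⟩
  rw [mem_fx, commutatorElement_def, map_mul, map_mul, map_mul, map_inv, map_inv]
  have h1 : β a * β b * (β a)⁻¹ * (β b)⁻¹ = β a * b * (β a)⁻¹ * b⁻¹ := by
    rw [e2, ← mul_assoc, mul_assoc _ d, ← hd _ (inv_mem (hβ a ha))]; group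
  rw [h1, e1, mul_inv_rev, show c * a * b * (a⁻¹ * c⁻¹) = c * (a * b * a⁻¹) * c⁻¹ by group,
    ← hc _ (mul_mem (mul_mem ha hb) (inv_mem ha)), mul_inv_cancel_right]

theorem core (hF : F0 X) (hPV : ∀ y : X, Inv2 y → PV y) (h : Pr e e') {T : Subgroup G}
    (h1 : T ≤ Cs e'.range) (h2 : T ≤ Ns e.range) (hT : IsPGroup 2 T) (hc : 2 < Nat.card T) {k : G}
    {y : X} (y0 : Is2 y) (hk : k ∈ Cs e.range) (hs : k * e y ∈ T) (hz : k * e y ∈ Cs T) (s2 : Inv2 (k * e y)) :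
    Inv2 y ∧ Nat.card T ≤ 4 ∧ Nat.card (Vy y) = 4 ∧ e y ∈ Cs e'.range ∧ T ≤ Cz (e y) ∧
      (∀ x ∈ T, ∃ k ∈ Cs e.range, ∃ v ∈ Vy y, x = k * e v) ∧ (Cz y).map e ≤ Ns e'.range := by
  have := hF.fin
  have hi := h.s.inj
  have tk : ∀ x ∈ T, x ∈ Cs e.range → x = 1 := fun x hx a =>
    h.kk x a (h1 hx) (isPGroup_iff_is2.1 hT x hx)
  have y2 : Inv2 y := ⟨by simpa [sq] using (pow_comp hi hF hk y0 (n := 2) (by rw [sq, s2.1])).2,
    fun c => s2.2 (tk _ hs (by rwa [c, map_one, mul_one]))⟩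
  have pv := hPV y y2
  have fy : ∀ x ∈ T, ∀ β, Ind e x β → β y = y := fun x hx β hβ =>
    (comp_unique hi hF (conj_mem_of_mem_normalizer (Ns_le_Ns_Cs _ (h2 hx)) hk) hk
      (y0.map β.toMonoidHom) y0 (by
      change _ * e (β y) = _
      rw [← hβ, show x * k * x⁻¹ * (x * e y * x⁻¹) = x * (k * e y) * x⁻¹ by group, hz x hx,
        mul_inv_cancel_right])).2
  have cN : (Cz y).map e ≤ Ns e'.range := by
    rintro _ ⟨c, hc, rfl⟩
    refine h.s'.cz (h1 hs) s2 (mem_Cz.2 ?_)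
    rw [mul_assoc, ← map_mul, mem_Cz.1 hc, map_mul, ← mul_assoc, ← mem_Cs_range.1 hk c, mul_assoc]
  have fP : ∀ x ∈ T, ∀ β, Ind e x β → Py y ≤ fx β := fun x hx β hβ => by
    have hP : ∀ p ∈ Py y, β p ∈ Py y := fun p hp => by
      rw [← fy x hx β hβ, ← mp_Py]; exact (map_mem_mp β).2 hp
    by_contra c
    have a1 : ∀ p ∈ Py y, β p * p⁻¹ ∈ Py y ⊓ (Cs e'.range).comap e := fun p hp =>
      mem_inf.2 ⟨mul_mem (hP p hp) (inv_mem hp), by
        rw [mem_comap, map_mul, map_inv, ← hβ]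
        exact cm_mem (h1 hx) (Ns_le_Ns_Cs _ (cN ⟨p, Pf_le _ hp, rfl⟩))⟩
    have a2 : ¬ Py y ⊓ (Cs e'.range).comap e ≤ Cs (Py y) := fun a =>
      c (fix_of_cen (Pf_perf _) hP fun p hp => a (a1 p hp))
    have a3 := pv.g0 _ inf_le_left (fun c hc => mem_normalizer_of_forall fun p hp =>
      mem_inf.2 ⟨conj_mem_of_mem_normalizer (Cz_le_Ns_Py y hc) hp.1, by
        rw [mem_comap, map_mul, map_mul, map_inv]
        exact conj_mem_of_mem_normalizer (Ns_le_Ns_Cs _ (cN ⟨c, hc, rfl⟩)) hp.2⟩) a2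
      ((Ns e'.range).comap e) (map_le_iff_le_comap.1 cN) fun u hu u2 c hc =>
        h.s'.cz hu.2 ⟨by rw [← map_mul, u2.1, map_one], fun a => u2.2 (hi (a.trans (map_one e).symm))⟩
          (mem_Cz.2 ((e_comm hi).2 (mem_Cz.1 hc)))
    have a4 : ((Cs e'.range).comap e).Normal := ⟨fun n hn g => by
      rw [mem_comap, map_mul, map_mul, map_inv]
      exact conj_mem_of_mem_normalizer (Ns_le_Ns_Cs _ (a3.ge (mem_top g))) hn⟩
    rcases hF.qs _ a4 with a | a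
    · exact a2 (inf_le_right.trans (a.trans (center_le_centralizer _)))
    · exact h.nc (by rintro _ ⟨g, rfl⟩; exact a.ge (mem_top g))
  have dec : ∀ x ∈ T, ∃ v ∈ Vy y, Ind e x (MulAut.conj v) := fun x hx => by
    obtain ⟨β, hβ⟩ := exists_ind hi (h2 hx)
    obtain ⟨v, v2, rfl⟩ := hβ.two hi hF (pv.cv β (fy x hx β hβ) (fP x hx β hβ))
      (isPGroup_iff_is2.1 hT x hx)
    refine ⟨v, mem_t2 ⟨le_centralizer_iff.1 ?_ (mem_zpowers v), mem_Cz.2
      (mul_inv_eq_iff_eq_mul.1 (fy x hx _ hβ)).symm⟩ v2, hβ⟩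
    intro p hp w hw
    exact (mem_Cz.1 (zpowers_le.2 (mem_Cz.2 (mem_Cz.1 (fx_conj v ▸ fP x hx _ hβ hp)).symm) hw)).symm
  have bd : ∀ W : Subgroup X, (∀ x ∈ T, ∀ v ∈ Vy y, Ind e x (MulAut.conj v) → v ∈ W) →
      Nat.card T ≤ Nat.card W := fun W hW => by
    choose f f1 f2 using dec
    refine Nat.card_le_card_of_injective (fun x : T => (⟨f x x.2, hW x x.2 _ (f1 x x.2) (f2 x x.2)⟩ : W))
      fun a b c => Subtype.ext (mul_inv_eq_one.1 (tk _ (mul_mem a.2 (inv_mem b.2)) (ind_one_iff.1 ?_)))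
    have := (f2 a a.2).mul (f2 b b.2).inv
    rwa [show f a a.2 = f b b.2 from congrArg Subtype.val c, mul_inv_cancel] at this
  have b1 := bd (Vy y) fun _ _ _ a _ => a
  have v4 : Nat.card (Vy y) = 4 := pv.card.resolve_left (by omega)
  refine ⟨y2, v4 ▸ b1, v4, ?_, fun x hx => ?_, fun x hx => ?_, cN⟩
  · obtain ⟨x, hx, v, hv, a1, a2⟩ : ∃ x ∈ T, ∃ v ∈ Vy y, Ind e x (MulAut.conj v) ∧ v ∉ zpowers y := by
      by_contra! c
      have := bd _ c
      rw [Nat.card_zpowers, orderOf_eq_prime (p := 2) (by rw [sq, y2.1]) y2.2] at this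
      omega
    obtain ⟨s, hs, a3⟩ := pv.mv
    have a4 := cm_mem' (h1 hx) (Ns_le_Ns_Cs _ (cN ⟨s, hs, rfl⟩))
    rwa [show cm (e s) x = e s * (x * e s⁻¹ * x⁻¹) by rw [map_inv]; unfold cm; group, a1, ← map_mul,
      MulAut.conj_apply, show s * (v * s⁻¹ * v⁻¹) = s * v * s⁻¹ * v⁻¹ by group, a3 v hv a2,
      ← mem_Cz.1 (Vy_Cz hv), mul_inv_cancel_right] at a4
  · obtain ⟨β, hβ⟩ := exists_ind hi (h2 hx)
    exact mem_Cz.2 (hβ.comm (fy x hx β hβ)).symm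
  · obtain ⟨v, hv, a⟩ := dec x hx
    exact ⟨_, ind_conj_iff.1 a, v, hv, by group⟩

/-- The `A`-component of an inner `2`-element is a `2`-element. -/
theorem norm2 (hF : F0 X) (hi : Function.Injective e) {k : G} {y : X} (hk : k ∈ Cs e.range)
    (h2 : Is2 (k * e y)) : ∃ k' ∈ Cs e.range, ∃ y', Is2 y' ∧ k * e y = k' * e y' := by
  have h1 : Ind e (k * e y) (MulAut.conj y) := ind_conj_iff.2 (by rwa [mul_inv_cancel_right])
  obtain ⟨y', a, b⟩ := h1.two hi hF (inn_conj y) h2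
  exact ⟨_, ind_conj_iff.1 (b ▸ h1), y', a, by group⟩

theorem exists_inner (hF : F0 X) (hi : Function.Injective e) {T : Subgroup G} (h2 : T ≤ Ns e.range)
    (hT : IsPGroup 2 T) (hc : 2 < Nat.card T) : ∃ k ∈ Cs e.range, ∃ y, k * e y ∈ T ∧
      k * e y ∈ Cs T ∧ Inv2 (k * e y) := by
  have nA : T ≤ Ns (Cs e.range ⊔ e.range) := fun g hg =>
    H16.Nm_sup_le _ _ ⟨Ns_le_Ns_Cs _ (h2 hg), h2 hg⟩
  have mem : ∀ x ∈ T, ∀ β, Ind e x β → Inn β → x ∈ Cs e.range ⊔ e.range := by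
    rintro x hx _ a ⟨v, rfl⟩
    rw [show x = x * (e v)⁻¹ * e v by group]
    exact mul_mem_sup (ind_conj_iff.1 a) ⟨v, rfl⟩
  have ne : T ⊓ (Cs e.range ⊔ e.range) ≠ ⊥ := fun c => by
    have a1 : ∀ x ∈ T, ∀ β, Ind e x β → Inn β → x = 1 := fun x hx β a b =>
      mem_bot.1 (c.le ⟨hx, mem x hx β a b⟩)
    choose f hf using fun x : T => exists_ind hi (h2 x.2)
    refine absurd ((Nat.card_le_card_of_injective (fun x : T => Inn (f x)) fun a b k => ?_).trans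
      (show Nat.card Prop ≤ 2 by simp)) (by omega)
    refine Subtype.ext (mul_inv_eq_one.1 (a1 _ (mul_mem a.2 (inv_mem b.2)) _ ((hf a).mul (hf b).inv) ?_))
    rw [hF.inn_mul_iff, hF.inn_inv_iff]
    exact iff_of_eq k
  obtain ⟨s, a1, a2, a3⟩ := H47.ZS.exists_cent_ord Nat.prime_two hT hT.to_inf_left
    (H1.le_normalizer_inf le_normalizer nA) ne
  obtain ⟨k, hk, _, ⟨y, rfl⟩, rfl⟩ := (H46.mem_sup_of_nrm (le_centralizer_iff.1 le_rfl |>.trans
    (Cs_le_Ns _))).1 a1.2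
  refine ⟨k, hk, y, a1.1, a2, by rw [← sq, ← a3, pow_orderOf_eq_one], fun c => ?_⟩
  rw [c, orderOf_one] at a3
  exact absurd a3 (by decide)

theorem core' (hF : F0 X) (hPV : ∀ y : X, Inv2 y → PV y) (h : Pr e e') {T : Subgroup G}
    (h1 : T ≤ Cs e'.range) (h2 : T ≤ Ns e.range) (hT : IsPGroup 2 T) (hc : 2 < Nat.card T) :
    ∃ y, Inv2 y ∧ Nat.card T ≤ 4 ∧ Nat.card (Vy y) = 4 ∧ e y ∈ Cs e'.range ∧ T ≤ Cz (e y) ∧
      (∀ x ∈ T, ∃ k ∈ Cs e.range, ∃ v ∈ Vy y, x = k * e v) ∧ (Cz y).map e ≤ Ns e'.range := by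
  obtain ⟨k, hk, y, a1, a2, a3⟩ := exists_inner hF h.s.inj h2 hT hc
  obtain ⟨k', hk', y', y0, a4⟩ := norm2 hF h.s.inj hk (is2_of_sq a3.1)
  rw [a4] at a1 a2 a3
  exact ⟨y', core hF hPV h h1 h2 hT hc y0 hk' a1 a2 a3⟩

theorem FA.gen (h : FA X) : FA' X :=
  ⟨h.1, h.2.imp id fun c => ⟨fun y hy => c y hy.1, fun y hy k => by have := c y hy; omega⟩⟩

theorem job0a : Job0a'.{u} := by
  intro X _ G _ _ e _ hF hA hi hS g hg T hT T2
  have := Fact.mk Nat.prime_two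
  have := hF.fin
  obtain ⟨hPV, hfin⟩ := hA
  rw [show Ns (Cs e.range) = Ns e.range from hS.2.2.2.symm] at hg hT
  have h := (sd_of hi hS).pr hg
  set e' := cje g e with he'
  have kk : Cs e'.range = cjs g (Cs e.range) := by rw [he', range_cje, cj_Cs]
  rw [← kk] at hT
  by_contra! hc
  obtain ⟨y, y2, -, v4, yK, Ty, dec, cN⟩ := core' hF hPV h (hT.trans inf_le_left)
    (hT.trans inf_le_right) T2 hc
  have hi' := h.s'.inj
  have ey : Inv2 (e y) := ⟨by rw [← map_mul, y2.1, map_one], fun a => y2.2 (hi (a.trans (map_one e).symm))⟩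
  have KN : Cs e.range ≤ Ns e'.range := fun k hk => h.s'.cz yK ey (mem_Cz.2 (mem_Cs_range.1 hk y))
  have k8 : ¬ 2 ^ 3 ∣ Nat.card (Cs e.range) := fun c => by
    obtain ⟨R, hR⟩ := Sylow.exists_subgroup_card_pow_prime 2 c
    have c1 : Nat.card (R.map (Cs e.range).subtype) = 2 ^ 3 := by rw [H46.card_map_subtype, hR]
    obtain ⟨_, -, a, -⟩ := core' hF hPV h.symm (map_subtype_le R) ((map_subtype_le R).trans KN)
      (IsPGroup.of_card c1) (by omega)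
    omega
  have PN : (Py y).map e ≤ Ns e'.range := (map_mono (Pf_le _)).trans cN
  have PA : Py y ≤ e'.range.comap e := by
    refine inf_eq_left.1 (((hPV y y2).q8 v4 _ inf_le_left fun p hp => mem_normalizer_of_forall
      fun a ha => mem_inf.2 ⟨mul_mem (mul_mem hp (mem_inf.1 ha).1) (inv_mem hp), ?_⟩).resolve_right
        fun c => k8 ?_)
    · rw [mem_comap, map_mul, map_mul, map_inv]
      exact conj_mem_of_mem_normalizer (PN ⟨p, hp, rfl⟩) ha.2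
    · rw [inf_comm, inf_relIndex_right, relIndex_comap] at c
      rw [← card_cjs g, ← kk]
      refine (c.trans (H46.NormalIn.relIndex_dvd (K := e'.range ⊔ Cs e'.range)
        ⟨le_sup_left, sup_le le_normalizer (Cs_le_Ns _)⟩ fun p hp => ?_)).trans ?_
      · obtain ⟨s, hs⟩ := inn_of_perf hi' hF PN (map_perf e (Pf_perf _) hp)
        rw [sup_comm, show p = p * (e' s)⁻¹ * e' s by group]
        exact mul_mem_sup (ind_conj_iff.1 hs) ⟨s, rfl⟩
      · rw [H46.relIndex_sup_of_nrm (Cs_le_Ns _)]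
        exact relIndex_dvd_card _ _
  have one : ∀ u ∈ Py y, Inv2 u → e u ∈ Cs e'.range → u = 1 := fun u hu u2 c => by
    obtain ⟨u', a⟩ := PA hu
    have k : Is2 (e' u') := a ▸ (is2_of_sq u2.1).map e
    rw [← a] at c
    exact hi (by rw [← a, e_eq_one hi' hF c (is2_of_e hi' k), map_one, map_one])
  obtain ⟨i2, fr⟩ := hfin.resolve_left fun c => y2.2 (one y (c y y2) y2 yK)
  obtain ⟨-, a, u, hu, u2, ay, aV⟩ := fr y y2 v4
  obtain ⟨u', eu⟩ := PA hu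
  have ea : e a * e y * (e a)⁻¹ = e y * e' u' := by
    rw [eu, ← map_inv, ← map_mul, ← map_mul, ay, map_mul]
  have aN : e a ∉ Ns e'.range := fun c => u2.2 (one u hu u2 (by
    have := conj_mem_of_mem_normalizer (Ns_le_Ns_Cs _ c) yK
    rwa [ea, eu, mul_mem_cancel_left yK] at this))
  have T1 : IsPGroup 2 ↥(zpowers (e y) ⊔ T) := (H9.UF.pg_zp ey.1).to_sup_of_normal_left' T2
    (fun x hx => Cs_le_Ns _ ((H47.ZS.Ce_zpowers (e y)).ge (Ty hx)))
  have m1 : e y * e' u' ∈ cjs (e a) (zpowers (e y) ⊔ T) :=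
    ea ▸ conj_mem_cjs.2 (mem_sup_left (mem_zpowers _))
  have c2 := core hF hPV (h.s'.pr aN) (T := cjs (e a) (zpowers (e y) ⊔ T))
    (by rw [range_cje, ← cj_Cs]; exact map_mono (sup_le (zpowers_le.2 yK) (hT.trans inf_le_left)))
    (by
      rw [cjs, map_le_iff_le_comap]
      refine sup_le (zpowers_le.2 ?_) fun x hx => ?_
      · show e a * e y * (e a)⁻¹ ∈ Ns e'.range
        rw [ea]; exact mul_mem (Cs_le_Ns _ yK) (le_normalizer ⟨u', rfl⟩)
      · obtain ⟨k, hk, v, hv, rfl⟩ := dec x hx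
        show e a * (k * e v) * (e a)⁻¹ ∈ Ns e'.range
        rw [← mul_assoc, mem_Cs_range.1 hk a, mul_assoc, mul_assoc, ← map_inv, ← map_mul, ← map_mul]
        exact mul_mem (KN hk) (cN ⟨_, aV ⟨v, hv, rfl⟩, by simp [mul_assoc]⟩))
    (T1.map _) (by rw [card_cjs]; exact hc.trans_le (card_le_of_le le_sup_right))
    (is2_of_e hi' (eu ▸ (is2_of_sq u2.1).map e)) yK m1
    (by
      rw [← ea, ← cj_Cs, conj_mem_cjs]
      exact H47.ZS.le_c1_iff.1 (sup_le (zpowers_le.2 (mem_Cz.2 rfl)) Ty))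
    (ea ▸ H9.UF.inv2_conj ey (isConj_iff.2 ⟨_, rfl⟩))
  have T0 : cjs g⁻¹ T ≤ Cs e.range := cjs_inv_le (kk ▸ hT.trans inf_le_left)
  obtain ⟨y', y2', -, v4', yK', -⟩ := core' hF hPV h.symm T0 (T0.trans KN) (T2.map _)
    (by rwa [card_cjs])
  have := i2 u' ((fr y' y2' v4').1 u' (le_Pf (N := ((Py y).map e).comap e') (fun p hp => ?_)
    (perf_comap hi' (map_le_iff_le_comap.2 PA) (map_perf e (Pf_perf _))) ⟨u, hu, eu.symm⟩) c2.1)
  · have := c2.2.2.1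
    omega
  · obtain ⟨q, -, hq⟩ := hp
    exact mem_Cz.2 ((e_comm hi').1 (by rw [← hq]; exact (mem_Cs_range.1 yK' q).symm))

end H25.SQ.A0
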