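/- STS tower, slot AB: the structure of `C(t)`. -/
import Cfsg.Agent.H25.SQBase
import Cfsg.Agent.H64.SGA3
import Cfsg.Agent.S0205

set_option autoImplicit false
set_option linter.unusedSectionVars false

namespace H25.SQ.ABj

open H64.SG Subgroup H25.SQ
open scoped commutatorElement

universe u

/-- A perfect group of odd order is trivial. -/
theorem eq_bot_of_odd {G : Type*} [Group G] [Finite G] {N : Subgroup G} (h : N ≤ ⁅N, N⁆)
    (ho : Odd (Nat.card N)) : N = ⊥ := by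
  by_contra h1
  have := (nontrivial_iff_ne_bot N).2 h1
  have := Cfsg.Agent.S0205.result ho
  refine (Group.IsSolvable.commutator_lt_top_of_nontrivial N).ne ?_
  apply map_injective N.subtype_injective
  rw [map_subtype_commutator, ← MonoidHom.range_eq_map, range_subtype]
  exact le_antisymm ((commutator_le_sup _ _).trans_eq (sup_idem _)) h

variable {X : Type} [Group X] {G : Type u} [Group G] [Finite G] {e : X →* G} {t y : G}

/-- The odd part of `C_K(t)`. -/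
abbrev OO (e : X →* G) (t : G) : Subgroup G := O2 (Cs e.range ⊓ Cz t)

variable (h : CE e t)
include h

theorem odd_OO : Odd (Nat.card (OO e t)) := by
  obtain ⟨T, hT⟩ := H98.exists_isSyl 2 (Cs e.range ⊓ Cz t)
  refine odd_O2 hT ?_
  have h1 := h.two T (hT.le.trans inf_le_left) hT.isPGroup
  have h2 : 0 < Nat.card T := Nat.card_pos
  refine isCyclic_of_card_dvd_prime (p := 2) ?_
  interval_cases Nat.card T <;> decide

theorem ko {k : G} (h1 : k ∈ Cs e.range) (h2 : k ∈ Cz t) : k ∈ OO e t ∨ k * t ∈ OO e t := by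
  obtain ⟨i, j, e1, e2, e3⟩ := exists_two_odd k
  have h3 : k ^ j ∈ OO e t := mem_O2_of_odd (pow_mem (mem_inf.2 ⟨h1, h2⟩) j) e3
  rcases h.eq_or (pow_mem h1 i) e2 (mem_Cz.1 (pow_mem h2 i)) with c | c
  · left; rwa [e1, c, one_mul]
  · right; rwa [e1, c, mem_Cz.1 (pow_mem h2 j), mul_assoc, h.tt, mul_one]

theorem ct : Cz t ≤ Ns (OO e t) :=
  (H98.le_normalizer_inf (H98.le_normalizer_centralizer h.cz) le_normalizer).trans (Ns_le_Ns_O2 _)

theorem cm_mem {a b : G} (ha : a ∈ Cz t) (hb : b ∈ Cz t) {s : X}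
    (hs : Ind e a (MulAut.conj s)) : ⁅a, b⁆ ∈ OO e t ⊔ e.range := by
  have hn := H98.le_normalizer_sup (ct h) h.cz hb
  have key : ∀ x ∈ OO e t ⊔ e.range, ⁅x, b⁆ ∈ OO e t ⊔ e.range := fun x hx => by
    have := mul_mem hx (H98.conj_mem_of_mem_normalizer hn (inv_mem hx))
    rwa [← mul_assoc, ← mul_assoc] at this
  rcases ko h (ind_conj_iff.1 hs) (mul_mem ha (inv_mem (h.mem_Cz s))) with c | c
  · exact key a (by simpa using mul_mem (mem_sup_left c) (mem_sup_right (e.mem_range.2 ⟨s, rfl⟩)))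
  · have := key _ (mul_mem (mem_sup_left c) (mem_sup_right (e.mem_range.2 ⟨s, rfl⟩)))
    rw [mul_assoc, h.comm, ← mul_assoc, inv_mul_cancel_right] at this
    rwa [show ⁅a * t, b⁆ = a * (t * b) * t⁻¹ * a⁻¹ * b⁻¹ by group, mem_Cz.1 hb,
      ← mul_assoc, mul_inv_cancel_right] at this

theorem comm_le (hF : F0 X) : ⁅Cz t, Cz t⁆ ≤ OO e t ⊔ e.range :=
  commutator_le.2 fun a ha b hb => by
    obtain ⟨α, h1⟩ := h.ind ha
    obtain ⟨β, h2⟩ := h.ind hb
    by_cases c : Inn α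
    · obtain ⟨s, rfl⟩ := c
      exact cm_mem h ha hb h1
    by_cases d : Inn β
    · obtain ⟨s, rfl⟩ := d
      rw [← commutatorElement_inv]
      exact inv_mem (cm_mem h hb ha h2)
    obtain ⟨s, hs⟩ := hF.out α β⁻¹ c (by rwa [hF.inn_inv_iff])
    have := cm_mem h (mul_mem ha (inv_mem hb)) hb (hs ▸ h1.mul h2.inv)
    rwa [show ⁅a * b⁻¹, b⁆ = ⁅a, b⁆ by group] at this

omit h in
theorem split (hy : y ∈ OO e t ⊔ e.range) : ∃ o ∈ OO e t, ∃ s, y = o * e s := by
  obtain ⟨o, ho, _, ⟨s, rfl⟩, rfl⟩ := (H98.mem_sup_left_norm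
    (((O2_le _).trans inf_le_left).trans (Cs_le_Ns _))).1 hy
  exact ⟨o, ho, s, rfl⟩

theorem cm_range (hF : F0 X) (hy : y ∈ ⁅Cz t, Cz t⁆) (y2 : Is2 y) : y ∈ e.range := by
  obtain ⟨o, ho, s, rfl⟩ := split (comm_le h hF hy)
  obtain ⟨j, hj⟩ := y2.exists_pow (odd_orderOf_of_mem (odd_OO h) ho)
  rw [← hj, (show Commute o (e s) from (mem_Cs_range.1 (O2_le _ ho).1 s).symm).mul_pow,
    pow_orderOf_eq_one, one_mul]
  exact pow_mem (pow_mem (e.mem_range.2 ⟨s, rfl⟩) _) _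

theorem pf (hF : F0 X) {N : Subgroup G} (n1 : N ≤ Cz t) (n2 : N ≤ ⁅N, N⁆) : N ≤ e.range := by
  have : (e.range.subgroupOf (Cz t)).Normal := normal_subgroupOf_of_le_normalizer h.cz
  have h0 : OO e t ≤ Cz t := (O2_le _).trans inf_le_right
  have h1 : (N.subgroupOf (Cz t)).map (QuotientGroup.mk' (e.range.subgroupOf (Cz t))) ≤
      ((OO e t).subgroupOf (Cz t)).map (QuotientGroup.mk' (e.range.subgroupOf (Cz t))) := by
    rintro _ ⟨a, ha, rfl⟩
    obtain ⟨o, ho, s, e1⟩ := split (comm_le h hF (commutator_mono n1 n1 (n2 ha)))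
    refine ⟨⟨o, h0 ho⟩, ho, QuotientGroup.eq.2 ⟨s, ?_⟩⟩
    change e s = o⁻¹ * a
    rw [eq_inv_mul_iff_mul_eq]
    exact e1.symm
  have h2 := eq_bot_of_odd (map_perf _ (perf_comap (subtype_injective _)
    (by rwa [range_subtype]) n2)) ((odd_OO h).of_dvd_nat ((card_dvd_of_le h1).trans
      ((card_map_dvd _ _).trans (Nat.card_congr (subgroupOfEquivOfLe h0).toEquiv).dvd)))
  intro a ha
  exact (QuotientGroup.eq_one_iff (⟨a, n1 ha⟩ : Cz t)).1
    (mem_bot.1 (h2.le (mem_map_of_mem (QuotientGroup.mk' _) ha)))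

/-- `t` is not conjugate to an element that is a commutator in its centraliser. -/
theorem not_conj (hF : F0 X) {a : X} (ha : a ∈ ⁅Cz a, Cz a⁆) : ¬ IsConj t (e a) := fun c => by
  obtain ⟨g, hg⟩ := isConj_iff.1 c
  have h1 : e a ∈ ⁅Cz (e a), Cz (e a)⁆ := by
    have k : (Cz a).map e ≤ Cz (e a) := by
      rintro _ ⟨x, hx, rfl⟩
      exact mem_Cz.2 ((e_comm h.inj).2 (mem_Cz.1 hx))
    exact commutator_mono k k (map_commutator _ _ e ▸ mem_map_of_mem e ha)
  rw [← hg] at h1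
  obtain ⟨s, hs⟩ := cm_range (h.cje g) hF h1 ((is2_of_sq h.tt).conj g)
  exact (h.cje g).toB1.t_ne hF s hs.symm

omit h in
theorem jobAB : JobAB.{u} := by
  intro X _ G _ _ e t hF hD h
  refine ⟨OO e t, odd_OO h, O2_le _, fun k => ko h, ct h, fun y => cm_range h hF,
    fun N => pf h hF, fun y hy ⟨n, hn⟩ g g2 hg => ?_, fun a ha => not_conj h hF (hD a ha)⟩
  · have h1 := ind_conj_iff.1 hg
    rw [← inv_mul_cancel_right y (e g)] at hn
    rcases h.eq_or h1 ⟨n, (pow_comp h.inj hF h1 g2 hn).1⟩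
      (mem_Cz.1 (mul_mem hy (inv_mem (h.mem_Cz g)))) with c | c
    · exact .inl (mul_inv_eq_one.1 c)
    · exact .inr (mul_inv_eq_iff_eq_mul.1 c)

end H25.SQ.ABj
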