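import Cfsg.Agent.H25.SQSpec2
import Cfsg.Agent.H25.SQAB
import Cfsg.Agent.H25.STBase

/-! Tower SQ, chapter D: perfect central extensions with kernel of odd order. -/

set_option autoImplicit false
set_option linter.unusedSectionVars false

namespace H25.SQ

open H64.SG Subgroup
open H67.SA (cm)

section St

variable {Y : Type*} [Group Y]

theorem st_I {y : Y} : H25.ST.I y ↔ I y := Iff.rfl
theorem st_Inn {β : MulAut Y} : H25.ST.Inn β ↔ Inn β := Iff.rfl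
theorem st_Pf (A : Subgroup Y) : H25.ST.Pf A = Pf A := rfl
theorem st_ivs (A : Subgroup Y) : H25.ST.ivs A = ivs A := rfl
theorem st_sqs (A : Subgroup Y) : H25.ST.sqs A = sqs A := rfl
theorem st_El {A : Subgroup Y} : H25.ST.El A ↔ El A := Iff.rfl
theorem st_SC {A : Subgroup Y} : H25.ST.SC A ↔ SC A := Iff.rfl
theorem st_Sy (A : Subgroup Y) (y : Y) : H25.ST.Sy A y = Sy A y := rfl
theorem st_Lnk {S U : Subgroup Y} (h : H25.ST.Lnk S U) : Lnk S U := by
  induction h with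
  | top => exact .top
  | step a b _ ih => exact .step a b ih

end St

namespace Ext

variable {X Y : Type} [Group X] [Group Y] {p : X →* Y} (h : Ext p) {a b x : X} {β : MulAut X}
  {A B : Subgroup X} {P Q : Subgroup Y}
include h

theorem finY : Finite Y := have := h.fin; Finite.of_surjective _ h.surj

theorem eq_one_iff : p x = 1 ↔ x ∈ center X := by rw [← h.ker, MonoidHom.mem_ker]

theorem eq_iff : p a = p b ↔ a⁻¹ * b ∈ center X := by
  rw [← h.eq_one_iff, map_mul, map_inv, inv_mul_eq_one]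

theorem eq_iff' : p a = p b ↔ a * b⁻¹ ∈ center X := by
  rw [← h.eq_one_iff, map_mul, map_inv, mul_inv_eq_one]

theorem odd_cen (hx : x ∈ center X) : Odd (orderOf x) := have := h.fin; odd_orderOf_of_mem h.zo hx

theorem eq_one (h2 : Is2 x) (hx : p x = 1) : x = 1 := h2.eq_one (h.odd_cen (h.eq_one_iff.1 hx))

/-- `2`-lifts are unique. -/
theorem eq_of_is2 (ha : Is2 a) (hb : Is2 b) (e : p a = p b) : a = b := by
  have h1 := h.eq_iff'.1 e
  have h2 : a * b⁻¹ = b⁻¹ * a := by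
    have := mem_center_iff.1 h1 a
    rwa [mul_assoc, mul_right_inj] at this
  exact mul_inv_eq_one.1 ((ha.mul hb.inv h2).eq_one (h.odd_cen h1))

theorem odd_of (ho : Odd (orderOf (p x))) : Odd (orderOf x) :=
  have := h.fin
  odd_orderOf_of_pow (ho.mul (h.odd_cen (x := x ^ orderOf (p x))
    (h.eq_one_iff.1 (by rw [map_pow, pow_orderOf_eq_one])))) (by rw [pow_mul, pow_orderOf_eq_one])

/-- An odd power of a preimage of a `2`-element is its `2`-lift. -/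
theorem exists_pow (h2 : Is2 (p x)) : ∃ n, Is2 (x ^ n) ∧ p (x ^ n) = p x := by
  have := h.fin
  obtain ⟨i, j, e1, e2, e3⟩ := exists_two_odd x
  have h3 : p (x ^ j) = 1 := Is2.eq_one (by rw [map_pow]; exact h2.pow j)
    (e3.of_dvd_nat (orderOf_map_dvd _ _))
  exact ⟨i, e2, by conv_rhs => rw [e1, map_mul, h3, mul_one]⟩

theorem exists_lift {y : Y} (h2 : Is2 y) : ∃ x, Is2 x ∧ p x = y := by
  obtain ⟨x, rfl⟩ := h.surj y
  obtain ⟨n, h1, h3⟩ := h.exists_pow h2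
  exact ⟨_, h1, h3⟩

/-- A subgroup contains the `2`-lifts of the `2`-elements of its image. -/
theorem mem_of_is2 (h2 : Is2 x) (hx : p x ∈ A.map p) : x ∈ A := by
  obtain ⟨a, ha, e⟩ := hx
  obtain ⟨n, h1, h3⟩ := h.exists_pow (x := a) (e ▸ h2.map p)
  exact h.eq_of_is2 h1 h2 (h3.trans e) ▸ pow_mem ha n

theorem sq_of (h2 : Is2 x) (e : p x * p x = 1) : x * x = 1 :=
  h.eq_one (h2.mul h2 rfl) (by rw [map_mul, e])

theorem inv2_p (hx : Inv2 x) : Inv2 (p x) :=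
  ⟨by rw [← map_mul, hx.1, map_one], fun c => hx.2 (h.eq_one (is2_of_sq hx.1) c)⟩

theorem inv2_of (h2 : Is2 x) (hx : Inv2 (p x)) : Inv2 x :=
  ⟨h.sq_of h2 hx.1, fun c => hx.2 (by rw [c, map_one])⟩

theorem exists_inv2 {y : Y} (hy : Inv2 y) : ∃ x, Inv2 x ∧ p x = y := by
  obtain ⟨x, h1, rfl⟩ := h.exists_lift (is2_of_sq hy.1)
  exact ⟨x, h.inv2_of h1 hy, rfl⟩

theorem conj_eq (ha : Is2 a) (hb : Is2 b) (e : p x * p a * (p x)⁻¹ = p b) : x * a * x⁻¹ = b :=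
  h.eq_of_is2 (ha.conj x) hb (by rw [map_mul, map_mul, map_inv, e])

theorem comm_of (ha : Is2 a) (e : p a * p x = p x * p a) : a * x = x * a :=
  (mul_inv_eq_iff_eq_mul.1 (h.conj_eq ha ha (by rw [← e, mul_inv_cancel_right]))).symm

theorem isConj_iff' (ha : Is2 a) (hb : Is2 b) : IsConj (p a) (p b) ↔ IsConj a b := by
  refine ⟨fun c => ?_, p.map_isConj⟩
  obtain ⟨g, e⟩ := isConj_iff.1 c
  obtain ⟨g, rfl⟩ := h.surj g
  exact isConj_iff.2 ⟨g, h.conj_eq ha hb e⟩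

theorem comap_Cz (ha : Is2 a) : (Cz (p a)).comap p = Cz a := by
  ext x
  rw [mem_comap, mem_Cz, mem_Cz]
  exact ⟨h.comm_of ha, fun c => by rw [← map_mul, c, map_mul]⟩

theorem map_comap (P : Subgroup Y) : (P.comap p).map p = P := map_comap_eq_self_of_surjective h.surj P

theorem map_Cz (ha : Is2 a) : (Cz a).map p = Cz (p a) := by rw [← h.comap_Cz ha, h.map_comap]

theorem I_iff (h2 : Is2 x) : I (p x) ↔ I x := by
  have : (Cz x).index = (Cz (p x)).index := by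
    rw [← h.comap_Cz h2, index_comap_of_surjective _ h.surj]
  exact ⟨fun c => ⟨h.inv2_of h2 c.1, this ▸ c.2⟩, fun c => ⟨h.inv2_p c.1, this ▸ c.2⟩⟩

theorem I_p (hx : I x) : I (p x) := (h.I_iff (is2_of_sq hx.sq)).2 hx

/-- A perfect subgroup is below every subgroup with a larger image. -/
theorem le_of_perf (hA : A ≤ ⁅A, A⁆) (c : A.map p ≤ B.map p) : A ≤ B := by
  refine hA.trans (commutator_le.2 fun x hx y hy => ?_)
  obtain ⟨a, a1, a2⟩ := c (mem_map_of_mem p hx)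
  obtain ⟨b, b1, b2⟩ := c (mem_map_of_mem p hy)
  obtain ⟨u, hu, rfl⟩ : ∃ u ∈ center X, x = a * u := ⟨_, h.eq_iff.1 a2, by group⟩
  obtain ⟨v, hv, rfl⟩ : ∃ v ∈ center X, y = b * v := ⟨_, h.eq_iff.1 b2, by group⟩
  have k1 := mem_center_iff.1 hu
  have k2 := mem_center_iff.1 hv
  have : a * u * (b * v) * (a * u)⁻¹ * (b * v)⁻¹ = a * b * a⁻¹ * b⁻¹ := by
    calc _ = a * (u * (b * v) * u⁻¹) * (a⁻¹ * v⁻¹) * b⁻¹ := by group
      _ = a * b * (v * a⁻¹ * v⁻¹) * b⁻¹ := by rw [← k1, mul_inv_cancel_right]; group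
      _ = _ := by rw [← k2, mul_inv_cancel_right]
  rw [commutatorElement_def, this]
  exact mul_mem (mul_mem (mul_mem a1 b1) (inv_mem a1)) (inv_mem b1)

theorem eq_top (c : A.map p = ⊤) : A = ⊤ := eq_top_iff.2 (h.le_of_perf h.perf (c ▸ le_top))

/-- The derived group of the preimage of a perfect group is perfect. -/
theorem perf_comm (hP : P ≤ ⁅P, P⁆) : (⁅P.comap p, P.comap p⁆).map p = P ∧
    ⁅P.comap p, P.comap p⁆ ≤ ⁅⁅P.comap p, P.comap p⁆, ⁅P.comap p, P.comap p⁆⁆ := by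
  have h1 : (⁅P.comap p, P.comap p⁆).map p = P := by
    rw [map_commutator, h.map_comap]
    exact le_antisymm ((commutator_le_sup _ _).trans_eq (sup_idem _)) hP
  refine ⟨h1, commutator_le.2 fun x hx y hy => ?_⟩
  obtain ⟨a, a1, a2⟩ := h1.ge hx
  obtain ⟨b, b1, b2⟩ := h1.ge hy
  obtain ⟨u, hu, rfl⟩ : ∃ u ∈ center X, x = a * u := ⟨_, h.eq_iff.1 a2, by group⟩
  obtain ⟨v, hv, rfl⟩ : ∃ v ∈ center X, y = b * v := ⟨_, h.eq_iff.1 b2, by group⟩
  have k1 := mem_center_iff.1 hu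
  have k2 := mem_center_iff.1 hv
  have : a * u * (b * v) * (a * u)⁻¹ * (b * v)⁻¹ = a * b * a⁻¹ * b⁻¹ := by
    calc _ = a * (u * (b * v) * u⁻¹) * (a⁻¹ * v⁻¹) * b⁻¹ := by group
      _ = a * b * (v * a⁻¹ * v⁻¹) * b⁻¹ := by rw [← k1, mul_inv_cancel_right]; group
      _ = _ := by rw [← k2, mul_inv_cancel_right]
  rw [commutatorElement_def, this]
  exact commutator_mem_commutator a1 b1

theorem map_Pf (P : Subgroup Y) : (Pf (P.comap p)).map p = Pf P := by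
  refine le_antisymm ((map_Pf_le p _).trans (by rw [h.map_comap])) ?_
  obtain ⟨h1, h2⟩ := h.perf_comm (Pf_perf P)
  rw [← h1]
  exact map_mono (le_Pf ((commutator_le_sup _ _).trans (by
    rw [sup_idem]; exact comap_mono (Pf_le P))) h2)

theorem map_Py (ha : Is2 a) : (Py a).map p = Py (p a) := by rw [Py, ← h.comap_Cz ha, h.map_Pf]

/-- Centralisers of perfect subgroups. -/
theorem comap_Cs (hA : A ≤ ⁅A, A⁆) : (Cs (A.map p)).comap p = Cs A := by
  ext x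
  refine ⟨fun c a ha => ?_, fun c => ?_⟩
  · have k : ∀ a ∈ A, x * a * x⁻¹ * a⁻¹ ∈ center X := fun a ha => h.eq_iff'.1 (by
      rw [map_mul, map_mul, map_inv, ← c _ (mem_map_of_mem p ha), mul_inv_cancel_right])
    refine (mem_Cz.1 (commutator_le (H₃ := Cz x) |>.2 (fun a ha b hb => mem_Cz.2 ?_) (hA ha))).symm
    obtain ⟨u, hu, e1⟩ : ∃ u ∈ center X, x * a * x⁻¹ = u * a := ⟨_, k a ha, by group⟩
    obtain ⟨v, hv, e2⟩ : ∃ v ∈ center X, x * b * x⁻¹ = v * b := ⟨_, k b hb, by group⟩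
    have k1 := mem_center_iff.1 hu
    have k2 := mem_center_iff.1 hv
    rw [commutatorElement_def, ← mul_inv_eq_iff_eq_mul]
    calc _ = x * a * x⁻¹ * (x * b * x⁻¹) * (x * a * x⁻¹)⁻¹ * (x * b * x⁻¹)⁻¹ := by group
      _ = u * (a * v) * (b * a⁻¹ * u⁻¹) * (b⁻¹ * v⁻¹) := by rw [e1, e2]; group
      _ = u * (v * (a * b * a⁻¹)) * u⁻¹ * (b⁻¹ * v⁻¹) := by rw [k2 a]; group
      _ = v * (a * b * a⁻¹ * b⁻¹) * v⁻¹ := by rw [← k1, mul_inv_cancel_right]; group
      _ = _ := by rw [← k2, mul_inv_cancel_right]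
  · rintro _ ⟨a, ha, rfl⟩
    rw [← map_mul, c a ha, map_mul]

/-! ### Induced automorphisms -/

theorem p_aut (β : MulAut X) (e : p a = p b) : p (β a) = p (β b) := by
  refine h.eq_iff.2 (mem_center_iff.2 fun g => ?_)
  obtain ⟨g, rfl⟩ := β.surjective g
  rw [← map_inv, ← map_mul, ← map_mul, mem_center_iff.1 (h.eq_iff.1 e), map_mul]

/-- The automorphism of `Y` induced by `β`. -/
noncomputable def bar1 (β : MulAut X) : MulAut Y where
  toFun y := p (β (Function.surjInv h.surj y))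
  invFun y := p (β.symm (Function.surjInv h.surj y))
  left_inv y := by
    dsimp only
    rw [h.p_aut _ (Function.surjInv_eq h.surj _), β.symm_apply_apply, Function.surjInv_eq h.surj]
  right_inv y := by
    dsimp only
    rw [h.p_aut _ (Function.surjInv_eq h.surj _), β.apply_symm_apply, Function.surjInv_eq h.surj]
  map_mul' a b := by
    rw [← map_mul, ← map_mul]
    exact h.p_aut _ (by simp only [map_mul, Function.surjInv_eq])

theorem bar1_p (β : MulAut X) (x : X) : h.bar1 β (p x) = p (β x) :=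
  h.p_aut _ (Function.surjInv_eq h.surj _)

/-- `Aut X → Aut Y` -/
noncomputable def bar : MulAut X →* MulAut Y := MonoidHom.mk' h.bar1 fun β γ =>
  MulEquiv.ext fun y => by
    obtain ⟨x, rfl⟩ := h.surj y
    rw [MulAut.mul_apply, h.bar1_p, h.bar1_p, h.bar1_p, MulAut.mul_apply]

theorem bar_p (β : MulAut X) (x : X) : h.bar β (p x) = p (β x) := h.bar1_p β x

theorem bar_conj (g : X) : h.bar (MulAut.conj g) = MulAut.conj (p g) := MulEquiv.ext fun y => by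
  obtain ⟨x, rfl⟩ := h.surj y
  rw [h.bar_p, MulAut.conj_apply, MulAut.conj_apply, map_mul, map_mul, map_inv]

/-- `β` fixes a perfect subgroup as soon as `bar β` fixes its image. -/
theorem le_fx_of_perf (hA : A ≤ ⁅A, A⁆) (c : A.map p ≤ fx (h.bar β)) : A ≤ fx β := by
  refine hA.trans (commutator_le.2 fun a ha b hb => ?_)
  have k : ∀ a ∈ A, β a * a⁻¹ ∈ center X := fun a ha =>
    h.eq_iff'.1 (by rw [← h.bar_p]; exact mem_fx.1 (c (mem_map_of_mem p ha)))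
  obtain ⟨u, hu, e1⟩ : ∃ u ∈ center X, β a = u * a := ⟨_, k a ha, by group⟩
  obtain ⟨v, hv, e2⟩ : ∃ v ∈ center X, β b = v * b := ⟨_, k b hb, by group⟩
  have k1 := mem_center_iff.1 hu
  have k2 := mem_center_iff.1 hv
  rw [mem_fx, commutatorElement_def, map_mul, map_mul, map_mul, map_inv, map_inv, e1, e2]
  calc _ = u * (a * v) * (b * a⁻¹ * u⁻¹) * (b⁻¹ * v⁻¹) := by group
    _ = u * (v * (a * b * a⁻¹)) * u⁻¹ * (b⁻¹ * v⁻¹) := by rw [k2 a]; group
    _ = v * (a * b * a⁻¹ * b⁻¹) * v⁻¹ := by rw [← k1, mul_inv_cancel_right]; group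
    _ = _ := by rw [← k2, mul_inv_cancel_right]

theorem bar_inj : Function.Injective h.bar := (injective_iff_map_eq_one _).2 fun β e =>
  MulEquiv.ext fun x => mem_fx.1 (h.le_fx_of_perf h.perf (fun _ _ => by rw [e]; rfl) (mem_top x))

theorem bar_eq_conj {g : X} : h.bar β = MulAut.conj (p g) ↔ β = MulAut.conj g := by
  rw [← h.bar_conj, h.bar_inj.eq_iff]

theorem inn_bar : Inn (h.bar β) ↔ Inn β := by
  refine ⟨fun ⟨g, e⟩ => ?_, fun ⟨g, e⟩ => ⟨p g, h.bar_eq_conj.2 e⟩⟩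
  obtain ⟨g, rfl⟩ := h.surj g
  exact ⟨g, h.bar_eq_conj.1 e⟩

theorem fix_of_is2 (h2 : Is2 x) (e : h.bar β (p x) = p x) : β x = x :=
  h.eq_of_is2 (h2.map β.toMonoidHom) h2 (by rw [← h.bar_p, e])

theorem map_fx_le (β : MulAut X) : (fx β).map p ≤ fx (h.bar β) := by
  rintro _ ⟨x, hx, rfl⟩
  exact mem_fx.2 (by rw [h.bar_p, mem_fx.1 hx])

theorem map_mp (β : MulAut X) (A : Subgroup X) : (mp β A).map p = mp (h.bar β) (A.map p) := by
  rw [mp, mp, map_map, map_map]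
  congr 1
  exact MonoidHom.ext fun x => (h.bar_p β x).symm

/-- An element inverted by `β` is `d⁻¹ β(d)` for a power `d`. -/
theorem exists_half {c : X} (hc : c ∈ center X) : ∃ d ∈ zpowers c, d * d = c := by
  obtain ⟨k, hk⟩ := h.odd_cen hc
  exact ⟨c ^ (k + 1), pow_mem (mem_zpowers c) _, by
    rw [← pow_add, show k + 1 + (k + 1) = 2 * k + 1 + 1 by ring, ← hk, pow_succ, pow_orderOf_eq_one,
      one_mul]⟩

/-- Fixed points of an involutory automorphism lift. -/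
theorem map_fx (h2 : β * β = 1) : (fx β).map p = fx (h.bar β) := by
  refine le_antisymm (h.map_fx_le β) fun y hy => ?_
  obtain ⟨x, rfl⟩ := h.surj y
  have hc : x⁻¹ * β x ∈ center X := h.eq_iff.1 (by rw [← h.bar_p, mem_fx.1 hy])
  have bb : β (β x) = x := by rw [← MulAut.mul_apply, h2, MulAut.one_apply]
  obtain ⟨d, ⟨n, rfl⟩, hd⟩ := h.exists_half hc
  dsimp only at hd
  refine ⟨x * (x⁻¹ * β x) ^ n, mem_fx.2 ?_, by
    rw [map_mul, h.eq_one_iff.2 (zpow_mem hc n), mul_one]⟩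
  rw [map_mul, map_zpow, map_mul, map_inv, bb, show (β x)⁻¹ * x = (x⁻¹ * β x)⁻¹ by group, inv_zpow,
    mul_inv_eq_iff_eq_mul, mul_assoc, hd, mul_inv_cancel_left]

/-! ### Lifts of `2`-subgroups -/

omit h in
/-- The `2`-lift of `P`. -/
abbrev up (p : X →* Y) (P : Subgroup Y) : Subgroup X := t2 (P.comap p)

theorem mem_up (hP : IsPGroup 2 P) : x ∈ up p P ↔ Is2 x ∧ p x ∈ P := by
  refine ⟨fun hx => ⟨?_, t2_le (P.comap p) hx⟩, fun c => mem_t2 c.2 c.1⟩
  have := h.fin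
  obtain ⟨T, hT⟩ := H98.exists_isSyl 2 (P.comap p)
  have h1 : T.map p = P := by
    have k := hT.map p
    rw [h.map_comap] at k
    exact (k.eq_of_le hP k.le le_rfl).symm
  exact isPGroup_iff_is2.1 hT.isPGroup x
    ((closure_le T).2 (fun v hv => h.mem_of_is2 hv.2 (h1 ▸ hv.1)) hx)

theorem isPGroup_up (hP : IsPGroup 2 P) : IsPGroup 2 (up p P) :=
  isPGroup_iff_is2.2 fun _ hx => ((h.mem_up hP).1 hx).1

theorem map_up (hP : IsPGroup 2 P) : (up p P).map p = P := by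
  refine le_antisymm (map_le_iff_le_comap.2 (t2_le _)) fun y hy => ?_
  obtain ⟨x, h1, rfl⟩ := h.exists_lift (isPGroup_iff_is2.1 hP y hy)
  exact mem_map_of_mem p (mem_t2 hy h1)

theorem up_map (hA : IsPGroup 2 A) : up p (A.map p) = A := by
  ext x
  rw [h.mem_up (hA.map p)]
  exact ⟨fun c => h.mem_of_is2 c.1 c.2, fun c => ⟨isPGroup_iff_is2.1 hA x c, mem_map_of_mem p c⟩⟩

theorem card_map (hA : IsPGroup 2 A) : Nat.card (A.map p) = Nat.card A :=
  (Nat.card_eq_of_bijective (p.subgroupMap A) ⟨fun a b e => Subtype.ext (h.eq_of_is2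
    (isPGroup_iff_is2.1 hA _ a.2) (isPGroup_iff_is2.1 hA _ b.2) (congrArg Subtype.val e)),
    p.subgroupMap_surjective A⟩).symm

theorem card_up (hP : IsPGroup 2 P) : Nat.card (up p P) = Nat.card P := by
  rw [← h.card_map (h.isPGroup_up hP), h.map_up hP]

omit h in
theorem up_mono (c : P ≤ Q) : up p P ≤ up p Q := closure_mono fun _ hv => ⟨c hv.1, hv.2⟩

theorem mp_up (hP : IsPGroup 2 P) (β : MulAut X) : mp β (up p P) = up p (mp (h.bar β) P) := by
  rw [← h.up_map (isPGroup_mp β (h.isPGroup_up hP)), h.map_mp, h.map_up hP]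

theorem Ns_up (hP : IsPGroup 2 P) : Ns (up p P) = (Ns P).comap p := by
  ext g
  rw [mem_comap, mem_Ns_iff, mem_Ns_iff, cjs_eq, cjs_eq, h.mp_up hP, h.bar_conj]
  refine ⟨fun c => ?_, fun c => by rw [c]⟩
  rw [← h.map_up (isPGroup_mp _ hP), c, h.map_up hP]

theorem Cs_up (hP : IsPGroup 2 P) : Cs (up p P) = (Cs P).comap p := by
  ext g
  refine ⟨fun c y hy => ?_, fun c x hx => ?_⟩
  · obtain ⟨x, hx, rfl⟩ := (h.map_up hP).ge hy
    rw [← map_mul, c x hx, map_mul]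
  · obtain ⟨h1, h2⟩ := (h.mem_up hP).1 hx
    exact h.comm_of h1 (c _ h2)

theorem up_le_fx (hP : IsPGroup 2 P) : up p P ≤ fx β ↔ P ≤ fx (h.bar β) :=
  ⟨fun c => by rw [← h.map_up hP]; exact (map_mono c).trans (h.map_fx_le β), fun c x hx =>
    have k := (h.mem_up hP).1 hx
    mem_fx.2 (h.fix_of_is2 k.1 (mem_fx.1 (c k.2)))⟩

theorem map_ivs (P : Subgroup Y) : (ivs (P.comap p)).map p = ivs P := by
  rw [ivs, MonoidHom.map_closure, ivs]
  congr 1
  ext y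
  refine ⟨?_, fun c => ?_⟩
  · rintro ⟨x, hx, rfl⟩
    exact ⟨hx.1, by rw [← map_mul, hx.2, map_one]⟩
  · obtain ⟨x, h1, rfl⟩ := h.exists_lift (is2_of_sq c.2)
    exact ⟨x, ⟨c.1, h.sq_of h1 c.2⟩, rfl⟩

omit h in
theorem map_sqs (A : Subgroup X) : (sqs A).map p = sqs (A.map p) := by
  rw [sqs, MonoidHom.map_closure, sqs]
  congr 1
  ext y
  refine ⟨?_, ?_⟩
  · rintro ⟨_, ⟨x, hx, rfl⟩, rfl⟩
    exact ⟨p x, mem_map_of_mem p hx, map_mul p x x⟩
  · rintro ⟨_, ⟨x, hx, rfl⟩, rfl⟩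
    exact ⟨_, ⟨x, hx, rfl⟩, map_mul p x x⟩

theorem sqs_up (hP : IsPGroup 2 P) : sqs (up p P) = up p (sqs P) := by
  rw [← h.up_map ((h.isPGroup_up hP).to_le (sqs_le _)), map_sqs, h.map_up hP]

/-- An odd subgroup with trivial image is central. -/
theorem le_cen (c : A.map p = ⊥) : A ≤ center X := fun _ ha =>
  h.eq_one_iff.1 (mem_bot.1 (c.le (mem_map_of_mem p ha)))

omit h in
theorem map_le_Ns (c : A ≤ Ns B) : A.map p ≤ Ns (B.map p) :=
  (map_mono c).trans (le_normalizer_map p)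

end Ext

theorem jobDK : JobDK := by
  intro X Y _ _ p h hF
  have := h.fin
  refine ⟨⟨h.fin, fun N hN => (hF.normal_eq (hN.map p h.surj)).imp h.le_cen h.eq_top, h.zo, h.perf,
    fun c => hF.nab ⟨⟨fun a b => ?_⟩⟩, fun β γ a b => h.inn_bar.1 ?_, ?_, fun x y a b => ?_,
    fun x hx O h1 h2 h3 => h.le_cen (hF.odd _ (h.inv2_p hx) _ ?_ (h2.of_dvd_nat (card_map_dvd _ _)) ?_)⟩,
    fun y hy => h.mem_of_is2 (is2_of_sq hy.1) ?_⟩
  · obtain ⟨a, rfl⟩ := h.surj a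
    obtain ⟨b, rfl⟩ := h.surj b
    rw [← map_mul, c.is_comm.comm, map_mul]
  · rw [map_mul]
    exact hF.out _ _ (fun c => a (h.inn_bar.1 c)) fun c => b (h.inn_bar.1 c)
  · obtain ⟨z, hz⟩ := hF.ex
    obtain ⟨x, h1, rfl⟩ := h.exists_lift (is2_of_sq hz.1.1)
    exact ⟨x, (h.I_iff h1).1 hz⟩
  · exact (h.isConj_iff' (is2_of_sq a.sq) (is2_of_sq b.sq)).1 (hF.one _ _ (h.I_p a) (h.I_p b))
  · rw [← h.map_Cz (is2_of_sq hx.1)]; exact map_mono h1
  · rw [← h.map_Cz (is2_of_sq hx.1)]; exact Ext.map_le_Ns h3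
  · rw [map_commutator, h.map_Cz (is2_of_sq hy.1)]
    exact hF.der _ (h.inv2_p hy)

theorem jobDT : JobDT := by
  intro X Y _ _ p h _ hT h2
  refine .inl ⟨⟨fun a b ha hb c ne => ?_, fun β hβ => ?_⟩, fun x y hx hy a b => ?_⟩
  · have a2 := is2_of_sq ha.sq
    have b2 := is2_of_sq hb.sq
    refine (h.I_iff (a2.mul b2 c)).1 ?_
    rw [map_mul]
    exact hT.zz _ _ (h.I_p ha) (h.I_p hb) (by rw [← map_mul, c, map_mul])
      fun k => ne (h.eq_of_is2 a2 b2 k)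
  · obtain ⟨a, b, ha, hb, ne, c, k1, k2⟩ := hT.fx (h.bar β) (by rw [← map_mul, hβ, map_one])
    obtain ⟨a, a2, rfl⟩ := h.exists_lift (is2_of_sq ha.1.1)
    obtain ⟨b, b2, rfl⟩ := h.exists_lift (is2_of_sq hb.1.1)
    exact ⟨a, b, (h.I_iff a2).1 ha, (h.I_iff b2).1 hb, fun k => ne (k ▸ rfl), h.comm_of a2 c,
      h.fix_of_is2 a2 k1, h.fix_of_is2 b2 k2⟩
  · have x2 := is2_of_sq hx.1
    have y2 := is2_of_sq hy.1
    exact (h.isConj_iff' x2 y2).1 (h2 _ _ (h.inv2_p hx) (h.inv2_p hy)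
      (fun c => a ((h.I_iff x2).1 c)) fun c => b ((h.I_iff y2).1 c))

end H25.SQ
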