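import Cfsg.Agent.H25.SQWr
import Cfsg.Agent.H98.YMin

/-! STD-S kit, part 3: `UF`, the end, `Lemma Z`. -/

set_option autoImplicit false
set_option linter.unusedSectionVars false

namespace H25.SQ

open H64.SG Subgroup
open H67.SA (cm mem_cjs conj_mem_cjs card_cjs cm_eq_one)

universe u

variable {X : Type} [Group X] {G : Type u} [Group G] {e : X →* G} {t m l : G} {B : Subgroup G}
  {c : Cov X B} [Finite G]

theorem GW.uf (h : GW e t c) : UF (MM t B) t :=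
  ⟨h.inv, h.t_mem, fun g k => h.ufs g k (h.sw _ k (isConj_iff.2 ⟨g, rfl⟩))⟩

theorem GW.symm (h : GW e t c) : GW e t (c.cj t) where
  toCW := h.toCW.symm
  sw := fun s hs hc k => by
    have k1 := h.toCW.symm.mem_M0 hs k
    rw [h.toCW.M0_symm] at k1
    rw [h.toCW.MM_symm] at hs
    exact h.sw s hs hc k1.1

theorem ne_bot_of_cov (hF : F0 X) (c : Cov X B) : B ≠ ⊥ := fun k => by
  obtain ⟨z, hz⟩ := hF.ex
  obtain ⟨l, hl, rfl⟩ := c.surj z
  rw [k, mem_bot] at hl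
  exact hz.ne (hl ▸ c.pi_one)

/-- The end: `M = G` is impossible. -/
theorem CW.ne_top (h : CW e t c) (hF : F0 X) (hA : H99.Wr.AS G) : MM t B ≠ ⊤ := fun k => by
  have hB := ne_bot_of_cov hF c
  have h1 := hA.le_of_nor (X := G1 t B) (fun k => hB (le_bot_iff.1 (k ▸ le_sup_left)))
    (le_top.trans k.ge)
  have h2 := hA.le_of_nor hB (h1.trans (h.G1_le.trans inf_le_left))
  have h3 := hA.le_of_nor (ne_bot_of_cov hF (c.cj t)) (h1.trans (h.G1_le.trans inf_le_right))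
  have h4 : Cfsg.generalizedFittingSubgroup G ≤ ⊥ := fun x hx =>
    hA.cen_eq ▸ centralizer_le h1 (h.inf_le (h2 hx) (h3 hx))
  have := hA.1
  exact (nontrivial_iff_ne_bot _).1 inferInstance (le_bot_iff.1 h4)

/-- `z1` is the lift of `z`. -/
structure ZL (c : Cov X B) (z : X) (z1 : G) : Prop where
  mem : z1 ∈ B
  is2 : Is2 z1
  pi : c.pi z1 = z

theorem exists_ZL (c : Cov X B) {z : X} (hz : z * z = 1) : ∃ z1, ZL c z z1 := by
  obtain ⟨l, h1, h2, h3⟩ := c.exists_lift2 (is2_of_sq hz)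
  exact ⟨l, h1, h2, h3⟩

theorem mem_zp2 {a x : G} (h : a * a = 1) : x ∈ zpowers a ↔ x = 1 ∨ x = a :=
  H99.Wr.mem_zpowers_sq h

variable {z : X} {S U₁ U₂ : Subgroup X} {z1 : G} {W : Subgroup G}

theorem FEd.two (hE : FEd z S U₁ U₂) : IsPGroup 2 S := hE.syl.2.1

theorem FEd.card (hE : FEd z S U₁ U₂) [Finite X] : 2 < Nat.card S :=
  hE.big.trans_le (card_le_of_le ((sqs_le _).trans hE.lk2.le))

namespace ZL

variable (hz : ZL c z z1)
include hz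

theorem cj (g : G) : ZL (c.cj g) z (g * z1 * g⁻¹) :=
  ⟨conj_mem_cjs.2 hz.mem, hz.is2.conj g, by rw [Cov.cj_pi, ← hz.pi]; congr 1; group⟩
theorem sq (h2 : z * z = 1) : z1 * z1 = 1 := c.sq_of_pi hz.mem hz.is2 (by rw [hz.pi, h2])
theorem ne (h2 : z ≠ 1) : z1 ≠ 1 := fun k => h2 (by rw [← hz.pi, k, c.pi_one])
theorem e_eq (h : CW e t c) : e z = z1 * (t * z1 * t⁻¹) := by rw [h.diag _ hz.mem, hz.pi]
theorem unique {y : G} (hy : ZL c z y) : y = z1 :=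
  c.eq_of_pi_eq hy.mem hz.mem hy.is2 hz.is2 (hy.pi.trans hz.pi.symm)

variable (hE : FEd z S U₁ U₂)
include hE

theorem inv2 : Inv2 z1 := ⟨hz.sq hE.zI.sq, hz.ne hE.zI.ne⟩
theorem mem_Up : z1 ∈ Up c S := mem_Up_of hz.mem hz.is2 (hz.pi ▸ hE.zS.1)
theorem mem_Cs : z1 ∈ Cs (Up c S) := fun s hs => by
  obtain ⟨h1, -, h3⟩ := (SQ.mem_Up hE.two).1 hs
  exact c.comm_of_pi hz.mem h1 hz.is2 (by rw [hz.pi]; exact hE.zS.2 _ h3)

/-- The centraliser of `S₁` in `N(B)`. -/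
theorem cen_Up (hm : m ∈ Ns B) (k : m ∈ Cs (Up c S)) : m ∈ Cs B ∨ z1 * m ∈ Cs B := by
  refine (hE.ca _ (CW.le_fx hE.two hm k)).imp (c.ac_ker m hm) fun k => ?_
  refine c.ac_ker _ (mul_mem (le_normalizer hz.mem) hm) ?_
  rw [c.ac_mul _ (le_normalizer hz.mem) _ hm, k, c.ac_of_mem hz.mem, hz.pi, ← map_mul, hE.zI.sq, map_one]

/-- `Z(S₁) = ⟨z1⟩`. -/
theorem cen_B (hF : F0 X) (hm : m ∈ B) (h2 : Is2 m) (k : m ∈ Cs (Up c S)) : m = 1 ∨ m = z1 := by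
  have key : ∀ a ∈ B, Is2 a → a ∈ Cs B → c.pi a = 1 := fun a ha a2 k =>
    hF.cen _ (c.is2_pi ha a2) (by rw [← c.ac_of_mem ha, c.ac_of_Cs k])
  refine (hz.cen_Up hE (le_normalizer hm) k).imp (fun k => c.eq_one_of_is2 hm h2 (key m hm h2 k))
    fun k' => hz.unique ⟨hm, h2, ?_⟩
  have := key _ (mul_mem hz.mem hm) (hz.is2.mul h2 (k _ (hz.mem_Up hE))) k'
  rw [c.pi_mul _ hz.mem _ hm, hz.pi] at this
  rw [eq_inv_of_mul_eq_one_right this, inv_eq_of_mul_eq_one_right hE.zI.sq]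

/-- A subgroup normalised by `S₁` and meeting `S₁` contains `z1`. -/
theorem mem_of_norm (hF : F0 X) {N : Subgroup G} (hN : Up c S ≤ Ns N) (hx : l ∈ N)
    (hl : l ∈ Up c S) (h1 : l ≠ 1) : z1 ∈ N := by
  have hS := isPGroup_Up (c := c) hE.two
  obtain ⟨a, ha, h2, h3⟩ := H98.exists_fix_mod (A := N ⊓ Up c S) (Z := ⊥) (hS.to_le inf_le_right) hS
    (H98.le_normalizer_inf hN le_normalizer) fun k => h1 (k ⟨hx, hl⟩)
  obtain ⟨b1, b2, -⟩ := (SQ.mem_Up hE.two).1 ha.2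
  rcases hz.cen_B hE hF b1 b2 fun s hs => (commutatorElement_eq_one_iff_mul_comm.1 (h3 s hs)).symm
    with rfl | rfl
  exacts [absurd (one_mem _) h2, ha.1]

omit hz in
/-- A `2`-subgroup of `N(B)` over `S₁` meets `B` in `S₁`. -/
theorem inf_eq (hW : IsPGroup 2 W) (h1 : Up c S ≤ W) : W ⊓ B = Up c S :=
  (syl_iff.1 (syl_Up hE.syl)).eq_of_le (hW.to_le inf_le_left) (le_inf h1 (Up_le c S)) inf_le_right

omit hz in
theorem le_Ns (hW : IsPGroup 2 W) (h1 : Up c S ≤ W) (h2 : W ≤ Ns B) : W ≤ Ns (Up c S) :=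
  inf_eq hE hW h1 ▸ H98.le_normalizer_inf le_normalizer h2

theorem fix (hF : F0 X) (hm : m ∈ Ns B) (k : m ∈ Ns (Up c S)) : m * z1 * m⁻¹ = z1 :=
  (hz.cen_B hE hF (H98.conj_mem_of_mem_normalizer hm hz.mem) (hz.is2.conj m) (by
    rw [← mem_Ns_iff.1 k, ← cj_Cs]; exact conj_mem_cjs.2 (hz.mem_Cs hE))).resolve_left fun k =>
      (hz.inv2 hE).2 (by simpa using k)

theorem central (hF : F0 X) (hW : IsPGroup 2 W) (h1 : Up c S ≤ W) (h2 : W ≤ Ns B) : z1 ∈ Cs W :=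
  fun w hw => mul_inv_eq_iff_eq_mul.1 (hz.fix hE hF (h2 hw) (le_Ns hE hW h1 h2 hw))

theorem not_le : ¬ Up c S ≤ zpowers z1 := fun k => by
  have := c.finite_X
  have h1 := card_le_of_le k
  rw [card_Up hE.two, Nat.card_zpowers, orderOf_eq_prime (by rw [pow_two, (hz.inv2 hE).1])
    (hz.inv2 hE).2] at h1
  exact absurd hE.card (by omega)

/-- `z1` is a commutator of an element of the second centre. -/
theorem exists_x (hF : F0 X) (hW : IsPGroup 2 W) (h1 : Up c S ≤ W) (h2 : W ≤ Ns B) :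
    ∃ x ∈ Up c S, (∀ w ∈ W, cm x w = 1 ∨ cm x w = z1) ∧ ∃ s ∈ Up c S, cm x s = z1 := by
  obtain ⟨x, hx, h3, h4⟩ := H98.exists_fix_mod (isPGroup_Up (c := c) hE.two) hW
    (le_Ns hE hW h1 h2) (hz.not_le hE)
  have h5 := fun w hw => (mem_zp2 (hz.inv2 hE).1).1 (h4 w hw)
  refine ⟨x, hx, h5, by_contra fun k => h3 ((mem_zp2 (hz.inv2 hE).1).2 ?_)⟩
  obtain ⟨b1, b2, -⟩ := (SQ.mem_Up hE.two).1 hx
  exact hz.cen_B hE hF b1 b2 fun s hs =>
    (cm_eq_one.1 ((h5 s (h1 hs)).resolve_right fun k' => k ⟨s, hs, k'⟩)).symm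

variable (h : CW e t c)
include h

omit hE in
theorem back : t * (t * z1 * t⁻¹) * t⁻¹ = z1 := H99.Wr.tt_conj h.tt z1
omit hE in
theorem comm : z1 * (t * z1 * t⁻¹) = t * z1 * t⁻¹ * z1 := h.cm12 hz.mem (hz.cj t).mem
theorem z2_notMem : t * z1 * t⁻¹ ∉ B := fun k =>
  ((hz.cj t).inv2 hE).2 (h.eq_one k (hz.cj t).mem (hz.cj t).is2)
theorem z1_notMem : z1 ∉ cjs t B := fun k => (hz.inv2 hE).2 (h.eq_one hz.mem k hz.is2)
theorem mem_U12 : z1 ∈ U12 c t S := mem_sup_left (hz.mem_Up hE)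
theorem z2_mem_U12 : t * z1 * t⁻¹ ∈ U12 c t S := mem_sup_right (conj_mem_cjs.2 (hz.mem_Up hE))
theorem sq12 : z1 * (t * z1 * t⁻¹) * (z1 * (t * z1 * t⁻¹)) = 1 := by
  rw [← hz.e_eq h, ← map_mul, hE.zI.sq, map_one]

/-- The `2`-elements of `M0` centralising `S*`. -/
theorem cen_U12 (hm : m ∈ M0 t B) (h2 : Is2 m) (k : m ∈ Cs (U12 c t S)) :
    m = 1 ∨ m = z1 ∨ m = t * z1 * t⁻¹ ∨ m = z1 * (t * z1 * t⁻¹) := by
  have hy := hz.cj t
  have c1 := k _ (hz.mem_U12 hE h)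
  have c2 := k _ (hz.z2_mem_U12 hE h)
  have key : ∀ a, a * a = 1 → a * m = m * a → a * m ∈ Cs B → a * m ∈ Cs (cjs t B) → m = a :=
    fun a a2 ca k1 k2 => by
      have := h.eq_one_C1 (l := a * m) (by rw [G1, Cs, H98.centralizer_sup]; exact ⟨k1, k2⟩)
        ((is2_of_sq a2).mul h2 ca)
      rw [eq_inv_of_mul_eq_one_right this, inv_eq_of_mul_eq_one_right a2]
  rcases hz.cen_Up hE hm.1 (H98.centralizer_anti le_sup_left k) with k1 | k1 <;>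
  rcases hy.cen_Up hE hm.2 (by rw [cj_Up]; exact H98.centralizer_anti le_sup_right k) with k2 | k2
  · exact Or.inl (key 1 (one_mul _) (by simp) (by simpa using k1) (by simpa using k2))
  · exact Or.inr (Or.inr (Or.inl (key _ (hy.inv2 hE).1 c2 (mul_mem (h.comm' hy.mem) k1) k2)))
  · exact Or.inr (Or.inl (key _ (hz.inv2 hE).1 c1 k1 (mul_mem (h.comm hz.mem) k2)))
  · refine Or.inr (Or.inr (Or.inr (key _ (hz.sq12 hE h) (by rw [mul_assoc, c2, ← mul_assoc, c1, mul_assoc])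
      ?_ (by rw [mul_assoc]; exact mul_mem (h.comm hz.mem) k2))))
    rw [hz.comm h, mul_assoc]
    exact mul_mem (h.comm' hy.mem) k1

variable (hF : F0 X) (hW : IsPGroup 2 W) (h1 : U12 c t S ≤ W)
include hF hW h1

theorem central1 (h2 : W ≤ M0 t B) : z1 ∈ Cs W :=
  hz.central hE hF hW (le_sup_left.trans h1) (h2.trans inf_le_left)
theorem central2 (h2 : W ≤ M0 t B) : t * z1 * t⁻¹ ∈ Cs W :=
  (hz.cj t).central hE hF hW (by rw [cj_Up]; exact le_sup_right.trans h1) (h2.trans inf_le_right)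

/-- `z1 z2` is not a commutator of an element of the second centre. -/
theorem cen_of_cm (h2 : W ≤ M0 t B) {x : G} (hx : x ∈ W)
    (k : ∀ w ∈ U12 c t S, cm x w = 1 ∨ cm x w = z1 * (t * z1 * t⁻¹)) :
    (x = 1 ∨ x = z1 ∨ x = t * z1 * t⁻¹ ∨ x = z1 * (t * z1 * t⁻¹)) ∧ x ∈ Cs W := by
  have key : ∀ {A : Subgroup G} {s : G}, x ∈ Ns A → s ∈ A → s ∈ U12 c t S →
      z1 * (t * z1 * t⁻¹) ∉ A → s * x = x * s := fun {A s} hx hs hs' hA =>
    (cm_eq_one.1 ((k s hs').resolve_right fun k' => hA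
      (k' ▸ mul_mem (H98.conj_mem_of_mem_normalizer hx hs) (inv_mem hs)))).symm
  have h3 : x ∈ Cs (U12 c t S) := by
    rw [U12, Cs, H98.centralizer_sup]
    exact ⟨fun s hs => key (h2 hx).1 (Up_le c S hs) (mem_sup_left hs) fun k' =>
        hz.z2_notMem hE h ((mul_mem_cancel_left hz.mem).1 k'),
      fun s hs => key (h2 hx).2 (map_mono (Up_le c S) hs) (mem_sup_right hs) fun k' =>
        hz.z1_notMem hE h ((mul_mem_cancel_right (hz.cj t).mem).1 k')⟩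
  have h4 := hz.cen_U12 hE h (h2 hx) (isPGroup_iff_is2.1 hW x hx) h3
  have c1 := hz.central1 hE h hF hW h1 h2
  have c2 := hz.central2 hE h hF hW h1 h2
  refine ⟨h4, ?_⟩
  rcases h4 with rfl | rfl | rfl | rfl
  exacts [one_mem _, c1, c2, mul_mem c1 c2]

/-- The normaliser of `W ≤ M0` permutes `z1, z2`. -/
theorem perm0 (h2 : W ≤ M0 t B) {n : G} (hn : n ∈ Ns W) :
    n * z1 * n⁻¹ = z1 ∨ n * z1 * n⁻¹ = t * z1 * t⁻¹ := by
  have cj : ∀ {a : G}, a ∈ W → n * a * n⁻¹ ∈ W := H98.conj_mem_of_mem_normalizer hn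
  have cj' : ∀ {a : G}, a ∈ W → n⁻¹ * a * n ∈ W := fun ha => by
    simpa using H98.conj_mem_of_mem_normalizer (inv_mem hn) ha
  have c1 := hz.central1 hE h hF hW h1 h2
  have k1 : n * z1 * n⁻¹ ∈ Cs W := by
    rw [← mem_Ns_iff.1 hn, ← cj_Cs]; exact conj_mem_cjs.2 c1
  rcases hz.cen_U12 hE h (h2 (cj (h1 (hz.mem_U12 hE h)))) (hz.is2.conj n) (centralizer_le h1 k1)
    with k | k | k | k
  · exact absurd (by simpa using k) (hz.inv2 hE).2
  · exact Or.inl k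
  · exact Or.inr k
  obtain ⟨x, hx, h3, s, hs, h4⟩ := hz.exists_x hE hF hW (le_sup_left.trans h1) (h2.trans inf_le_left)
  have e1 : ∀ w, cm (n * x * n⁻¹) w = n * cm x (n⁻¹ * w * n) * n⁻¹ := fun w => by
    simp only [cm]; group
  have h5 := (hz.cen_of_cm hE h hF hW h1 h2 (cj (h1 (mem_sup_left hx))) fun w hw => by
    rw [e1, ← k]
    exact (h3 _ (cj' (h1 hw))).imp (fun k => by rw [k]; group) fun k => by rw [k]).2
  have h6 := cm_eq_one.2 (h5 _ (cj (h1 (mem_sup_left hs)))).symm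
  rw [e1, show n⁻¹ * (n * s * n⁻¹) * n = s by group, h4] at h6
  exact absurd (by simpa using h6) (hz.inv2 hE).2

/-- An element of `W ≤ M` outside `N(B)` swaps `z1, z2`. -/
theorem swap (h2 : W ≤ MM t B) {w : G} (hw : w ∈ W) (hn : w ∉ Ns B) :
    w * z1 * w⁻¹ = t * z1 * t⁻¹ := by
  have k : w ∈ Ns (W ⊓ M0 t B) := inf_normalizer_le_normalizer_inf ⟨le_normalizer hw, by
    rcases h.pm w (h2 hw) with k | k
    · exact le_normalizer k
    · simpa [h.tt, mul_assoc] using mul_mem (le_normalizer (H := M0 t B) k) h.t_mem_Ns_M0⟩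
  refine (hz.perm0 hE h hF (hW.to_le inf_le_left) (le_inf h1
    ((sup_le_sup (Up_le c S) (map_mono (Up_le c S))).trans h.G1_le)) inf_le_right k).resolve_left
      fun k' => hz.z1_notMem hE h ?_
  rw [← k', ← (h.swap (h2 hw) hn).1]
  exact conj_mem_cjs.2 hz.mem

theorem inf_M0 (h2 : W ≤ MM t B) : W ⊓ M0 t B = W ⊓ Cz z1 := by
  refine le_antisymm (le_inf inf_le_left fun w hw => mem_Cz.2 ?_) fun w hw => ⟨hw.1, ?_⟩
  · exact (hz.central1 hE h hF (hW.to_le inf_le_left) (le_inf h1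
      ((sup_le_sup (Up_le c S) (map_mono (Up_le c S))).trans h.G1_le)) inf_le_right w hw).symm
  · exact h.mem_M0_of (h2 hw.1) hz.mem hz.is2 (hz.inv2 hE).2
      (by rw [← mem_Cz.1 hw.2, mul_inv_cancel_right]; exact hz.mem)

/-- The normaliser of `W ≤ M` permutes `z1, z2`. -/
theorem perm (h2 : W ≤ MM t B) {n : G} (hn : n ∈ Ns W) :
    n * z1 * n⁻¹ = z1 ∨ n * z1 * n⁻¹ = t * z1 * t⁻¹ := by
  by_cases k0 : W ≤ Ns B
  · exact hz.perm0 hE h hF hW h1 (fun w hw => h.mem_M0 (h2 hw) (k0 hw)) hn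
  obtain ⟨w, hw, hw'⟩ := SetLike.not_le_iff_exists.1 k0
  have cj : ∀ {a : G}, a ∈ W → n * a * n⁻¹ ∈ W := H98.conj_mem_of_mem_normalizer hn
  have cj' : ∀ {a : G}, a ∈ W → n⁻¹ * a * n ∈ W := fun ha => by
    simpa using H98.conj_mem_of_mem_normalizer (inv_mem hn) ha
  have hy := hz.cj t
  have hW0 : IsPGroup 2 ↥(W ⊓ M0 t B) := hW.to_le inf_le_left
  have h10 : U12 c t S ≤ W ⊓ M0 t B :=
    le_inf h1 ((sup_le_sup (Up_le c S) (map_mono (Up_le c S))).trans h.G1_le)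
  have c1 := hz.central1 hE h hF hW0 h10 inf_le_right
  have c2 := hz.central2 hE h hF hW0 h10 inf_le_right
  have s1 := fun {v} (hv : v ∈ W) hv' => hz.swap hE h hF hW h1 h2 hv hv'
  have s2 : ∀ {v}, v ∈ W → v ∉ Ns B → v * (t * z1 * t⁻¹) * v⁻¹ = z1 := fun {v} hv hv' => by
    rw [← s1 (inv_mem hv) fun k => hv' (by simpa using inv_mem k)]; group
  have i1 : z1⁻¹ = z1 := inv_eq_of_mul_eq_one_right (hz.inv2 hE).1
  -- `[z1, W] ≤ ⟨z1 z2⟩ = Z(W)`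
  have a1 : ∀ v ∈ W, cm z1 v = 1 ∨ cm z1 v = z1 * (t * z1 * t⁻¹) := fun v hv => by
    by_cases k : v ∈ Ns B
    · exact Or.inl (cm_eq_one.2 (c1 v ⟨hv, h.mem_M0 (h2 hv) k⟩).symm)
    · exact Or.inr (by rw [← s1 hv k, cm, i1]; group)
  have a2 : z1 * (t * z1 * t⁻¹) ∈ Cs W := fun v hv => by
    by_cases k : v ∈ Ns B
    · exact mul_mem c1 c2 v ⟨hv, h.mem_M0 (h2 hv) k⟩
    · rw [← mul_inv_eq_iff_eq_mul, ← conj_mul, s1 hv k, s2 hv k, hz.comm h]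
  have a3 : n * (z1 * (t * z1 * t⁻¹)) * n⁻¹ = z1 * (t * z1 * t⁻¹) := by
    have k1 : n * (z1 * (t * z1 * t⁻¹)) * n⁻¹ ∈ Cs W := by
      rw [← mem_Ns_iff.1 hn, ← cj_Cs]; exact conj_mem_cjs.2 a2
    have k2 := cj (h1 (mul_mem (hz.mem_U12 hE h) (hz.z2_mem_U12 hE h)))
    have k3 := mul_inv_eq_iff_eq_mul.2 (k1 w hw)
    have k4 := (hz.inf_M0 hE h hF hW h1 h2).ge ⟨k2, mem_Cz.2 (k1 _ (h1 (hz.mem_U12 hE h)))⟩
    rcases hz.cen_U12 hE h k4.2 (isPGroup_iff_is2.1 hW _ k2) (centralizer_le h1 k1) with k | k | k | k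
    · exact absurd (h.inj (by rw [hz.e_eq h, map_one]; simpa using k)) hE.zI.ne
    · rw [k, s1 hw hw'] at k3
      exact absurd (by rw [k3]; exact hz.mem) (hz.z2_notMem hE h)
    · rw [k, s2 hw hw'] at k3
      exact absurd (by rw [← k3]; exact hz.mem) (hz.z2_notMem hE h)
    · exact k
  have e1 : ∀ v, cm (n * z1 * n⁻¹) v = n * cm z1 (n⁻¹ * v * n) * n⁻¹ := fun v => by
    simp only [cm]; group
  have a4 : ∀ v ∈ W, cm (n * z1 * n⁻¹) v = 1 ∨ cm (n * z1 * n⁻¹) v = z1 * (t * z1 * t⁻¹) :=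
    fun v hv => by
      rw [e1, ← a3]
      exact (a1 _ (cj' hv)).imp (fun k => by rw [k]; group) fun k => by rw [k]
  have hy1 := cj (h1 (hz.mem_U12 hE h))
  have a5 : n * z1 * n⁻¹ ∈ Ns B := by_contra fun k => hz.not_le hE fun s hs => by
    obtain ⟨b1, b2, -⟩ := (SQ.mem_Up hE.two).1 hs
    have b3 : n * z1 * n⁻¹ * s * (n * z1 * n⁻¹)⁻¹ ∈ cjs t B :=
      (h.swap (h2 hy1) k).1 ▸ conj_mem_cjs.2 b1
    have b4 : cm (n * z1 * n⁻¹) s = s⁻¹ * (n * z1 * n⁻¹ * s * (n * z1 * n⁻¹)⁻¹) :=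
      (h.cm12 (inv_mem b1) b3).symm
    rw [← inv_mem_iff, mem_zp2 (hz.inv2 hE).1]
    exact (a4 s (h1 (mem_sup_left hs))).imp
      (fun k => (h.comp_eq (inv_mem b1) (one_mem _) b3 (one_mem _) b2.inv is2_one
        (by rw [← b4, k, one_mul])).1)
      fun k => (h.comp_eq (inv_mem b1) hz.mem b3 hy.mem b2.inv hz.is2 (b4 ▸ k)).1
  rcases (hz.cen_of_cm hE h hF hW0 h10 inf_le_right ⟨hy1, h.mem_M0 (h2 hy1) a5⟩
    fun v hv => a4 v (h1 hv)).1 with k | k | k | k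
  · exact absurd (by simpa using k) (hz.inv2 hE).2
  · exact Or.inl k
  · exact Or.inr k
  · rw [← a3, mul_left_inj, mul_right_inj, left_eq_mul] at k
    exact absurd k (hy.inv2 hE).2

/-- The normaliser of `W ≤ M` normalises `W ⊓ M0`. -/
theorem Ns_le (h2 : W ≤ MM t B) : Ns W ≤ Ns (W ⊓ M0 t B) := fun n hn => by
  have e2 := (hz.cj t).inf_M0 hE h.symm hF hW (h.U12_symm S ▸ h1) (h.MM_symm ▸ h2)
  rw [h.M0_symm] at e2
  rw [mem_Ns_iff, hz.inf_M0 hE h hF hW h1 h2, cjs_eq, mp_inf, mp_Cz, ← cjs_eq, mem_Ns_iff.1 hn,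
    MulAut.conj_apply]
  rcases hz.perm hE h hF hW h1 h2 hn with k | k
  · rw [k]
  · rw [k, ← e2, hz.inf_M0 hE h hF hW h1 h2]

end ZL

end H25.SQ
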