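import Cfsg.Agent.H25.SQWr2
import Cfsg.Agent.H86.SAWE

/-! STD-S slot WE (`H25.SQ.JobWE`): the endgame of the wreath case. -/

set_option autoImplicit false
set_option linter.unusedSectionVars false

namespace H25.SQ.WE

open H25.SQ H64.SG Subgroup
open H67.SA (cm mem_cjs conj_mem_cjs card_cjs)
open H86.SAWE (exists_step nor_of)

universe u

variable {X : Type} [Group X] {G : Type u} [Group G] [Finite G] {e : X →* G} {t : G} {B : Subgroup G}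
  {c : Cov X B}

/-- `P` is invariant under the automorphisms that normalise `S`. -/
def Ch (S P : Subgroup X) : Prop := ∀ β : MulAut X, mp β S = S → mp β P = P

theorem mp_eq {S : Subgroup X} (hS : IsPGroup 2 S) {m : G} (h1 : m ∈ Ns B) (h2 : m ∈ Ns (Up c S)) :
    mp (c.ac m) S = S := by
  rw [← im_Up (c := c) (isPGroup_mp _ hS), ← cjs_Up h1, mem_Ns_iff.1 h2, im_Up hS]

/-- A conjugate of `t` in `M` is moved to `t` by an element normalising `B` and `S₁`. -/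
theorem chg (g : GW e t c) {S : Subgroup X} (hS : Syl S ⊤) {s : G} (h1 : s ∈ MM t B)
    (h2 : IsConj t s) : ∃ m ∈ M0 t B, mp (c.ac m) S = S ∧ m * s * m⁻¹ = t := by
  have := c.finite_X
  have w := g.toCW
  obtain ⟨a, rfl⟩ := isConj_iff.1 h2
  have aM := inv_mem (g.uf.uf a h1)
  obtain ⟨m, m1, m2⟩ : ∃ m ∈ M0 t B, m * (a * t * a⁻¹) * m⁻¹ = t := by
    by_cases k : a⁻¹ ∈ Ns B
    · exact ⟨a⁻¹, w.mem_M0 aM k, by group⟩
    · exact ⟨t * a⁻¹, w.mul_mem_M0 w.t_mem aM w.ne k, by group⟩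
  obtain ⟨x, -, hx⟩ := (syl_iff.1 hS).exists_le_cj (isPGroup_mp (c.ac m) hS.2.1) le_top
  have h3 : mp (c.ac m) S = cjs x S := eq_of_le_of_card_ge hx (by rw [card_mp, card_mp])
  refine ⟨e x⁻¹ * m, mul_mem (w.e_M0 _) m1, ?_, ?_⟩
  · rw [c.ac_mul _ (w.e_M0 _).1 _ m1.1, w.ac_e]
    change S.map ((MulAut.conj x⁻¹).toMonoidHom.comp (c.ac m).toMonoidHom) = S
    rw [← map_map]
    change cjs x⁻¹ (mp (c.ac m) S) = S
    rw [h3, ← cjs_mul, inv_mul_cancel, cjs_one]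
  · calc _ = e x⁻¹ * (m * (a * t * a⁻¹) * m⁻¹) * (e x⁻¹)⁻¹ := by group
      _ = t := by rw [m2, w.b1.conj_t]

theorem main (g : GW e t c) {S : Subgroup X} (hS : Syl S ⊤) {W : Subgroup G} (hW : IsPGroup 2 W)
    (WM : W ≤ MM t B) {s b : G} {k : ℕ} (ko : Odd k) (h1 : s ∈ MM t B) (h2 : IsConj t s)
    (h3 : s ∈ Ns W) (h4 : b ∈ Ns W) (h5 : (s * b) ^ k ∈ W)
    (H : ∀ m ∈ M0 t B, (∀ P, Ch S P → m ∈ Ns (Up c P)) → m * s * m⁻¹ = t → IsPGroup 2 (cjs m W) →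
      cjs m W ≤ MM t B → t ∈ Ns (cjs m W) → m * b * m⁻¹ ∈ Ns (cjs m W) →
      (t * (m * b * m⁻¹)) ^ k ∈ cjs m W →
      ∀ o ∈ zpowers (t * (m * b * m⁻¹)), Odd (orderOf o) → o ∈ MM t B) : b ∈ MM t B := by
  obtain ⟨m, m1, m2, m3⟩ := chg g hS h1 h2
  have mM := g.toCW.M0_le m1
  have W' : cjs m W ≤ MM t B := by
    rintro _ ⟨w, hw, rfl⟩
    exact mul_mem (mul_mem mM (WM hw)) (inv_mem mM)
  have k' : (t * (m * b * m⁻¹)) ^ k ∈ cjs m W := by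
    rw [← m3, conj_mul, conj_pow]; exact conj_mem_cjs.2 h5
  obtain ⟨i, j, e1, e2, e3⟩ := exists_two_odd (t * (m * b * m⁻¹))
  have h6 := H m m1 (fun P hP => mem_Ns_Up m1.1 (hP _ m2)) m3 (hW.map _) W'
    (by rw [← m3, ← cj_Ns]; exact conj_mem_cjs.2 h3) (by rw [← cj_Ns]; exact conj_mem_cjs.2 h4) k' _
    (pow_mem (mem_zpowers _) j) e3
  obtain ⟨r, hr⟩ := e2.exists_pow ko
  have h7 : (t * (m * b * m⁻¹)) ^ i ∈ cjs m W := by
    rw [← hr, ← pow_mul _ i k, mul_comm i k, pow_mul]; exact pow_mem (pow_mem k' i) r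
  have h8 := mul_mem (W' h7) h6
  rw [← e1] at h8
  simpa [mul_assoc] using mul_mem (mul_mem (inv_mem mM) (mul_mem (inv_mem g.toCW.t_mem) h8)) mM

theorem U12_le {P : Subgroup X} {W : Subgroup G} {m : G} (h : Up c P ≤ W) (h1 : m ∈ Ns (Up c P))
    (h2 : t ∈ Ns (cjs m W)) : U12 c t P ≤ cjs m W := by
  have h3 : Up c P ≤ cjs m W := by rw [← mem_Ns_iff.1 h1]; exact map_mono h
  exact sup_le h3 (by rw [← mem_Ns_iff.1 h2]; exact map_mono h3)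

theorem jobWE : JobWE.{u} := by
  intro hW1 hW2 X _ G _ _ e t hF B c z S U₁ U₂ hE g hU h3
  have w := g.toCW
  have := c.finite_X
  by_contra hM
  have U1 : U12 c t S ≤ G1 t B := sup_le_sup (Up_le c S) (map_mono (Up_le c S))
  obtain ⟨T, hT, hUT⟩ := H98.exists_isSyl_le (w.isPGroup_U12 hE.two) (U1.trans le_normalizer)
  have T1 : T ⊓ B = Up c S := ZL.inf_eq hE hT.isPGroup (le_sup_left.trans hUT)
  have T2 : T ⊓ cjs t B = cjs t (Up c S) := by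
    rw [← cj_Up]; exact ZL.inf_eq hE hT.isPGroup (by rw [cj_Up]; exact le_sup_right.trans hUT)
  obtain ⟨W, a, b', WS, aS, ta, tb, aW, bW, bM, ⟨k, ko, kW⟩, WT, -, hi, -⟩ :=
    H9.UF.jobK4 g.uf hM T (syl_iff.2 hT)
  have WM := WS.trans hT.le
  have hW := hT.isPGroup.to_le WS
  have hi' : ∀ i ∈ Ns W, i ∉ W → i * i ∈ W → ∃ w ∈ W, IsConj t (i * w) := fun i i1 i2 i3 => by
    obtain ⟨w, w1, m, -, w2⟩ := hi i i1 i2 i3
    exact ⟨w, w1, w2 ▸ ta.trans (H9.UF.conj_cj m a)⟩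
  have chS : Ch S S := fun _ h => h
  have ch2 : Ch S U₂ := hE.st
  have chq : Ch S (sqs U₂) := fun β h => by rw [mp_sqs, ch2 β h]
  have p2 : IsPGroup 2 U₂ := hE.two.to_le hE.lk2.le
  have pq : IsPGroup 2 (sqs U₂) := p2.to_le (sqs_le _)
  have hUW : ¬ Up c S ≤ W := fun h => bM (main g hE.syl hW WM ko (hT.le aS) ta aW bW kW
    fun m _ m2 _ m4 m5 m6 m7 _ o ho => hW1 X G e t hF B c z S U₁ U₂ hE g hU _ o m4 m5
      (U12_le h (m2 S chS) m6) m6 (zpowers_le.2 (mul_mem m6 m7) ho))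
  have U1 : Up c S ≤ T := le_sup_left.trans hUT
  have nS : T ⊓ Ns B ≤ Ns (Up c S) := T1 ▸ H98.le_normalizer_inf (inf_le_left.trans le_normalizer)
    inf_le_right
  by_cases hW1 : W ≤ Ns B
  · obtain ⟨i, i1, i2, i3, i4⟩ := exists_step hT.isPGroup WS U1 ((le_inf WS hW1).trans nS) hUW
    obtain ⟨v, w1, w2⟩ := hi' i i3 i2 i4
    exact g.sw _ (hT.le (mul_mem (U1 i1) (WS w1))) w2 (mul_mem (le_normalizer (Up_le c S i1)) (hW1 w1))
  obtain ⟨w₀, w1, w2⟩ := SetLike.not_le_iff_exists.1 hW1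
  have sw0 := w.swap (WM w1) w2
  -- step (β)
  have beta : ∀ P ≤ S, Ch S P → ¬ Up c P ≤ W →
      ∃ y ∈ Up c P, y ∉ W ∧ y ∈ Ns W ∧ y * y ∈ W := fun P hP hSt hBW => by
    have h1 : W ⊓ Ns B ≤ Ns (Up c P) := fun m hm =>
      mem_Ns_Up hm.2 (hSt _ (mp_eq hE.two hm.2 (nS ⟨WS hm.1, hm.2⟩)))
    obtain ⟨y, y1, y2, y3, y4⟩ := exists_step hT.isPGroup (inf_le_left.trans WS)
      ((Up_mono hP).trans U1) h1 fun h => hBW (h.trans inf_le_left)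
    have yB := Up_le c P y1
    have y6 : w₀ * y⁻¹ * w₀⁻¹ ∈ cjs t B := by
      rw [← sw0.1]; exact conj_mem_cjs.2 (inv_mem yB)
    refine ⟨y, y1, fun h => y2 ⟨h, le_normalizer yB⟩, nor_of (t := t) inf_le_left w1
      ⟨mul_mem w1 w1, (w.sq_mem (WM w1)).1⟩ ?_ (fun v h => ?_) y3 y4 (w.cm12 yB y6) WT hi'
      fun v h h' => ?_, y4.1⟩
    · refine H98.mem_normalizer_of_cj_le ?_
      rintro _ ⟨v, h, rfl⟩
      refine ⟨H98.conj_mem_of_mem_normalizer (le_normalizer w1) h.1, ?_⟩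
      rw [← sw0.2, ← cj_Ns]
      exact conj_mem_cjs.2 (w.mem_M0 (WM h.1) h.2).2
    · by_cases k : v ∈ Ns B
      exacts [Or.inl ⟨h, k⟩, Or.inr (mem_inf.2 ⟨mul_mem h (inv_mem w1), (w.mul_mem_M0 (WM h)
        (inv_mem (WM w1)) k fun k' => w2 (inv_mem_iff.1 k')).1⟩)]
    · have h2 : cm y w₀ ∈ G1 t B := by
        rw [show cm y w₀ = y * (w₀ * y⁻¹ * w₀⁻¹) by unfold cm; group]
        exact mul_mem (mem_sup_left yB) (mem_sup_right y6)
      exact g.sw _ (mul_mem (le_normalizer h2) (WM h.1)) h' (mul_mem (w.G1_le h2).1 h.2)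
  -- the final step
  have fin : ∀ y ∈ Up c S, y ∉ W → y ∈ Ns W → y * y ∈ W →
      (y * y = 1 ∨ 2 < Nat.card ↥(W ⊓ B)) →
      (∀ m ∈ M0 t B, (∀ P, Ch S P → m ∈ Ns (Up c P)) → t ∈ Ns (cjs m W) →
        (m * y * m⁻¹)⁻¹ * t ∈ cjs m W → Cs (cjs m W) ≤ MM t B) → False := by
    intro y y1 y2 y3 y4 y5 hC
    obtain ⟨yB, yi, -⟩ := (mem_Up hE.two).1 y1
    obtain ⟨v, h1, n, n1, h2⟩ := hi _ y3 y2 y4
    have sM : y * v ∈ MM t B := hT.le (mul_mem (U1 y1) (WS h1))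
    have nM := (H9.UF.jobK1 g.uf ta (hT.le aS)).1 n (h2 ▸ sM)
    have h4 := main g hE.syl hW WM ko sM (h2 ▸ ta.trans (H9.UF.conj_cj n a))
      (mul_mem y3 (le_normalizer h1)) (mul_mem (mul_mem n1 bW) (inv_mem n1))
      (by rw [h2, conj_mul, conj_pow]; exact H98.conj_mem_of_mem_normalizer n1 kW)
      fun m m1 m2 m3 m4 m5 m6 m7 m8 o ho oo => by
        have e1 : (m * y * m⁻¹)⁻¹ * t ∈ cjs m W := by
          rw [← m3, show (m * y * m⁻¹)⁻¹ * (m * (y * v) * m⁻¹) = m * v * m⁻¹ by group]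
          exact conj_mem_cjs.2 h1
        refine hC m m1 m2 m6 e1 (hW2 X G e t hF B c g _ _ k (m * y * m⁻¹) m4 m5 m6 m7
          (H9.UF.inv2_conj g.uf.inv (tb.trans ((H9.UF.conj_cj n b').trans (H9.UF.conj_cj m _)))).1
          ko m8 (H98.conj_mem_of_mem_normalizer m1.1 yB) (yi.conj m)
          (by rw [conj_mul]; exact conj_mem_cjs.2 y4) e1
          (y5.imp (fun k => by rw [conj_mul, k]; simp) fun k => ?_) o ho oo)
        rwa [← mem_Ns_iff.1 m1.1, cjs_eq, cjs_eq, ← mp_inf, card_mp]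
    exact bM (by simpa [mul_assoc] using mul_mem (mul_mem (inv_mem nM) h4) nM)
  have qS : sqs U₂ ≤ S := (sqs_le _).trans hE.lk2.le
  by_cases ca : Up c (sqs U₂) ≤ W
  swap
  · obtain ⟨y, y1, y2, y3, y4⟩ := beta _ qS chq ca
    obtain ⟨yB, yi, yq⟩ := (mem_Up pq).1 y1
    have yy := c.sq_of_pi yB yi (hE.el _ yq)
    refine fin y (Up_mono qS y1) y2 y3 y4 (Or.inl yy) fun m m1 _ _ s2 x hx => ?_
    have i2 := H9.UF.inv2_conj ⟨yy, fun h => y2 (h ▸ one_mem _)⟩ (H9.UF.conj_cj m y)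
    refine h3.1 _ (H98.conj_mem_of_mem_normalizer m1.1 yB) i2 (mem_Cz.2 (hx _ ?_))
    rwa [inv_eq_of_mul_eq_one_right i2.1] at s2
  have big : 2 < Nat.card ↥(W ⊓ B) :=
    (card_Up (c := c) pq ▸ hE.big).trans_le (card_le_of_le (le_inf ca (Up_le _ _)))
  by_cases cb : Up c U₂ ≤ W
  swap
  · obtain ⟨y, y1, y2, y3, y4⟩ := beta _ hE.lk2.le ch2 cb
    exact fin y (Up_mono hE.lk2.le y1) y2 y3 y4 (Or.inr big) fun m _ m2 s1 s2 =>
      le_trans (H98.centralizer_anti (sup_le (U12_le ca (m2 _ chq) s1) (zpowers_le.2 s2)))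
        (h3.2 _ (H98.conj_mem_of_mem_normalizer (m2 _ ch2) y1))
  obtain ⟨y, y1, y2, y3, y4⟩ := beta _ le_rfl chS hUW
  exact fin y y1 y2 y3 y4 (Or.inr big) fun m _ m2 s1 _ => le_trans
    (centralizer_le ((w.map_e_le p2).trans (U12_le cb (m2 _ ch2) s1))) (hU _ hE.sc2 hE.lk2)

end H25.SQ.WE
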