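import Cfsg.Agent.H25.SQWr2

/-! STD-S kit, part 4: the halves `h a`, good pairs, transvections. -/

set_option autoImplicit false
set_option linter.unusedSectionVars false

namespace H25.SQ

open H64.SG Subgroup
open H67.SA (cm mem_cjs conj_mem_cjs card_cjs cm_eq_one)

universe u

section Tv

variable {E : Type*} [Group E] [Finite E] (h : ∀ x : E, x * x = 1)
include h

theorem comm_of_sq (a b : E) : a * b = b * a := El.comm (A := ⊤) (fun a _ => h a) trivial trivial

/-- A hyperplane through `C` missing `a`. -/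
theorem exists_hyp {C : Subgroup E} {a : E} (ha : a ∉ C) :
    ∃ M : Subgroup E, C ≤ M ∧ a ∉ M ∧ ∀ x, x ∈ M ∨ x * a ∈ M := by
  obtain ⟨M, h1, h2, h3⟩ := Finite.exists_le_maximal (p := fun M : Subgroup E => a ∉ M) ha
  refine ⟨M, h1, h2, fun x => or_iff_not_imp_left.2 fun hx => ?_⟩
  have : a ∈ M ⊔ zpowers x := by_contra fun k =>
    hx (h3 k le_sup_left (mem_sup_right (mem_zpowers x)))
  obtain ⟨m, hm, y, hy, rfl⟩ := (H98.mem_sup_right_norm (fun y _ => mem_normalizer_iff.2 fun m => by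
    rw [comm_of_sq h y m, mul_inv_cancel_right])).1 this
  rcases (mem_zp2 (h x)).1 hy with rfl | rfl
  · exact absurd (by simpa using hm) h2
  · rwa [comm_of_sq h m y, ← mul_assoc, h, one_mul]

/-- The transvection with axis `M` and centre `c`. -/
theorem exists_tv {M : Subgroup E} {a c : E} (hc : c ∈ M) (hM : ∀ x, x ∈ M ∨ x * a ∈ M) :
    ∃ φ : MulAut E, (∀ x ∈ M, φ x = x) ∧ ∀ x ∉ M, φ x = x * c := by
  classical
  have k1 : ∀ {x y}, x ∉ M → y ∉ M → x * y ∈ M := fun {x y} hx hy => by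
    have := mul_mem ((hM x).resolve_left hx) ((hM y).resolve_left hy)
    rwa [comm_of_sq h y a, mul_assoc, ← mul_assoc a, h, one_mul] at this
  let f : E →* E := MonoidHom.mk' (fun x => if x ∈ M then x else x * c) fun x y => by
    by_cases hx : x ∈ M <;> by_cases hy : y ∈ M
    · simp only [hx, hy, mul_mem hx hy, if_true]
    · simp only [hx, hy, (mul_mem_cancel_left hx).not.2 hy, if_true, if_false, mul_assoc]
    · simp only [hx, hy, (mul_mem_cancel_right hy).not.2 hx, if_true, if_false, mul_assoc,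
        comm_of_sq h y c]
    · simp only [hx, hy, k1 hx hy, if_true, if_false]
      rw [comm_of_sq h y c, mul_assoc, ← mul_assoc c, h, one_mul]
  have f1 : ∀ x ∈ M, f x = x := fun x hx => if_pos hx
  have f2 : ∀ x ∉ M, f x = x * c := fun x hx => if_neg hx
  have f3 : ∀ x, f (f x) = x := fun x => by
    by_cases hx : x ∈ M
    · rw [f1 x hx, f1 x hx]
    · rw [f2 x hx, f2 _ ((mul_mem_cancel_right hc).not.2 hx), mul_assoc, h, mul_one]
  exact ⟨MonoidHom.toMulEquiv f f (MonoidHom.ext f3) (MonoidHom.ext f3), f1, f2⟩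

theorem exists_aut {a b : E} (ha : a ≠ 1) (hb : b ≠ 1) : ∃ φ : MulAut E, φ a = b := by
  obtain ⟨M, h1, h2, h3⟩ := exists_hyp h (C := zpowers (a * b)) (a := a) fun k => by
    rcases (mem_zp2 (h _)).1 k with k | k
    exacts [ha k, hb (left_eq_mul.1 k)]
  obtain ⟨φ, -, k⟩ := exists_tv h (h1 (mem_zpowers _)) h3
  exact ⟨φ, by rw [k a h2, ← mul_assoc, h, one_mul]⟩

end Tv

variable {X : Type} [Group X] {G : Type u} [Group G] {e : X →* G} {t : G} {h : X → G}
  {a b c z : X}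

/-- The halves exist. -/
theorem mkHC (hF : F0 X) (hB : B1 e t) {O : Subgroup G} (hA : AB e t O) (hz : I z) {w : G}
    (hw : Hf e t O z w) : ∃ h, HC e t h ∧ ∀ g, h (g * z * g⁻¹) = e g * w * (e g)⁻¹ := by
  classical
  let h : X → G := fun a => if k : ∃ g, g * z * g⁻¹ = a then e k.choose * w * (e k.choose)⁻¹ else 1
  have h1 : ∀ g, h (g * z * g⁻¹) = e g * w * (e g)⁻¹ := fun g => by
    have k : ∃ g', g' * z * g'⁻¹ = g * z * g⁻¹ := ⟨g, rfl⟩
    have k1 := k.choose_spec
    have k2 := mem_Cs_map.1 hw.2.2.1 (g⁻¹ * k.choose) (mem_Cz.2 (by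
      generalize k.choose = g' at k1
      rw [show g⁻¹ * g' * z = g⁻¹ * (g' * z * g'⁻¹) * g' by group, k1]; group))
    rw [show h _ = _ from dif_pos k, show k.choose = g * (g⁻¹ * k.choose) by group, map_mul,
      mul_assoc (e g), k2]
    group
  have h2 : ∀ a, I a → ∃ g, a = g * z * g⁻¹ := fun a ha =>
    (isConj_iff.1 (hF.one z a hz ha)).imp fun _ => Eq.symm
  refine ⟨h, ⟨hB, fun a ha => ?_, fun a ha => ?_, fun a g ha => ?_, fun k k1 k2 _ => ?_⟩, h1⟩
  · obtain ⟨g, rfl⟩ := h2 a ha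
    rw [h1, conj_mul, hw.1, mul_one, mul_inv_cancel]
  · obtain ⟨g, rfl⟩ := h2 a ha
    rw [h1, ← hB.conj_t g, conj_mul, conj_mul, hw.2.1, map_mul, map_mul, map_inv, conj_mul]
  · obtain ⟨g', rfl⟩ := h2 a ha
    rw [h1, show g * (g' * z * g'⁻¹) * g⁻¹ = g * g' * z * (g * g')⁻¹ by group, h1, map_mul]; group
  · have key : ∀ o ∈ O, Odd (orderOf o) ∧ ∀ a, I a → Commute o (h a) := fun o ho =>
      ⟨odd_orderOf_of_mem hA.odd ho, fun a ha => by
        obtain ⟨g, rfl⟩ := h2 a ha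
        have c1 : Commute o (e g) := (mem_Cs_range.1 (hA.le ho).1 g).symm
        rw [h1]
        exact (c1.mul_right (hw.2.2.2 o ho)).mul_right c1.inv_right⟩
    rcases hA.ko k k2 k1 with k3 | k3
    · exact ⟨k, (key _ k3).1, (key _ k3).2, Or.inl rfl⟩
    · exact ⟨_, (key _ k3).1, (key _ k3).2, Or.inr (by
        rw [← mul_assoc, mem_Cz.1 k1, mul_assoc, hB.tt, mul_one])⟩

/-- The group generated by `A`, the halves and `t`. -/
abbrev HH (e : X →* G) (t : G) (h : X → G) : Subgroup G :=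
  closure (Set.range e ∪ h '' {a | I a} ∪ {t})

theorem e_mem_HH (x : X) : e x ∈ HH e t h := subset_closure (Or.inl (Or.inl ⟨x, rfl⟩))
theorem h_mem_HH (ha : I a) : h a ∈ HH e t h := subset_closure (Or.inl (Or.inr ⟨a, ha, rfl⟩))
theorem t_mem_HH : t ∈ HH e t h := subset_closure (Or.inr rfl)

namespace HC

variable (H : HC e t h)
include H

theorem inv_h (ha : I a) : (h a)⁻¹ = h a := inv_eq_of_mul_eq_one_right (H.sq a ha)
/-- `h a` commutes with `e C(a)`. -/
theorem comm (ha : I a) {g : X} (hg : g * a = a * g) : e g * h a = h a * e g := by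
  have := H.eqv a g ha
  rw [hg, mul_inv_cancel_right] at this
  exact mul_inv_eq_iff_eq_mul.1 this.symm
theorem mem_Cs (ha : I a) : h a ∈ Cs ((Cz a).map e) :=
  mem_Cs_map.2 fun _ hg => H.comm ha (mem_Cz.1 hg).symm
theorem e_mul (ha : I a) (g : X) : e g * h a = h (g * a * g⁻¹) * e g := by
  rw [H.eqv a g ha, inv_mul_cancel_right]
theorem tht (ha : I a) : t * h a * t = h a * e a := by
  have h1 : t * h a * t * h a = e a := by
    rw [mul_assoc t, mul_assoc t, H.ht a ha, ← mul_assoc, H.toB1.tt, one_mul]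
  rw [← H.comm ha rfl, ← h1, mul_assoc _ (h a) (h a), H.sq a ha, mul_one]
theorem conj_t (ha : I a) : t * h a * t⁻¹ = h a * e a := by rw [H.toB1.inv_eq, H.tht ha]
theorem t_mul (ha : I a) : t * h a = h a * e a * t := by rw [← H.conj_t ha, inv_mul_cancel_right]
theorem h_ne (ha : I a) : h a ≠ 1 := fun k => by
  have := H.tht ha
  rw [k, mul_one, one_mul, H.toB1.tt] at this
  exact ha.ne (H.inj (by rw [← this, map_one]))

/-- An element of `C(t) ⊓ HH` acting as `v`. -/
theorem split {x : G} (hx : x ∈ HH e t h) (ht : x ∈ Cz t) {v : X} (hv : Ind e x (MulAut.conj v)) :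
    ∃ o, Odd (orderOf o) ∧ (∀ a, I a → Commute o (h a)) ∧ o ∈ Cs e.range ∧ o ∈ Cz t ∧
      (x = o * e v ∨ x = t * o * e v) := by
  have k1 := ind_conj_iff.1 hv
  have k2 := mul_mem ht (inv_mem (H.toB1.mem_Cz v))
  obtain ⟨o, h1, h2, h3⟩ := H.ker _ k2 k1 (mul_mem hx (inv_mem (e_mem_HH v)))
  refine ⟨o, h1, h2, ?_, ?_, h3.imp eq_mul_of_mul_inv_eq eq_mul_of_mul_inv_eq⟩
  · rcases h3 with k | k
    exacts [k ▸ k1, (mul_mem_cancel_left H.cen).1 (k ▸ k1)]
  · rcases h3 with k | k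
    exacts [k ▸ k2, (mul_mem_cancel_left (mem_Cz.2 rfl)).1 (k ▸ k2)]

theorem gd_iff (hb : I b) : Gd e h a b ↔ Commute (h a) (t * h b * t⁻¹) := by
  rw [Gd, H.conj_t hb]

theorem gd_symm (ha : I a) (hb : I b) (k : Gd e h a b) : Gd e h b a := by
  have := ((H.gd_iff hb).1 k).conj t
  rw [H99.Wr.tt_conj H.toB1.tt] at this
  exact (H.gd_iff ha).2 this.symm

theorem gd_conj (ha : I a) (hb : I b) (k : Gd e h a b) (g : X) :
    Gd e h (g * a * g⁻¹) (g * b * g⁻¹) := by
  rw [Gd, H.eqv a g ha, H.eqv b g hb, map_mul, map_mul, map_inv, conj_mul]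
  exact Commute.conj k (e g)

theorem gd_self (ha : I a) : Gd e h a a := (Commute.refl _).mul_right (H.comm ha rfl).symm

theorem gd_close (hb : I b) (hc : I c) (k1 : Gd e h a b) (k2 : Gd e h a c) (k3 : Gd e h b c) :
    Gd e h a (b * c * b⁻¹) := by
  have e1 : e b = h b * e b * h b := by rw [mul_assoc, H.comm hb rfl, ← mul_assoc, H.sq b hb, one_mul]
  have e2 : h (b * c * b⁻¹) * e (b * c * b⁻¹) = h b * e b * (h c * e c) * (h b * e b)⁻¹ := by
    rw [H.eqv c b hc, map_mul, map_mul, map_inv, conj_mul]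
    conv_lhs => rw [e1, mul_assoc _ (h b), k3.eq]
    group
  rw [Gd, e2]
  exact (Commute.mul_right k1 k2).mul_right (Commute.inv_right k1)

/-- For commuting `a, b`: good means that the halves commute. -/
theorem gd_iff_comm (ha : I a) (hab : a * b = b * a) : Gd e h a b ↔ h a * h b = h b * h a := by
  rw [Gd, commute_iff_eq, mul_assoc, H.comm ha hab.symm, ← mul_assoc, ← mul_assoc, mul_left_inj]

/-- For `[a, b] = z` -/
theorem gd_iff_sp (ha : I a) (hb : I b) (k : b * a * b⁻¹ = z * a) (hp : h (z * a) = h z * h a)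
    (hc : h z * h b = h b * h z) : Gd e h a b ↔ cm (h a) (h b) = h z := by
  rw [Gd, commute_iff_eq, mul_assoc (h b), H.e_mul ha, k, hp, ← mul_assoc, ← mul_assoc, mul_left_inj,
    ← mul_assoc, ← hc, cm, mul_inv_eq_iff_eq_mul, mul_inv_eq_iff_eq_mul]

end HC

namespace HP

variable {Ln : X → X → Prop} (H : HP Ln e t h)
include H

theorem comm (hz : I z) (ha : I a) (l : Ln z a) : h z * h a = h a * h z := by
  obtain ⟨k1, -, k2⟩ := H.pf z a l
  have := H.toHC.inv_h k1
  rwa [k2, mul_inv_rev, H.toHC.inv_h hz, H.toHC.inv_h ha, eq_comm] at this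

end HP

end H25.SQ
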