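/- Tower SQ: the product formula on lines (port of `H24/STPF`) and Lemma G. -/
import Cfsg.Agent.H25.SQHc

set_option autoImplicit false

namespace H25.SQ.PF

open H25.SQ H64.SG Subgroup
open H67.SA (cm)

universe u

variable {X : Type} [Group X] {G : Type u} [Group G] {e : X →* G} {t : G} {h : X → G} {x y z f : X}

theorem tri (H : HC e t h) (hx : I x) (hy : I y) (hxy : I (x * y)) (c : x * y = y * x) :
    h x * h y * h (x * y) ∈ Cz t ∧ ∃ β, Ind e (h x * h y * h (x * y)) β ∧ Cz x ⊓ Cz y ≤ fx β := by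
  have h1 : h x * h y * h (x * y) ∈ Cz t := mem_Cz.2 (mul_inv_eq_iff_eq_mul.1 (by
    rw [← conj_mul, ← conj_mul, H.conj_t hx, H.conj_t hy, H.conj_t hxy]
    calc _ = h x * (e x * h y) * e y * h (x * y) * e (x * y) := by group
      _ = h x * h y * (e (x * y) * h (x * y)) * e (x * y) := by rw [H.comm hy c, map_mul]; group
      _ = _ := by rw [H.comm hxy rfl, mul_assoc, mul_assoc (h _) (e _), ← map_mul, hxy.sq, map_one,
        mul_one]))
  obtain ⟨β, hβ⟩ := H.toB1.ind h1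
  refine ⟨h1, β, hβ, hβ.le_fx H.inj (mul_mem (mul_mem ?_ ?_) ?_)⟩
  · exact centralizer_le (map_mono inf_le_left) (H.mem_Cs hx)
  · exact centralizer_le (map_mono inf_le_right) (H.mem_Cs hy)
  · refine centralizer_le (map_mono fun g hg => mem_Cz.2 ?_) (H.mem_Cs hxy)
    rw [mul_assoc, mem_Cz.1 hg.2, ← mul_assoc, mem_Cz.1 hg.1, mul_assoc]

theorem four_cases (hz : z * z = 1) (hf : f * f = 1) (c : z * f = f * z) {v : X}
    (hv : v ∈ closure {z, f}) : v = 1 ∨ v = z ∨ v = f ∨ v = z * f := by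
  have h1 : ∀ a, z * (z * a) = a := fun a => by rw [← mul_assoc, hz, one_mul]
  have h2 : ∀ a, f * (z * a) = z * (f * a) := fun a => by rw [← mul_assoc, ← c, mul_assoc]
  induction hv using closure_induction_left with
  | one => exact .inl rfl
  | mul_left a ha b _ ih =>
    rcases ha with rfl | rfl <;> rcases ih with rfl | rfl | rfl | rfl <;> simp [h1, h2, hz, hf, ← c]
  | inv_mul_cancel a ha b _ ih =>
    rcases ha with rfl | rfl <;> rcases ih with rfl | rfl | rfl | rfl <;>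
      simp [h1, h2, hz, hf, ← c, inv_eq_of_mul_eq_one_right hz, inv_eq_of_mul_eq_one_right hf]

theorem eq_one_of_four {o : G} (h1 : Odd (orderOf o)) (h2 : o * o * (o * o) = 1) : o = 1 :=
  Is2.eq_one ⟨2, by rw [← h2]; simp [pow_succ, mul_assoc]⟩ h1

/-- The two possibilities for `h (z f)`. -/
theorem lh_or (H : HC e t h) (L : LC z f) : h (z * f) = h z * h f ∨
    h (z * f) = h f * h z * t * e f ∧ h z * h f * (h z * h f) = e (z * f) := by
  obtain ⟨hz, hf, hne, -⟩ := id L.ln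
  have c := mem_Cz.1 L.ln.mem
  obtain ⟨ρ, r1, r2⟩ := L.rot
  have hzf : I (z * f) := r2 ▸ hf.conj ρ
  have r3 : ρ * (z * f) * ρ⁻¹ = z := by
    rw [← conj_mul, r1, r2, c, ← mul_assoc, hf.sq, one_mul]
  obtain ⟨h1, β, h2, h3⟩ := tri H hz hf hzf c
  obtain ⟨v, hv, rfl⟩ := L.cV β h3
  replace hv := four_cases hz.sq hf.sq c hv
  have v0 : v * v = 1 := by rcases hv with rfl | rfl | rfl | rfl <;> simp [hz.sq, hf.sq, hzf.sq]
  have v1 : v * z = z * v := by rcases hv with rfl | rfl | rfl | rfl <;> simp [c, ← mul_assoc]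
  have v2 : v * f = f * v := by rcases hv with rfl | rfl | rfl | rfl <;> simp [← c, ← mul_assoc]
  have v3 : v * (z * f) = z * f * v := by rw [← mul_assoc, v1, mul_assoc, v2, mul_assoc]
  have h4 : e ρ * (h z * h f * h (z * f)) * (e ρ)⁻¹ = h z * (h z * h f * h (z * f)) * h z := by
    rw [← conj_mul, ← conj_mul, ← H.eqv _ _ hz, ← H.eqv _ _ hf, ← H.eqv _ _ hzf, r1, r2, r3,
      ← mul_assoc, ← mul_assoc, H.sq z hz, one_mul]
  obtain ⟨o, o1, o2, o3, o4, k⟩ := H.split (mul_mem (mul_mem (h_mem_HH hz) (h_mem_HH hf))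
    (h_mem_HH hzf)) h1 h2
  have o5 : ∀ w, Commute (e w) o := mem_Cs_range.1 o3
  have key : ∀ s w, h z * h f * h (z * f) = s * (o * e v) → Commute s (o * e v) →
      s * h (z * f) * (s * h (z * f)) = e w → w * w = 1 → w * z = z * w →
      o = 1 ∧ h z * h f * (h z * h f) = e w := fun s w k1 k2 k3 k4 k5 => by
    have h5 : h z * h f * (h z * h f) = o * o * e w := by
      rw [← mul_inv_cancel_right (h z * h f) (h (z * f)), H.inv_h hzf, k1, k2.eq, mul_assoc _ s,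
        (k2.mul_left ((o2 _ hzf).mul_left (H.comm hzf v3)).symm).mul_mul_mul_comm, k3,
        (o5 v).mul_mul_mul_comm, ← map_mul, v0, map_one, mul_one]
    have h6 : h z * (h z * h f * (h z * h f)) * h z * (h z * h f * (h z * h f)) = 1 := by
      simp only [← mul_assoc, H.sq z hz, one_mul, mul_assoc _ (h z) (h z), mul_one,
        mul_assoc _ (h f) (h f), H.sq f hf]
    rw [h5, ← (((o2 z hz).mul_left (o2 z hz)).mul_left (H.comm hz k5)).eq, mul_assoc _ (h z) (h z),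
      H.sq z hz, mul_one, ((o5 w).mul_right (o5 w)).mul_mul_mul_comm, ← map_mul, k4, map_one,
      mul_one] at h6
    obtain rfl := eq_one_of_four o1 h6
    exact ⟨rfl, by rw [h5, one_mul, one_mul]⟩
  rcases k with k | k
  · obtain ⟨rfl, h7⟩ := key 1 1 (by rwa [one_mul]) (.one_left _)
      (by rw [one_mul, H.sq _ hzf, map_one]) (mul_one 1) (by simp)
    rw [k, one_mul, ← H.comm hz v1, mul_assoc (e v), H.sq z hz, mul_one, ← map_inv, ← map_mul,
      ← map_mul, H.inj.eq_iff] at h4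
    obtain rfl : v = 1 := by
      rcases hv with rfl | rfl | rfl | rfl
      · rfl
      · exact absurd (r1.symm.trans h4) hne
      · exact absurd (mul_eq_right.1 (r2.symm.trans h4)) hz.ne
      · exact absurd (mul_eq_left.1 (h4.symm.trans r3)) hf.ne
    exact .inl (mul_left_cancel (k.trans ((one_mul _).trans h7.symm)))
  obtain ⟨rfl, h7⟩ := key t (z * f) (by rwa [← mul_assoc t])
    (Commute.mul_right (mem_Cz.1 o4) (H.toB1.comm v)) (by
      rw [← mul_assoc, H.tht hzf, mul_assoc, H.comm hzf rfl, ← mul_assoc, H.sq _ hzf, one_mul])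
    hzf.sq (by rw [mul_assoc, c])
  rw [mul_one] at k
  rw [k, mul_assoc (h z), mul_assoc t, H.comm hz v1, ← mul_assoc, ← mul_assoc, ← mul_assoc,
    H.ht z hz, ← H.toB1.comm, mul_assoc t, mul_assoc t, mul_assoc t, mul_right_inj, ← map_inv,
    ← map_mul, ← map_mul, ← map_mul, H.inj.eq_iff] at h4
  obtain rfl : v = f := by
    rcases hv with rfl | rfl | rfl | rfl
    · exact absurd (by simpa using h4.symm) hz.ne
    · exact absurd (r1.symm.trans (h4.trans hz.sq)) hf.ne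
    · rfl
    · rw [r3, ← mul_assoc, hz.sq, one_mul] at h4
      exact absurd h4.symm hne
  refine .inr ⟨?_, h7⟩
  rw [mul_assoc _ t, ← k]
  simp only [← mul_assoc, mul_assoc _ (h z) (h z), H.sq z hz, H.sq _ hf, mul_one, one_mul]

/-- All lines are conjugate. -/
theorem line_conj (hF : F0 X) (L : LC z f) {a b : X} (l : Lc a b) :
    ∃ g, a = g * z * g⁻¹ ∧ b = g * f * g⁻¹ := by
  obtain ⟨g, hg⟩ := isConj_iff.1 (hF.one a z l.1 L.ln.1)
  obtain ⟨x, hx, hf⟩ := L.rep _ (hg ▸ l.conj g)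
  exact ⟨g⁻¹ * x, by rw [mul_assoc g⁻¹, ← mem_Cz.1 hx, ← hg]; group, by
    rw [mul_inv_rev, mul_assoc g⁻¹, mul_assoc g⁻¹, ← mul_assoc _ x⁻¹, ← hf]; group⟩

theorem cV (hF : F0 X) (L : LC z f) {a b : X} (l : Lc a b) (β : MulAut X) (k : Cz a ⊓ Cz b ≤ fx β) :
    ∃ v ∈ closure {a, b}, β = MulAut.conj v := by
  obtain ⟨g, rfl, rfl⟩ := line_conj hF L l
  obtain ⟨v, hv, e⟩ := L.cV ((MulAut.conj g)⁻¹ * β * (MulAut.conj g)⁻¹⁻¹) (by
    rw [← mp_fx, ← mp_le (MulAut.conj g), mp_inf, mp_Cz, mp_Cz]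
    exact k.trans (mp_symm' (MulAut.conj g) _).ge)
  refine ⟨g * v * g⁻¹, ?_, ?_⟩
  · have := (map_mem_mp (MulAut.conj g)).2 hv
    rwa [mp_closure, Set.image_pair] at this
  · rw [map_mul, map_mul, map_inv, ← e]; group

theorem lh (hF : F0 X) (H : HC e t h) (L : LC z f) : h (z * f) = h z * h f := by
  refine (lh_or H L).resolve_right fun ⟨k1, k2⟩ => ?_
  obtain ⟨hz, hf, hne, -⟩ := id L.ln
  obtain ⟨ρ, -, r2⟩ := L.rot
  have key : ∀ w, (∃ x ∈ Cz z, w = x * f * x⁻¹) → I w ∧ w ≠ z ∧ z * w = w * z ∧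
      h (z * w) = h w * h z * t * e w ∧ h z * h w * h z = e (z * w) * h w := by
    rintro _ ⟨x, hx, rfl⟩
    have h1 : x * z * x⁻¹ = z := by rw [← mem_Cz.1 hx, mul_inv_cancel_right]
    have h2 : e x * h z * (e x)⁻¹ = h z := by rw [← H.eqv _ _ hz, h1]
    have h3 := L.ln.conj x
    rw [h1] at h3
    refine ⟨h3.2.1, h3.2.2.1, mem_Cz.1 h3.mem, ?_, ?_⟩
    · conv_lhs => rw [← h1, conj_mul, H.eqv _ _ (r2 ▸ hf.conj ρ), k1]
      rw [← conj_mul, ← conj_mul, ← conj_mul, h2, H.toB1.conj_t, H.eqv _ _ hf, map_mul, map_mul,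
        map_inv]
    · rw [← H.inv_h h3.2.1, eq_mul_inv_iff_mul_eq, H.inv_h h3.2.1, H.eqv _ _ hf]
      conv_rhs => rw [← h1, conj_mul, map_mul, map_mul, map_inv, ← k2]
      conv_lhs => rw [← h2]
      group
  obtain ⟨w₁, w₂, q, a1, a2, a3, a4, a5, a6⟩ := L.p2
  obtain ⟨b1, -, b3, b4, -⟩ := key _ (L.rep _ a1)
  obtain ⟨c1, -, c3, c4, c5⟩ := key _ (L.rep _ a2)
  obtain ⟨d1, d2, -⟩ := key _ (L.rep _ a3)
  have c : w₁ * w₂ = w₂ * w₁ := by
    rw [← inv_eq_of_mul_eq_one_right d1.sq, mul_inv_rev, inv_eq_of_mul_eq_one_right b1.sq,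
      inv_eq_of_mul_eq_one_right c1.sq]
  obtain ⟨-, β, h2, h3⟩ := tri H b1 c1 d1 c
  obtain ⟨g, hg, rfl⟩ := cV hF L ⟨b1, c1, fun k => d1.ne (by rw [k, b1.sq]), c⟩ β h3
  have h4 : cm q g ∈ zpowers z := by
    rcases four_cases b1.sq c1.sq c hg with rfl | rfl | rfl | rfl
    · simp [cm]
    · rw [cm, a5, mul_inv_cancel_right]; exact mem_zpowers z
    · rw [cm, a6, mul_inv_cancel_right]; exact mem_zpowers z
    · rw [cm, ← conj_mul, a5, a6, b3, mul_assoc w₁, ← mul_assoc z, hz.sq, one_mul, mul_inv_cancel]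
      exact one_mem _
  have h5 : e q * (h w₁ * h w₂ * h (w₁ * w₂)) * (e q)⁻¹ =
      e (w₁ * w₂) * (h w₁ * h w₂ * h (w₁ * w₂)) := by
    have h6 : q * (w₁ * w₂) * q⁻¹ = w₁ * w₂ := by
      rw [← conj_mul, a5, a6, b3, mul_assoc, ← mul_assoc z, hz.sq, one_mul]
    have h7 : h z * t * h w₂ * h z * t = h w₂ := by
      rw [mul_assoc _ t, H.t_mul c1, mul_assoc _ (h z), mul_assoc, mul_assoc _ t, ← mul_assoc t,
        H.tht hz, mul_assoc (h w₂), ← mul_assoc (e w₂), H.comm hz c3.symm, ← mul_assoc,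
        ← mul_assoc, ← mul_assoc, c5, mul_assoc _ (e w₂), ← map_mul, ← c3,
        H.comm c1 (by rw [mul_assoc, ← mul_assoc w₂, ← c3, mul_assoc]), mul_assoc, ← map_mul,
        (show Commute w₂ z from c3.symm).mul_mul_mul_comm, hz.sq, c1.sq, one_mul, map_one, mul_one]
    rw [← conj_mul, ← conj_mul, ← H.eqv _ _ b1, ← H.eqv _ _ c1, ← H.eqv _ _ d1, a5, a6, h6, b4, c4]
    calc _ = h w₁ * (h z * (t * e w₁)) * h w₂ * h z * t * e w₂ * h (w₁ * w₂) := by group
      _ = e w₁ * h w₁ * (h z * t * h w₂ * h z * t) * e w₂ * h (w₁ * w₂) := by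
        rw [H.toB1.comm, ← mul_assoc (h z), ← H.comm hz b3.symm, H.comm b1 rfl]; group
      _ = _ := by
        rw [h7, mul_assoc _ (h w₂), ← H.comm c1 rfl, map_mul e w₁, mul_assoc (e w₁) (h w₁),
          ← mul_assoc (h w₁), ← H.comm b1 c.symm]
        group
  have h6 := mem_Cs_range.1 (ind_conj_iff.1 h2)
  generalize h w₁ * h w₂ * h (w₁ * w₂) = p at h5 h6
  obtain ⟨k, rfl⟩ : ∃ k, p = k * e g := ⟨p * (e g)⁻¹, by group⟩
  rw [mul_inv_cancel_right] at h6
  rw [← mul_assoc, h6, ← mul_assoc, h6, mul_assoc k, mul_assoc k, mul_assoc k, mul_right_inj,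
    ← map_inv, ← map_mul, ← map_mul, ← map_mul, H.inj.eq_iff, ← mul_inv_eq_iff_eq_mul] at h5
  rw [show cm q g = _ from h5] at h4
  exact ((H99.Wr.mem_zpowers_sq hz.sq).1 h4).elim d1.ne d2

theorem jobPF : JobPF.{u} := by
  rintro X _ G _ _ e t hF z f L h H
  refine ⟨H, fun a b l => ?_⟩
  obtain ⟨g, rfl, rfl⟩ := line_conj hF L l
  obtain ⟨ρ, -, r2⟩ := L.rot
  have h1 : I (z * f) := r2 ▸ L.ln.2.1.conj ρ
  refine ⟨by rw [conj_mul]; exact h1.conj _, l.2.2.2, ?_⟩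
  rw [conj_mul, H.eqv _ _ h1, H.eqv _ _ L.ln.1, H.eqv _ _ L.ln.2.1, conj_mul, lh hF H L]

/-- Lemma G. -/
theorem lemG (H : HP Lc e t h) {d u : X} (l : LG d u) : Gd e h d u := by
  obtain ⟨r, c, p1, p2, p3, p4, p5, p6⟩ := l
  generalize hv : u * d * u⁻¹ = v at p5 p6
  have k : r * d * (u * c) = r * u * (v * c) := by
    rw [← hv, inv_eq_of_mul_eq_one_right p1.2.1.sq]
    simp only [mul_assoc]
    rw [← mul_assoc u u, p1.2.1.sq, one_mul]
  have k1 := (H.pf _ _ p4).2.2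
  rw [k, (H.pf _ _ p5).2.2, (H.pf _ _ p1).2.2, (H.pf _ _ p6).2.2, (H.pf _ _ p2).2.2,
    (H.pf _ _ p3).2.2, mul_assoc, mul_assoc, mul_right_inj, ← mul_assoc, ← mul_assoc,
    mul_left_inj] at k1
  rw [Gd, commute_iff_eq, mul_assoc, H.toHC.e_mul p2.2.1, hv, ← mul_assoc, ← mul_assoc, k1]

theorem jobG : JobG.{u} := by
  rintro X _ G _ _ e t - ⟨D, d1, d2, d3⟩ h H
  refine ⟨D, d1, d2, fun a ha b hb => ?_⟩
  rcases d3 a ha b hb with rfl | l | l | l
  · exact H.toHC.gd_self (d1 a ha)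
  · exact (H.toHC.gd_iff_comm l.1 l.2.2.2).2 (H.comm l.1 l.2.1 l)
  · exact lemG H l
  · exact H.toHC.gd_symm (d1 b hb) (d1 a ha) (lemG H l)

end H25.SQ.PF
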