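import Cfsg.Agent.H25.STMain
import Cfsg.Agent.H23.ST0a
import Cfsg.Agent.H52.ST0b
import Cfsg.Agent.H44.STAB
import Cfsg.Agent.H44.STJ1
import Cfsg.Agent.H47.STB
import Cfsg.Agent.H66.STT1
import Cfsg.Agent.H24.STT2
import Cfsg.Agent.H47.STCU
import Cfsg.Agent.H18.STW1
import Cfsg.Agent.H81.STW3
import Cfsg.Agent.H81.STWE
import Cfsg.Agent.H89.STH2
import Cfsg.Agent.H24.STPF
import Cfsg.Agent.H23.STO1
import Cfsg.Agent.H89.STO2

/-! STD-S: the ambient slots, assembled. -/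

set_option autoImplicit false

namespace H25.ST

universe u

theorem jobs : Jobs.{u} :=
  ⟨H23.ST.job0a, H52.ST0b.job0b, H44.STAB.jobAB, H44.STJ1.job1, H47.ST.jobB, H66.STS.jobT1,
    H24.ST.jobT2, H47.ST.jobCU, H18.STW1.jobW1, H66.STS.jobW2, H81.ST3.jobW3, H81.STE.jobWE⟩

variable {X : Type} [Group X] {G : Type u} [Group G] [Finite G]

/-- No standard subgroup `X`, for `X` of the type of `He`, `Suz`. -/
theorem no_pk2 (P : Pk2.{u} X) (hG : H99.Wr.AS G) {A : Subgroup G} (hA : Cfsg.IsStandardSubgroup A) :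
    ¬ Nonempty (A ≃* X) := not_pk2 jobs H89.ST.jobH2 H24.ST.jobPF P hG hA

/-- No standard subgroup `X`, for `X` of the type of `ON`. -/
theorem no_pk3 (P : Pk3.{u} X) (hG : H99.Wr.AS G) {A : Subgroup G} (hA : Cfsg.IsStandardSubgroup A) :
    ¬ Nonempty (A ≃* X) := not_pk3 jobs H23.ST.jobO1 H89.ST.jobO2 P hG hA

end H25.ST
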