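import Cfsg.Agent.H25.SQ0b
import Cfsg.Agent.H25.SQPF
import Cfsg.Agent.H25.SQMain
import Cfsg.Agent.H25.SQExt
import Cfsg.Agent.H25.STAmb
import Cfsg.Agent.H44.SQa
import Cfsg.Agent.H17.SQDQ
import Cfsg.Agent.H52.SQDA
import Cfsg.Agent.S2048

/-! Tower SQ: the assembly of the ambient slots. -/

set_option autoImplicit false

namespace H25.SQ

open H64.SG Subgroup

universe u

variable {X Y : Type} [Group X] [Group Y] {G : Type u} [Group G] [Finite G]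

/-- No standard subgroup `X`, for `X` of the type of `Co₃`. -/
theorem no_pkC (P : PkC X) (hG : H99.Wr.AS G) {A : Subgroup G} (hA : Cfsg.IsStandardSubgroup A) :
    ¬ Nonempty (A ≃* X) := fun k => by
  obtain ⟨e, hi, rfl⟩ := H25.ST.exists_emb k
  obtain ⟨h0, hZ, fa, fw, fz, ⟨z, f, fc⟩, fg, fe, ft⟩ := P
  have fa' := A0.FA.gen fa
  have hz := fc.lc.ln.1
  obtain ⟨t, y, k1, y2, k3⟩ := A0.job0b X G e 1 h0 fa' fw hG hi hA (A0.job0a X G e 1 h0 fa' hi hA)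
  obtain ⟨O, k2⟩ := ABj.jobAB X G e t h0 (fun a ha => by
    obtain ⟨g, rfl⟩ := isConj_iff.1 (h0.one z a hz ha)
    rw [← cj_Cz, cjs_eq, ← mp_comm]
    exact (map_mem_mp _).2 (fc.pf (mem_Cz.2 rfl))) k1
  have b1 := k1.toB1
  obtain ⟨z', hz', c⟩ : ∃ z', I z' ∧ IsConj t (t * e z') := by
    rcases k3 with c | c
    · exact H44.SQ.jobTZ X G e t h0 4 2 fz k1 O k2 _ c (mul_mem (mem_Cz.2 rfl) (b1.mem_Cz y))
        fun k => y2.2 (hi (by rw [mul_eq_left.1 k, map_one]))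
    · exact H44.SQ.jobTZ X G e t h0 4 2 fz k1 O k2 _ c (b1.mem_Cz y) (b1.t_ne h0 y).symm
  have c' : IsConj t (t * e z) := by
    obtain ⟨g, rfl⟩ := isConj_iff.1 (h0.one z' z hz' hz)
    refine c.trans (isConj_iff.2 ⟨e g, ?_⟩)
    rw [← conj_mul, b1.conj_t, map_mul, map_mul, map_inv]
  obtain ⟨w, hw⟩ := H44.SQ.jobHf X G e t h0 z f fc k1 O k2 (H44.SQ.jobMv X G e t h0 4 2 fz k1 O k2
    z hz c' (by rw [Py, Pf_eq_self fc.pf]; exact fc.rt))
  obtain ⟨h, k4, -⟩ := mkHC h0 b1 k2 hz hw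
  exact finish h0 hZ fe ft hG k1 k2 k4
    (PF.jobG X G e t h0 fg h (PF.jobPF X G e t h0 z f fc.lc h k4))

/-- The wreath configuration for a group of the type of `He`, `Suz`. -/
theorem st_cw (P : H25.ST.Pk2.{u} Y) {f : Y →* G} {t : G} (k1 : H25.ST.CE f t) {y : Y} (y2 : Inv2 y)
    (c : IsConj t (t * f y)) : ∃ (B : Subgroup G) (c : Cov Y B), H25.ST.CW f t c := by
  obtain ⟨h0, hA, -, hH, -, -, hg⟩ := P
  obtain ⟨O, k2⟩ := H44.STAB.jobAB Y G f t h0 k1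
  obtain ⟨z, e₀, e₁, hH'⟩ := id hH
  have hz := hH'.l0.ln.1
  obtain ⟨w, hw⟩ := H89.ST.jobH2 Y G f t h0 z e₀ e₁ hH' k1 O k2
    (H44.STJ1.job1 Y G f t h0 hA k1 O k2 y y2 c z hz)
  obtain ⟨h, k4, -⟩ := H25.ST.mkHC h0 k1.toB1 k2 hz hw
  exact H47.ST.jobB Y G f t h0 k1 O k2 h k4 (hg G f t O h k1 k2 (H24.ST.jobPF Y G f t h0 hH h k4))

/-- No standard subgroup that is a proper odd cover of `Y`. -/
theorem no_ext (de : JobDE) (q3 : JobDQ3.{u}) {p : X →* Y} (hp : Ext p) (P : H25.ST.Pk2.{u} Y)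
    (ta : H25.ST.FTa Y)
    (tb : ∀ x y : Y, Inv2 x → Inv2 y → ¬ H25.ST.I x → ¬ H25.ST.I y → IsConj x y) (mu : Mu.{u} Y)
    (hZ : center X ≠ ⊥) (hG : H99.Wr.AS G) {A : Subgroup G} (hA : Cfsg.IsStandardSubgroup A) :
    ¬ Nonempty (A ≃* X) := fun k => by
  obtain ⟨e, hi, rfl⟩ := H25.ST.exists_emb k
  obtain ⟨h0, der⟩ := jobDK X Y p hp P.1
  have fa := H52.SQDA.jobDA X Y p hp P.1 P.2.1
  obtain ⟨t, y, k1, y2, k3⟩ := A0.job0b X G e 1 h0 fa (H52.SQDA.jobDW X Y p hp P.1 P.2.2.1) hG hi hA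
    (A0.job0a X G e 1 h0 fa hi hA)
  obtain ⟨O, k2⟩ := ABj.jobAB X G e t h0 (fun a ha => der a ha.1) k1
  obtain ⟨g, hg⟩ := isConj_iff.1 (k3.resolve_right (ABj.not_conj k1 h0 (der y y2)))
  have gN := H17.SQDQ.jobDQ1 X G e t h0 der k1 O k2 y g y2 hg
  obtain ⟨H, _, _, π, f, qt, ce⟩ := H17.SQDQ.jobDQ2 X Y G p e t O hp h0 k1 k2
  have tN : t ∈ Ns O := k2.ct (mem_Cz.2 rfl)
  have yN : e y ∈ Ns O := k2.ct (k1.toB1.mem_Cz y)
  obtain ⟨B', c', cw⟩ := st_cw P (ce ⟨t, tN⟩ rfl) (hp.inv2_p y2) (isConj_iff.2 ⟨π ⟨g, gN⟩, by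
    rw [← qt.ee y ⟨e y, yN⟩ rfl, ← map_inv, ← map_mul, ← map_mul, ← map_mul]
    exact congrArg π (Subtype.ext hg)⟩)
  obtain ⟨B, c, b1, b2, b3⟩ := q3 X Y G p e t O hp h0 k1 k2 mu hZ H π f qt ⟨t, tN⟩ rfl B' c' cw
  exact finish_cw h0 (de X Y p hp P.1 P.2.2.2.2.1) (jobDT X Y p hp P.1 ta tb) hG k2
    (H25.SQ.B.mkCW h0 k1 k2 b1 b2 c b3)

theorem mu_of {n : ℕ} [NeZero n] (h : Cfsg.HasCyclicSchurMultiplier Y n) (L : Type u) [Group L]
    [Finite L] (φ : L →* Y) (h1 : Function.Surjective φ) (h2 : φ.ker ≤ center L)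
    (h3 : φ.ker ≤ commutator L) : Nat.card φ.ker ∣ n := by
  let ε : Shrink.{0} L ≃* L := Shrink.mulEquiv
  have : Finite (Shrink.{0} L) := Finite.of_equiv _ ε.symm.toEquiv
  have hk : (φ.comp ε.toMonoidHom).ker = φ.ker.comap ε.toMonoidHom := rfl
  obtain ⟨π, hπ⟩ := h.2 (Shrink.{0} L) (φ.comp ε.toMonoidHom) ⟨h1.comp ε.surjective,
    fun x hx => mem_center_iff.2 fun g => ε.injective (by
      rw [map_mul, map_mul]; exact mem_center_iff.1 (h2 hx) _),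
    fun x hx => by
      have := mem_map_of_mem ε.symm.toMonoidHom (h3 hx)
      rw [commutator_def, map_commutator, map_top_of_surjective _ ε.symm.surjective] at this
      simpa [commutator_def] using this⟩
  have k := card_dvd_of_surjective π hπ
  rw [hk, comap_equiv_eq_map_symm', card_map_of_injective ε.symm.injective] at k
  simpa using k

/-- The form for a standard subgroup `A` with `A / Z(A) ≅ Y`. -/
theorem no_cover (de : JobDE) (q3 : JobDQ3.{u}) (P : H25.ST.Pk2.{u} Y) (ta : H25.ST.FTa Y)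
    (tb : ∀ x y : Y, Inv2 x → Inv2 y → ¬ H25.ST.I x → ¬ H25.ST.I y → IsConj x y) (mu : Mu.{u} Y)
    (hG : H99.Wr.AS G) {A : Subgroup G} (hA : Cfsg.IsStandardSubgroup A)
    (h1 : Nonempty ((A ⧸ center A) ≃* Y)) (h2 : Odd (Nat.card (center A))) (h3 : center A ≠ ⊥) :
    False := by
  obtain ⟨φ⟩ := h1
  let ε : Shrink.{0} A ≃* A := Shrink.mulEquiv
  have hc : center (Shrink.{0} A) = (center A).comap ε.toMonoidHom := by
    ext x
    rw [mem_comap, mem_center_iff, mem_center_iff]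
    refine ⟨fun k g => ?_, fun k g => ε.injective (by rw [map_mul, map_mul]; exact k _)⟩
    obtain ⟨g, rfl⟩ := ε.surjective g
    exact (map_mul ε _ _).symm.trans ((congrArg ε (k g)).trans (map_mul ε _ _))
  have hc' : Nat.card (center (Shrink.{0} A)) = Nat.card (center A) := by
    rw [hc, comap_equiv_eq_map_symm', card_map_of_injective ε.symm.injective]
  refine no_ext de q3 (X := Shrink.{0} A)
    (p := φ.toMonoidHom.comp ((QuotientGroup.mk' _).comp ε.toMonoidHom))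
    ⟨Finite.of_equiv _ ε.symm.toEquiv,
      φ.surjective.comp ((QuotientGroup.mk'_surjective _).comp ε.surjective), ?_, hc' ▸ h2, ?_⟩
    P ta tb mu (fun k => h3 (card_eq_one.1 (by rw [← hc', k, card_bot]))) hG hA ⟨ε.symm⟩
  · ext x
    rw [hc, MonoidHom.mem_ker, mem_comap, MonoidHom.comp_apply, MulEquiv.coe_toMonoidHom,
      map_eq_one_iff _ φ.injective]
    exact QuotientGroup.eq_one_iff _
  · have := map_perf ε.symm.toMonoidHom (N := ⊤) (by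
      have := hA.1.1
      exact (Group.IsPerfect.commutator_eq_top (G := A)).ge)
    rwa [map_top_of_surjective _ ε.symm.surjective] at this

theorem mu_Suz : Mu.{u} Cfsg.Spor.Suz := mu_of Cfsg.Agent.S2048.result

end H25.SQ
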