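import Cfsg.Agent.H25.SQBase
import Cfsg.Agent.H99.WrBase
import Cfsg.Agent.H67.SAAB

/-! STD-S kit, part 2: the wreath configuration (lifts, the second cover, `Lemma Z`, the end). -/

set_option autoImplicit false
set_option linter.unusedSectionVars false

namespace H25.SQ

open H64.SG Subgroup
open H67.SA (cm mem_cjs conj_mem_cjs card_cjs cm_eq_one)

universe u

variable {X : Type} [Group X] {G : Type u} [Group G] {e : X →* G} {t m l : G} {B : Subgroup G}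
  {c : Cov X B} {P P' : Subgroup X}

theorem cjs_mul (a b : G) (A : Subgroup G) : cjs (a * b) A = cjs a (cjs b A) := by
  ext x; simp only [mem_cjs, mul_inv_rev, mul_assoc]

theorem cjs_one (A : Subgroup G) : cjs 1 A = A := by ext x; simp [mem_cjs]

theorem cjs_tt (h : t * t = 1) (A : Subgroup G) : cjs t (cjs t A) = A := by
  rw [← cjs_mul, h, cjs_one]

theorem cjs_sup (a : G) (A B : Subgroup G) : cjs a (A ⊔ B) = cjs a A ⊔ cjs a B :=
  Subgroup.map_sup _ _ _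

theorem Up_le (c : Cov X B) (P : Subgroup X) : Up c P ≤ B := (closure_le _).2 fun _ h => h.1

theorem Up_mono (h : P ≤ P') : Up c P ≤ Up c P' := closure_mono fun _ k => ⟨k.1, k.2.1, h k.2.2⟩

theorem mem_Up_of {g : G} (h1 : g ∈ B) (h2 : Is2 g) (h3 : c.pi g ∈ P) : g ∈ Up c P :=
  subset_closure ⟨h1, h2, h3⟩

theorem cj_Up (g : G) : Up (c.cj g) P = cjs g (Up c P) := by
  rw [Up, Up, cjs_eq g (closure _), mp_closure]
  congr 1
  ext x
  obtain ⟨x, rfl⟩ := (MulAut.conj g).surjective x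
  rw [(MulAut.conj g).injective.mem_set_image, Set.mem_setOf_eq, Set.mem_setOf_eq, MulAut.conj_apply,
    conj_mem_cjs, Cov.cj_pi, show g⁻¹ * (g * x * g⁻¹) * g = x by group]
  exact and_congr_right fun _ => and_congr_left fun _ =>
    ⟨fun h => by simpa [mul_assoc] using h.conj g⁻¹, fun h => h.conj g⟩

theorem cjs_Up (hm : m ∈ Ns B) : cjs m (Up c P) = Up c (mp (c.ac m) P) := by
  rw [Up, Up, cjs_eq, mp_closure]
  congr 1
  ext x
  obtain ⟨x, rfl⟩ := (MulAut.conj m).surjective x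
  rw [(MulAut.conj m).injective.mem_set_image, Set.mem_setOf_eq, Set.mem_setOf_eq, MulAut.conj_apply,
    ← mem_normalizer_iff.1 hm]
  refine and_congr_right fun hx => ?_
  rw [c.ac_pi _ hm _ hx, map_mem_mp]
  exact and_congr_left fun _ => ⟨fun h => h.conj m, fun h => by simpa [mul_assoc] using h.conj m⁻¹⟩

theorem mem_Ns_Up (hm : m ∈ Ns B) (h : mp (c.ac m) P = P) : m ∈ Ns (Up c P) :=
  mem_Ns_iff.2 (by rw [cjs_Up hm, h])

/-- `N(B) ⊓ N(B^t)` -/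
abbrev M0 (t : G) (B : Subgroup G) : Subgroup G := Ns B ⊓ Ns (cjs t B)

variable [Finite G]

/-- A perfect subgroup of `A C`, `C` of odd order centralising `A`, lies in `A`. -/
theorem le_of_perf_odd {N A C : Subgroup G} (hp : N ≤ ⁅N, N⁆) (hC : C ≤ Cs A)
    (ho : Odd (Nat.card C)) (h : N ≤ A ⊔ C) : N ≤ A := by
  induction hn : Nat.card C using Nat.strong_induction_on generalizing C with
  | _ n ih =>
  have h1 : ⁅C, C⁆ ≤ C := commutator_le.2 fun a ha b hb =>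
    mul_mem (mul_mem (mul_mem ha hb) (inv_mem ha)) (inv_mem hb)
  by_cases k : C ≤ ⁅C, C⁆
  · rwa [H67.SA.eq_bot_of_odd k ho, sup_bot_eq] at h
  refine ih _ (hn ▸ lt_of_le_of_ne (card_le_of_le h1) fun e1 =>
    k (eq_of_le_of_card_ge h1 e1.ge).ge) (h1.trans hC) (ho.of_dvd_nat (card_dvd_of_le h1))
    (hp.trans (commutator_le.2 fun x hx y hy => ?_)) rfl
  obtain ⟨a, ha, p, hp, rfl⟩ := (H98.mem_sup_right_norm (hC.trans (Cs_le_Ns _))).1 (h hx)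
  obtain ⟨b, hb, q, hq, rfl⟩ := (H98.mem_sup_right_norm (hC.trans (Cs_le_Ns _))).1 (h hy)
  have c1 : ∀ {u v : G}, u ∈ A → v ∈ C → v * u = u * v := fun hu hv => (hC hv _ hu).symm
  have : cm (a * p) (b * q) = cm a b * cm p q := by
    simp only [cm, mul_inv_rev, mul_assoc]
    rw [← mul_assoc p b, c1 hb hp, ← mul_assoc p⁻¹ a⁻¹, c1 (inv_mem ha) (inv_mem hp),
      c1 (inv_mem hb) (inv_mem hq)]
    simp only [mul_assoc]
    rw [← mul_assoc q a⁻¹, c1 (inv_mem ha) hq, ← mul_assoc p⁻¹ b⁻¹, c1 (inv_mem hb) (inv_mem hp)]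
    simp only [mul_assoc]
    rw [← mul_assoc p a⁻¹, c1 (inv_mem ha) hp, ← mul_assoc q b⁻¹, c1 (inv_mem hb) hq]
    simp only [mul_assoc]
    rw [← mul_assoc p b⁻¹, c1 (inv_mem hb) hp]
    simp only [mul_assoc]
  change cm _ _ ∈ _
  rw [this]
  exact mul_mem (mem_sup_left (mul_mem (mul_mem (mul_mem ha hb) (inv_mem ha)) (inv_mem hb)))
    (mem_sup_right (commutator_mem_commutator hp hq))

theorem Up_spec (hP : IsPGroup 2 P) : IsPGroup 2 (Up c P) ∧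
    (∀ g, g ∈ Up c P ↔ g ∈ B ∧ Is2 g ∧ c.pi g ∈ P) ∧ c.im (Up c P) = P ∧
    Nat.card (Up c P) = Nat.card P := by
  obtain ⟨Q, h⟩ := c.exists_up hP
  have : Up c P = Q := by
    rw [Up, ← closure_eq Q]
    congr 1
    ext g
    exact (h.2.1 g).symm
  rwa [this]

theorem mem_Up (hP : IsPGroup 2 P) {g : G} : g ∈ Up c P ↔ g ∈ B ∧ Is2 g ∧ c.pi g ∈ P :=
  (Up_spec hP).2.1 g
theorem isPGroup_Up (hP : IsPGroup 2 P) : IsPGroup 2 (Up c P) := (Up_spec hP).1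
theorem im_Up (hP : IsPGroup 2 P) : c.im (Up c P) = P := (Up_spec hP).2.2.1
theorem card_Up (hP : IsPGroup 2 P) : Nat.card (Up c P) = Nat.card P := (Up_spec hP).2.2.2

theorem exists_Up (hP : IsPGroup 2 P) {x : X} (hx : x ∈ P) : ∃ l ∈ Up c P, c.pi l = x := by
  obtain ⟨l, h1, h2, h3⟩ := c.exists_lift2 (isPGroup_iff_is2.1 hP x hx)
  exact ⟨l, mem_Up_of h1 h2 (h3 ▸ hx), h3⟩

theorem syl_Up (hP : Syl P ⊤) : Syl (Up c P) B := by
  have := c.finite_X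
  refine syl_iff.2 (c.isSyl_of_im le_rfl (isPGroup_Up hP.2.1) (Up_le c P) ?_)
  rw [im_Up hP.2.1, c.im_top]
  exact syl_iff.1 hP

theorem sqs_Up (hP : IsPGroup 2 P) : sqs (Up c P) = Up c (sqs P) := by
  have h2 : IsPGroup 2 (sqs P) := hP.to_le (sqs_le P)
  have h3 : c.im (sqs (Up c P)) = sqs P := by
    rw [sqs, c.im_closure (by rintro _ ⟨x, hx, rfl⟩; exact mul_mem (Up_le c P hx) (Up_le c P hx)), sqs]
    congr 1
    ext y
    constructor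
    · rintro ⟨_, ⟨x, hx, rfl⟩, rfl⟩
      exact ⟨c.pi x, ((mem_Up hP).1 hx).2.2, c.pi_mul _ (Up_le c P hx) _ (Up_le c P hx)⟩
    · rintro ⟨x, hx, rfl⟩
      obtain ⟨l, hl, rfl⟩ := exists_Up (c := c) hP hx
      exact ⟨l * l, ⟨l, hl, rfl⟩, c.pi_mul _ (Up_le c P hl) _ (Up_le c P hl)⟩
  have h4 := (isPGroup_Up (c := c) hP).to_le (sqs_le _)
  ext g
  rw [mem_Up h2]
  refine ⟨fun h => ?_, fun h => c.mem_of_pi_mem_im h4 h.1 h.2.1 (h3 ▸ h.2.2)⟩
  have hB := Up_le c P (sqs_le _ h)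
  exact ⟨hB, isPGroup_iff_is2.1 h4 g h, h3 ▸ c.pi_mem_im h hB⟩

namespace CW

variable (h : CW e t c)
include h

theorem b1 : B1 e t := h.toCE.toB1
theorem tt : t * t = 1 := h.inv.1
theorem ti : t⁻¹ = t := h.b1.inv_eq
theorem back : cjs t (cjs t B) = B := cjs_tt h.tt B
theorem G1_symm : G1 t (cjs t B) = G1 t B := by rw [G1, h.back, sup_comm]
theorem MM_symm : MM t (cjs t B) = MM t B := by rw [MM, h.G1_symm]
theorem M0_symm : M0 t (cjs t B) = M0 t B := by rw [M0, h.back, inf_comm]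
theorem U12_symm (P : Subgroup X) : U12 (c.cj t) t P = U12 c t P := by
  rw [U12, cj_Up, cjs_tt h.tt, sup_comm]
theorem t_mem : t ∈ MM t B := h.ct (mem_Cz.2 rfl)
theorem comm' : cjs t B ≤ Cs B := fun a ha b hb => (h.comm hb a ha).symm
theorem cm12 {a b : G} (ha : a ∈ B) (hb : b ∈ cjs t B) : a * b = b * a := (h.comm ha b hb).symm
theorem M0_le : M0 t B ≤ MM t B := fun _ hm => mem_Ns_iff.2 (by
  rw [cjs_sup, mem_Ns_iff.1 hm.1, mem_Ns_iff.1 hm.2])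
theorem B_le : B ≤ M0 t B := le_inf le_normalizer (h.comm.trans (Cs_le_Ns _))
theorem Bt_le : cjs t B ≤ M0 t B := le_inf (h.comm'.trans (Cs_le_Ns _)) le_normalizer
theorem G1_le : G1 t B ≤ M0 t B := sup_le h.B_le h.Bt_le
theorem C1_le : Cs (G1 t B) ≤ M0 t B :=
  le_inf ((H98.centralizer_anti le_sup_left).trans (Cs_le_Ns _))
    ((H98.centralizer_anti le_sup_right).trans (Cs_le_Ns _))
theorem conj_M0 (hm : m ∈ M0 t B) : t * m * t⁻¹ ∈ M0 t B := by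
  refine ⟨?_, ?_⟩
  · rw [SetLike.mem_coe, ← h.back, ← cj_Ns]; exact conj_mem_cjs.2 hm.2
  · rw [SetLike.mem_coe, ← cj_Ns]; exact conj_mem_cjs.2 hm.1
theorem t_mem_Ns_M0 : t ∈ Ns (M0 t B) :=
  H98.mem_normalizer_of_cj_le (by rintro _ ⟨m, hm, rfl⟩; exact h.conj_M0 hm)
theorem mem_M0 (hm : m ∈ MM t B) (hn : m ∈ Ns B) : m ∈ M0 t B :=
  (h.pm m hm).elim id fun k => absurd (by simpa using mul_mem (inv_mem hn) k.1) h.ne
theorem swap (hm : m ∈ MM t B) (hn : m ∉ Ns B) :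
    cjs m B = cjs t B ∧ cjs m (cjs t B) = B := by
  have k := (h.pm m hm).resolve_left fun k => hn k.1
  have e1 : m = m * t * t := by rw [mul_assoc, h.tt, mul_one]
  exact ⟨by rw [e1, cjs_mul, mem_Ns_iff.1 k.2], by rw [← cjs_mul, mem_Ns_iff.1 k.1]⟩
theorem mul_mem_M0 {a b : G} (ha : a ∈ MM t B) (hb : b ∈ MM t B) (ha' : a ∉ Ns B) (hb' : b ∉ Ns B) :
    a * b ∈ M0 t B :=
  h.mem_M0 (mul_mem ha hb) (mem_Ns_iff.2 (by rw [cjs_mul, (h.swap hb hb').1, (h.swap ha ha').2]))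
theorem sq_mem (hm : m ∈ MM t B) : m * m ∈ M0 t B := by
  by_cases k : m ∈ Ns B
  exacts [mul_mem (h.mem_M0 hm k) (h.mem_M0 hm k), h.mul_mem_M0 hm hm k k]
theorem odd_mem (hm : m ∈ MM t B) (ho : Odd (orderOf m)) : m ∈ M0 t B :=
  mem_of_sq_mem (h.sq_mem hm) ho

theorem inf_le (h1 : l ∈ B) (h2 : l ∈ cjs t B) : l ∈ Cs (G1 t B) := by
  rw [G1, Cs, H98.centralizer_sup]
  exact ⟨h.comm' h2, h.comm h1⟩
theorem eq_one_C1 (h1 : l ∈ Cs (G1 t B)) (h2 : Is2 l) : l = 1 :=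
  h2.eq_one (odd_orderOf_of_mem h.odd h1)
theorem eq_one (h1 : l ∈ B) (h2 : l ∈ cjs t B) (h3 : Is2 l) : l = 1 := h.eq_one_C1 (h.inf_le h1 h2) h3
/-- An element of `M` mapping a non-trivial `2`-element of `B` into `B` normalises both factors. -/
theorem mem_M0_of (hm : m ∈ MM t B) (h1 : l ∈ B) (h2 : Is2 l) (h3 : l ≠ 1) (h4 : m * l * m⁻¹ ∈ B) :
    m ∈ M0 t B := by
  refine h.mem_M0 hm (by_contra fun k => h3 ?_)
  simpa using h.eq_one h4 ((h.swap hm k).1 ▸ conj_mem_cjs.2 h1) (h2.conj m)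

theorem mem_C1 (hm : m ∈ M0 t B) (h1 : c.ac m = 1) (h2 : (c.cj t).ac m = 1) : m ∈ Cs (G1 t B) := by
  rw [G1, Cs, H98.centralizer_sup]
  exact ⟨c.ac_ker m hm.1 h1, (c.cj t).ac_ker m hm.2 h2⟩

theorem symm : CW e t (c.cj t) where
  toCE := h.toCE
  comm := by rw [h.back]; exact h.comm'
  diag := fun l hl => by
    have h1 := mem_cjs.1 hl
    have h2 := h.diag _ h1
    rw [Cov.cj_pi, ← h2, show t * (t⁻¹ * l * t) * t⁻¹ = l by group, h.cm12 h1 hl]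
    rw [h.ti]
  perf := map_perf _ h.perf
  odd := by rw [h.G1_symm]; exact h.odd
  ne := fun k => h.ne (mem_Ns_iff.2 (by rw [← mem_Ns_iff.1 k, h.back]))
  pm := by
    rw [h.MM_symm, h.back, inf_comm]; exact h.pm
  ct := by rw [h.MM_symm]; exact h.ct
  ufs := by
    rw [h.MM_symm]
    exact fun g h1 h2 => h.ufs g h1 fun k => h2 (h.mem_M0 h1 k).2

theorem e_eq (x : X) : ∃ l ∈ B, c.pi l = x ∧ e x = l * (t * l * t⁻¹) := by
  obtain ⟨l, hl, rfl⟩ := c.surj x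
  exact ⟨l, hl, rfl, (h.diag l hl).symm⟩
theorem e_mem (x : X) : e x ∈ G1 t B := by
  obtain ⟨l, hl, -, k⟩ := h.e_eq x
  exact k ▸ mul_mem (mem_sup_left hl) (mem_sup_right (conj_mem_cjs.2 hl))
theorem e_M0 (x : X) : e x ∈ M0 t B := h.G1_le (h.e_mem x)
theorem ac_e (x : X) : c.ac (e x) = MulAut.conj x := by
  obtain ⟨l, hl, rfl, k⟩ := h.e_eq x
  have h2 := h.comm' (conj_mem_cjs.2 hl)
  rw [k, c.ac_mul _ (le_normalizer hl) _ (Cs_le_Ns _ h2), c.ac_of_Cs h2, mul_one, c.ac_of_mem hl]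
/-- `e (pi a)` acts on `B` as `a`. -/
theorem conj_e {a : G} (ha : a ∈ B) (hl : l ∈ B) : e (c.pi a) * l * (e (c.pi a))⁻¹ = a * l * a⁻¹ := by
  rw [← h.diag a ha, mul_assoc a, ← h.cm12 hl (conj_mem_cjs.2 ha)]; group
theorem map_e_le (hP : IsPGroup 2 P) : P.map e ≤ U12 c t P := by
  rintro _ ⟨x, hx, rfl⟩
  obtain ⟨l, hl, rfl⟩ := exists_Up (c := c) hP hx
  rw [← h.diag l (Up_le c P hl)]
  exact mul_mem (mem_sup_left hl) (mem_sup_right (conj_mem_cjs.2 hl))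
theorem t_mem_Ns_U12 (P : Subgroup X) : t ∈ Ns (U12 c t P) :=
  mem_Ns_iff.2 (by rw [cjs_sup, cjs_tt h.tt, sup_comm])
theorem e_mem_Ns_Up {x : X} (hx : x ∈ Ns P) : e x ∈ Ns (Up c P) :=
  mem_Ns_Up (h.e_M0 x).1 (by rw [h.ac_e]; exact mem_Ns_iff.1 hx)
theorem isPGroup_U12 (hP : IsPGroup 2 P) : IsPGroup 2 (U12 c t P) :=
  (isPGroup_Up hP).to_sup_of_normal_left' ((isPGroup_Up hP).map _)
    (((map_mono (Up_le c P)).trans (h.comm'.trans (centralizer_le (Up_le c P)))).trans (Cs_le_Ns _))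
theorem mem_U12 {g : G} : g ∈ U12 c t P ↔ ∃ a ∈ Up c P, ∃ b ∈ cjs t (Up c P), g = a * b :=
  H98.mem_sup_right_norm
    (((map_mono (Up_le c P)).trans (h.comm'.trans (centralizer_le (Up_le c P)))).trans (Cs_le_Ns _))
theorem mem_G1 {g : G} : g ∈ G1 t B ↔ ∃ a ∈ B, ∃ b ∈ cjs t B, g = a * b :=
  H98.mem_sup_right_norm (h.comm'.trans (Cs_le_Ns _))

/-- `t e u = l t l⁻¹` for the lift `l` of `u`, `u² = 1`. -/
theorem conj_lift (hl : l ∈ B) (h2 : l * l = 1) : l * t * l⁻¹ = t * e (c.pi l) := by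
  rw [h.b1.comm, ← h.diag l hl, inv_eq_of_mul_eq_one_right h2, h.ti, mul_assoc, mul_assoc, mul_assoc,
    mul_assoc, h.tt, mul_one]
theorem isConj_te {u : X} (hu : u * u = 1) : IsConj t (t * e u) := by
  obtain ⟨l, h1, h2, rfl⟩ := c.exists_lift2 (is2_of_sq hu)
  exact isConj_iff.2 ⟨l, h.conj_lift h1 (c.sq_of_pi h1 h2 hu)⟩

/-- The `2`-components of an element of `G₁` are unique. -/
theorem comp_eq {a a' b b' : G} (ha : a ∈ B) (ha' : a' ∈ B) (hb : b ∈ cjs t B) (hb' : b' ∈ cjs t B)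
    (h2 : Is2 a) (h2' : Is2 a') (k : a * b = a' * b') : a = a' ∧ b = b' := by
  have e1 : a'⁻¹ * a = b' * b⁻¹ := by rw [inv_mul_eq_iff_eq_mul, ← mul_assoc, ← k]; group
  have m1 := mul_mem (inv_mem ha') ha
  have h3 := h.inf_le m1 (e1 ▸ mul_mem hb' (inv_mem hb))
  have h4 : a'⁻¹ * a = a * a'⁻¹ := by
    have := h3 a' (mem_sup_left ha')
    rw [mul_inv_cancel_left] at this
    rw [eq_mul_inv_iff_mul_eq, ← this]
  have h5 := inv_mul_eq_one.1 (h.eq_one_C1 h3 (h2'.inv.mul h2 h4))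
  exact ⟨h5.symm, mul_left_cancel (h5 ▸ k)⟩

/-- An element of `M0` fixing `e (pi l)` fixes `l` and `l^t`. -/
theorem fix_lift (hm : m ∈ M0 t B) (hl : l ∈ B) (h2 : Is2 l)
    (k : m * e (c.pi l) = e (c.pi l) * m) :
    m * l = l * m ∧ m * (t * l * t⁻¹) = t * l * t⁻¹ * m := by
  have h3 := conj_mem_cjs (g := t).2 hl
  have := h.comp_eq (H98.conj_mem_of_mem_normalizer hm.1 hl) hl
    (H98.conj_mem_of_mem_normalizer hm.2 h3) h3 (h2.conj m) h2 (by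
      rw [conj_mul, h.diag l hl, k, mul_inv_cancel_right])
  exact ⟨mul_inv_eq_iff_eq_mul.1 this.1, mul_inv_eq_iff_eq_mul.1 this.2⟩

theorem fix_U12 (hP : IsPGroup 2 P) (hm : m ∈ M0 t B) (k : m ∈ Cs (P.map e)) :
    m ∈ Cs (U12 c t P) := by
  rw [U12, Cs, H98.centralizer_sup]
  refine ⟨fun l hl => ?_, ?_⟩
  · obtain ⟨h1, h2, h3⟩ := (mem_Up hP).1 hl
    exact (h.fix_lift hm h1 h2 (mem_Cs_map.1 k _ h3).symm).1.symm
  · rintro _ ⟨l, hl, rfl⟩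
    obtain ⟨h1, h2, h3⟩ := (mem_Up hP).1 hl
    exact (h.fix_lift hm h1 h2 (mem_Cs_map.1 k _ h3).symm).2.symm

omit h in
theorem le_fx (hP : IsPGroup 2 P) (hm : m ∈ Ns B) (k : m ∈ Cs (Up c P)) : P ≤ fx (c.ac m) :=
  fun x hx => by
    obtain ⟨l, hl, rfl⟩ := exists_Up (c := c) hP hx
    exact c.ac_of_comm hm (Up_le c P hl) (k l hl).symm

/-- An element of `M0` that is inner on both factors lies in `G₁ C₁`. -/
theorem split (hm : m ∈ M0 t B) {a b : G} (ha : a ∈ B) (hb : b ∈ cjs t B)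
    (h1 : c.ac m = MulAut.conj (c.pi a)) (h2 : (c.cj t).ac m = MulAut.conj ((c.cj t).pi b)) :
    (a * b)⁻¹ * m ∈ Cs (G1 t B) := by
  have a0 := h.B_le ha
  have b0 := h.Bt_le hb
  refine h.mem_C1 (mul_mem (inv_mem (mul_mem a0 b0)) hm) ?_ ?_
  · rw [c.ac_mul _ (inv_mem (mul_mem a0 b0).1) _ hm.1, c.ac_inv (mul_mem a0 b0).1,
      c.ac_mul _ a0.1 _ b0.1, c.ac_of_Cs (h.comm' hb), mul_one, c.ac_of_mem ha, h1, inv_mul_cancel]
  · rw [(c.cj t).ac_mul _ (inv_mem (mul_mem a0 b0).2) _ hm.2, (c.cj t).ac_inv (mul_mem a0 b0).2,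
      (c.cj t).ac_mul _ a0.2 _ b0.2, (c.cj t).ac_of_Cs (h.comm ha), one_mul, (c.cj t).ac_of_mem hb, h2,
      inv_mul_cancel]

/-- The centraliser in `M0` of `U₁ U₂`, `U` self-centralising. -/
theorem cen_SC (hP : IsPGroup 2 P) (hS : SC P) (hm : m ∈ M0 t B) (k : m ∈ Cs (U12 c t P)) :
    ∃ a ∈ Up c (P ⊓ Cs P), ∃ b ∈ cjs t (Up c (P ⊓ Cs P)), (a * b)⁻¹ * m ∈ Cs (G1 t B) := by
  have key : ∀ {B : Subgroup G} (c : Cov X B), m ∈ Ns B → m ∈ Cs (Up c P) →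
      ∃ a ∈ Up c (P ⊓ Cs P), c.ac m = MulAut.conj (c.pi a) := fun c hm k => by
    have h1 := le_fx hP hm k
    obtain ⟨u, hu, e1⟩ := hS _ h1
    obtain ⟨a, ha, rfl⟩ := exists_Up (c := c) (hP.to_le inf_le_left) (P := P ⊓ Cs P)
      ⟨hu, fun x hx => by
        have := h1 hx
        rw [e1, fx_conj] at this
        exact (mem_Cz.1 this).symm⟩
    exact ⟨a, ha, e1⟩
  obtain ⟨a, ha, e1⟩ := key c hm.1 (H98.centralizer_anti le_sup_left k)
  obtain ⟨b, hb, e2⟩ := key (c.cj t) hm.2 (by rw [cj_Up]; exact H98.centralizer_anti le_sup_right k)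
  exact ⟨a, ha, b, cj_Up (c := c) t ▸ hb, h.split hm (Up_le _ _ ha) (Up_le _ _ hb) e1 e2⟩

/-- A perfect subgroup of `M` lies in `G₁`. -/
theorem perf_le (hF : F0 X) {N : Subgroup G} (hN : N ≤ MM t B) (hp : N ≤ ⁅N, N⁆) : N ≤ G1 t B := by
  have h1 : N ≤ M0 t B := hp.trans (commutator_le.2 fun a ha b hb => by
    have := cm_mem_sqs ha hb
    exact (closure_le (M0 t B)).2 (by rintro _ ⟨x, hx, rfl⟩; exact h.sq_mem (hN hx)) this)
  have key : ∀ {B : Subgroup G} (c : Cov X B), N ≤ Ns B → ∀ g ∈ N, ∃ a ∈ B,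
      c.ac g = MulAut.conj (c.pi a) := fun {B} c hB g hg => by
    have : ⁅N, N⁆ ≤ ((cI ⊤).comap c.acH).map (Ns B).subtype :=
      commutator_le.2 fun a ha b hb => ⟨cm (⟨a, hB ha⟩ : Ns B) ⟨b, hB hb⟩, by
        rw [SetLike.mem_coe, mem_comap, cm, map_mul, map_mul, map_mul, map_inv, map_inv]
        exact inn_iff.1 (hF.inn_cm _ _), rfl⟩
    obtain ⟨n, ⟨s, -, hs⟩, rfl⟩ := this (hp hg)
    obtain ⟨a, ha, rfl⟩ := c.surj s
    exact ⟨a, ha, hs.symm⟩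
  have h2 : N ≤ G1 t B ⊔ Cs (G1 t B) := fun g hg => by
    obtain ⟨a, ha, e1⟩ := key c (h1.trans inf_le_left) g hg
    obtain ⟨b, hb, e2⟩ := key (c.cj t) (h1.trans inf_le_right) g hg
    rw [← mul_inv_cancel_left (a * b) g]
    exact mul_mem (mem_sup_left (mul_mem (mem_sup_left ha) (mem_sup_right hb)))
      (mem_sup_right (h.split (h1 hg) ha hb e1 e2))
  exact le_of_perf_odd hp le_rfl h.odd h2

end CW

end H25.SQ
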