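import Cfsg.Agent.H25.CI3
import Cfsg.Agent.H8.TransferEval
import Cfsg.Agent.H9.PBasic
import Cfsg.Agent.H14.Std

/-! Involutions acting on perfect groups: transfer, extremal conjugation, normal rank one (S1915). -/

set_option autoImplicit false
set_option linter.unusedSectionVars false

namespace H25.SS

open Cfsg Subgroup H14 H98 H1.Gold H42.An H25.CI
open scoped commutatorElement

universe u

variable {G : Type u} [Group G] [Finite G] {A B C K N P S T : Subgroup G}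
  {a b c d g h r s t u v w x y z ρ σ : G}

/-- The transfer to `P / N`. -/
theorem trf (hP : IsSyl 2 P K) (hN : ∀ a ∈ P, ∀ b ∈ P, a * b * a⁻¹ * b⁻¹ ∈ N) :
    ∃ M : Subgroup G, ⁅K, K⁆ ≤ M ∧ ∀ x ∈ K, ∀ y ∈ P, (∀ (k : ℕ), ∀ g ∈ K, g * x ^ k * g⁻¹ ∈ P →
      (g * x ^ k * g⁻¹)⁻¹ * y ^ k ∈ N) → (x ∈ M ↔ y ∈ N) := by
  let P' := P.subgroupOf K
  let N' : Subgroup P' := N.comap (K.subtype.comp P'.subtype)
  have : N'.Normal := ⟨fun n hn g => by
    have h0 : ((n : K) : G) ∈ N := hn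
    have := mul_mem (hN ((g : K) : G) g.2 ((n : K) : G) n.2) h0
    rw [mul_assoc, inv_mul_cancel, mul_one] at this
    exact this⟩
  letI : CommGroup (P' ⧸ N') := { (inferInstance : Group (P' ⧸ N')) with
    mul_comm := fun a b => by
      obtain ⟨a, rfl⟩ := QuotientGroup.mk_surjective a
      obtain ⟨b, rfl⟩ := QuotientGroup.mk_surjective b
      rw [← QuotientGroup.mk_mul, ← QuotientGroup.mk_mul, QuotientGroup.eq]
      have := hN _ (P.inv_mem b.2) _ (P.inv_mem a.2)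
      rw [inv_inv, inv_inv] at this
      rw [mul_inv_rev, ← mul_assoc]
      exact this }
  let V := MonoidHom.transfer (QuotientGroup.mk' N')
  refine ⟨V.ker.map K.subtype, commutator_le.2 fun a ha b hb => ⟨⁅(⟨a, ha⟩ : K), ⟨b, hb⟩⁆, ?_, rfl⟩,
    fun x hx y hy h => ?_⟩
  · rw [SetLike.mem_coe, MonoidHom.mem_ker, map_commutatorElement, commutatorElement_eq_one_iff_mul_comm,
      mul_comm]
  have e : V ⟨x, hx⟩ = (QuotientGroup.mk' N' ⟨⟨y, hP.le hy⟩, hy⟩) ^ P'.index :=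
    H8.transfer_eq_pow_of_forall _ _ _ fun k a ha => by
      rw [← map_pow, QuotientGroup.mk'_apply, QuotientGroup.mk'_apply, QuotientGroup.eq]
      have := h k a⁻¹ (inv_mem a.2) (by rw [inv_inv]; exact ha)
      rw [inv_inv] at this
      exact this
  have e2 : x ∈ V.ker.map K.subtype ↔ V ⟨x, hx⟩ = 1 :=
    ⟨fun ⟨x', h1, h2⟩ => (show x' = ⟨x, hx⟩ from Subtype.ext h2) ▸ h1, fun k => ⟨⟨x, hx⟩, k, rfl⟩⟩
  rw [e2, e, ← map_pow, QuotientGroup.mk'_apply, QuotientGroup.eq_one_iff]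
  refine ⟨fun k => ?_, fun k => pow_mem (show _ ∈ N' from k) _⟩
  have k1 : y ^ P'.index ∈ N := k
  obtain ⟨j, hj⟩ := two_of_mem hP.isPGroup hy
  have co : (P'.index).Coprime (orderOf y) :=
    Nat.Coprime.coprime_dvd_right (orderOf_dvd_of_pow_eq_one hj) (Nat.Coprime.pow_right _
      ((Nat.coprime_comm.1 ((Nat.Prime.coprime_iff_not_dvd Nat.prime_two).2 hP.not_dvd_relIndex))))
  obtain ⟨m, hm⟩ := exists_pow_eq_self_of_coprime co
  exact hm ▸ pow_mem k1 m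

/-- An element all of whose conjugates are congruent lies in `N`. -/
theorem trf1 (hK : ⁅K, K⁆ = K) (hP : IsSyl 2 P K) (hN : ∀ a ∈ P, ∀ b ∈ P, a * b * a⁻¹ * b⁻¹ ∈ N)
    (hx : x ∈ P) (h : ∀ (k : ℕ), ∀ g ∈ K, g * x ^ k * g⁻¹ ∈ P → (g * x ^ k * g⁻¹)⁻¹ * x ^ k ∈ N) :
    x ∈ N := by
  obtain ⟨M, h1, h2⟩ := trf hP hN
  exact (h2 x (hP.le hx) x hx h).1 (h1 (hK.ge (hP.le hx)))

theorem idx_comm (hN : ∀ a ∈ P, ∀ b ∈ P, a ∈ N ∨ b ∈ N ∨ a * b ∈ N) :
    ∀ a ∈ P, ∀ b ∈ P, a * b * a⁻¹ * b⁻¹ ∈ N := fun a ha b hb => by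
  by_contra k
  have m1 := mul_mem ha hb
  have m2 := mul_mem (inv_mem ha) (inv_mem hb)
  have e : a * b * a⁻¹ * b⁻¹ = a * b * (a⁻¹ * b⁻¹) := by group
  rcases hN _ m1 _ m2 with h | h | h
  · rcases hN _ (inv_mem ha) _ (inv_mem hb) with h' | h' | h'
    · have h1 : b ∈ N := by simpa using mul_mem h' h
      exact k (mul_mem (mul_mem h h') (inv_mem h1))
    · have h1 : a ∈ N := by simpa using mul_mem h h'
      exact k (mul_mem (mul_mem h (inv_mem h1)) h')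
    · exact k (e ▸ mul_mem h h')
  · rcases hN _ ha _ hb with h' | h' | h'
    · have h1 : b⁻¹ ∈ N := by simpa using mul_mem h' h
      exact k (e ▸ mul_mem (mul_mem h' (inv_mem_iff.1 h1)) h)
    · have h1 : a⁻¹ ∈ N := by simpa using mul_mem h h'
      exact k (e ▸ mul_mem (mul_mem (inv_mem_iff.1 h1) h') h)
    · exact k (e ▸ mul_mem h' h)
  · exact k (e ▸ h)

theorem pow_inv2 (h : x * x = 1) (k : ℕ) : (x ^ k = 1 ∧ Even k) ∨ (x ^ k = x ∧ Odd k) := by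
  rcases Nat.even_or_odd' k with ⟨j, rfl | rfl⟩
  · exact Or.inl ⟨by rw [pow_mul, pow_two, h, one_pow], by simp⟩
  · exact Or.inr ⟨by rw [pow_succ, pow_mul, pow_two, h, one_pow, one_mul], by simp⟩

/-- Transfer to a quotient of order two, evaluated at two involutions. -/
theorem trf2 (hP : IsSyl 2 P K) (hN : ∀ a ∈ P, ∀ b ∈ P, a ∈ N ∨ b ∈ N ∨ a * b ∈ N) (hx : x ∈ P)
    (xx : x * x = 1) (hy : y ∈ K) (yy : y * y = 1) (hxy : x * y ∈ ⁅K, K⁆)
    (h1 : ∀ g ∈ K, g * x * g⁻¹ ∈ P → g * x * g⁻¹ ∉ N)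
    (h2 : ∀ g ∈ K, g * y * g⁻¹ ∈ P → g * y * g⁻¹ ∈ N) : False := by
  obtain ⟨M, m1, m2⟩ := trf hP (idx_comm hN)
  have xN : x ∉ N := by simpa using h1 1 (one_mem _) (by simpa using hx)
  have k1 : x ∉ M := fun k => xN ((m2 x (hP.le hx) x hx fun k g hg e => by
    rcases pow_inv2 xx k with ⟨e1, -⟩ | ⟨e1, -⟩ <;> rw [e1] at e ⊢
    · simp
    · exact ((hN _ (inv_mem e) _ hx).resolve_left fun k => h1 g hg e (inv_mem_iff.1 k)).resolve_left xN).1 k)
  have k2 : y ∈ M := (m2 y hy 1 (one_mem _) fun k g hg e => by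
    rcases pow_inv2 yy k with ⟨e1, -⟩ | ⟨e1, -⟩ <;> rw [e1] at e ⊢
    · simp
    · simpa using inv_mem (h2 g hg e)).2 (one_mem _)
  exact k1 (by simpa using mul_mem (m1 hxy) (inv_mem k2))

/-- Thompson's transfer lemma. -/
theorem thom (hK : ⁅K, K⁆ = K) (hP : IsSyl 2 P K) (hN : ∀ a ∈ P, ∀ b ∈ P, a ∈ N ∨ b ∈ N ∨ a * b ∈ N)
    (hx : x ∈ P) (xx : x * x = 1) : ∃ g ∈ K, g * x * g⁻¹ ∈ P ∧ g * x * g⁻¹ ∈ N := by
  by_contra k
  exact trf2 hP hN hx xx (one_mem _) (mul_one _) (by rw [mul_one, hK]; exact hP.le hx)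
    (fun g hg e e' => k ⟨g, hg, e, e'⟩) fun g _ _ => by simp

/-- Extremal conjugation onto a central element of the Sylow subgroup. -/
theorem ext1 (hP : IsSyl 2 P K) (hz : ∀ x ∈ P, Commute x z) (hg : g ∈ K) (e : g * σ * g⁻¹ = z) :
    ∃ h ∈ K, h * σ * h⁻¹ = z ∧ ∀ b ∈ P, Commute b σ → h * b * h⁻¹ ∈ P := by
  have h1 : IsSyl 2 P (K ⊓ cen1 z) := hP.of_le (le_inf hP.le fun x hx => mem_cen1.2 (hz x hx)) inf_le_left
  obtain ⟨k, hk, h2⟩ := h1.exists_cj_le (Q := cj g (P ⊓ cen1 σ))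
    (isPGroup_cj g (hP.isPGroup.to_le inf_le_left)) (le_inf
      (cj_le_of_le_of_mem (inf_le_left.trans hP.le) hg) (e ▸ cj_cen1 g σ ▸ cj_mono g inf_le_right))
  refine ⟨k * g, mul_mem hk.1 hg, ?_, fun b hb c => ?_⟩
  · rw [show k * g * σ * (k * g)⁻¹ = k * (g * σ * g⁻¹) * k⁻¹ by group, e, mem_cen1.1 hk.2,
      mul_inv_cancel_right]
  · rw [cj_cj] at h2
    exact h2 (conj_mem_cj ⟨hb, mem_cen1.2 c⟩)

/-- A conjugate of a central element of the Sylow subgroup is not inverted by a `2`-element. -/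
theorem ext2 (hP : IsSyl 2 P K) (hr : ∀ x ∈ P, Commute x r) (hg : g ∈ K) (e : g * y * g⁻¹ = r)
    (hb : b ∈ P) (hi : b * y * b⁻¹ = y⁻¹) : y⁻¹ = y := by
  have n : ∀ {a : G}, (a * r * a⁻¹ = r ∨ a * r * a⁻¹ = r⁻¹) → a ∈ nor (zpowers r) := fun {a} k =>
    mem_normalizer_of_cj_le (by
      rw [cj, MonoidHom.map_zpowers, zpowers_le]
      rcases k with k | k
      · exact (show a * r * a⁻¹ ∈ zpowers r by rw [k]; exact mem_zpowers r)
      · exact (show a * r * a⁻¹ ∈ zpowers r from k ▸ inv_mem (mem_zpowers r)))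
  have h1 : IsSyl 2 P (K ⊓ nor (zpowers r)) := hP.of_le (le_inf hP.le fun x hx =>
    n (Or.inl (by rw [(hr x hx).eq, mul_inv_cancel_right]))) inf_le_left
  have e1 : g * b * g⁻¹ * r * (g * b * g⁻¹)⁻¹ = r⁻¹ := by
    rw [← e, show g * b * g⁻¹ * (g * y * g⁻¹) * (g * b * g⁻¹)⁻¹ = g * (b * y * b⁻¹) * g⁻¹ by group, hi]
    group
  obtain ⟨k, hk, h2⟩ := h1.exists_cj_le (Q := cj g (zpowers b))
    (isPGroup_cj g (two_of_mem hP.isPGroup hb).isPGroup) (by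
      rw [cj, MonoidHom.map_zpowers, zpowers_le]
      exact ⟨K.mul_mem (K.mul_mem hg (hP.le hb)) (K.inv_mem hg), n (Or.inr e1)⟩)
  have c := hr _ (h2 (conj_mem_cj (conj_mem_cj (mem_zpowers b))))
  obtain ⟨i, hi⟩ := mem_zpowers_iff.1 (conj_mem_of_mem_normalizer hk.2 (mem_zpowers r))
  have c2 : Commute (k * (g * b * g⁻¹) * k⁻¹) (k * r * k⁻¹) := hi ▸ c.zpow_right i
  have c3 : Commute (g * b * g⁻¹) r := by
    have := c2.eq
    rwa [conj_mul, conj_mul, mul_left_inj, mul_right_inj] at this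
  rw [c3.eq, mul_inv_cancel_right, ← e, conj_inv, mul_left_inj, mul_right_inj] at e1
  exact e1.symm

theorem step (hS : IsPGroup 2 S) (hK : K ≤ S) (hN : S ≤ nor N) (hK' : S ≤ nor K) (h : ¬ K ≤ N) :
    ∃ a ∈ K, a ∉ N ∧ a * a ∈ N ∧ ∀ s ∈ S, a⁻¹ * (s * a * s⁻¹) ∈ N := by
  have n1 : (N.subgroupOf S).Normal := normal_subgroupOf_of_le_normalizer hN
  have n2 : (K.subgroupOf S).Normal := normal_subgroupOf_of_le_normalizer hK'
  obtain ⟨x, h1, h2, h3, h4⟩ := H9.exists_central_step hS (N := N.subgroupOf S) (K := K.subgroupOf S)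
    fun k => h fun x hx => k (show (⟨x, hK hx⟩ : S) ∈ K.subgroupOf S from hx)
  refine ⟨x, h1, h2, by rw [← pow_two]; exact h3, fun s hs => ?_⟩
  have h8 : ((⁅x, (⟨s, hs⟩ : S)⁆ : S) : G) ∈ N := h4 _
  have h9 := conj_mem_of_mem_normalizer' (hN x.2) (N.inv_mem h8)
  convert h9 using 1
  simp only [commutatorElement_def, coe_mul, coe_inv]
  group

/-- `z` is the only involution of `C`. -/
structure UQ (C : Subgroup G) (z : G) : Prop where
  p : IsPGroup 2 C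
  zz : z * z = 1
  z1 : z ≠ 1
  uq : ∀ {x}, x ∈ C → x * x = 1 → x = 1 ∨ x = z

namespace UQ

theorem root_inv (h : UQ C z) (e : a * a = z) : a⁻¹ = a * z := by
  rw [← e, inv_eq_iff_mul_eq_one, show a * (a * (a * a)) = a * a * (a * a) by group, e, h.zz]

theorem root_ne (h : UQ C z) (e : a * a = z) : a⁻¹ ≠ a := fun k =>
  h.z1 (by rw [← e]; nth_rewrite 1 [← k]; exact inv_mul_cancel a)

theorem root (h : UQ C z) (hd : d ∈ C) (h1 : d * d ≠ 1) : ∃ m : ℕ, d ^ m * d ^ m = z := by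
  have hd2 := mul_mem hd hd
  obtain ⟨m, k1, k2⟩ := exists_pow_sq_mem (N := ⊥) (two_of_mem h.p hd2) (by simpa using h1)
  exact ⟨m, by
    rw [← (h.uq (pow_mem hd2 m) (by simpa using k2)).resolve_left (by simpa using k1),
      (Commute.refl d).mul_pow]⟩

theorem root_eq (h : UQ C z) (ha : a ∈ C) (hb : b ∈ C) (e1 : a * a = z) (e2 : b * b = z)
    (hc : Commute a b) : b = a ∨ b = a⁻¹ := by
  rcases h.uq (mul_mem ha hb) (by rw [← pow_two, hc.mul_pow, pow_two, pow_two, e1, e2, h.zz])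
    with k | k
  · exact Or.inr (eq_inv_of_mul_eq_one_right k)
  · exact Or.inl (mul_left_cancel (k.trans e1.symm))

/-- An element fixing the central root inverts only `1` and `z`. -/
theorem inv_small (h : UQ C z) (hρ : ρ ∈ C) (e : ρ * ρ = z) (hc : ∀ x ∈ C, Commute ρ x)
    (hu : u * ρ * u⁻¹ = ρ) (hd : d ∈ C) (hi : u * d * u⁻¹ = d⁻¹) : d = 1 ∨ d = z := by
  refine h.uq hd (by_contra fun k => ?_)
  obtain ⟨m, e1⟩ := h.root hd k
  have e2 : u * d ^ m * u⁻¹ = (d ^ m)⁻¹ := by rw [← conj_pow, hi, inv_pow]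
  rcases h.root_eq hρ (pow_mem hd m) e e1 (hc _ (pow_mem hd m)) with k | k <;> rw [k] at e2
  · exact h.root_ne e (e2.symm.trans hu)
  · exact h.root_ne e (by rw [← conj_inv, hu, inv_inv] at e2; exact e2)

/-- An element inverting the central root fixes only `1` and `z`. -/
theorem fix_small (h : UQ C z) (hρ : ρ ∈ C) (e : ρ * ρ = z) (hc : ∀ x ∈ C, Commute ρ x)
    (hu : u * ρ * u⁻¹ = ρ⁻¹) (hd : d ∈ C) (hi : u * d * u⁻¹ = d) : d = 1 ∨ d = z := by
  refine h.uq hd (by_contra fun k => ?_)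
  obtain ⟨m, e1⟩ := h.root hd k
  have e2 : u * d ^ m * u⁻¹ = d ^ m := by rw [← conj_pow, hi]
  rcases h.root_eq hρ (pow_mem hd m) e e1 (hc _ (pow_mem hd m)) with k | k <;> rw [k] at e2
  · exact h.root_ne e (hu.symm.trans e2)
  · exact h.root_ne e (by rw [← conj_inv, hu, inv_inv] at e2; exact e2.symm)

/-- A `2`-group with one involution that has a central root is cyclic. -/
theorem cyclic (h : UQ C z) (hρ : ρ ∈ C) (e : ρ * ρ = z) (hc : ∀ x ∈ C, Commute ρ x) :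
    IsCyclic C := by
  have hu : ∀ H : Subgroup C, Nat.card H = 2 → ∀ x ∈ H, x ≠ 1 → (x : G) = z := fun H hH x hx k => by
    have : x ^ 2 = 1 := by
      have := pow_card_eq_one' (x := (⟨x, hx⟩ : H))
      rw [hH] at this
      exact congrArg Subtype.val this
    exact (h.uq x.2 (by rw [← pow_two]; exact congrArg Subtype.val this)).resolve_left
      fun e => k (Subtype.ext e)
  have hl : ∀ H K : Subgroup C, Nat.card H = 2 → Nat.card K = 2 → H ≤ K := fun H K hH hK x hx => by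
    by_cases k : x = 1
    · rw [k]; exact one_mem _
    · have : K ≠ ⊥ := fun e => by rw [e, card_bot] at hK; omega
      obtain ⟨⟨y, hy⟩, k'⟩ := ne_bot_iff_exists_ne_one.1 this
      have k2 : y ≠ 1 := fun e => k' (Subtype.ext e)
      rwa [show x = y from Subtype.ext ((hu H hH x hx k).trans (hu K hK y hy k2).symm)]
  rcases H3.isCyclic_or_quaternion_of_unique h.p
    (fun H K hH hK => le_antisymm (hl H K hH hK) (hl K H hK hH)) with hc | ⟨-, n, ⟨f⟩⟩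
  · exact hc
  exfalso
  rw [pow_succ'] at f
  set m := 2 ^ n
  have hm : 2 * m ≠ 0 := by positivity
  have hz : ((f.symm (QuaternionGroup.a (2 * m : ℕ)) : C) : G) = z := by
    refine (h.uq (f.symm _).2 ?_).resolve_left fun k => quat_ne _ hm ?_
    · rw [← Subgroup.coe_mul, ← map_mul, QuaternionGroup.a_mul_a, ← Nat.cast_add, ← two_mul,
        ZMod.natCast_self, ← QuaternionGroup.one_def, map_one, Subgroup.coe_one]
    · rw [← f.symm.map_eq_one_iff]; exact Subtype.ext k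
  have hs : ∀ i, ((f.symm (QuaternionGroup.xa i) : C) : G) * (f.symm (QuaternionGroup.xa i) : C) = z :=
    fun i => by rw [← Subgroup.coe_mul, ← map_mul, quat_sq, hz]
  have e3 := congrArg (fun x => ((f.symm x : C) : G)) (quat_pair m)
  simp only [map_mul, map_inv, Subgroup.coe_mul, Subgroup.coe_inv] at e3
  have c : Commute ((f.symm (QuaternionGroup.xa 0) : C) : G) (f.symm (QuaternionGroup.xa m) : C) := by
    rcases h.root_eq hρ (f.symm _).2 e (hs 0) (hc _ (f.symm _).2) with k | k <;> rw [k]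
    exacts [hc _ (f.symm _).2, (hc _ (f.symm _).2).inv_left]
  rw [c.eq, mul_inv_cancel_right] at e3
  exact h.root_ne (hs m) e3.symm

end UQ

/-- `ρ ∈ T` is a root of `z`, `S` normalises `⟨ρ⟩` and `z` is the only involution of `C_T(ρ)`. -/
structure RT (S T : Subgroup G) (z ρ : G) : Prop where
  mem : ρ ∈ T
  sq : ρ * ρ = z
  act : ∀ s ∈ S, s * ρ * s⁻¹ = ρ ∨ s * ρ * s⁻¹ = ρ⁻¹
  uq : UQ (T ⊓ cen1 ρ) z

theorem nor_zp (h : ∀ s ∈ S, Commute s z) : S ≤ nor (zpowers z) := fun s hs =>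
  mem_normalizer_of_cj_le (by
    rw [cj, MonoidHom.map_zpowers, zpowers_le]
    exact (show s * z * s⁻¹ ∈ zpowers z by rw [(h s hs).eq, mul_inv_cancel_right]; exact mem_zpowers z))

theorem mem_zp (zz : z * z = 1) (hx : x ∈ zpowers z) : x = 1 ∨ x = z := by
  obtain ⟨k, rfl⟩ := mem_powers_iff_mem_zpowers.2 hx
  exact (pow_inv2 zz k).imp And.left And.left

/-- Normal rank one. -/
theorem rl (hS : IsPGroup 2 S) (hT : T ≤ S) (hn : S ≤ nor T) (zT : z ∈ T) (zz : z * z = 1)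
    (z1 : z ≠ 1) (zc : ∀ s ∈ S, Commute s z)
    (nf : ∀ v ∈ T, v * v = 1 → (∀ s ∈ S, s * v * s⁻¹ = v ∨ s * v * s⁻¹ = v * z) → v = 1 ∨ v = z) :
    T ≤ zpowers z ∨ ∃ ρ, RT S T z ρ := by
  refine or_iff_not_imp_left.2 fun k => ?_
  obtain ⟨ρ, h1, h2, h3, h4⟩ := step hS hT (nor_zp zc) hn k
  have al : ∀ {v s}, v⁻¹ * (s * v * s⁻¹) ∈ zpowers z → s * v * s⁻¹ = v ∨ s * v * s⁻¹ = v * z :=
    fun k => (mem_zp zz k).imp (fun e => (inv_mul_eq_one.1 e).symm) fun e => by rw [← e]; group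
  have e : ρ * ρ = z := (mem_zp zz h3).resolve_left fun e => h2 (by
    rcases nf ρ h1 e fun s hs => al (h4 s hs) with e | e <;> rw [e]
    exacts [one_mem _, mem_zpowers _])
  have ei : ρ⁻¹ = ρ * z := by
    rw [← e, inv_eq_iff_mul_eq_one, show ρ * (ρ * (ρ * ρ)) = ρ * ρ * (ρ * ρ) by group, e, zz]
  have act : ∀ s ∈ S, s * ρ * s⁻¹ = ρ ∨ s * ρ * s⁻¹ = ρ⁻¹ := fun s hs => ei ▸ al (h4 s hs)
  have nC : S ≤ nor (T ⊓ cen1 ρ) := le_normalizer_inf hn fun s hs => by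
    rw [← cj_eq_self_iff, cj_cen1]
    rcases act s hs with k | k <;> rw [k]
    ext x
    simp only [mem_cen1]
    exact Commute.inv_right_iff
  -- a maximal normal subgroup with a unique involution
  obtain ⟨C, ⟨c1, c2, c3, c4⟩, hmax⟩ := exists_maximal_of_wellFoundedGT
    (fun C : Subgroup G => C ≤ T ⊓ cen1 ρ ∧ ρ ∈ C ∧ S ≤ nor C ∧ ∀ x ∈ C, x * x = 1 → x = 1 ∨ x = z)
    ⟨zpowers ρ, zpowers_le.2 ⟨h1, mem_cen1.2 rfl⟩, mem_zpowers _, fun s hs =>
      mem_normalizer_of_cj_le (by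
        rw [cj, MonoidHom.map_zpowers, zpowers_le]
        rcases act s hs with k | k
        · exact (show s * ρ * s⁻¹ ∈ zpowers ρ by rw [k]; exact mem_zpowers ρ)
        · exact (show s * ρ * s⁻¹ ∈ zpowers ρ from k ▸ inv_mem (mem_zpowers ρ))), fun x hx xx => by
      obtain ⟨k, rfl⟩ := mem_powers_iff_mem_zpowers.2 hx
      rcases Nat.even_or_odd' k with ⟨j, rfl | rfl⟩
      · simp only
        rw [pow_mul, pow_two, e]; exact (pow_inv2 zz j).imp And.left And.left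
      · simp only at xx
        rw [← pow_two, ← pow_mul, mul_comm, pow_mul, pow_two, e, pow_succ, pow_mul, pow_two, zz,
          one_pow, one_mul] at xx
        exact absurd xx z1⟩
  have U : UQ C z := ⟨hS.to_le (c1.trans (inf_le_left.trans hT)), zz, z1, c4 _⟩
  refine ⟨ρ, h1, e, act, hS.to_le (inf_le_left.trans hT), zz, z1, fun {x} hx => c4 x ?_⟩
  by_contra k2
  obtain ⟨a, a1, a2, a3, a4⟩ := step hS (inf_le_left.trans hT) c3 nC fun k => k2 (k hx)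
  have aS := hT a1.1
  have dec : ∀ y ∈ C ⊔ zpowers a, y ∈ C ∨ a⁻¹ * y ∈ C := fun y hy => by
    obtain ⟨b, hb, d, hd, rfl⟩ := (H12.mem_sup_of_le_normalizer (zpowers_le.2 (c3 aS))).1
      (sup_comm C _ ▸ hy)
    obtain ⟨k, rfl⟩ := mem_powers_iff_mem_zpowers.2 hb
    rcases Nat.even_or_odd' k with ⟨j, rfl | rfl⟩
    · exact Or.inl (mul_mem (by simpa [pow_mul, pow_two] using pow_mem a3 j) hd)
    · refine Or.inr ?_
      simp only
      rw [pow_succ', mul_assoc, inv_mul_cancel_left, pow_mul, pow_two]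
      exact mul_mem (pow_mem a3 j) hd
  have l1 : C ⊔ zpowers a ≤ T ⊓ cen1 ρ := sup_le c1 (zpowers_le.2 a1)
  refine a2 (hmax ⟨l1, mem_sup_left c2, fun s hs => mem_normalizer_of_cj_le ?_, fun y hy yy => ?_⟩
    le_sup_left (mem_sup_right (mem_zpowers a)))
  · rw [cj_sup, cj_eq_self (c3 hs), cj, MonoidHom.map_zpowers]
    refine sup_le le_sup_left (zpowers_le.2 ?_)
    have := mul_mem (mem_sup_right (S := C) (mem_zpowers a)) (mem_sup_left (a4 s hs))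
    rwa [mul_inv_cancel_left] at this
  · rcases dec y hy with k | k
    · exact c4 y k yy
    refine nf y (l1 hy).1 yy fun s hs => ?_
    have m : y⁻¹ * (s * y * s⁻¹) ∈ C := by
      have := mul_mem (mul_mem (inv_mem k) (a4 s hs)) (conj_mem_of_mem_normalizer (c3 hs) k)
      rwa [show (a⁻¹ * y)⁻¹ * (a⁻¹ * (s * a * s⁻¹)) * (s * (a⁻¹ * y) * s⁻¹) =
        y⁻¹ * a * a⁻¹ * (s * y * s⁻¹) by group, mul_inv_cancel_right] at this
    have yi : y⁻¹ = y := inv_eq_of_mul_eq_one_right yy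
    refine (U.inv_small (u := y) c2 e (fun x hx => (mem_cen1.1 (c1 hx).2 : Commute x ρ).symm)
      (by rw [mem_cen1.1 (l1 hy).2, mul_inv_cancel_right]) m ?_).imp
      (fun e => (inv_mul_eq_one.1 e).symm) fun e => by rw [← e]; group
    rw [mul_inv_cancel_left, mul_inv_rev, conj_inv, inv_inv, yi]

theorem cx_syl (hT : IsSyl 2 T A) (tt : t * t = 1) (tA : t ∈ nor A) (tT : t ∈ nor T) :
    ∃ S, IsSyl 2 S (A ⊔ zpowers t) ∧ t ∈ S ∧ T ≤ S ∧ ∀ x ∈ S, x ∈ T ∨ x * t ∈ T := by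
  obtain ⟨S, hS, hle⟩ := exists_isSyl_le (H := A ⊔ zpowers t) (IsPGroup.to_sup_of_normal_left'
    hT.isPGroup (two_of_sq tt).isPGroup (zpowers_le.2 tT)) (sup_le_sup_right hT.le _)
  have tS := hle (mem_sup_right (mem_zpowers t))
  have e : S ⊓ A = T := hT.eq_of_le (hS.isPGroup.to_le inf_le_left)
    (le_inf (le_sup_left.trans hle) hT.le) inf_le_right
  refine ⟨S, hS, tS, le_sup_left.trans hle, fun x hx => ?_⟩
  obtain ⟨a, ha, b, hb, rfl⟩ := (H12.mem_sup_of_le_normalizer' (zpowers_le.2 tA)).1 (hS.le hx)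
  rcases mem_zp tt hb with rfl | rfl
  · exact Or.inl (e.le ⟨hx, by simpa using ha⟩)
  · exact Or.inr (e.le ⟨S.mul_mem hx tS, by simpa [mul_assoc, tt] using ha⟩)

namespace RT

theorem ρC (h : RT S T z ρ) : ρ ∈ T ⊓ cen1 ρ := ⟨h.mem, mem_cen1.2 rfl⟩

theorem cc (_ : RT S T z ρ) : ∀ x ∈ T ⊓ cen1 ρ, Commute ρ x := fun _ hx =>
  (mem_cen1.1 hx.2 : Commute _ ρ).symm

theorem fix (hs : s * ρ * s⁻¹ = ρ) : s ∈ cen1 ρ := mem_cen1.2 (mul_inv_eq_iff_eq_mul.1 hs)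

theorem inv (h : RT S T z ρ) (hs : s ∈ S) (k : s ∉ cen1 ρ) : s * ρ * s⁻¹ = ρ⁻¹ :=
  (h.act s hs).resolve_left fun e => k (fix e)

theorem idx (h : RT S T z ρ) : ∀ a ∈ S, ∀ b ∈ S, a ∈ cen1 ρ ∨ b ∈ cen1 ρ ∨ a * b ∈ cen1 ρ :=
  fun a ha b hb => or_iff_not_imp_left.2 fun k1 => or_iff_not_imp_left.2 fun k2 => fix (by
    rw [show a * b * ρ * (a * b)⁻¹ = a * (b * ρ * b⁻¹) * a⁻¹ by group, h.inv hb k2, ← conj_inv,
      h.inv ha k1, inv_inv])

theorem zc (h : RT S T z ρ) (hs : s ∈ S) : Commute s z := by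
  rcases h.act s hs with k | k
  · have c : Commute s ρ := mem_cen1.1 (fix k)
    exact h.sq ▸ c.mul_right c
  · have : s * z * s⁻¹ = z := by
      rw [← h.sq, ← conj_mul, k, ← mul_inv_rev, h.sq, inv_eq_of_mul_eq_one_right h.uq.zz]
    exact mul_inv_eq_iff_eq_mul.1 this

/-- An involution other than `z` inverts `ρ` and is conjugate to `z`. -/
theorem fus (h : RT S T z ρ) (hA : ⁅A, A⁆ = A) (hT : IsSyl 2 T A) (hle : T ≤ S) (hσ : σ ∈ T)
    (σσ : σ * σ = 1) (σ1 : σ ≠ 1) : ∃ g ∈ A, g * σ * g⁻¹ = z := by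
  obtain ⟨g, hg, k1, k2⟩ := thom hA hT (fun a ha b hb => h.idx a (hle ha) b (hle hb)) hσ σσ
  exact ⟨g, hg, (h.uq.uq ⟨k1, k2⟩ (by rw [conj_mul, σσ]; group)).resolve_left (by simpa using σ1)⟩

end RT

/-- The key lemma: an involution centralising `ρ` centralises a second involution of `T`. -/
theorem kl (hA : ⁅A, A⁆ = A) (hT : IsSyl 2 T A) (tt : t * t = 1) (tA : t ∈ nor A) (tT : t ∈ nor T)
    (h : RT T T z ρ) (tρ : Commute t ρ) (nf : ∀ σ ∈ T, σ * σ = 1 → Commute σ t → σ = 1 ∨ σ = z)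
    (hσ : σ ∈ T) (σσ : σ * σ = 1) : σ = 1 ∨ σ = z := by
  by_contra k
  obtain ⟨σ1, σz⟩ := not_or.1 k
  obtain ⟨S, hS, tS, hle, dec⟩ := cx_syl hT tt tA tT
  have ti : t⁻¹ = t := inv_eq_of_mul_eq_one_right tt
  have σi : σ⁻¹ = σ := inv_eq_of_mul_eq_one_right σσ
  have h' : RT S T z ρ := ⟨h.mem, h.sq, fun s hs => by
    rcases dec s hs with k | k
    · exact h.act s k
    · have := h.act _ k
      rwa [show s * t * ρ * (s * t)⁻¹ = s * (t * ρ * t⁻¹) * s⁻¹ by group, tρ.eq,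
        mul_inv_cancel_right] at this, h.uq⟩
  have n1 : σ ∉ cen1 ρ := fun e => k (h.uq.uq ⟨hσ, e⟩ σσ)
  have m1 := conj_mem_of_mem_normalizer tT hσ
  have n2 : t * σ * t⁻¹ ∉ cen1 ρ := fun e => n1 (by
    simpa [mul_assoc] using mul_mem (mul_mem (inv_mem (mem_cen1.2 tρ)) e) (mem_cen1.2 tρ))
  have m2 : σ * (t * σ * t⁻¹) ∈ T ⊓ cen1 ρ :=
    ⟨T.mul_mem hσ m1, ((h.idx _ hσ _ m1).resolve_left n1).resolve_left n2⟩
  have e1 : t * σ * t⁻¹ = σ * z := by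
    rcases h.uq.inv_small (u := t) h.ρC h.sq h.cc (by rw [tρ.eq, mul_inv_cancel_right]) m2 (by
      rw [mul_inv_rev, conj_inv, σi, show t * (σ * (t * σ * t⁻¹)) * t⁻¹ =
        t * σ * t⁻¹ * ((t * t) * σ * (t * t)⁻¹) by group, tt]; group) with e | e
    · exact absurd (nf σ hσ σσ (mul_inv_eq_iff_eq_mul.1 (by
        rw [← inv_eq_of_mul_eq_one_right e, σi])).symm) k
    · rw [← e, ← mul_assoc, σσ, one_mul]
  have e2 : ρ * σ * ρ⁻¹ = σ * z := by
    have := h.inv hσ n1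
    rw [σi] at this
    rw [← one_mul ρ, ← σσ, show σ * σ * ρ * σ * (σ * σ * ρ)⁻¹ = σ * (σ * ρ * σ) * (σ * σ * ρ)⁻¹ by group,
      this, σσ, one_mul, mul_assoc, ← mul_inv_rev, h.sq, inv_eq_of_mul_eq_one_right h.uq.zz]
  have c1 : Commute (t * ρ) σ := by
    have : t * ρ * σ * (t * ρ)⁻¹ = σ := by
      rw [show t * ρ * σ * (t * ρ)⁻¹ = t * (ρ * σ * ρ⁻¹) * t⁻¹ by group, e2, ← conj_mul, e1,
        (h'.zc tS).eq, mul_inv_cancel_right, mul_assoc, h.uq.zz, mul_one]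
    exact mul_inv_eq_iff_eq_mul.1 this
  obtain ⟨g, hg, e3⟩ := h.fus hA hT le_rfl hσ σσ σ1
  obtain ⟨f, -, e4, h5⟩ := ext1 hS (fun x hx => h'.zc hx) (mem_sup_left hg) e3
  have m3 := h5 _ (mul_mem tS (hle h.mem)) c1
  have e5 : f * (t * ρ) * f⁻¹ * (f * (t * ρ) * f⁻¹) = f * z * f⁻¹ := by
    rw [conj_mul, ← pow_two, tρ.mul_pow, pow_two, pow_two, tt, one_mul, h.sq]
  have m4 : f * z * f⁻¹ ∈ T ⊓ cen1 ρ := by
    rw [← e5]
    refine ⟨?_, (h'.idx _ m3 _ m3).elim (fun k => mul_mem k k) fun k => k.elim (fun k => mul_mem k k) id⟩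
    rcases dec _ m3 with k | k
    · exact T.mul_mem k k
    · have := T.mul_mem k (conj_mem_of_mem_normalizer tT k)
      rwa [mul_assoc t, mul_inv_cancel_right, mul_assoc, ← mul_assoc t, tt, one_mul] at this
  rcases h.uq.uq m4 (by rw [conj_mul, h.uq.zz]; group) with e | e
  · exact h.uq.z1 (by simpa using e)
  · rw [← e4, mul_left_inj, mul_right_inj] at e
    exact σz (by rw [← e4] at *; exact e.symm)

theorem rk1 (hT : IsSyl 2 T A) (h : ∀ σ ∈ T, σ * σ = 1 → σ = 1 ∨ σ = z) : PRankLE 2 1 A := by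
  refine prankLE_iff.2 fun E hE he => ?_
  have e2 : ∀ a ∈ E, a * a = 1 := fun a ha => by rw [← pow_two]; exact he.2 a ha
  obtain ⟨c, -, hc⟩ := hT.exists_cj_le (Q := E) (fun a => ⟨1, Subtype.ext (by
    simpa [pow_two] using e2 _ a.2)⟩) hE
  have k : ∀ a ∈ E, a = 1 ∨ a = c⁻¹ * z * c := fun a ha =>
    (h _ (hc (conj_mem_cj ha)) (by rw [conj_mul, e2 a ha]; group)).imp (by simp) fun e => by
      rw [← e]; group
  have : (E : Set G) ⊆ {1, c⁻¹ * z * c} := fun a ha => k a ha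
  exact (Set.ncard_le_ncard this).trans (by simpa using Set.ncard_insert_le 1 ({c⁻¹ * z * c} : Set G))

/-- A four-group whose involutions have rank one centralisers acts on a perfect group of rank one. -/
theorem four (hA : ⁅A, A⁆ = A) {U : Subgroup G} (hU : IsPGroup 2 U) (hUA : U ≤ nor A) (ha : a ∈ U)
    (hb : b ∈ U) (a1 : a ≠ 1) (b1 : b ≠ 1) (ab : a * b ≠ 1) (uu : ∀ u ∈ U, u * u = 1)
    (h : ∀ u ∈ U, u ≠ 1 → PRankLE 2 1 ↥(A ⊓ cen1 u)) : PRankLE 2 1 A := by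
  obtain ⟨S, hS, hle⟩ := exists_isSyl_le (H := A ⊔ U) hU le_sup_right
  have sA : S ≤ nor A := hS.le.trans (sup_le le_normalizer hUA)
  have hT := hS.inf_of_le_normalizer le_sup_left sA
  have sT : S ≤ nor (S ⊓ A) := le_normalizer_inf le_normalizer sA
  by_cases e : S ⊓ A ≤ ⊥
  · exact rk1 (z := 1) hT fun σ hσ _ => Or.inl (mem_bot.1 (e hσ))
  obtain ⟨z, zT, z1, zz, zc⟩ := step hS.isPGroup inf_le_left (N := ⊥) (by simp) sT e
  rw [mem_bot] at z1 zz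
  have zc' : ∀ s ∈ S, Commute s z := fun s hs =>
    mul_inv_eq_iff_eq_mul.1 (inv_mul_eq_one.1 (mem_bot.1 (zc s hs))).symm
  have nf : ∀ u ∈ U, u ≠ 1 → ∀ σ ∈ S ⊓ A, σ * σ = 1 → Commute σ u → σ = 1 ∨ σ = z :=
    fun u hu u1 σ hσ σσ c => or_iff_not_imp_left.2 fun σ1 => eq_of_prank_one (h u hu u1)
      (orderOf_eq_prime (by rwa [pow_two]) σ1) (orderOf_eq_prime (by rwa [pow_two]) z1)
      ⟨hσ.2, mem_cen1.2 c⟩ ⟨zT.2, mem_cen1.2 (zc' u (hle hu)).symm⟩ (zc' σ hσ.1)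
  rcases rl hS.isPGroup inf_le_left sT zT zz z1 zc' (fun v hv vv k => by
    have f : ∀ u ∈ U, u ≠ 1 → u * v * u⁻¹ = v → v = 1 ∨ v = z := fun u hu u1 e =>
      nf u hu u1 v hv vv (mul_inv_eq_iff_eq_mul.1 e).symm
    rcases k a (hle ha) with k1 | k1
    · exact f a ha a1 k1
    rcases k b (hle hb) with k2 | k2
    · exact f b hb b1 k2
    refine f _ (mul_mem ha hb) ab ?_
    rw [show a * b * v * (a * b)⁻¹ = a * (b * v * b⁻¹) * a⁻¹ by group, k2, ← conj_mul, k1,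
      (zc' a (hle ha)).eq, mul_inv_cancel_right, mul_assoc, zz, mul_one]) with k | ⟨ρ, k⟩
  · exact rk1 hT fun σ hσ _ => mem_zp zz (k hσ)
  have f : ∀ u ∈ U, u ≠ 1 → u ∈ cen1 ρ → PRankLE 2 1 A := fun u hu u1 c =>
    rk1 hT fun σ hσ σσ => kl hA hT (uu u hu) (hUA hu) (sT (hle hu))
      ⟨k.mem, k.sq, fun s hs => k.act s hs.1, k.uq⟩ (mem_cen1.1 c) (nf u hu u1) hσ σσ
  rcases k.idx a (hle ha) b (hle hb) with c | c | c
  exacts [f a ha a1 c, f b hb b1 c, f _ (mul_mem ha hb) ab c]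

theorem perf (hA : layer A = ⊤) : ⁅A, A⁆ = A := by
  have := map_layer_subtype_perfect A
  rwa [hA, ← MonoidHom.range_eq_map, range_subtype] at this

theorem prank_mono {p k : ℕ} (h : A ≤ B) (hB : PRankLE p k B) : PRankLE p k A :=
  prankLE_iff.2 fun E hE he => prankLE_iff.1 hB E (hE.trans h) he

theorem s1915 (hA : layer A = ⊤) (U : Subgroup G) (hU : IsKleinFour U) (hUA : U ≤ nor A)
    (hΓ : PRankLE 2 1 ↥(⨆ V : {V : Subgroup G // V ≤ U ∧ V ≠ ⊥}, A ⊓ nor (V : Subgroup G)) ∧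
      ¬ PRankLE 2 0 ↥(⨆ V : {V : Subgroup G // V ≤ U ∧ V ≠ ⊥}, A ⊓ nor (V : Subgroup G))) :
    PRankLE 2 1 A ∧ ¬ PRankLE 2 0 A := by
  refine ⟨?_, fun k => hΓ.2 (prank_mono (iSup_le fun _ => inf_le_left) k)⟩
  have uu : ∀ u ∈ U, u * u = 1 := fun u hu =>
    congrArg Subtype.val (IsKleinFour.mul_self (⟨u, hu⟩ : U))
  have : Nontrivial U := Finite.one_lt_card_iff_nontrivial.1 (by rw [hU.card_four]; norm_num)
  obtain ⟨a, a1⟩ := exists_ne (1 : U)
  obtain ⟨b, b1, ba⟩ : ∃ b : U, b ≠ 1 ∧ b ≠ a := by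
    by_contra! k
    have : (Set.univ : Set U) ⊆ {1, a} := fun x _ => or_iff_not_imp_left.2 (k x)
    have := (Set.ncard_le_ncard this).trans (Set.ncard_insert_le 1 ({a} : Set U))
    rw [Set.ncard_univ, hU.card_four, Set.ncard_singleton] at this
    omega
  refine four (perf hA) (fun u => ⟨1, Subtype.ext (by simpa [pow_two] using uu _ u.2)⟩) hUA a.2 b.2
    (fun e => a1 (Subtype.ext e)) (fun e => b1 (Subtype.ext e)) (fun e => ba (Subtype.ext ?_)) uu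
    fun u hu u1 => prank_mono (le_trans ?_ (le_iSup _ ⟨zpowers u, zpowers_le.2 hu, by simpa⟩)) hΓ.1
  · exact mul_left_cancel (e.trans (uu _ a.2).symm)
  · exact inf_le_inf_left _ (nor_zp fun s hs => mem_cen1.1 hs)

end H25.SS
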