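import Cfsg.Agent.H25.SS1
import Cfsg.Agent.H24.ClassCount
import Cfsg.Agent.H3.DSQ
import Cfsg.Agent.H3.FrattiniP
import Cfsg.Agent.S4418

/-! An involution whose fixed points on a perfect group have cyclic Sylow subgroups of order four
(S1914). -/

set_option autoImplicit false
set_option linter.unusedSectionVars false

namespace H25.SS

open Cfsg Subgroup H14 H98 H1.Gold H42.An H25.CI
open scoped commutatorElement

universe u

variable {G : Type u} [Group G] [Finite G] {A N S T W : Subgroup G}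
  {a b c g r s t u v w x y z ρ σ : G}

/-- The configuration. -/
structure Z4 (A S T : Subgroup G) (t r z : G) : Prop where
  perf : ⁅A, A⁆ = A
  tA : t ∈ nor A
  tn : t ∉ A
  tt : t * t = 1
  syl : IsSyl 2 S (A ⊔ zpowers t)
  sylT : IsSyl 2 T A
  le : T ≤ S
  tS : t ∈ S
  nT : S ≤ nor T
  dec : ∀ x ∈ S, x ∈ T ∨ x * t ∈ T
  rT : r ∈ T
  rr : r * r = z
  zz : z * z = 1
  z1 : z ≠ 1
  rt : Commute t r
  zc : ∀ s ∈ S, Commute s z
  card : Nat.card ↥(T ⊓ cen1 t) = 4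
  cy : ∀ {g a : G}, g ∈ A ⊔ zpowers t → a ∈ A → a * a = 1 → Commute a (g * t * g⁻¹) →
    Commute z (g * t * g⁻¹) → Commute a z → a = 1 ∨ a = z

theorem sq_mem_of_idx (hN : ∀ a ∈ S, ∀ b ∈ S, a ∈ N ∨ b ∈ N ∨ a * b ∈ N) (ha : a ∈ S) :
    a * a ∈ N :=
  (hN _ ha _ ha).elim (fun k => mul_mem k k) fun k => k.elim (fun k => mul_mem k k) id

namespace Z4

variable (h : Z4 A S T t r z)
include h

theorem ti : t⁻¹ = t := inv_eq_of_mul_eq_one_right h.tt
theorem zi : z⁻¹ = z := inv_eq_of_mul_eq_one_right h.zz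
theorem zT : z ∈ T := h.rr ▸ mul_mem h.rT h.rT
theorem nA : A ⊔ zpowers t ≤ nor A := sup_le le_normalizer (zpowers_le.2 h.tA)

theorem nf (σ : G) (hσ : σ ∈ T) (σσ : σ * σ = 1) (c : Commute σ t) : σ = 1 ∨ σ = z :=
  h.cy (one_mem _) (h.sylT.le hσ) σσ (by simpa using c) (by simpa using (h.zc t h.tS).symm)
    (h.zc σ (h.le hσ))

theorem out (hg : g ∈ A ⊔ zpowers t) (hx : x * t ∈ A) (k : g * x * g⁻¹ ∈ S) :
    g * x * g⁻¹ * t ∈ T :=
  (h.dec _ k).resolve_left fun e => h.tn ((mul_mem_cancel_left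
    ((mem_normalizer_iff.1 (h.nA hg) x).2 (h.sylT.le e))).1 hx)

theorem sqT (hs : s ∈ S) : s * s ∈ T := by
  rcases h.dec _ hs with k | k
  · exact T.mul_mem k k
  · have := T.mul_mem k (conj_mem_of_mem_normalizer (h.nT h.tS) k)
    rwa [mul_assoc t, mul_inv_cancel_right, mul_assoc, ← mul_assoc t, h.tt, one_mul] at this

theorem trsq : t * r * (t * r) = z := by
  rw [← pow_two, h.rt.mul_pow, pow_two, pow_two, h.tt, one_mul, h.rr]

/-- A conjugate of `z` that commutes with a root of `z` is `z`. -/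
theorem root (hq : ∀ s ∈ S, s * s * (s * s) = 1 → s * s = 1 ∨ s * s = z)
    (hg : g ∈ A ⊔ zpowers t) (e : g * σ * g⁻¹ = z) (hρ : ρ ∈ S) (e1 : ρ * ρ = z)
    (c : Commute ρ σ) : σ = z := by
  obtain ⟨f, -, e4, h5⟩ := ext1 h.syl h.zc hg e
  have e5 : f * ρ * f⁻¹ * (f * ρ * f⁻¹) = f * z * f⁻¹ := by rw [conj_mul, e1]
  rcases hq _ (h5 _ hρ c) (by rw [e5, conj_mul, h.zz]; group) with k | k <;> rw [e5] at k
  · exact absurd (by simpa using k) h.z1
  · rw [← e4, mul_left_inj, mul_right_inj] at k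
    rw [← k, e4]

/-- The case of normal rank one. -/
theorem rt_case (k : RT S T z ρ) (hσ : σ ∈ T) (σσ : σ * σ = 1) : σ = 1 ∨ σ = z := by
  have k0 : RT T T z ρ := ⟨k.mem, k.sq, fun s hs => k.act s (h.le hs), k.uq⟩
  by_cases tρ : t ∈ cen1 ρ
  · exact kl h.perf h.sylT h.tt h.tA (h.nT h.tS) k0 (mem_cen1.1 tρ) h.nf hσ σσ
  by_contra n
  obtain ⟨σ1, σz⟩ := not_or.1 n
  have σi : σ⁻¹ = σ := inv_eq_of_mul_eq_one_right σσ
  have rS := h.le h.rT
  have ρS := h.le k.mem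
  have n1 : σ ∉ cen1 ρ := fun e => n (k.uq.uq ⟨hσ, e⟩ σσ)
  have n2 : r ∉ cen1 ρ := fun e => by
    rcases k.uq.fix_small k.ρC k.sq k.cc (k.inv h.tS tρ) ⟨h.rT, e⟩ (by
      rw [h.rt.eq, mul_inv_cancel_right]) with e | e
    · exact h.z1 (by rw [← h.rr, e, mul_one])
    · exact h.z1 (by rw [← h.rr, e, h.zz])
  have sS := mul_mem h.tS rS
  have sρ : t * r ∈ cen1 ρ := ((k.idx _ h.tS _ rS).resolve_left tρ).resolve_left n2
  have ss := h.trsq
  have st : t * (t * r) ∈ T := by rw [← mul_assoc, h.tt, one_mul]; exact h.rT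
  generalize t * r = s at sS sρ ss st
  have hq : ∀ s ∈ S, s * s * (s * s) = 1 → s * s = 1 ∨ s * s = z := fun s hs e =>
    k.uq.uq ⟨h.sqT hs, sq_mem_of_idx k.idx hs⟩ e
  obtain ⟨g₀, hg₀, e₀⟩ := k0.fus h.perf h.sylT le_rfl hσ σσ σ1
  -- commutators with an element of `C(ρ)` whose square is central
  have cm : ∀ {p x : G}, p ∈ S → p ∈ cen1 ρ → Commute (p * p) x → x ∈ T →
      x⁻¹ * (p * x * p⁻¹) ∈ cen1 ρ → p * x * p⁻¹ = x ∨ p * x * p⁻¹ = x * z := fun {p x} p1 p2 p3 hx e =>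
    (k.uq.inv_small (u := p) k.ρC k.sq k.cc (by rw [mem_cen1.1 p2, mul_inv_cancel_right])
      ⟨T.mul_mem (T.inv_mem hx) (conj_mem_of_mem_normalizer (h.nT p1) hx), e⟩ (by
        rw [show p * (x⁻¹ * (p * x * p⁻¹)) * p⁻¹ = p * x⁻¹ * p⁻¹ * (p * p * x * (p * p)⁻¹) by group,
          p3.eq]; group)).imp (fun e => (inv_mul_eq_one.1 e).symm) fun e => by rw [← e]; group
  have e1 : s * σ * s⁻¹ = σ * z := (cm sS sρ (ss ▸ (h.zc σ (h.le hσ)).symm) hσ
    (((k.idx _ (inv_mem (h.le hσ)) _ (mul_mem (mul_mem sS (h.le hσ)) (inv_mem sS))).resolve_left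
      fun e => n1 (inv_mem_iff.1 e)).resolve_left fun e => n1 (by
        simpa [mul_assoc] using mul_mem (mul_mem (inv_mem sρ) e) sρ))).resolve_left fun e =>
    σz (h.root hq (mem_sup_left hg₀) e₀ sS ss (mul_inv_eq_iff_eq_mul.1 e))
  have iv : ∀ {x}, x ∈ S → x ∉ cen1 ρ → ρ * x * ρ⁻¹ = x * z := fun {x} hx e => by
    have := k.inv (inv_mem hx) fun e' => e (inv_mem_iff.1 e')
    rw [show ρ * x * ρ⁻¹ = x * (x⁻¹ * ρ * x⁻¹⁻¹) * ρ⁻¹ by group, this, mul_assoc, ← mul_inv_rev, k.sq,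
      h.zi]
  have pS := mul_mem sS ρS
  have pρ : s * ρ ∈ cen1 ρ := mul_mem sρ (mem_cen1.2 rfl)
  have pp : s * ρ * (s * ρ) = 1 := by
    rw [← pow_two, (show Commute s ρ from mem_cen1.1 sρ).mul_pow, pow_two, pow_two, ss, k.sq, h.zz]
  have pσ : Commute (s * ρ) σ := mul_inv_eq_iff_eq_mul.1 (by
    rw [show s * ρ * σ * (s * ρ)⁻¹ = s * (ρ * σ * ρ⁻¹) * s⁻¹ by group, iv (h.le hσ) n1, ← conj_mul, e1,
      (h.zc s sS).eq, mul_inv_cancel_right, mul_assoc, h.zz, mul_one])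
  have pt : t * (s * ρ) ∈ T := by rw [← mul_assoc]; exact mul_mem st k.mem
  generalize s * ρ = p at pS pρ pp pσ pt
  have pi : p⁻¹ = p := inv_eq_of_mul_eq_one_right pp
  have pz := h.zc p pS
  have pt' : p * t ∈ T := by simpa [pi, h.ti] using inv_mem pt
  have dT : ∀ x ∈ T, x ∈ cen1 ρ ∨ x * σ ∈ cen1 ρ := fun x hx =>
    (k.idx _ (h.le hx) _ (h.le hσ)).imp_right fun e => e.resolve_left n1
  let K : Subgroup G :=
    { carrier := {x | Commute x z ∧ (x * p * x⁻¹ = p ∨ x * p * x⁻¹ = p * z)}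
      one_mem' := ⟨Commute.one_left _, Or.inl (by simp)⟩
      mul_mem' := fun {x y} hx hy => ⟨hx.1.mul_left hy.1, by
        rw [show x * y * p * (x * y)⁻¹ = x * (y * p * y⁻¹) * x⁻¹ by group]
        rcases hy.2 with e | e <;> rw [e]
        · exact hx.2
        · rw [← conj_mul, hx.1.eq, mul_inv_cancel_right]
          exact hx.2.symm.imp (fun e => by rw [e, mul_assoc, h.zz, mul_one]) fun e => by rw [e]⟩
      inv_mem' := fun {x} hx => ⟨hx.1.inv_left, hx.2.imp (fun e => by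
          nth_rewrite 1 [← e]; group) fun e => by
        rw [← mul_left_inj z, mul_assoc p, h.zz, mul_one, mul_assoc, ← inv_inv x, inv_inv, inv_inv,
          hx.1.eq, ← mul_assoc, mul_assoc _ p, ← e]; group⟩ }
  have K1 : ∀ x ∈ T, x ∈ cen1 ρ → x ∈ K := fun x hx e => ⟨h.zc x (h.le hx),
    (cm pS pρ (by rw [pp]; exact Commute.one_left _) (inv_mem hx)
      (mul_mem (inv_mem (inv_mem e)) (mul_mem (mul_mem pρ (inv_mem e)) (inv_mem pρ)))).imp
      (fun e => by rw [mul_inv_eq_iff_eq_mul] at e; rw [mul_assoc, e]; group) fun e => by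
        rw [mul_inv_eq_iff_eq_mul] at e; rw [mul_assoc, e, pz.eq]; group⟩
  have K2 : σ ∈ K := ⟨h.zc σ (h.le hσ), Or.inl (by rw [← pσ.eq, mul_inv_cancel_right])⟩
  have K3 : T ≤ K := fun x hx => (dT x hx).elim (K1 x hx) fun e =>
    (mul_mem_cancel_right K2).1 (K1 _ (mul_mem hx hσ) e)
  have K4 : ∀ x ∈ S, x ∉ cen1 p → x * p * x⁻¹ = p * z := fun x hx e =>
    ((h.dec x hx).elim (fun e => K3 e) (fun e => (mul_mem_cancel_right
      (show p ∈ K from ⟨pz, Or.inl (by group)⟩)).1 (K3 (by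
        simpa [mul_assoc, ← mul_assoc t, h.tt] using mul_mem e pt))) : x ∈ K).2.resolve_left
      fun e' => e (RT.fix e')
  have idx : ∀ a ∈ S, ∀ b ∈ S, a ∈ cen1 p ∨ b ∈ cen1 p ∨ a * b ∈ cen1 p := fun a ha b hb =>
    or_iff_not_imp_left.2 fun k1 => or_iff_not_imp_left.2 fun k2 => RT.fix (by
      rw [show a * b * p * (a * b)⁻¹ = a * (b * p * b⁻¹) * a⁻¹ by group, K4 b hb k2, ← conj_mul,
        K4 a ha k1, (h.zc a ha).eq, mul_inv_cancel_right, mul_assoc, h.zz, mul_one])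
  have np : ∀ g ∈ A ⊔ zpowers t, g * t * g⁻¹ ≠ p := fun g hg e =>
    n (h.cy hg (h.sylT.le hσ) σσ (e ▸ pσ.symm) (e ▸ pz.symm) (h.zc σ (h.le hσ)))
  have h1 : ∀ g ∈ A ⊔ zpowers t, g * t * g⁻¹ ∈ S → g * t * g⁻¹ ∉ cen1 p := fun g hg k1 k2 => by
    have k3 : g * t * g⁻¹ * p ∈ T := by
      simpa [mul_assoc, ← mul_assoc t t, h.tt] using
        mul_mem (h.out hg (by rw [h.tt]; exact one_mem _) k1) pt
    have c : Commute (g * t * g⁻¹) p := mem_cen1.1 k2
    rcases h.cy hg (h.sylT.le k3) (by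
      rw [← pow_two, c.mul_pow, pow_two, pow_two, pp, conj_mul, h.tt]; group)
      ((Commute.refl _).mul_left c.symm) (h.zc _ k1).symm (h.zc _ (h.le k3)) with e | e
    · exact np g hg ((eq_inv_of_mul_eq_one_left e).trans pi)
    · exact n (h.cy hg (h.sylT.le hσ) σσ (by
        rw [eq_mul_inv_of_mul_eq e]; exact (h.zc σ (h.le hσ)).mul_right pσ.symm.inv_right)
        (h.zc _ k1).symm (h.zc σ (h.le hσ)))
  have tp : t ∉ cen1 p := by simpa using h1 1 (one_mem _) (by simpa using h.tS)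
  refine trf2 h.syl idx h.tS h.tt (h.syl.le pS) pp
    (commutator_mono le_sup_left le_sup_left (h.perf.ge (h.sylT.le pt))) h1 fun g hg k1 => ?_
  by_contra k2
  have k3 := h.out hg (h.sylT.le pt') k1
  have uu : g * p * g⁻¹ * (g * p * g⁻¹) = 1 := by rw [conj_mul, pp]; group
  have nu : ∀ d ∈ S, d * t * d⁻¹ ≠ g * p * g⁻¹ := fun d hd e =>
    np (g⁻¹ * d) (mul_mem (inv_mem hg) (h.syl.le hd)) (by
      rw [show g⁻¹ * d * t * (g⁻¹ * d)⁻¹ = g⁻¹ * (d * t * d⁻¹) * g by group, e]; group)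
  generalize g * p * g⁻¹ = u at k1 k2 k3 uu nu
  by_cases uρ : u ∈ cen1 ρ
  · have k4 : u * p ∈ T := by simpa [mul_assoc, ← mul_assoc t t, h.tt] using mul_mem k3 pt
    have k5 : u * p * (u * p) = z := by
      rw [show u * p * (u * p) = u * p * u⁻¹ * (u * u) * p by group, uu, K4 u k1 k2, mul_one,
        pz.eq, mul_assoc, pp, mul_one]
    have c : Commute ρ p := (mem_cen1.1 pρ : Commute p ρ).symm
    rcases k.uq.root_eq k.ρC ⟨k4, mul_mem uρ pρ⟩ k.sq k5 (k.cc _ ⟨k4, mul_mem uρ pρ⟩) with e | e <;>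
      refine k2 (mem_cen1.2 ?_) <;> rw [eq_mul_inv_of_mul_eq e]
    exacts [c.mul_left (Commute.refl p).inv_left, c.inv_left.mul_left (Commute.refl p).inv_left]
  have k4 : u * t ∈ cen1 ρ := ((k.idx _ k1 _ h.tS).resolve_left uρ).resolve_left tρ
  have k5 : u * t ∈ cen1 p := ((idx _ k1 _ h.tS).resolve_left k2).resolve_left tp
  obtain ⟨⟨c, hc⟩, hg⟩ := (k.uq.cyclic k.ρC k.sq k.cc).exists_monoid_generator
  have gen : ∀ x ∈ T ⊓ cen1 ρ, ∃ i : ℕ, c ^ i = x := fun x hx =>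
    (hg ⟨x, hx⟩).imp fun i e => congrArg Subtype.val e
  have cS := h.le hc.1
  have cp : c ∉ cen1 p := fun e => tp (by
    have l : T ≤ cen1 p := fun x hx => by
      have l0 : ∀ x ∈ T, x ∈ cen1 ρ → x ∈ cen1 p := fun x h1 h2 =>
        (gen x ⟨h1, h2⟩).elim fun i e' => e' ▸ pow_mem e i
      exact (dT x hx).elim (l0 x hx) fun e' =>
        (mul_mem_cancel_right (mem_cen1.2 pσ.symm)).1 (l0 _ (mul_mem hx hσ) e')
    exact (mul_mem_cancel_right (mem_cen1.2 rfl)).1 (l pt))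
  obtain ⟨i, ei⟩ := gen _ ⟨k3, k4⟩
  obtain ⟨j, rfl | rfl⟩ := Nat.even_or_odd' i
  swap
  · refine cp ((mul_mem_cancel_left (x := c ^ (2 * j)) ?_).1 (by rw [← pow_succ, ei]; exact k5))
    rw [pow_mul, pow_two]
    exact pow_mem (sq_mem_of_idx idx cS) j
  have d1 := pow_mem hc j
  rw [two_mul, pow_add] at ei
  generalize c ^ j = d at d1 ei
  have dS := h.le d1.1
  have d2 : t * d * t⁻¹ ∈ T ⊓ cen1 ρ := ⟨conj_mem_of_mem_normalizer (h.nT h.tS) d1.1, RT.fix (by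
    rw [show t * d * t⁻¹ * ρ * (t * d * t⁻¹)⁻¹ = t * (d * (t⁻¹ * ρ * t⁻¹⁻¹) * d⁻¹) * t⁻¹ by group,
      k.inv (inv_mem h.tS) fun e => tρ (inv_mem_iff.1 e), (show Commute d ρ from mem_cen1.1 d1.2).inv_right.eq,
      mul_inv_cancel_right, ← conj_inv, k.inv h.tS tρ, inv_inv])⟩
  have d3 : Commute d (t * d * t⁻¹) := by
    obtain ⟨i, e⟩ := gen _ d1
    obtain ⟨i', e'⟩ := gen _ d2
    rw [← e', ← e]
    exact (Commute.refl c).pow_pow _ _
  have eu : u = d * d * t := by rw [ei, mul_assoc, h.tt, mul_one]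
  rcases k.uq.fix_small k.ρC k.sq k.cc (k.inv h.tS tρ) (mul_mem d1 d2) (by
    rw [show t * (d * (t * d * t⁻¹)) * t⁻¹ = t * d * t⁻¹ * (t * t * d * (t * t)⁻¹) by group, h.tt, d3.eq]
    group) with e | e
  · refine nu d dS ?_
    rw [eu, show d * t * d⁻¹ = d * (t * d * t⁻¹)⁻¹ * t by group, inv_eq_of_mul_eq_one_left e]
  · refine nu (ρ * d) (mul_mem ρS dS) ?_
    rw [show ρ * d * t * (ρ * d)⁻¹ = ρ * (d * (t * d * t⁻¹)⁻¹ * t) * ρ⁻¹ by group,
      eq_inv_mul_of_mul_eq e, mul_inv_rev, inv_inv, h.zi, ← mul_assoc d, (h.zc d dS).eq, mul_assoc z,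
      mul_assoc z, ← eu, ← conj_mul, iv k1 uρ, (h.zc ρ ρS).eq, mul_inv_cancel_right,
      (h.zc u k1).eq, ← mul_assoc, h.zz, one_mul]

theorem idxT : ∀ a ∈ S, ∀ b ∈ S, a ∈ T ∨ b ∈ T ∨ a * b ∈ T := fun a ha b hb =>
  or_iff_not_imp_left.2 fun k1 => or_iff_not_imp_left.2 fun k2 => by
    have := mul_mem ((h.dec a ha).resolve_left k1)
      (conj_mem_of_mem_normalizer (h.nT h.tS) ((h.dec b hb).resolve_left k2))
    rwa [mul_assoc t, mul_inv_cancel_right, mul_assoc, ← mul_assoc t, h.tt, one_mul] at this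

theorem card_sup {B C : Subgroup G} (hB : B ≤ T) (n : t ∈ nor B) (l : B ≤ C) (tC : t ∈ C)
    (d : ∀ x ∈ C, x ∈ B ∨ x * t ∈ B) : Nat.card C = 2 * Nat.card B := by
  rw [← H9.card_sup_zpowers_of_normalizes n (fun e => h.tn (h.sylT.le (hB e)))
    (by rw [pow_two, h.tt]; exact one_mem _), le_antisymm (sup_le l (zpowers_le.2 tC)) fun x hx =>
      (d x hx).elim mem_sup_left fun e =>
        (mul_mem_cancel_right (mem_sup_right (mem_zpowers t))).1 (mem_sup_left e)]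

/-- The derived subgroup consists of the commutators with `t`. -/
theorem der (nc : ¬ IsMulCommutative S) : (∀ x ∈ ⁅S, S⁆, ∃ s ∈ S, s * t * s⁻¹ = x * t) ∧
    Nat.card T = 4 * Nat.card ↥(⁅S, S⁆ : Subgroup G) := by
  have c1 := h.card_sup le_rfl (h.nT h.tS) h.le h.tS h.dec
  have c2 : Nat.card ↥(S ⊓ cen1 t) = 8 := by
    rw [h.card_sup (B := T ⊓ cen1 t) inf_le_left (le_normalizer_inf (zpowers_le.2 (h.nT h.tS))
      ((zpowers_le.2 (mem_cen1.2 rfl)).trans le_normalizer) (mem_zpowers t))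
      (inf_le_inf_right _ h.le) ⟨h.tS, mem_cen1.2 rfl⟩ fun x hx => (h.dec x hx.1).imp
        (fun e => ⟨e, hx.2⟩) fun e => ⟨e, mul_mem hx.2 (mem_cen1.2 rfl)⟩, h.card]
  set τ : S := ⟨t, h.tS⟩
  have c3 : Nat.card (centralizer ({τ} : Set S)) = 8 := by
    rw [← c2, ← card_map_of_injective S.subtype_injective]
    congr 2
    ext x
    exact ⟨fun ⟨y, h1, h2⟩ => h2 ▸ ⟨y.2, mem_cen1.2 (congrArg Subtype.val (mem_cen1.1 h1))⟩,
      fun k => ⟨⟨x, k.1⟩, mem_cen1.2 (Subtype.ext (mem_cen1.1 k.2)), rfl⟩⟩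
  have c4 : Nat.card (_root_.commutator S) = Nat.card ↥(⁅S, S⁆ : Subgroup G) := by
    rw [← map_subtype_commutator, card_map_of_injective S.subtype_injective]
  have m : ∀ u : (ConjClasses.mk τ).carrier, u.1 * τ⁻¹ ∈ _root_.commutator S := fun u => by
    obtain ⟨s, e⟩ := isConj_iff.1 (ConjClasses.mk_eq_mk_iff_isConj.1
      (ConjClasses.mem_carrier_iff_mk_eq.1 u.2).symm)
    exact e ▸ commutator_mem_commutator (mem_top s) (mem_top τ)
  let f : (ConjClasses.mk τ).carrier → _root_.commutator S := fun u => ⟨_, m u⟩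
  have fi : Function.Injective f := fun a b e =>
    Subtype.ext (mul_right_cancel (congrArg Subtype.val e))
  have c5 := Nat.card_le_card_of_injective f fi
  have c6 := H24.card_carrier_eq_index τ
  have c7 := (centralizer ({τ} : Set S)).card_mul_index
  have c8 := (_root_.commutator S).card_mul_index
  obtain ⟨j, hj⟩ := h.syl.isPGroup.index (_root_.commutator S)
  have p0 : 0 < Nat.card (_root_.commutator S) := Nat.card_pos
  have j3 : j = 3 := by
    rw [hj] at c8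
    by_contra n
    rcases (show j ≤ 1 ∨ j = 2 ∨ 4 ≤ j by omega) with k | rfl | k
    · have : Group.IsNilpotent S := h.syl.isPGroup.isNilpotent
      have e := H3.eq_top_of_sup_commutator_of_nilpotent (K := zpowers τ) (by
        rw [sup_comm]
        refine eq_top_of_le_card _ ?_
        rw [H9.card_sup_zpowers_of_normalizes (p := 2) ((normalizer_eq_top (_root_.commutator S)).ge (mem_top τ)) (fun e => h.tn
          (h.sylT.le (commutator_le.2 (idx_comm h.idxT) (map_subtype_commutator S ▸ mem_map_of_mem _ e))))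
          (by rw [pow_two, show τ * τ = 1 from Subtype.ext h.tt]; exact one_mem _), ← c8, mul_comm 2]
        exact Nat.mul_le_mul_left _ (Nat.pow_le_pow_right two_pos k))
      refine nc ⟨⟨fun a b => ?_⟩⟩
      obtain ⟨i, rfl⟩ := mem_zpowers_iff.1 (e ▸ mem_top a)
      obtain ⟨k, rfl⟩ := mem_zpowers_iff.1 (e ▸ mem_top b)
      exact zpow_mul_comm _ _ _
    · obtain ⟨m, a, b, d⟩ := H3.exists_dsq_of_index_commutator' h.syl.isPGroup nc hj
      by_cases k : τ ∈ zpowers a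
      · have k1 : τ ∈ center S := by
          rcases mem_zp (show τ * τ = 1 from Subtype.ext h.tt) (d.z_mem_zpowers k fun e =>
            h.tn (by rw [show t = 1 from congrArg Subtype.val e]; exact one_mem _)) with e | e
          exacts [absurd e d.z_ne_one, e ▸ d.z_mem_center]
        have k2 : T ≤ cen1 t := fun x hx =>
          mem_cen1.2 (congrArg Subtype.val (mem_center_iff.1 k1 ⟨x, h.le hx⟩))
        have k3 : T ≤ zpowers r := (eq_of_le_of_card_ge (zpowers_le.2 h.rT) (by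
          rw [← inf_eq_left.2 k2, h.card, Nat.card_zpowers, show orderOf r = 2 ^ (1 + 1) from
            orderOf_eq_prime_pow (by rw [pow_one, pow_two, h.rr]; exact h.z1) (by
              rw [show 2 ^ (1 + 1) = 2 * 2 from rfl, pow_mul, pow_two r, h.rr, pow_two, h.zz])]
          rfl)).ge
        have k4 : ∀ x ∈ S, Commute r x → ∀ y ∈ S, Commute x t → Commute x y := fun x _ c y hy c' => by
          have k5 : ∀ y ∈ T, Commute x y := fun y hy => by
            obtain ⟨i, rfl⟩ := mem_zpowers_iff.1 (k3 hy)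
            exact c.symm.zpow_right i
          exact (h.dec y hy).elim (k5 y) fun e => by simpa using (k5 _ e).mul_right c'.inv_right
        refine nc ⟨⟨fun a b => Subtype.ext (k4 a a.2 (k4 r (h.le h.rT) rfl a a.2 h.rt.symm) b b.2
          (congrArg Subtype.val (mem_center_iff.1 k1 a)))⟩⟩
      · rw [d.card_centralizer k] at c3
        omega
    · have := Nat.mul_le_mul_left (Nat.card (_root_.commutator S)) (Nat.pow_le_pow_right two_pos k)
      rw [c3] at c7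
      omega
  rw [hj, j3] at c8
  rw [c3] at c7
  refine ⟨fun x hx => ?_, by omega⟩
  obtain ⟨y, hy, rfl⟩ := (map_subtype_commutator S).ge hx
  obtain ⟨u, e⟩ := ((Nat.bijective_iff_injective_and_card f).2 ⟨fi, by omega⟩).2 ⟨y, hy⟩
  obtain ⟨s, e'⟩ := isConj_iff.1 (ConjClasses.mk_eq_mk_iff_isConj.1
    (ConjClasses.mem_carrier_iff_mk_eq.1 u.2).symm)
  exact ⟨s, s.2, congrArg Subtype.val
    (e'.trans (eq_mul_of_mul_inv_eq (congrArg Subtype.val e)) : s * τ * s⁻¹ = y * τ)⟩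

end Z4

theorem dec2 (n : a ∈ nor W) (aa : a * a ∈ W) (hx : x ∈ W ⊔ zpowers a) : x ∈ W ∨ a⁻¹ * x ∈ W := by
  obtain ⟨b, hb, d, hd, rfl⟩ := (H12.mem_sup_of_le_normalizer (zpowers_le.2 n)).1 (sup_comm W _ ▸ hx)
  obtain ⟨k, rfl⟩ := mem_powers_iff_mem_zpowers.2 hb
  rcases Nat.even_or_odd' k with ⟨j, rfl | rfl⟩
  · exact Or.inl (mul_mem (by simpa [pow_mul, pow_two] using pow_mem aa j) hd)
  · refine Or.inr ?_
    simp only
    rw [pow_succ', mul_assoc, inv_mul_cancel_left, pow_mul, pow_two]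
    exact mul_mem (pow_mem aa j) hd

theorem odd_kill (h : Two x) {j : ℕ} (e : x ^ (2 * j + 1) = 1) : x = 1 :=
  eq_one_of_two h ((odd_two_mul_add_one j).of_dvd_nat (orderOf_dvd_of_pow_eq_one e))

/-- The quotient by a cyclic normal subgroup of index four is a four-group. -/
theorem quot (hA : ⁅A, A⁆ = A) (hT : IsSyl 2 T A) (hW : W ≤ T) (n : T ≤ nor W) (cy : IsCyclic W)
    (c : Nat.card T = 4 * Nat.card W) : (∀ y ∈ T, y * y ∈ W) ∧ ∀ a ∈ T, a ∉ W →
      ∀ b ∈ T, ∀ c ∈ T, b ∈ W ⊔ zpowers a ∨ c ∈ W ⊔ zpowers a ∨ b * c ∈ W ⊔ zpowers a := by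
  have p0 : 0 < Nat.card W := Nat.card_pos
  have h1 : ∀ y ∈ T, y * y ∈ W := fun y hy => by
    by_contra k
    obtain ⟨P, hP⟩ := hT.exists_sylow
    let φ := A.subtype.comp (P : Subgroup A).subtype
    have fi : Function.Injective φ := A.subtype_injective.comp (P : Subgroup A).subtype_injective
    have m : ∀ a : (P : Subgroup A), φ a ∈ T := fun a => (hP ▸ a.2 : a.1 ∈ T.subgroupOf A)
    have rg : W ≤ φ.range := fun x hx => ⟨⟨⟨x, hT.le (hW hx)⟩, hP ▸ hW hx⟩, rfl⟩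
    have : (W.comap φ).Normal := ⟨fun a ha g => by
      rw [mem_comap, map_mul, map_mul, map_inv]
      exact conj_mem_of_mem_normalizer (n (m g)) ha⟩
    have e := (W.comap φ).equivMapOfInjective φ fi
    rw [map_comap_eq_self rg] at e
    have c1 : Nat.card ((P : Subgroup A) ⧸ W.comap φ) = 4 := by
      have := (W.comap φ).card_mul_index
      rw [Nat.card_congr e.toEquiv, index_eq_card] at this
      refine Nat.eq_of_mul_eq_mul_left p0 (this.trans ?_)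
      rw [hP, Nat.card_congr (subgroupOfEquivOfLe hT.le).toEquiv, c, mul_comm]
    let y' : (P : Subgroup A) := ⟨⟨y, hT.le hy⟩, hP ▸ hy⟩
    have := Cfsg.Agent.S4418.result P (W.comap φ) (isCyclic_of_surjective _ e.symm.surjective)
      (isCyclic_of_orderOf_eq_card (QuotientGroup.mk' _ y') (by
        rw [c1]
        exact orderOf_eq_prime_pow (p := 2) (n := 1) (fun e => k (by
          rw [← map_pow, QuotientGroup.mk'_apply, QuotientGroup.eq_one_iff, pow_one, pow_two] at e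
          exact e)) (by rw [show 2 ^ (1 + 1) = 4 from rfl, ← c1, pow_card_eq_one']))) (by omega)
    have h2 : (⊤ : Subgroup A) ≠ ⊥ := fun e => k (by
      rw [show y = 1 from congrArg Subtype.val (mem_bot.1 (e.le (mem_top y'.1)) : y'.1 = 1), mul_one]
      exact one_mem _)
    refine (Group.IsSolvable.commutator_lt_of_ne_bot h2).ne (map_injective A.subtype_injective ?_)
    rw [← MonoidHom.range_eq_map, range_subtype]
    exact (map_subtype_commutator A).trans hA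
  refine ⟨h1, fun a ha k b hb d hd => ?_⟩
  have l : W ⊔ zpowers a ≤ T := sup_le hW (zpowers_le.2 ha)
  have h2 := ((W ⊔ zpowers a).subgroupOf T).card_mul_index
  rw [Nat.card_congr (subgroupOfEquivOfLe l).toEquiv, H9.card_sup_zpowers_of_normalizes (p := 2) (n ha) k
    (by rw [pow_two]; exact h1 a ha), c] at h2
  have h3 := mul_mem_iff_of_index_two (H := (W ⊔ zpowers a).subgroupOf T)
    (Nat.eq_of_mul_eq_mul_left (by omega : 0 < 2 * Nat.card W) (h2.trans (by ring))) (a := ⟨b, hb⟩) (b := ⟨d, hd⟩)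
  exact or_iff_not_imp_left.2 fun k1 => or_iff_not_imp_left.2 fun k2 => h3.2 (iff_of_false k1 k2)

theorem half (hw : Two w) (g : ∀ x ∈ W, ∃ i : ℕ, w ^ i = x) (wW : w ∈ W) (hx : x ∈ W)
    (n : ¬ ∃ a ∈ W, a * a = x) : ∀ b ∈ W, ∃ j : ℕ, x ^ j = b := fun b hb => by
  obtain ⟨i, rfl⟩ := g x hx
  obtain ⟨k, rfl⟩ := g b hb
  obtain ⟨j, rfl | rfl⟩ := Nat.even_or_odd' i
  · exact absurd ⟨w ^ j, pow_mem wW j, by rw [two_mul, pow_add]⟩ n
  obtain ⟨e, he⟩ := hw
  obtain ⟨m, hm⟩ := exists_pow_eq_self_of_coprime (x := w) (n := 2 * j + 1)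
    (Nat.Coprime.coprime_dvd_right (orderOf_dvd_of_pow_eq_one he)
      (Nat.Coprime.pow_right _ (odd_two_mul_add_one j).coprime_two_right))
  exact ⟨m * k, by rw [pow_mul, hm]⟩

/-- There is no normal four-group. -/
theorem Z4.v_case (h : Z4 A S T t r z) (hv : v ∈ T) (vv : v * v = 1)
    (act : ∀ s ∈ S, s * v * s⁻¹ = v ∨ s * v * s⁻¹ = v * z) : v = 1 ∨ v = z := by
  by_contra n
  obtain ⟨v1, vz⟩ := not_or.1 n
  have vS := h.le hv
  have rS := h.le h.rT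
  have vi : v⁻¹ = v := inv_eq_of_mul_eq_one_right vv
  have av : ∀ s ∈ S, s ∉ cen1 v → s * v * s⁻¹ = v * z := fun s hs k =>
    (act s hs).resolve_left fun e => k (RT.fix e)
  have tv : t ∉ cen1 v := fun e => n (h.nf v hv vv (mem_cen1.1 e).symm)
  have iv : ∀ a ∈ S, ∀ b ∈ S, a ∈ cen1 v ∨ b ∈ cen1 v ∨ a * b ∈ cen1 v := fun a ha b hb =>
    or_iff_not_imp_left.2 fun k1 => or_iff_not_imp_left.2 fun k2 => RT.fix (by
      rw [show a * b * v * (a * b)⁻¹ = a * (b * v * b⁻¹) * a⁻¹ by group, av b hb k2, ← conj_mul,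
        av a ha k1, (h.zc a ha).eq, mul_inv_cancel_right, mul_assoc, h.zz, mul_one])
  obtain ⟨cj, card⟩ := h.der fun e =>
    tv (mem_cen1.2 (congrArg Subtype.val (e.is_comm.comm (⟨t, h.tS⟩ : S) ⟨v, vS⟩)))
  have cm : ∀ a ∈ S, ∀ b ∈ S, a * b * a⁻¹ * b⁻¹ ∈ ⁅S, S⁆ := fun a ha b hb =>
    commutator_mem_commutator ha hb
  have hW : ⁅S, S⁆ ≤ T := commutator_le.2 (idx_comm h.idxT)
  have Wv : ⁅S, S⁆ ≤ cen1 v := commutator_le.2 (idx_comm iv)
  generalize ⁅S, S⁆ = W at cj card cm hW Wv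
  have inv : ∀ x ∈ W, t * x * t⁻¹ = x⁻¹ := fun x hx => by
    obtain ⟨s, -, e⟩ := cj x hx
    refine eq_inv_of_mul_eq_one_right ?_
    rw [h.ti, ← mul_assoc, ← mul_assoc, mul_assoc _ x, ← e, conj_mul, h.tt]; group
  have Wc : ∀ a ∈ W, ∀ b ∈ W, Commute a b := fun a ha b hb => inv_injective (by
    rw [← inv _ (mul_mem ha hb), ← conj_mul, inv a ha, inv b hb, mul_inv_rev])
  have U : UQ W z := ⟨h.sylT.isPGroup.to_le hW, h.zz, h.z1, fun {x} hx e => h.nf x (hW hx) e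
    (mul_inv_eq_iff_eq_mul.1 ((inv x hx).trans (inv_eq_of_mul_eq_one_right e))).symm⟩
  have tw : ∀ x ∈ W, Two x := fun x hx => two_of_mem U.p hx
  have zW : z ∈ W := by
    have := cm _ (inv_mem vS) _ h.tS
    rwa [inv_inv, mul_assoc, mul_assoc, ← mul_assoc t, av t h.tS tv, inv_mul_cancel_left] at this
  have nW : S ≤ nor W := fun s hs => mem_normalizer_of_cj_le (by
    rintro _ ⟨x, hx, rfl⟩
    simpa using mul_mem (cm s hs x (h.le (hW hx))) hx)
  have vW : v ∉ W := fun e => n (U.uq e vv)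
  have rt : (∀ d ∈ W, d * d = 1) ∨ ∃ ρ ∈ W, ρ * ρ = z := or_iff_not_imp_left.2 fun k => by
    push Not at k
    obtain ⟨d, d1, d2⟩ := k
    exact (U.root d1 d2).elim fun m e => ⟨_, pow_mem d1 m, e⟩
  have cy : IsCyclic W := rt.elim (fun k => (Subgroup.isCyclic_iff_exists_zpowers_eq_top W).2
      ⟨z, le_antisymm (zpowers_le.2 zW) fun x hx => by
        rcases U.uq hx (k x hx) with e | e <;> rw [e]
        exacts [one_mem _, mem_zpowers z]⟩)
    fun ⟨ρ, h1, h2⟩ => U.cyclic h1 h2 (Wc ρ h1)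
  obtain ⟨sq, idx⟩ := quot h.perf h.sylT hW (h.le.trans nW) cy card
  have hq : ∀ s ∈ S, s * s * (s * s) = 1 → s * s = 1 ∨ s * s = z := fun s hs => U.uq (by
    rcases h.dec s hs with k | k
    · exact sq s k
    · have := mul_mem (sq _ k) (cm _ (inv_mem (h.le k)) _ h.tS)
      rwa [show s * t * (s * t) * ((s * t)⁻¹ * t * (s * t)⁻¹⁻¹ * t⁻¹) = s * (t * t) * s by group, h.tt,
        mul_one] at this)
  have nz : ∀ g ∈ A ⊔ zpowers t, g * v * g⁻¹ ≠ z := fun g hg e => vz (by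
    rcases (iv _ h.tS _ rS).resolve_left tv with k | k
    exacts [h.root hq hg e rS h.rr (mem_cen1.1 k),
      h.root hq hg e (mul_mem h.tS rS) h.trsq (mem_cen1.1 k)])
  have th : ∀ a ∈ T, a ∉ W → ∃ g ∈ A, ∃ x ∈ W, g * v * g⁻¹ = a * x ∧ a * x * (a * x) = 1 :=
    fun a ha k => by
    obtain ⟨g, hg, -, k2⟩ := thom h.perf h.sylT (idx a ha k) hv vv
    have k3 : g * v * g⁻¹ * (g * v * g⁻¹) = 1 := by rw [conj_mul, vv]; group
    exact ⟨g, hg, _, (dec2 (nW (h.le ha)) (sq a ha) k2).resolve_left fun e => (U.uq e k3).elim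
      (fun e => v1 (by simpa using e)) (nz g (mem_sup_left hg)), by group, by simpa using k3⟩
  obtain k | ⟨ρ, ρW, ρρ⟩ := rt
  · obtain ⟨-, -, x, hx, -, e⟩ := th r h.rT fun e => h.z1 (h.rr ▸ k r e)
    rcases U.uq hx (k x hx) with e' | e' <;> rw [e'] at e
    · exact h.z1 (by rwa [mul_one, h.rr] at e)
    · exact h.z1 (by rwa [← pow_two, (h.zc r rS).mul_pow, pow_two, pow_two, h.rr, h.zz, mul_one] at e)
  obtain ⟨⟨w, wW⟩, hg⟩ := cy.exists_monoid_generator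
  have gen : ∀ x ∈ W, ∃ i : ℕ, w ^ i = x := fun x hx =>
    (hg ⟨x, hx⟩).imp fun i e => congrArg Subtype.val e
  have nw : ¬ ∃ a ∈ W, a * a = w := fun ⟨a, ha, e⟩ => by
    obtain ⟨i, rfl⟩ := gen a ha
    obtain ⟨j, ez⟩ := gen z zW
    suffices e1 : w = 1 from h.z1 (by rw [← ez, e1, one_pow])
    rcases i with _ | i
    · simpa using e.symm
    · exact odd_kill (j := i) (tw w wW) (mul_right_cancel (b := w) (by
        rw [one_mul, ← pow_succ, show 2 * i + 1 + 1 = i + 1 + (i + 1) by ring, pow_add, e]))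
  have DW : ∀ y ∈ T, y⁻¹ * (t * y * t⁻¹) ∈ W := fun y hy => by
    simpa [mul_assoc] using cm _ (inv_mem (h.le hy)) _ h.tS
  have dB : ∀ a ∈ W ⊔ zpowers v, a ∈ W ∨ v⁻¹ * a ∈ W := fun a => dec2 (nW vS) (sq v hv)
  have Bv : W ⊔ zpowers v ≤ cen1 v := sup_le Wv (zpowers_le.2 (mem_cen1.2 rfl))
  have BW : ∀ a ∈ W ⊔ zpowers v, ∀ x ∈ W, Commute a x := fun a ha x hx => (dB a ha).elim
    (fun e => Wc a e x hx) fun e => by
      simpa using (show Commute x v from mem_cen1.1 (Wv hx)).symm.mul_left (Wc _ e x hx)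
  have DB : ∀ a ∈ W ⊔ zpowers v, ∃ b ∈ W, b * b = a⁻¹ * (t * a * t⁻¹) := fun a ha => by
    rcases dB a ha with e | e
    · exact ⟨a⁻¹, inv_mem e, by rw [inv a e]⟩
    · refine ⟨(v⁻¹ * a)⁻¹ * ρ, mul_mem (inv_mem e) ρW, ?_⟩
      generalize hx : v⁻¹ * a = x at e
      obtain rfl : a = v * x := by rw [← hx]; group
      rw [← pow_two, (Wc _ (inv_mem e) _ ρW).mul_pow, pow_two, pow_two, ρρ, ← conj_mul,
        av t h.tS tv, inv x e, mul_assoc, (Wc _ (inv_mem e) _ zW).eq]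
      group
  obtain ⟨y₀, y1, y2⟩ : ∃ y ∈ T, y⁻¹ * (t * y * t⁻¹) = w := by
    obtain ⟨s, hs, e⟩ := cj w wW
    rcases h.dec s hs with k | k
    · exact ⟨s⁻¹, inv_mem k, by rw [← mul_left_inj t, ← e]; group⟩
    · exact ⟨(s * t)⁻¹, inv_mem k, by rw [← mul_left_inj t, ← e]; group⟩
  have y3 : y₀ ∉ W ⊔ zpowers v := fun e => nw (y2 ▸ DB _ e)
  have ou : ∀ y ∈ T, y ∉ W ⊔ zpowers v → y ∉ W := fun y _ k e => k (mem_sup_left e)
  have ou2 : ∀ {y x}, y ∉ W ⊔ zpowers v → x ∈ W → y * x ∉ W ⊔ zpowers v := fun k hx e =>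
    k ((mul_mem_cancel_right (mem_sup_left hx)).1 e)
  have key1 : ∀ y ∈ T, y ∉ W ⊔ zpowers v → ∀ b ∈ W, ∃ j : ℕ, (y⁻¹ * (t * y * t⁻¹)) ^ j = b :=
    fun y hy k => half (tw w wW) gen wW (DW y hy) fun ⟨c, c1, c2⟩ => by
      have k1 := ((idx v hv vW _ (inv_mem y1) _ hy).resolve_left fun e =>
        y3 (inv_mem_iff.1 e)).resolve_left k
      obtain ⟨b, b1, b2⟩ := DB _ k1
      refine nw ⟨c * b⁻¹, mul_mem c1 (inv_mem b1), ?_⟩
      rw [← pow_two, (Wc _ c1 _ (inv_mem b1)).mul_pow, inv_pow, pow_two, pow_two, c2, b2,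
        ← mul_inv_cancel_right w (y₀⁻¹ * y)⁻¹, ← (BW _ (inv_mem k1) w wW).eq, ← y2]
      group
  have key2 : ∀ y ∈ T, y ∉ W ⊔ zpowers v → ∀ x ∈ W, y⁻¹ * x * y = x⁻¹ := fun y hy k => by
    have g1 := key1 y hy k
    have g2 := DW y hy
    have q1 := sq y hy
    obtain ⟨a, a1, a2⟩ : ∃ a ∈ W, a * a = y * y := by
      by_contra k2
      obtain ⟨-, -, x, hx, -, e⟩ := th y hy (ou y hy k)
      obtain ⟨j, rfl⟩ := half (tw w wW) gen wW q1 k2 x hx
      refine k2 ⟨1, one_mem _, (odd_kill (j := j) (tw _ q1) ?_).symm ▸ mul_one _⟩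
      rw [← e, ← pow_two (y * _), ((Commute.refl y).mul_right (Commute.refl y)).pow_right j |>.mul_pow,
        ← pow_mul, pow_two, mul_comm j, pow_succ']
    have e1 : y⁻¹ * (y⁻¹ * (t * y * t⁻¹)) * y = (y * y)⁻¹ * (y * y)⁻¹ * (y⁻¹ * (t * y * t⁻¹))⁻¹ := by
      rw [mul_assoc (y * y)⁻¹, ← inv _ q1]
      have := inv _ q1
      rw [show t * (y * y) * t⁻¹ * (y⁻¹ * (t * y * t⁻¹))⁻¹ = t * y * t⁻¹ * y by group, this]
      group
    generalize y⁻¹ * (t * y * t⁻¹) = d at g1 g2 e1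
    have e2 : ∀ j : ℕ, y⁻¹ * d ^ j * y = ((y * y)⁻¹ * (y * y)⁻¹) ^ j * (d ^ j)⁻¹ := fun j => by
      rw [← inv_pow, ← (Wc _ (mul_mem (inv_mem q1) (inv_mem q1)) _ (inv_mem g2)).mul_pow, ← e1,
        ← inv_inv y, inv_inv y⁻¹, conj_pow]
    obtain ⟨j, rfl⟩ := g1 a a1
    have e3 : (y * y)⁻¹ * (y * y)⁻¹ = 1 := by
      have m := mul_mem (inv_mem q1) (inv_mem q1)
      refine odd_kill (j := j) (tw _ m) ?_
      have e4 : y⁻¹ * d ^ j * y * (y⁻¹ * d ^ j * y) = y * y := by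
        rw [show y⁻¹ * d ^ j * y * (y⁻¹ * d ^ j * y) = y⁻¹ * (d ^ j * d ^ j) * y by group, a2]; group
      rw [e2, ← pow_two, (Wc _ (pow_mem m j) _ (inv_mem a1)).mul_pow, ← pow_mul, inv_pow, pow_two (d ^ j),
        a2, mul_comm j] at e4
      rw [pow_succ, ← mul_assoc, e4, mul_inv_cancel]
    intro x hx
    obtain ⟨i, rfl⟩ := g1 x hx
    rw [e2, e3, one_pow, one_mul]
  have cjs : ∀ y ∈ T, y ∉ W ⊔ zpowers v → ∀ b ∈ W, b⁻¹ * y * b⁻¹⁻¹ = y * (b * b) := fun y hy k b hb => by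
    rw [show b⁻¹ * y * b⁻¹⁻¹ = y * (y⁻¹ * b⁻¹ * y) * b by group, key2 y hy k _ (inv_mem hb)]; group
  obtain ⟨g, hg, x, hx, e0, yy⟩ := th y₀ y1 (ou _ y1 y3)
  have y4 := mul_mem y1 (hW hx)
  have y5 := ou2 y3 hx
  generalize y₀ * x = y at e0 yy y4 y5
  by_cases yv : y ∈ cen1 v
  swap
  · have k1 : y * v ∉ W ⊔ zpowers v := fun e =>
      y5 ((mul_mem_cancel_right (mem_sup_right (mem_zpowers v))).1 e)
    have k2 := mul_mem y4 hv
    obtain ⟨-, -, x, hx, -, e⟩ := th _ k2 (ou _ k2 k1)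
    refine h.z1 ?_
    rw [← e, show y * v * x * (y * v * x) = y * v * y⁻¹ * (y * y) * v * ((y * v)⁻¹ * x * (y * v)) * x by
      group, key2 _ k2 k1 x hx, yy, av y (h.le y4) yv, ← (h.zc v vS).eq.symm, mul_one,
      inv_mul_cancel_right, mul_assoc, vv, mul_one]
  have vc : ∀ x ∈ T, Commute x v := fun x hx => mem_cen1.1 (by
    rcases (idx v hv vW _ y4 _ hx).resolve_left y5 with e | e
    exacts [Bv e, (mul_mem_cancel_left yv).1 (Bv e)])
  obtain ⟨f, f1, f2, f3⟩ := ext1 (σ := y) h.sylT vc (inv_mem hg) (by rw [← e0]; group)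
  have z2 := f3 z h.zT (h.zc y (h.le y4)).symm
  have z3 : f * z * f⁻¹ * (f * z * f⁻¹) = 1 := by rw [conj_mul, h.zz]; group
  have nf : ∀ d ∈ A ⊔ zpowers t, d * (f * z * f⁻¹) * d⁻¹ ≠ v := fun d hd e =>
    nz (d * f)⁻¹ (inv_mem (mul_mem hd (mem_sup_left f1))) (by rw [← e]; group)
  by_cases zB : f * z * f⁻¹ ∈ W ⊔ zpowers v
  · have fz : f * z * f⁻¹ = z := by
      rcases dB _ zB with e | e
      · exact (U.uq e z3).resolve_left fun e => h.z1 (by simpa using e)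
      exfalso
      rcases U.uq e (by
        rw [← pow_two, (vc _ z2).symm.inv_left.mul_pow, vi, pow_two, pow_two, vv, z3, mul_one]) with e | e
      · exact nf 1 (one_mem _) (by rw [inv_mul_eq_one.1 e]; group)
      · refine nf t⁻¹ (inv_mem (h.syl.le h.tS)) ?_
        rw [eq_mul_of_inv_mul_eq e, ← av t h.tS tv]; group
    obtain ⟨p, p1, p2, p3⟩ := ext1 (σ := v * z) (g := f * ρ * f⁻¹) h.sylT vc
      (mul_mem (mul_mem f1 (h.sylT.le (hW ρW))) (inv_mem f1)) (by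
        rw [← f2, ← fz, conj_mul, ← ρρ, ← cjs y y4 y5 ρ ρW]; group)
    have p4 : ∀ b ∈ T, p * b * p⁻¹ ∈ T := fun b hb => p3 b hb ((vc b hb).mul_right (h.zc b (h.le hb)))
    have p5 : p * z * p⁻¹ = z := by
      rcases hq _ (h.le (p4 ρ (hW ρW))) (by rw [conj_mul, ρρ, conj_mul, h.zz]; group) with e | e <;>
        rw [conj_mul, ρρ] at e
      exacts [absurd (by simpa using e) h.z1, e]
    have p6 : p * v * p⁻¹ = v * z := by
      rw [← conj_mul, p5] at p2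
      rw [eq_mul_inv_of_mul_eq p2, h.zi]
    have p7 : p * p ∈ cen1 v := RT.fix (by
      rw [show p * p * v * (p * p)⁻¹ = p * (p * v * p⁻¹) * p⁻¹ by group, p6, p2])
    obtain ⟨a, m, ⟨j, rfl⟩, e⟩ := Nat.exists_eq_two_pow_mul_odd (orderOf_pos p).ne'
    have p8 := mem_cen1.2 (vc _ (h.sylT.le_of_le_normalizer' (H98.isPGroup_zpowers (k := a) (by
      rw [← pow_mul, mul_comm, ← e, pow_orderOf_eq_one])) (zpowers_le.2 (pow_mem p1 _))
      (zpowers_le.2 (pow_mem (mem_normalizer_of_cj_le (by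
        rintro _ ⟨b, hb, rfl⟩; exact p4 b hb)) _)) (mem_zpowers _)))
    rw [pow_succ, pow_mul, pow_two, mul_mem_cancel_left (pow_mem p7 j)] at p8
    rw [mem_cen1.1 p8, mul_inv_cancel_right] at p6
    exact h.z1 (left_eq_mul.1 p6)
  obtain ⟨k, k1, x, hx, e, -⟩ := th _ z2 (ou _ z2 zB)
  have g2 := DW _ z2
  obtain ⟨i, rfl⟩ := key1 _ z2 zB x hx
  generalize f * z * f⁻¹ = u at z2 zB nf e g2
  obtain ⟨j, rfl | rfl⟩ := Nat.even_or_odd' i
  · rw [two_mul, pow_add, ← cjs u z2 zB _ (pow_mem g2 j)] at e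
    exact nf (k⁻¹ * (_ ^ j)⁻¹) (mul_mem (inv_mem (mem_sup_left k1)) (inv_mem (h.syl.le (h.le (hW
      (pow_mem g2 j)))))) (by rw [← inv_mul_cancel_left k v, ← mul_inv_cancel_right (k * v) k⁻¹, e]; group)
  · rw [pow_succ', two_mul, pow_add, ← mul_assoc, ← cjs _ (mul_mem z2 (hW g2)) (ou2 zB g2) _
      (pow_mem g2 j), mul_inv_cancel_left] at e
    exact nf (k⁻¹ * (_ ^ j)⁻¹ * t) (mul_mem (mul_mem (inv_mem (mem_sup_left k1)) (inv_mem (h.syl.le
      (h.le (hW (pow_mem g2 j)))))) (h.syl.le h.tS)) (by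
        rw [← inv_mul_cancel_left k v, ← mul_inv_cancel_right (k * v) k⁻¹, e]; group)

theorem s1914 (hA : layer A = ⊤) (ht : orderOf t = 2) (tA : t ∈ nor A)
    (hC : ∀ R : Sylow 2 ↥(A ⊓ cen1 t), IsCyclic R ∧ Nat.card R = 4) :
    PRankLE 2 1 A ∧ ¬ PRankLE 2 0 A := by
  have tt := mul_self_of_two ht
  obtain ⟨R, hR, -⟩ := exists_isSyl_le (p := 2) (H := A ⊓ cen1 t) IsPGroup.of_bot bot_le
  obtain ⟨P, hP⟩ := hR.exists_sylow
  have eq := subgroupOfEquivOfLe hR.le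
  rw [← hP] at eq
  have c4 : Nat.card R = 4 := (Nat.card_congr eq.toEquiv).symm.trans (hC P).2
  obtain ⟨r, rfl⟩ := (Subgroup.isCyclic_iff_exists_zpowers_eq_top R).1
    (have := (hC P).1; isCyclic_of_surjective _ eq.surjective)
  have ro : orderOf r = 4 := (Nat.card_zpowers r).symm.trans c4
  have z1 : r * r ≠ 1 := fun e => by
    have := orderOf_dvd_of_pow_eq_one ((pow_two r).trans e)
    rw [ro] at this
    omega
  have zz : r * r * (r * r) = 1 := by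
    rw [← pow_orderOf_eq_one r, ro, show 4 = 2 + 2 from rfl, pow_add, pow_two]
  have uq : ∀ σ ∈ zpowers r, σ * σ = 1 → σ = 1 ∨ σ = r * r := fun σ hσ e => by
    obtain ⟨k, rfl⟩ := mem_powers_iff_mem_zpowers.2 hσ
    obtain ⟨j, rfl | rfl⟩ := Nat.even_or_odd' k
    · simp only
      rw [pow_mul, pow_two]
      exact (pow_inv2 zz j).imp And.left And.left
    · simp only at e
      rw [← pow_two, ← pow_mul, mul_comm, pow_mul, pow_two] at e
      exact absurd (odd_kill (two_of_sq zz) e) z1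
  have rA := hR.le (mem_zpowers r)
  refine ⟨?_, fun k => ?_⟩
  swap
  · have := prankLE_iff.1 k (zpowers (r * r)) (zpowers_le.2 (mul_mem rA.1 rA.1))
      ⟨inferInstance, fun a ha => by rcases mem_zp zz ha with e | e <;> simp [e, pow_two, zz]⟩
    rw [Nat.card_zpowers, orderOf_eq_prime (p := 2) (by rw [pow_two, zz]) z1] at this
    omega
  obtain ⟨S, hS, hle⟩ := exists_isSyl_le (H := A ⊔ zpowers t) (IsPGroup.to_sup_of_normal_left'
    hR.isPGroup (two_of_sq tt).isPGroup (nor_zp fun s hs => by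
      obtain ⟨i, rfl⟩ := mem_zpowers_iff.1 hs
      exact (show Commute r t from mem_cen1.1 rA.2).symm.zpow_left i))
    (sup_le_sup_right (hR.le.trans inf_le_left) _)
  have sA : S ≤ nor A := hS.le.trans (sup_le le_normalizer (zpowers_le.2 tA))
  have hT := hS.inf_of_le_normalizer le_sup_left sA
  have sT : S ≤ nor (S ⊓ A) := le_normalizer_inf le_normalizer sA
  have tS := hle (mem_sup_right (mem_zpowers t))
  have rT : r ∈ S ⊓ A := ⟨hle (mem_sup_left (mem_zpowers r)), rA.1⟩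
  have eR : S ⊓ A ⊓ cen1 t = zpowers r := hR.eq_of_le (hT.isPGroup.to_le inf_le_left)
    (zpowers_le.2 ⟨rT, rA.2⟩) (inf_le_inf_right _ inf_le_right)
  obtain ⟨z, zT, z0, z2, zc⟩ := step hS.isPGroup inf_le_left (N := ⊥) (by simp) sT
    fun e => z1 (by rw [mem_bot.1 (e rT), mul_one])
  rw [mem_bot] at z0 z2
  have zc' : ∀ s ∈ S, Commute s z := fun s hs =>
    mul_inv_eq_iff_eq_mul.1 (inv_mul_eq_one.1 (mem_bot.1 (zc s hs))).symm
  obtain rfl : z = r * r := (uq z (eR.le ⟨zT, mem_cen1.2 (zc' t tS).symm⟩) z2).resolve_left z0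
  refine rk1 (z := r * r) hT fun σ hσ σσ => ?_
  by_cases tn : t ∈ A
  · have e := (uq t (eR.le ⟨⟨tS, tn⟩, mem_cen1.2 rfl⟩) tt).resolve_left (ne_one_of_two ht)
    exact uq σ (eR.le ⟨hσ, mem_cen1.2 (e ▸ zc' σ hσ.1)⟩) σσ
  have h : Z4 A S (S ⊓ A) t r (r * r) := ⟨perf hA, tA, tn, tt, hS, hT, inf_le_left, tS, sT,
    fun x hx => by
      obtain ⟨a, ha, b, hb, rfl⟩ := (H12.mem_sup_of_le_normalizer' (zpowers_le.2 tA)).1 (hS.le hx)
      rcases mem_zp tt hb with rfl | rfl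
      · exact Or.inl ⟨hx, by simpa using ha⟩
      · exact Or.inr ⟨S.mul_mem hx tS, by simpa [mul_assoc, tt] using ha⟩,
    rT, rfl, zz, z1, (mem_cen1.1 rA.2).symm, zc', eR ▸ c4, fun {g a} hg ha aa c1 c2 c3 =>
      or_iff_not_imp_left.2 fun a1 => by
        have m : ∀ {x}, x ∈ A → Commute x (g * t * g⁻¹) → g⁻¹ * x * g⁻¹⁻¹ ∈ A ⊓ cen1 t := fun {x} h1 h2 =>
          ⟨conj_mem_of_mem_normalizer (inv_mem (sup_le le_normalizer (zpowers_le.2 tA) hg)) h1,
            mem_cen1.2 (by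
              rw [show g⁻¹ * x * g⁻¹⁻¹ * t = g⁻¹ * (x * (g * t * g⁻¹)) * g by group, h2.eq]; group)⟩
        have o : ∀ {x : G}, x * x = 1 → x ≠ 1 → orderOf (g⁻¹ * x * g⁻¹⁻¹) = 2 := fun {x} h1 h2 =>
          orderOf_eq_prime (by rw [pow_two, conj_mul, h1]; group) (fun e => h2 (conj_eq_one_iff.1 e))
        simpa using eq_of_prank_one (rk1 hR uq) (o aa a1) (o zz z1) (m ha c1) (m zT.2 c2) (by
          rw [conj_mul, conj_mul, c3.eq])⟩
  rcases rl hS.isPGroup inf_le_left sT zT zz z1 zc' fun v hv vv k => h.v_case hv vv k with k | ⟨ρ, k⟩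
  exacts [mem_zp zz (k hσ), h.rt_case k hσ σσ]

end H25.SS
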