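import Cfsg.Agent.H25.STHc
import Cfsg.Agent.H88.LocE

/-! STD-S kit, part 6: tools for the `GA` slots (invariant relations, word certificates, bit masks). -/

set_option autoImplicit false
set_option linter.unusedSectionVars false

namespace H25.ST

open H64.SG Subgroup H71 H81 H88
open H67.SA (cm cm_eq_one)

universe u

/-! ### Bit masks -/

section Bits

variable {G H : Type*} [Group G] [Group H] {g g' : ℕ → G} {n : ℕ}

/-- The product of the `g i`, `i < n`, `i` a bit of `m`. -/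
def evb (g : ℕ → G) : ℕ → ℕ → G
  | 0, _ => 1
  | n + 1, m => evb g n m * (if m.testBit n then g n else 1)

/-- The sum of the `M i`. -/
def sumb (M : ℕ → ℕ) : ℕ → ℕ → ℕ
  | 0, _ => 0
  | n + 1, m => sumb M n m ^^^ (if m.testBit n then M n else 0)

/-- The concatenation of the words `bw i`. -/
def mw (bw : List (List ℕ)) : ℕ → ℕ → List ℕ
  | 0, _ => []
  | n + 1, m => H88.app (mw bw n m) (if m.testBit n then nthD bw [] n else [])

theorem evb_mw (v : ℕ → G) (bw : List (List ℕ)) (n m : ℕ) :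
    evb (fun i => evw v (nthD bw [] i)) n m = evw v (mw bw n m) := by
  induction n with
  | zero => rfl
  | succ n ih => rw [evb, mw, app_eq, evw_append, ih]; split_ifs <;> rfl

theorem evb_mem {K : Subgroup G} (h : ∀ i < n, g i ∈ K) (m : ℕ) : evb g n m ∈ K := by
  induction n with
  | zero => exact one_mem _
  | succ n ih =>
    refine mul_mem (ih fun i hi => h i (by omega)) ?_
    split_ifs
    exacts [h n (by omega), one_mem _]

theorem evb_comm {x : G} (h : ∀ i < n, Commute x (g i)) (m : ℕ) : Commute x (evb g n m) :=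
  mem_Cz.1 (evb_mem (fun i hi => mem_Cz.2 (h i hi)) m)

theorem evb_map (f : G →* H) (m : ℕ) : f (evb g n m) = evb (fun i => f (g i)) n m := by
  induction n with
  | zero => exact map_one f
  | succ n ih => rw [evb, evb, map_mul, ih]; split_ifs <;> simp

theorem evb_one {m : ℕ} (h : ∀ i < n, m.testBit i = false) : evb g n m = 1 := by
  induction n with
  | zero => rfl
  | succ n ih => rw [evb, ih fun i hi => h i (by omega), h n (by omega)]; simp

theorem evb_zero : evb g n 0 = 1 := evb_one fun i _ => Nat.zero_testBit i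
theorem evb_shift (m : ℕ) : evb g n (m <<< n) = 1 :=
  evb_one fun i hi => by simp [Nat.testBit_shiftLeft, hi]

theorem evb_xor (hs : ∀ i < n, g i * g i = 1) (hc : ∀ i < n, ∀ j < n, Commute (g i) (g j)) (a b : ℕ) :
    evb g n (a ^^^ b) = evb g n a * evb g n b := by
  induction n with
  | zero => exact (one_mul _).symm
  | succ n ih =>
    have c := (evb_comm (fun i hi => hc n (by omega) i (by omega : i < n + 1)) b (n := n)).eq
    rw [evb, evb, evb, ih (fun i hi => hs i (by omega)) fun i hi j hj => hc i (by omega) j (by omega),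
      Nat.testBit_xor]
    cases a.testBit n <;> cases b.testBit n <;> simp [mul_assoc, c]
    rw [← mul_assoc, c, mul_assoc, hs n (by omega), mul_one]

theorem evb_mul (hc : ∀ i < n, ∀ j < n, Commute (g i) (g' j)) (m : ℕ) :
    evb (fun i => g i * g' i) n m = evb g n m * evb g' n m := by
  induction n with
  | zero => exact (one_mul _).symm
  | succ n ih =>
    have c := (evb_comm (fun i hi => hc n (by omega) i (by omega : i < n + 1)) m (n := n)).eq
    rw [evb, evb, evb, ih fun i hi j hj => hc i (by omega) j (by omega)]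
    split_ifs
    · rw [mul_assoc, ← mul_assoc (evb g' n m), ← c]; simp only [mul_assoc]
    · simp

theorem evb_sum {f M : ℕ → _} (f0 : f 0 = (1 : G)) (fx : ∀ a b, f (a ^^^ b) = f a * f b)
    (h : ∀ i < n, g i = f (M i)) (m : ℕ) : evb g n m = f (sumb M n m) := by
  induction n with
  | zero => exact f0.symm
  | succ n ih =>
    rw [evb, sumb, fx, ih fun i hi => h i (by omega)]
    split_ifs
    exacts [by rw [h n (by omega)], by rw [f0]]

/-- `t d` is conjugate to `t` under `C(W)`. -/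
theorem cen_lift [Finite G] {W : Set G} {t d : G} (hd : d ∈ centralizer W)
    (inv : t * d * t⁻¹ = d⁻¹) (hW : ∀ v ∈ centralizer W, t * v = v * t → Is2 v →
      v * v = 1 ∧ ∃ w ∈ W, w ∈ centralizer W ∧ w * w = 1 ∧ w * t * w⁻¹ = t * v) :
    ∃ c ∈ centralizer W, c * t * c⁻¹ = t * d := by
  have k0 : ∀ {u : G}, t * u * t⁻¹ = u⁻¹ → u * t * u⁻¹ = t * (u * u)⁻¹ := fun {u} h => by
    have : t * u⁻¹ * t⁻¹ = u := by rw [← conj_inv, h, inv_inv]
    rw [mul_inv_rev, ← mul_assoc, mul_inv_eq_iff_eq_mul.1 this]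
  have k1 : ∀ {u : G}, t * u * t⁻¹ = u⁻¹ → u * u = 1 → t * u = u * t := fun h h2 => by
    rw [← mul_inv_eq_iff_eq_mul, h, inv_eq_of_mul_eq_one_right h2]
  have k2 : ∀ (k : ℕ) (u : G), u ∈ centralizer W → t * u * t⁻¹ = u⁻¹ → u ^ 2 ^ k = 1 → u * u = 1 := by
    intro k
    induction k with
    | zero => intro u _ _ h; rw [show u = 1 by simpa using h, one_mul]
    | succ k ih =>
      intro u hu hi h
      have i2 : t * (u * u) * t⁻¹ = (u * u)⁻¹ := by rw [← conj_mul, hi, mul_inv_rev]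
      have h2 := ih _ (mul_mem hu hu) i2 (by rw [← pow_two, ← pow_mul, ← pow_succ', h])
      obtain ⟨-, w, w1, w2, w3, w4⟩ := hW _ (mul_mem hu hu) (k1 i2 h2) (is2_of_sq h2)
      have c : Commute w u := hu w w1
      have := (hW _ (mul_mem w2 hu) (by
        rw [eq_comm, ← mul_inv_eq_iff_eq_mul, mul_inv_rev, mul_assoc w, mul_assoc w, ← mul_assoc (u * t),
          k0 hi, mul_assoc t, ← ((c.mul_right c).inv_inv).eq, ← mul_assoc, ← mul_assoc, w4,
          mul_inv_cancel_right]) ((is2_of_sq w3).mul ⟨_, h⟩ c)).1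
      rwa [mul_assoc, ← mul_assoc u, ← c.eq, ← mul_assoc, ← mul_assoc, w3, one_mul] at this
  obtain ⟨i, j, e1, ⟨k, e2⟩, e3⟩ := exists_two_odd d
  have ip : ∀ m : ℕ, t * d ^ m * t⁻¹ = (d ^ m)⁻¹ := fun m => by rw [← conj_pow, inv, inv_pow]
  have h2 := k2 k _ (pow_mem hd i) (ip i) e2
  obtain ⟨-, w, w1, w2, -, w4⟩ := hW _ (pow_mem hd i) (k1 (ip i) h2) (is2_of_sq h2)
  obtain ⟨m, hm⟩ := e3
  refine ⟨w * d ^ (j * m), mul_mem w2 (pow_mem hd _), ?_⟩
  have e4 : (d ^ (j * m) * d ^ (j * m))⁻¹ = d ^ j := by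
    rw [inv_eq_iff_mul_eq_one, pow_mul, ← pow_add, ← pow_succ, ← two_mul, ← hm, pow_orderOf_eq_one]
  have c : Commute w (d ^ j) := pow_mem hd j w w1
  rw [mul_inv_rev, mul_assoc w, mul_assoc w, ← mul_assoc (_ * t), k0 (ip _), e4, mul_assoc t,
    ← c.inv_left.eq, ← mul_assoc, ← mul_assoc, w4, mul_assoc, ← e1]

end Bits

/-! ### Invariant relations -/

section Rel

variable {X : Type} [Group X] {G : Type u} [Group G] {e : X →* G} {t : G} {h : X → G}
  {a b c x y z : X}

/-- The product formula up to `e c`. -/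
def PX (e : X →* G) (h : X → G) (c x y : X) : Prop :=
  I x ∧ I y ∧ I (x * y) ∧ x * y = y * x ∧ h (x * y) = h x * h y * e c
/-- The halves commute. -/
def CM (h : X → G) (x y : X) : Prop := I x ∧ I y ∧ x * y = y * x ∧ h x * h y = h y * h x
/-- A good pair. -/
def GD (e : X →* G) (h : X → G) (x y : X) : Prop := I x ∧ I y ∧ Gd e h x y
/-- A special pair with the wrong sign. -/
def FK (e : X →* G) (h : X → G) (c x y : X) : Prop :=
  I x ∧ I y ∧ h x * e y * h x = h c * e y ∧ h x * h y * h x = h c * e c * h y ∧ I c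

theorem conj_comm (k : x * y = y * x) (g : X) :
    g * x * g⁻¹ * (g * y * g⁻¹) = g * y * g⁻¹ * (g * x * g⁻¹) := by rw [conj_mul, conj_mul, k]

section
variable (H : HC e t h)
include H

theorem PX.conj (k : PX e h c x y) (g : X) : PX e h (g * c * g⁻¹) (g * x * g⁻¹) (g * y * g⁻¹) := by
  obtain ⟨h1, h2, h3, h4, h5⟩ := k
  refine ⟨h1.conj g, h2.conj g, by rw [conj_mul]; exact h3.conj g, conj_comm h4 g, ?_⟩
  rw [conj_mul, H.eqv _ g h1, H.eqv _ g h2, H.eqv _ g h3, h5, map_mul, map_mul, map_inv, conj_mul, conj_mul]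
theorem PX.conj1 (g x y : X) (k : PX e h 1 x y) : PX e h 1 (g * x * g⁻¹) (g * y * g⁻¹) := by
  simpa using k.conj H g
theorem CM.conj (g x y : X) (k : CM h x y) : CM h (g * x * g⁻¹) (g * y * g⁻¹) := by
  obtain ⟨h1, h2, h3, h4⟩ := k
  refine ⟨h1.conj g, h2.conj g, conj_comm h3 g, ?_⟩
  rw [H.eqv _ g h1, H.eqv _ g h2, conj_mul, conj_mul, h4]
theorem GD.conj (g x y : X) (k : GD e h x y) : GD e h (g * x * g⁻¹) (g * y * g⁻¹) :=
  ⟨k.1.conj g, k.2.1.conj g, H.gd_conj k.1 k.2.1 k.2.2 g⟩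
theorem GD.symm (k : GD e h x y) : GD e h y x := ⟨k.2.1, k.1, H.gd_symm k.1 k.2.1 k.2.2⟩
theorem GD.close (k1 : GD e h a b) (k2 : GD e h a c) (k3 : GD e h b c) : GD e h a (b * c * b) := by
  have := H.gd_close k1.2.1 k2.2.1 k1.2.2 k2.2.2 k3.2.2
  have h2 := k2.2.1.conj b
  rw [inv_eq_of_mul_eq_one_right k1.2.1.sq] at this h2
  exact ⟨k1.1, h2, this⟩
theorem FK.conj (k : FK e h c x y) (g : X) : FK e h (g * c * g⁻¹) (g * x * g⁻¹) (g * y * g⁻¹) := by
  obtain ⟨h1, h2, h3, h4, h5⟩ := k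
  refine ⟨h1.conj g, h2.conj g, ?_, ?_, h5.conj g⟩ <;>
    simp only [H.eqv _ g h1, H.eqv _ g h2, H.eqv _ g h5, map_mul, map_inv, conj_mul, h3, h4]
theorem PX.cm (k : PX e h 1 x y) : CM h x y := by
  obtain ⟨h1, h2, h3, h4, h5⟩ := k
  have := H.inv_h h3
  rw [h5, map_one, mul_one, mul_inv_rev, H.inv_h h1, H.inv_h h2] at this
  exact ⟨h1, h2, h4, this.symm⟩
theorem CM.gd (k : CM h x y) : GD e h x y := ⟨k.1, k.2.1, (H.gd_iff_comm k.1 k.2.2.1).2 k.2.2.2⟩
omit H in
theorem CM.symm (k : CM h x y) : CM h y x := ⟨k.2.1, k.1, k.2.2.1.symm, k.2.2.2.symm⟩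

/-- The four lines of a quadrilateral. -/
theorem pasch {p q r c₁ c₂ c₃ : X} (k1 : PX e h c₁ p q) (k2 : PX e h c₂ p r) (k3 : PX e h 1 q r)
    (k4 : PX e h c₃ (p * q) (q * r)) (d1 : c₁ * q = q * c₁) (d2 : c₁ * r = r * c₁) : c₂ = c₁ * c₃ := by
  have := k4.2.2.2.2
  rw [mul_assoc p, ← mul_assoc q, k1.2.1.sq, one_mul, k1.2.2.2.2, k2.2.2.2.2, k3.2.2.2.2, map_one, mul_one,
    mul_assoc _ (e c₁), ← mul_assoc (e c₁), H.comm k1.2.1 d1, mul_assoc (h q), H.comm k2.2.1 d2,
    mul_assoc (h p) (h q), ← mul_assoc (h q), H.sq q k1.2.1, one_mul, ← mul_assoc, mul_assoc _ (e c₁),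
    mul_right_inj, ← map_mul] at this
  exact H.inj this

end

variable {Ln : X → X → Prop} (H : HP Ln e t h) {Q : Subgroup X} (hF : F0 X) (hQ : NQ z Q)
include H

theorem HP.px (ha : I a) (hb : I b) (l : Ln a b) : PX e h 1 a b :=
  ⟨ha, hb, (H.pf a b l).1, (H.pf a b l).2.1, by rw [map_one, mul_one, (H.pf a b l).2.2]⟩

include hF hQ

/-- Two common neighbours. -/
theorem HP.cm2 {z' : X} {Q' : Subgroup X} (hQ' : NQ z' Q') (hz : z ≠ z') (ha : I a) (hb : I b)
    (aQ : a ∈ Q) (bQ : b ∈ Q) (la : Ln z a) (lb : Ln z b) (aQ' : a ∈ Q') (bQ' : b ∈ Q') (la' : Ln z' a)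
    (lb' : Ln z' b) (hab : a * b = b * a) : CM h a b := by
  refine ⟨ha, hb, hab, cm_eq_one.1 ?_⟩
  rcases H.n0 hF hQ ha hb aQ bQ la lb hab with k | k
  · exact k
  · exact (H.n0 hF hQ' ha hb aQ' bQ' la' lb' hab).resolve_right fun k' => hz (H.inj (k.symm.trans k'))

/-- A special pair is good or has the wrong sign. -/
theorem HP.gd_or (ha : I a) (hb : I b) (aQ : a ∈ Q) (bQ : b ∈ Q) (la : Ln z a) (lb : Ln z b)
    (hab : a * b * a⁻¹ = z * b) : GD e h a b ∨ FK e h z a b := by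
  have hz := hQ.zI
  have hba : b * a * b⁻¹ = z * a := (hQ.cl b bQ a aQ).resolve_left fun k => hz.ne (by
    rw [← mul_inv_eq_iff_eq_mul.1 k, mul_inv_cancel_right] at hab; simpa using hab.symm)
  have p := (H.pf z a la).2.2
  refine (H.n1 hF hQ ha hb aQ bQ la lb hab).imp
    (fun k => ⟨ha, hb, (H.toHC.gd_iff_sp ha hb hba p (H.comm hz hb lb)).2 k⟩) fun k => ⟨ha, hb, ?_, ?_, hz⟩
  · rw [mul_assoc, H.toHC.e_mul ha, hba, p, ← mul_assoc, ← mul_assoc, ← H.comm hz ha la, mul_assoc (h z),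
      H.sq a ha, mul_one]
  · rw [← k, cm, H.toHC.inv_h ha, inv_mul_cancel_right]

/-- n3: `a`, `b`, `a b` are lines of `z`, and `C(Q) = ⟨z⟩`. -/
theorem HP.n3 (hs : ∀ β : MulAut X, Q ≤ fx β → β = 1 ∨ β = MulAut.conj z) (ha : I a) (hb : I b)
    (aQ : a ∈ Q) (bQ : b ∈ Q) (la : Ln z a) (lb : Ln z b) (hab : a * b = b * a) (hc : I (a * b))
    (lc : Ln z (a * b)) (az : a ≠ z) : PX e h 1 a b ∨ PX e h z a b := by
  have hz := hQ.zI
  have r : ∀ {x y : G}, x * y = y * x → ∀ w, x * (y * w) = y * (x * w) := fun k w => by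
    rw [← mul_assoc, k, mul_assoc]
  have r' : ∀ {x : G}, x * x = 1 → ∀ w, x * (x * w) = w := fun k w => by rw [← mul_assoc, k, one_mul]
  have r2 : ∀ {x : X}, I x → ∀ w, t * (h x * w) = h x * (e x * (t * w)) := fun hx w => by
    rw [← mul_assoc, H.toHC.t_mul hx]; simp only [mul_assoc]
  have d1 := H.comm hz ha la
  have d2 := H.comm hz hb lb
  have za := mem_Cz.1 (hQ.le aQ)
  have zb := mem_Cz.1 (hQ.le bQ)
  have ac : a * (a * b) = a * b * a := by rw [mul_assoc, hab]
  have p1 : h a * h b * h (a * b) ∈ Cz t := mem_Cz.2 (by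
    have s1 : e a * e a = 1 := by rw [← map_mul, ha.sq, map_one]
    have s2 : e b * e b = 1 := by rw [← map_mul, hb.sq, map_one]
    have c5 : e b * e a = e a * e b := by rw [← map_mul, ← hab, map_mul]
    simp only [mul_assoc, r2 ha, r2 hb, H.toHC.t_mul hc, map_mul, r (H.toHC.comm hb hab), r c5, r' s1,
      r' s2, r (H.toHC.comm hc ac), r (H.toHC.comm hc (g := b) (by rw [← mul_assoc, hab]))])
  have p2 : h a * h b * h (a * b) ∈ Cs (Q.map e) := mem_Cs_map.2 fun q hq => by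
    rw [← mul_inv_eq_iff_eq_mul, ← conj_mul, ← conj_mul, ← H.eqv _ q hc,
      ← conj_mul (a := a) (b := q) (c := b)]
    have p := (H.pf z _ lc).2.2
    rcases H.conj_Q hQ ha aQ la hq with ⟨j1, k1⟩ | ⟨j1, k1⟩ <;>
    rcases H.conj_Q hQ hb bQ lb hq with ⟨j2, k2⟩ | ⟨j2, k2⟩ <;> rw [k1, k2, j1, j2]
    · rw [← mul_assoc a, ← za, mul_assoc z, p]
      simp only [mul_assoc, r d2.symm, r' (H.sq z hz)]
    · rw [mul_assoc z, p]
      simp only [mul_assoc, r d2.symm, r d1.symm, r' (H.sq z hz)]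
    · rw [mul_assoc z, ← mul_assoc a, ← za, ← mul_assoc z, ← mul_assoc z, hz.sq, one_mul]
      simp only [mul_assoc, r d1.symm, r' (H.sq z hz)]
  obtain ⟨β, hβ⟩ := H.toB1.ind p1
  obtain ⟨v, hv, rfl⟩ : ∃ v, (v = 1 ∨ v = z) ∧ β = MulAut.conj v := by
    rcases hs β (hβ.le_fx H.inj p2) with k | k
    exacts [⟨1, Or.inl rfl, by rw [k, map_one]⟩, ⟨z, Or.inr rfl, k⟩]
  have v1 : ∀ x ∈ Q, I x → Commute (h x) (e v) := fun x hx hi => by
    rcases hv with rfl | rfl
    exacts [by simp, (H.toHC.comm hi (mem_Cz.1 (hQ.le hx))).symm]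
  have v2 : v * v = 1 := by rcases hv with rfl | rfl; exacts [one_mul _, hz.sq]
  obtain ⟨o, o1, o2, o3, -, k | k⟩ := H.toHC.split (mul_mem (mul_mem (h_mem_HH ha) (h_mem_HH hb))
    (h_mem_HH hc)) p1 hβ
  · have c1 : Commute (h (a * b)) (o * e v) := (o2 _ hc).symm.mul_right (v1 _ (mul_mem aQ bQ) hc)
    have c2 : Commute (h a) (o * e v) := (o2 _ ha).symm.mul_right (v1 _ aQ ha)
    have c3 : Commute (h b) (o * e v) := (o2 _ hb).symm.mul_right (v1 _ bQ hb)
    have e1 : h (a * b) = h b * h a * (o * e v) := by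
      rw [← k]; simp only [mul_assoc, r' (H.sq a ha), r' (H.sq b hb)]
    have e2 : h b * h a * (h b * h a) * (o * e v * (o * e v)) = 1 := by
      rw [← H.sq _ hc, e1, (c3.mul_left c2).symm.mul_mul_mul_comm]
    have e3 : h a * (h b * h a * (h b * h a) * (o * e v * (o * e v))) * h a =
        h a * h b * (h a * h b) * (o * e v * (o * e v)) := by
      rw [mul_assoc, mul_assoc, ← (c2.mul_right c2).eq]
      simp only [mul_assoc, r' (H.sq a ha)]
    rw [e2, mul_one, H.sq a ha] at e3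
    have e4 : (o * e v) ^ 4 = 1 := by
      have i1 := eq_inv_of_mul_eq_one_right e2
      have i2 := eq_inv_of_mul_eq_one_left e3.symm
      rw [mul_inv_rev, mul_inv_rev, H.toHC.inv_h ha, H.toHC.inv_h hb, i2, eq_inv_iff_mul_eq_one] at i1
      rw [← i1]; simp only [pow_succ, pow_zero, one_mul, mul_assoc]
    have e5 : o = 1 := Is2.eq_one ⟨2, (pow_comp H.inj hF o3 e4).1⟩ o1
    rw [e5, one_mul, ← map_mul, v2, map_one, mul_one] at e2
    have e6 : h b * h a = h a * h b := by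
      rw [eq_inv_of_mul_eq_one_right e2, mul_inv_rev, H.toHC.inv_h ha, H.toHC.inv_h hb]
    rw [e5, one_mul, e6] at e1
    rcases hv with rfl | rfl
    exacts [Or.inl ⟨ha, hb, hc, hab, e1⟩, Or.inr ⟨ha, hb, hc, hab, e1⟩]
  · exfalso
    have e1 : h a * (h a * h b * h (a * b)) * h a = h a * h b * h (a * b) * e a := by
      rw [k, mul_assoc, mul_assoc, ← (v1 a aQ ha).eq, mul_assoc, ← mul_assoc o, (o2 a ha).eq,
        ← mul_assoc, ← mul_assoc, ← mul_assoc, H.ht a ha, mul_assoc t, mul_assoc t,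
        mul_assoc t, mul_assoc t, mem_Cs_range.1 o3 a, mul_assoc, mul_assoc, ← map_mul, ← map_mul]
      rcases hv with rfl | rfl
      exacts [by simp, by rw [za]]
    have key : ∀ {x : X}, cm (h a) (h x) = 1 ∨ cm (h a) (h x) = e z →
        h x * h a = h a * h x ∨ (I x → h x * h a = e z * (h a * h x)) := fun {x} k => k.imp
      (fun k => (cm_eq_one.1 k).symm) fun k hx => by
        rw [← inv_mul_eq_iff_eq_mul, ← map_inv, inv_eq_of_mul_eq_one_right hz.sq, ← k, cm]; group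
    have s0 : e z * e z = 1 := by rw [← map_mul, hz.sq, map_one]
    have f1 := H.toHC.comm ha za
    have f2 := H.toHC.comm hb zb
    have f3 := H.toHC.comm hc (mem_Cz.1 (hQ.le (mul_mem aQ bQ)))
    have e2 : h b * h (a * b) * h a = h a * h b * h (a * b) ∨
        h b * h (a * b) * h a = h a * h b * h (a * b) * e z := by
      rcases key (H.n0 hF hQ ha hb aQ bQ la lb hab) with k1 | k1 <;>
      rcases key (H.n0 hF hQ ha hc aQ (mul_mem aQ bQ) la lc ac) with k2 | k2
      · exact Or.inl (by rw [mul_assoc, k2, ← mul_assoc, k1])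
      · exact Or.inr (by rw [mul_assoc, k2 hc]; simp only [mul_assoc, r k1, r f1, r f2, f3])
      · exact Or.inr (by rw [mul_assoc, k2, ← mul_assoc, k1 hb]; simp only [mul_assoc, r f1, r f2, f3])
      · exact Or.inl (by
          rw [mul_assoc, k2 hc, ← r f2, ← mul_assoc (h b), k1 hb]; simp only [mul_assoc, r' s0])
    rw [← mul_assoc, ← mul_assoc, H.sq a ha, one_mul] at e1
    rcases e2 with k1 | k1 <;> rw [e1] at k1
    · exact ha.ne (H.inj (by rw [map_one]; simpa using k1))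
    · exact az (H.inj (mul_left_cancel k1))

end Rel

/-! ### Word certificates -/

section Words

variable {X : Type} [Group X] (ρ : X →* Equiv.Perm ℕ) (LS : List Lt)

/-- The element of `X` given by a letter. -/
noncomputable def lv (l : ℕ) : X := Function.invFun ρ (vL LS l)

/-- The element of `X` given by a word. -/
noncomputable abbrev xw (w : List ℕ) : X := evw (lv ρ LS) w

/-- `x = g x₀ g⁻¹` -/
noncomputable def cjB (bs g x₀ x : List ℕ) : Bool := eqI LS bs (H88.app x g) (H88.app g x₀)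

/-- `(x, y)` is conjugate to a listed pair. -/
noncomputable def relB (bs : List ℕ) (Bs : List (List ℕ × List ℕ)) (x y : List ℕ) (c : ℕ × List ℕ) : Bool :=
  H81.band (Nat.blt c.1 Bs.length) (H81.band (cjB LS bs c.2 (nthD Bs ([], []) c.1).1 x)
    (cjB LS bs c.2 (nthD Bs ([], []) c.1).2 y))

/-- A faithful model with letters and a base. -/
structure WM (N : ℕ) (bs : List ℕ) : Prop where
  inj : Function.Injective ρ
  ok : AOK N ρ.range LS
  base : IsBase N ρ.range bs

namespace WM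

variable {ρ LS} {N : ℕ} {bs : List ℕ} (M : WM ρ LS N bs) {s t g x y x₀ : List ℕ}
include M

theorem map_lv {l : ℕ} (hl : l < LS.length) : ρ (lv ρ LS l) = vL LS l :=
  Function.invFun_eq (M.ok.nthD hl).2.1

theorem map_xw (hs : inR LS.length s = true) : ρ (xw ρ LS s) = evw (vL LS) s := by
  induction s with
  | nil => exact map_one ρ
  | cons l s ih =>
    obtain ⟨h1, h2⟩ := H81.band_iff.1 (show H81.band (Nat.blt l LS.length) (inR LS.length s) = true from hs)
    rw [xw, evw_cons, evw_cons, map_mul, M.map_lv (Nat.blt_eq ▸ h1), ih h2]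

theorem map_gen (hs : inR LS.length s = true) : (gen (lv ρ LS) s).map ρ = gen (vL LS) s := by
  rw [gen, gen, MonoidHom.map_closure, Set.image_image]
  exact congrArg Subgroup.closure (Set.image_congr fun l hl => M.map_lv (Nat.blt_eq ▸ of_allM hs l hl))

theorem eq (h : eqI LS bs s t = true) : xw ρ LS s = xw ρ LS t := by
  have k := h
  simp only [eqI, H81.band_iff] at k
  exact M.inj (by rw [M.map_xw k.1, M.map_xw k.2.1, of_eqI M.base M.ok h])

theorem ne {p : ℕ} (h : mvI N LS s t p = true) : xw ρ LS s ≠ xw ρ LS t := fun c => by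
  have k := h
  simp only [mvI, H81.band_iff] at k
  exact of_mvI M.ok h (by rw [← M.map_xw k.2.1, ← M.map_xw k.2.2.1, c])

theorem cj (h : cjB LS bs g x₀ x = true) :
    xw ρ LS x = xw ρ LS g * xw ρ LS x₀ * (xw ρ LS g)⁻¹ := by
  have := M.eq h
  rw [app_eq, app_eq, xw, xw, evw_append, evw_append] at this
  exact eq_mul_inv_of_mul_eq this

theorem comm (h : cjB LS bs g x x = true) : xw ρ LS x * xw ρ LS g = xw ρ LS g * xw ρ LS x :=
  eq_mul_inv_iff_mul_eq.1 (M.cj h)

theorem rel {R : X → X → Prop} (hR : ∀ g x y, R x y → R (g * x * g⁻¹) (g * y * g⁻¹))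
    {Bs : List (List ℕ × List ℕ)} (hB : ∀ p ∈ Bs, R (xw ρ LS p.1) (xw ρ LS p.2)) {c : ℕ × List ℕ}
    (h : relB LS bs Bs x y c = true) : R (xw ρ LS x) (xw ρ LS y) := by
  simp only [relB, H81.band_iff, Nat.blt_eq] at h
  rw [M.cj h.2.1, M.cj h.2.2]
  refine hR _ _ _ (hB _ ?_)
  rw [nthD_eq, List.getD_eq_getElem _ _ h.1]
  exact List.getElem_mem _

end WM

end Words

end H25.ST
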