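import Cfsg.Agent.H25.STGa

/-! STD-S, `GA2 He`, ambient part: the wrong sign is impossible. -/

set_option autoImplicit false
set_option linter.unusedSectionVars false

namespace H25.ST.HeG

open H64.SG Subgroup H71 H81 H88

universe u

/-- The matrices of `n 1`, `n 2` on `E`. -/
def Nm (j i : ℕ) : ℕ := nthD (if j = 1 then [51,22,16,46,25,8] else [36,21,24,58,42,43]) 0 i

/-- The images of the `e (b i)`. -/
def Me (l i : ℕ) : ℕ :=
  if l = 0 then nthD [1,2,4,8,80,160] 0 i else if l = 3 then 2 ^ i else Nm l i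
/-- The images of the `h (b i)`. -/
def Mh (l i : ℕ) : ℕ :=
  if l = 0 then nthD [64,128,256,512,1089,2178] 0 i else if l = 3 then 2 ^ i ^^^ 2 ^ (6 + i)
  else Nm l i <<< 6
def ap (l u : ℕ) : ℕ := sumb (Me l) 6 u ^^^ sumb (Mh l) 6 (u >>> 6)
def apw (w : List ℕ) (u : ℕ) : ℕ := w.foldr ap u
def w0 : List ℕ := [0,2,2,2,0,2,0,2,0,1,0]

theorem rat : ∀ i < 12, apw (w0 ++ [3]) (2 ^ i) = apw (3 :: w0) (2 ^ i) := by decide +kernel

variable {X : Type} [Group X] {G : Type u} [Group G] [Finite G] {e : X →* G} {t : G} {h : X → G}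

theorem no_fake {O : Subgroup G} (hA : AB e t O) (H : HC e t h) {b n : ℕ → X} {a : X}
    (hcm : ∀ i < 6, ∀ j < 6, CM h (b i) (b j))
    (hn : ∀ j ∈ [1, 2], ∀ i < 6, n j * b i * (n j)⁻¹ = evb b 6 (Nm j i) ∧
      h (evb b 6 (Nm j i)) = evb (fun i => h (b i)) 6 (Nm j i))
    (ha : ∀ i < 4, CM h a (b i)) (f4 : FK e h (b 0) a (b 4)) (f5 : FK e h (b 1) (a * b 2) (b 5))
    (p : PX e h 1 a (b 2))
    (sc : ∀ β : MulAut X, (∀ i < 6, β (b i) = b i) → Is2 β → ∃ m, β = MulAut.conj (evb b 6 m))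
    (n5 : ¬ I (evb b 6 5)) (i43 : I (evb b 6 43)) : False := by
  have hI : ∀ i < 6, I (b i) := fun i hi => (hcm i hi i hi).1
  let B := evb b 6
  let Hh := evb (fun i => h (b i)) 6
  let wv : ℕ → G := fun u => e (B u) * Hh (u >>> 6)
  have Bx := evb_xor (g := b) (fun i hi => (hI i hi).sq) fun i hi j hj => (hcm i hi j hj).2.2.1
  have Hx := evb_xor (g := fun i => h (b i)) (fun i hi => H.sq _ (hI i hi))
    fun i hi j hj => (hcm i hi j hj).2.2.2
  have c0 : ∀ i < 6, ∀ j < 6, Commute (h (b i)) (e (b j)) := fun i hi j hj =>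
    (H.comm (hI i hi) (hcm j hj i hi).2.2.1).symm
  have c1 : ∀ u v, Commute (e (B u)) (Hh v) := fun u v => evb_comm (fun i hi => by
    rw [evb_map]; exact (evb_comm (c0 i hi) u).symm) v
  have wx : ∀ u v, wv (u ^^^ v) = wv u * wv v := fun u v => by
    simp only [wv, B, Hh, Nat.shiftRight_xor_distrib, Bx, Hx, map_mul]
    exact ((c1 v _).symm.mul_mul_mul_comm _ _).symm
  have w1 : wv 0 = 1 := by simp only [wv, B, Hh, Nat.zero_shiftRight, evb_zero, map_one, mul_one]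
  have we : ∀ u, u >>> 6 = 0 → wv u = e (B u) := fun u k => by
    simp only [wv, Hh, k, evb_zero, mul_one]
  have wh : ∀ u, wv (u <<< 6) = Hh u := fun u => by
    simp only [wv, B, evb_shift, Nat.shiftLeft_shiftRight, map_one, one_mul]
  have g1 : ∀ i < 6, e (b i) = wv (2 ^ i) := fun i hi => by
    rw [we _ (by revert i; decide)]
    interval_cases i <;> simp [B, evb, Nat.testBit]
  have g2 : ∀ i < 6, h (b i) = wv (2 ^ (6 + i)) := fun i hi => by
    rw [show 2 ^ (6 + i) = 2 ^ i <<< 6 by rw [Nat.shiftLeft_eq, pow_add, mul_comm], wh]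
    interval_cases i <;> simp [Hh, evb, Nat.testBit]
  have wc : ∀ u v, wv u * wv v = wv v * wv u := fun u v => by rw [← wx, ← wx, Nat.xor_comm]
  have ww : ∀ u, wv u * wv u = 1 := fun u => by rw [← wx, Nat.xor_self, w1]
  let y : ℕ → G := fun l => if l = 0 then h a else if l = 3 then t else e (n l)
  have iA := H.inv_h p.1
  have q : ∀ x : G, Commute (h (b 2)) x → h a * x * h a = h (a * b 2) * x * h (a * b 2) := fun x k => by
    rw [p.2.2.2.2, map_one, mul_one, mul_assoc (h a) (h (b 2)), k.eq, (ha 2 (by omega)).2.2.2,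
      mul_assoc (h a), mul_assoc (h a), mul_assoc x, ← mul_assoc (h (b 2)), H.sq _ p.2.1, one_mul]
  have act0 : ∀ l < 4, ∀ i < 6, y l * e (b i) * (y l)⁻¹ = wv (Me l i) ∧
      y l * h (b i) * (y l)⁻¹ = wv (Mh l i) := fun l hl i hi => by
    have k12 : ∀ j ∈ [1, 2], e (n j) * e (b i) * (e (n j))⁻¹ = wv (Nm j i) ∧
        e (n j) * h (b i) * (e (n j))⁻¹ = wv (Nm j i <<< 6) := fun j hj => by
      rw [we _ (by revert j i; decide), wh, ← H.eqv _ _ (hI i hi), ← map_inv, ← map_mul, ← map_mul,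
        (hn j hj i hi).1]
      exact ⟨rfl, (hn j hj i hi).2⟩
    interval_cases l
    · change h a * _ * (h a)⁻¹ = _ ∧ h a * _ * (h a)⁻¹ = _
      rcases Nat.lt_or_ge i 4 with k | k
      · rw [← H.comm p.1 (ha i k).2.2.1.symm, (ha i k).2.2.2, mul_inv_cancel_right, mul_inv_cancel_right,
          g1 i hi, g2 i hi]
        interval_cases i <;> exact ⟨rfl, rfl⟩
      · rw [iA]
        interval_cases i
        · rw [f4.2.2.1, f4.2.2.2.1, g1 0 (by omega), g1 4 hi, g2 0 (by omega), g2 4 hi, ← wx, ← wx, ← wx]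
          exact ⟨rfl, rfl⟩
        · rw [q _ (c0 2 (by omega) 5 hi), q _ (hcm 2 (by omega) 5 hi).2.2.2, f5.2.2.1, f5.2.2.2.1,
            g1 1 (by omega), g1 5 hi, g2 1 (by omega), g2 5 hi, ← wx, ← wx, ← wx]
          exact ⟨rfl, rfl⟩
    · exact k12 1 (by simp)
    · exact k12 2 (by simp)
    · change t * _ * t⁻¹ = wv (2 ^ i) ∧ t * _ * t⁻¹ = wv (_ ^^^ _)
      rw [H.toB1.conj_eq, H.conj_t (hI i hi), wx, ← g1 i hi, ← g2 i hi, (c0 i hi i hi).eq]
      exact ⟨rfl, rfl⟩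
  have act : ∀ l < 4, ∀ u, y l * wv u * (y l)⁻¹ = wv (ap l u) := fun l hl u => by
    rw [ap, wx, ← evb_sum w1 wx fun i hi => (act0 l hl i hi).1,
      ← evb_sum w1 wx fun i hi => (act0 l hl i hi).2, ← conj_mul, evb_map]
    exact congrArg₂ _ (evb_map (MulAut.conj (y l)).toMonoidHom u)
      (evb_map (MulAut.conj (y l)).toMonoidHom _)
  have actw : ∀ w : List ℕ, (∀ l ∈ w, l < 4) → ∀ u, evw y w * wv u * (evw y w)⁻¹ = wv (apw w u) := by
    intro w
    induction w with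
    | nil => intro _ u; simp [apw]
    | cons l w ih =>
      intro k u
      rw [apw, List.foldr_cons, ← act l (k l (by simp)), ← apw, ← ih (fun l hl => k l (by simp [hl])),
        evw_cons]
      group
  set x := evw y w0 with hx
  have d1 : ∀ i < 12, Commute (t * (x⁻¹ * t * x)) (wv (2 ^ i)) := fun i hi => by
    have k1 := actw (w0 ++ [3]) (by decide) (2 ^ i)
    have k2 := actw (3 :: w0) (by decide) (2 ^ i)
    rw [rat i hi, ← k2,
      evw_append, evw_cons, evw_cons, evw_nil, mul_one, ← hx] at k1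
    change x * t * _ * (x * t)⁻¹ = t * x * _ * (t * x)⁻¹ at k1
    rw [commute_iff_eq, ← mul_inv_eq_iff_eq_mul, show t * (x⁻¹ * t * x) = t⁻¹ * (x⁻¹ * t * x) by
      rw [H.toB1.inv_eq], show t⁻¹ * (x⁻¹ * t * x) * wv (2 ^ i) * (t⁻¹ * (x⁻¹ * t * x))⁻¹ =
        (x * t)⁻¹ * (t * x * wv (2 ^ i) * (t * x)⁻¹) * (x * t) by group, ← k1]
    group
  obtain ⟨c, hc, k⟩ := cen_lift (W := Set.range wv) (t := t) (d := t * (x⁻¹ * t * x)) (by
    rintro _ ⟨u, rfl⟩
    refine (Commute.mul_right ?_ (evb_comm (fun i hi => g2 i hi ▸ d1 _ (by omega)) _)).symm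
    rw [evb_map]
    exact evb_comm (fun i hi => g1 i hi ▸ d1 _ (by omega)) _) (by
    rw [← mul_assoc, H.toB1.tt, one_mul]; simp only [mul_inv_rev, inv_inv, H.toB1.inv_eq, mul_assoc])
    fun v hv vt v2 => by
      obtain ⟨β, hβ⟩ := H.toB1.ind (mem_Cz.2 vt)
      obtain ⟨m, rfl⟩ := sc β (fun i hi => hβ.fix H.inj (by rw [g1 i hi]; exact (hv _ ⟨_, rfl⟩).symm))
        (hβ.is2 H.inj v2)
      rcases hA.inn v (mem_Cz.2 vt) v2 _ hβ with rfl | rfl
      · refine ⟨by rw [← map_mul, ← Bx, Nat.xor_self, evb_zero, map_one], _, ⟨m <<< 6, rfl⟩, ?_, ww _, ?_⟩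
        · rintro _ ⟨u, rfl⟩; exact wc _ _
        · have := evb_map (g := fun i => h (b i)) (n := 6) (MulAut.conj t).toMonoidHom m
          rw [evb_sum w1 wx (g := fun i => (MulAut.conj t).toMonoidHom (h (b i)))
              (fun i hi => (act0 3 (by omega) i hi).2),
            ← evb_sum w1 wx (g := fun i => h (b i) * e (b i))
              (fun i hi => (H.conj_t (hI i hi)).symm.trans (act0 3 (by omega) i hi).2),
            evb_mul c0, ← evb_map] at this
          change t * Hh m * t⁻¹ = Hh m * e (B m) at this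
          rw [inv_eq_of_mul_eq_one_right (ww _), wh, ← inv_mul_eq_iff_eq_mul, ← mul_assoc, ← mul_assoc,
            H.toB1.inv_eq]
          rw [H.toB1.inv_eq] at this
          rw [this, ← (c1 m m).eq, mul_assoc, ← wh, ww, mul_one]
      · have k := hv _ ⟨2 ^ (6 + 0), rfl⟩
        have k2 := (evb_comm (c0 0 (by omega)) m).eq
        rw [← g2 0 (by omega), mul_assoc, evb_map, ← k2, ← mul_assoc, ← mul_assoc, mul_left_inj,
          eq_comm, ← mul_inv_eq_iff_eq_mul, H.conj_t (hI 0 (by omega)), mul_eq_left] at k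
        exact absurd (H.inj (k.trans (map_one e).symm)) (hI 0 (by omega)).ne
  obtain ⟨β, hβ⟩ := H.toB1.ind (g := x * c) (mem_Cz.2 (by
    rw [← mul_assoc t t, H.toB1.tt, one_mul] at k
    rw [mul_assoc x, mul_inv_eq_iff_eq_mul.1 k]; group))
  have k1 := hβ (B 5)
  rw [← we 5 rfl, mul_assoc x, ← hc _ ⟨5, rfl⟩, mul_inv_rev, ← mul_assoc, mul_assoc x,
    mul_inv_cancel_right, actw w0 (by decide), show apw w0 5 = 43 by decide +kernel, we 43 rfl] at k1
  exact n5 ((I_map β).1 (H.inj k1 ▸ i43))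

end H25.ST.HeG
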