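import Cfsg.Agent.H25.STHeA
import Cfsg.Agent.H80.KFHe

/-! STD-S, `GA2 He`: the certificates (tools/h25/ga2-4.cpp). -/

set_option autoImplicit false
set_option linter.unusedSectionVars false
set_option maxRecDepth 100000

namespace H25.ST.HeG

open H64.SG Subgroup H71 H81 H88 H80.KFHe Cfsg.Spor

universe u

abbrev W := List ℕ
abbrev bs : W := [13,1338,698,0]
theorem M : WM H71.He.ρ LS 2560 bs := ⟨H71.He.inj, hLS, base⟩
local notation "xx" => xw H71.He.ρ LS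
theorem x_app (s t : W) : xx (H88.app s t) = xx s * xx t := by rw [app_eq]; exact evw_append _ _ _
theorem x_one (l : ℕ) : xx [l] = lv H71.He.ρ LS l := mul_one _
instance : Finite He := fin0

noncomputable def S : Subgroup He := gen (lv H71.He.ρ LS) ST
noncomputable def Q : Subgroup He := gen (lv H71.He.ρ LS) SQa

theorem card_S : Nat.card S = 2 ^ 10 := by
  rw [← card_map_of_injective H71.He.inj, S, M.map_gen (by decide +kernel), cardT]
theorem two_S : IsPGroup 2 S := IsPGroup.of_card card_S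
theorem index_S : S.index = 3935925 := by
  have := S.index_mul_card
  rw [card_S, H71.He.card] at this
  omega
theorem syl_S : Syl S ⊤ := ⟨le_top, two_S, by rw [relIndex_top_right, index_S]; decide⟩
theorem S_le : S ≤ Cz (xx [25]) := gen_le fun l hl => mem_Cz.2 (x_one l ▸ M.comm (of_allM
  (by decide +kernel : allM (fun l => cjB LS bs [l] [25] [25]) ST = true) l hl))
theorem Iz : I (xx [25]) :=
  ⟨⟨(x_app _ _).symm.trans (M.eq (t := []) (by decide +kernel)), M.ne (t := []) (p := 13) (by decide +kernel)⟩,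
    Odd.of_dvd_nat (by rw [index_S]; decide) (index_dvd_of_le S_le)⟩
theorem iC {u w : W} (h : cjB LS bs u [25] w = true) : I (xx w) := M.cj h ▸ Iz.conj _

theorem Q_le : Q ≤ Cfsg.pCoreOf 2 (Cz (xx [25])) := by
  have h1 : Q ≤ S := gen_le fun l hl => mem_gen _ (by revert l; decide)
  refine (isO2_pCoreOf _).2.2.2 Q (h1.trans S_le) (fun g hg => ?_) (two_S.to_le h1)
  obtain ⟨t, h2, h3⟩ := cca.2
  have h4 : t = xx [25] := H71.He.inj (by rw [h2, x_one, M.map_lv (by decide +kernel)])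
  have h5 := nrma (h3 ▸ mem_map_of_mem H71.He.ρ (h4 ▸ hg))
  rw [← M.map_gen (by decide +kernel)] at h5
  refine mem_normalizer_iff.2 fun a => ?_
  rw [Q, ← mem_map_iff_mem H71.He.inj, mem_normalizer_iff.1 h5, ← map_inv, ← map_mul, ← map_mul,
    mem_map_iff_mem H71.He.inj]

theorem lnz {u q : W} {p : ℕ} (h : H81.band (cjB LS bs u [25] q) (H81.band (mvI 2560 LS q [25] p)
    (allM (fun l => H74.memL l SQa) q)) = true) : Ln2 (xx [25]) (xx q) := by
  simp only [H81.band_iff] at h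
  exact ⟨Iz, iC h.1, M.ne h.2.1, Q_le (evw_mem fun l hl => mem_gen _ (H74.of_memL (of_allM h.2.2 l hl)))⟩

theorem not_I : ¬ I (xx [57]) := fun h => by
  obtain ⟨h1, t, h2, h3⟩ := ccb
  have h4 : t = xx [57] := H71.He.inj (by rw [h2, x_one, M.map_lv (by decide +kernel)])
  have := (Cz (xx [57])).index_mul_card
  rw [← card_map_of_injective H71.He.inj, ← h4, h3, h1, H71.He.card, h4] at this
  have h5 := h.2
  generalize (Cz (xx [57])).index = n at this h5
  exact absurd h5 (by rw [show n = 24990 by omega]; decide)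

def x0 : W := [30,31]
def y0 : W := [27,28,29]
def x1 : W := [27]
def y1 : W := [26,28,29,31,30]
def bw : List W := [[25],[27],[25,32],[30,31],[27,28,29],[26,29,30,33]]
def aw : W := [34,34]
def nw (j : ℕ) : W := if j = 1 then [58,59] else [58,30,68]
noncomputable abbrev b (i : ℕ) : He := xx (nthD bw [] i)
def BL : List (W × W) := [([25], x0), ([25], x1)]
def PB : List (W × W) := [([25], x0), ([25], x1), (x0, y0), (x1, y1)]
def CB : List (W × W) := [([25], x0), ([25], x1), (x0, y0), (x1, y1), (x1, x0)]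

theorem l0 : Ln2 (xx [25]) (xx x0) := lnz (u := [83,4,20]) (p := 13) (by decide +kernel)
theorem l1 : Ln2 (xx [25]) (xx x1) := lnz (u := [35,62]) (p := 13) (by decide +kernel)
theorem ln {s t : W} (c : ℕ × W) (h : relB LS bs BL s t c = true) : Ln2 (xx s) (xx t) :=
  M.rel (fun g _ _ k => k.conj g) (List.forall_mem_cons.2 ⟨l0, List.forall_mem_singleton.2 l1⟩) h

theorem Bx (m m' : ℕ) : evb b 6 (m ^^^ m') = evb b 6 m * evb b 6 m' := evb_xor
  (fun i hi => (x_app _ _).symm.trans (M.eq (t := []) (by revert i; decide +kernel)))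
  (fun i hi j hj => M.comm (by revert i j; decide +kernel)) m m'
theorem B_eq (m : ℕ) : evb b 6 m = xx (mw bw 6 m) := evb_mw _ _ _ _
theorem b_eq : ∀ i < 6, evb b 6 (2 ^ i) = b i := fun i hi => by
  interval_cases i <;> simp [evb, Nat.testBit]

/-- The group `E = 2⁶`. -/
def E : Subgroup He where
  carrier := Set.range (evb b 6)
  one_mem' := ⟨0, evb_zero⟩
  mul_mem' := by rintro _ _ ⟨m, rfl⟩ ⟨m', rfl⟩; exact ⟨_, Bx m m'⟩
  inv_mem' := by
    rintro _ ⟨m, rfl⟩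
    exact ⟨m, eq_inv_of_mul_eq_one_right (by rw [← Bx, Nat.xor_self, evb_zero])⟩

theorem el_E : El E := by rintro _ ⟨m, rfl⟩; rw [← Bx, Nat.xor_self, evb_zero]

def Mov : W := [0,13,13,13,13,1338,13,13,13,13,13,1338,13,13,1338,13,13,13,13,13,13,13,13,13,13,13,13,13,13,13,13,13,13,1338,
  13,13,1338,13,13,13,13,13,1338,13,13,13,13,1338,13,13,13,13,13,13,13,13,13,13,13,13,13,13,13,13]

theorem card_E : 64 ≤ Nat.card E := by
  have h1 : ∀ m < 64, m ≠ 0 → mvI 2560 LS (mw bw 6 m) [] (nthD Mov 0 m) = true := by decide +kernel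
  have := Nat.card_le_card_of_injective (fun m : Fin 64 => (⟨evb b 6 m, m, rfl⟩ : E)) fun m m' k => by
    have k1 : evb b 6 m = evb b 6 m' := congrArg Subtype.val k
    refine Fin.ext (Nat.eq_of_xor_eq_zero (by_contra fun c => M.ne (h1 _
      (Nat.xor_lt_two_pow (n := 6) m.2 m'.2) c) ?_))
    rw [← B_eq, Bx, k1, ← Bx, Nat.xor_self, evb_zero]; rfl
  simpa using this

def Sact : List W := [[1,2,7,9,25,44],[1,3,12,8,17,58],[1,2,4,8,16,32],[1,3,14,9,16,58],[1,3,14,9,16,58],[1,2,7,9,16,34],[1,2,7,9,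
  16,34],[1,2,4,8,16,32],[1,2,4,8,17,34],[1,2,4,8,16,32]]
def TS : List W := [[],[26],[28],[30],[33],[34],[26,28],[26,30],[26,33],[26,34],[28,34],[30,34],[33,34],[34,28],[34,30],[26,33,
  34]]
def Tab : List (List (ℕ × ℕ)) := [[(5,0),(9,9),(13,0),(14,0),(12,15),(1,27),(10,27),(11,26),(15,6),(0,18),(2,1),(3,1),(8,20),(6,26),(7,27),(4,
  29)],[(4,0),(8,2),(7,49),(6,41),(0,27),(12,0),(3,50),(2,43),(1,24),(15,2),(14,36),(13,52),(5,18),(11,38),
  (10,55),(9,17)],[(0,5),(1,5),(2,6),(3,15),(4,13),(5,6),(6,6),(7,15),(8,13),(9,6),(10,5),(11,13),(12,15),(13,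
  5),(14,13),(15,15)],[(3,9),(7,9),(8,59),(0,9),(6,58),(11,8),(4,58),(1,9),(2,59),(14,27),(15,60),(5,8),(13,
  47),(12,47),(9,27),(10,60)],[(3,0),(7,0),(8,51),(0,1),(6,51),(11,0),(4,50),(1,1),(2,50),(14,19),(15,53),(5,
  1),(13,39),(12,38),(9,18),(10,52)],[(2,19),(6,19),(0,18),(8,32),(7,32),(10,27),(1,18),(4,33),(3,33),(13,9),
  (5,26),(15,46),(14,61),(9,8),(12,60),(11,47)],[(2,0),(6,1),(0,1),(8,50),(7,51),(10,0),(1,0),(4,50),(3,51),
  (13,19),(5,1),(15,52),(14,38),(9,18),(12,39),(11,53)],[(0,2),(1,2),(2,2),(3,3),(4,3),(5,2),(6,2),(7,3),(8,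
  3),(9,2),(10,2),(11,3),(12,3),(13,2),(14,3),(15,3)],[(1,0),(0,1),(6,0),(7,0),(8,0),(9,0),(2,1),(3,1),(4,1),
  (5,1),(13,18),(14,19),(15,0),(10,19),(11,18),(12,1)],[(0,1),(1,1),(2,1),(3,1),(4,1),(5,1),(6,1),(7,1),(8,1),
  (9,1),(10,1),(11,1),(12,1),(13,1),(14,1),(15,1)]]
def NC : List (ℕ × ℕ) := [(0,0),(4,13),(2,13),(1,13),(1,13),(2,13),(2,13),(1,13),(1,13),(2,13),(4,13),(1,13),(1,13),(4,13),(1,13),(1,
  13)]

theorem ST_eq {l : ℕ} (hl : l ∈ H80.KFHe.ST) : ∃ k < 10, l = nthD H80.KFHe.ST 0 k := by revert l; decide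

theorem S_norm : S ≤ Ns E := gen_le fun l hl => H98.mem_normalizer_of_cj_le (by
  have h1 : ∀ k < 10, ∀ i < 6,
      cjB LS bs [nthD H80.KFHe.ST 0 k] (nthD bw [] i) (mw bw 6 (nthD (nthD Sact [] k) 0 i)) = true := by
    decide +kernel
  obtain ⟨k, hk, rfl⟩ := ST_eq hl
  rintro _ ⟨_, ⟨m, rfl⟩, rfl⟩
  rw [evb_map]
  exact evb_mem (K := E) (fun i hi => ⟨_, (B_eq _).trans ((M.cj (h1 k hk i hi)).trans (by rw [← x_one]; rfl))⟩) m)

theorem S_cos {s : He} (hs : s ∈ S) : ∃ k < 16, ∃ y ∈ E, s = xx (nthD TS [] k) * y := by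
  have h1 : ∀ k < 10, ∀ j < 16, (nthD (nthD Tab [] k) (0, 0) j).1 < 16 ∧
      eqI LS bs (nthD H80.KFHe.ST 0 k :: nthD TS [] j) (H88.app (nthD TS [] (nthD (nthD Tab [] k) (0, 0) j).1)
        (mw bw 6 (nthD (nthD Tab [] k) (0, 0) j).2)) = true := by decide +kernel
  rw [S, gen, ← mem_toSubmonoid, closure_toSubmonoid_of_finite] at hs
  induction hs using Submonoid.closure_induction_left with
  | one => exact ⟨0, by omega, 1, one_mem _, (mul_one _).symm⟩
  | mul_left a ha s _ ih =>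
    obtain ⟨l, hl, rfl⟩ := ha
    obtain ⟨k, hk, rfl⟩ := ST_eq hl
    obtain ⟨j, hj, y, hy, rfl⟩ := ih
    have := M.eq (h1 k hk j hj).2
    rw [xw, evw_cons] at this
    exact ⟨_, (h1 k hk j hj).1, _, mul_mem ⟨_, B_eq _⟩ hy, by rw [← mul_assoc, this, x_app, mul_assoc]⟩

theorem cen_E : S ⊓ Cs E ≤ E := fun s hs => by
  have h1 : ∀ k < 16, k ≠ 0 → (nthD NC (0, 0) k).1 < 6 ∧ mvI 2560 LS
      (H88.app (nthD TS [] k) (nthD bw [] (nthD NC (0, 0) k).1))
      (H88.app (nthD bw [] (nthD NC (0, 0) k).1) (nthD TS [] k)) (nthD NC (0, 0) k).2 = true := by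
    decide +kernel
  obtain ⟨k, hk, y, hy, rfl⟩ := S_cos hs.1
  by_cases k0 : k = 0
  · subst k0; exact mul_mem (one_mem _) hy
  have h2 : y ∈ Cs E := fun a ha => el_E.comm ha hy
  have h3 := (mul_mem_cancel_right h2).1 hs.2 _ ⟨_, b_eq _ (h1 k hk k0).1⟩
  exact absurd (by rw [x_app, x_app]; exact h3.symm) (M.ne (h1 k hk k0).2)

/-- Lemma B. -/
def LB : Prop := ∀ (U : Subgroup He) (β : MulAut He), IsPGroup 2 U → 64 ≤ Nat.card U → U ≤ fx β → Inn β
/-- The strong form of `NQ.cq`. -/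
def SN : Prop := ∀ z : He, I z → ∀ β : MulAut He, Cfsg.pCoreOf 2 (Cz z) ≤ fx β →
  β = 1 ∨ β = MulAut.conj z

theorem sc (hF : F0 He) (hB : LB) (β : MulAut He) (h1 : ∀ i < 6, β (b i) = b i) (h2 : Is2 β) :
    ∃ m, β = MulAut.conj (evb b 6 m) := by
  have h3 : E ≤ fx β := by rintro _ ⟨m, rfl⟩; exact evb_mem h1 m
  obtain ⟨g, rfl⟩ := hB E β el_E.isPGroup card_E h3
  rw [fx_conj] at h3
  have h4 : g ∈ Cs E := fun a ha => (mem_Cz.1 (h3 ha)).symm
  have h5 : Is2 g := ⟨h2.choose, hF.cen _ (by rw [map_pow]; exact h2.choose_spec)⟩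
  have h6 := ((syl_iff.1 syl_S).inf_of_le_normalizer le_top (S_norm.trans
    (H98.normalizer_le_normalizer_centralizer _))).le_of_le_normalizer' h5.zpowers (zpowers_le.2 h4)
    (zpowers_le.2 (Cs_le_Ns _ (centralizer_le cen_E h4)))
  obtain ⟨m, hm⟩ := cen_E (h6 (mem_zpowers g))
  exact ⟨m, by rw [hm]⟩

variable {G : Type u} [Group G] [Finite G] {e : He →* G} {t : G} {h : He → G}
  (hF : F0 He) (hN : FN He) (hS : SN) (H : HP Ln2 e t h)
include H

theorem pxT {c₀ a₀ b₀ c a b' : W} (g : W) (k : PX e h (xx c₀) (xx a₀) (xx b₀))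
    (k1 : H81.band (cjB LS bs g c₀ c) (H81.band (cjB LS bs g a₀ a) (cjB LS bs g b₀ b')) = true) :
    PX e h (xx c) (xx a) (xx b') := by
  simp only [H81.band_iff] at k1
  rw [M.cj k1.1, M.cj k1.2.1, M.cj k1.2.2]
  exact k.conj H.toHC _

include hF hN hS

/-- The product formula on a line of `A_i` not through `z`. -/
theorem delta {p q r c₂ c₃ g₁ g₃ : W} {c : ℕ × W} (lp : Ln2 (xx [25]) (xx p)) (lq : Ln2 (xx [25]) (xx q))
    (lr : Ln2 (xx [25]) (xx (H88.app p q))) (k0 : cjB LS bs q p p = true)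
    (k1 : H81.band (cjB LS bs g₁ [25] c₂) (H81.band (cjB LS bs g₁ p p) (cjB LS bs g₁ q r)) = true)
    (k2 : relB LS bs BL q r c = true) (k3 : H81.band (cjB LS bs g₃ [25] c₃)
      (H81.band (cjB LS bs g₃ p (H88.app p q)) (cjB LS bs g₃ q (H88.app q r))) = true)
    (k4 : cjB LS bs r [25] [25] = true) (k5 : mvI 2560 LS c₂ (H88.app [25] c₃) 13 = true) :
    PX e h 1 (xx p) (xx q) := by
  rw [x_app] at lr
  refine (H.n3 hF (hN _ Iz) (hS _ Iz) lp.2.1 lq.2.1 lp.2.2.2 lq.2.2.2 lp lq (M.comm k0) lr.2.1 lr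
    lp.2.2.1).resolve_right fun k => M.ne k5 ?_
  have k6 := pxT H g₃ k k3
  have l := ln c k2
  rw [x_app, x_app] at k6
  rw [x_app]
  exact pasch H.toHC k (pxT H g₁ k k1) (H.px l.1 l.2.1 l) k6 (mem_Cz.1 lq.mem) (M.comm k4)

theorem pb : ∀ p ∈ PB, PX e h 1 (xx p.1) (xx p.2) :=
  List.forall_mem_cons.2 ⟨H.px Iz l0.2.1 l0, List.forall_mem_cons.2 ⟨H.px Iz l1.2.1 l1,
    List.forall_mem_cons.2 ⟨delta hF hN hS H (r := [26,28,31,33,32]) (c₂ := [33,32,33])
      (c₃ := [26,30,33,28]) (g₁ := [23,5,11,34,28]) (g₃ := [28,59,58,35,37,42]) (c := (1, [65,58,30])) l0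
      (lnz (u := [65,58]) (p := 13) (by decide +kernel)) (lnz (u := [63,65]) (p := 13) (by decide +kernel))
      (by decide +kernel) (by decide +kernel) (by decide +kernel) (by decide +kernel) (by decide +kernel)
      (by decide +kernel),
    List.forall_mem_singleton.2 (delta hF hN hS H (r := [25,28,34]) (c₂ := [25,32,34,34])
      (c₃ := [33,34,29,33]) (g₁ := [19,41,78,26,34,40]) (g₃ := [70,44,58,35,35,33]) (c := (1, [33,62])) l1
      (lnz (u := [33,62]) (p := 13) (by decide +kernel)) (lnz (u := [62]) (p := 13) (by decide +kernel))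
      (by decide +kernel) (by decide +kernel) (by decide +kernel) (by decide +kernel) (by decide +kernel)
      (by decide +kernel))⟩⟩⟩

theorem px {s t : W} (c : ℕ × W) (k : relB LS bs PB s t c = true) : PX e h 1 (xx s) (xx t) :=
  M.rel (PX.conj1 H.toHC) (pb hF hN hS H) k

theorem cmm {s t : W} (c : ℕ × W) (k : relB LS bs CB s t c = true) : CM h (xx s) (xx t) := by
  refine M.rel (CM.conj H.toHC) ((List.forall_mem_append (l₁ := PB) (l₂ := [(x1, x0)])).2
    ⟨fun p hp => (pb hF hN hS H p hp).cm H.toHC, List.forall_mem_singleton.2 ?_⟩) k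
  have a1 := ln (s := [31,30,32]) (t := x1) (0, [19,94,23,37,37]) (by decide +kernel)
  have a2 := ln (s := [31,30,32]) (t := x0) (1, [19,94,23,26,41]) (by decide +kernel)
  exact H.cm2 hF (hN _ Iz) (hN _ a1.1) (M.ne (p := 13) (by decide +kernel)) l1.2.1 l0.2.1 l1.2.2.2
    l0.2.2.2 l1 l0 a1.2.2.2 a2.2.2.2 a1 a2 (M.comm (by decide +kernel))

def CT : List (List (ℕ × W)) := [[(0,[]),(1,[]),(4,[83,51,60,36,35,38]),(0,[]),(0,[36,37]),(4,[35,62,37,30])],[(0,[]),(0,[]),(4,[83,51,60,38,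
  35]),(4,[]),(4,[34,42]),(0,[35,62,35,41])],[(0,[]),(0,[]),(0,[]),(1,[64,58,30]),(2,[65,63,58,28,42]),(2,[65,
  63,58,35,37])],[(0,[]),(0,[]),(0,[]),(0,[]),(2,[]),(2,[23,5,11])],[(0,[]),(0,[]),(0,[]),(0,[]),(0,[]),(2,
  [65,63,58,35,37,38])],[(0,[]),(0,[]),(0,[]),(0,[]),(0,[]),(0,[])]]

theorem hcm : ∀ i < 6, ∀ j < 6, CM h (b i) (b j) := by
  have h1 : ∀ i < 6, ∀ j < 6, i < j →
      relB LS bs CB (nthD bw [] i) (nthD bw [] j) (nthD (nthD CT [] i) (0, []) j) = true := by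
    decide +kernel
  intro i hi j hj
  rcases lt_trichotomy i j with k | rfl | k
  · exact cmm hF hN hS H _ (h1 i hi j hj k)
  · have : I (b i) := by
      rcases Nat.lt_or_ge i 5 with k | k
      · exact (cmm hF hN hS H _ (h1 i hi 5 (by omega) k)).1
      · rw [show i = 5 by omega]; exact (cmm hF hN hS H _ (h1 0 (by omega) 5 (by omega) (by omega))).2.1
    exact ⟨this, this, rfl, rfl⟩
  · exact (cmm hF hN hS H _ (h1 j hj i hi k)).symm

omit hF hN hS H in
/-- Masks reached along lines. -/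
noncomputable def genB : List (ℕ × ℕ × ℕ × W) → W → W → Bool
  | [], K, T => allM (fun m => H74.memL m K) T
  | s :: L, K, T => H81.band (H74.memL s.1 K) (H81.band (H74.memL s.2.1 K)
      (H81.band (relB LS bs PB (mw bw 6 s.1) (mw bw 6 s.2.1) s.2.2) (genB L ((s.1 ^^^ s.2.1) :: K) T)))

theorem of_genB (L : List (ℕ × ℕ × ℕ × W)) (T : W) : ∀ K : W,
    (∀ m ∈ K, h (evb b 6 m) = evb (fun i => h (b i)) 6 m) → genB L K T = true →
    ∀ m ∈ T, h (evb b 6 m) = evb (fun i => h (b i)) 6 m := by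
  induction L with
  | nil => exact fun K hK k m hm => hK m (H74.of_memL (of_allM k m hm))
  | cons s L ih =>
    intro K hK k
    simp only [genB, H81.band_iff] at k
    refine ih _ (List.forall_mem_cons.2 ⟨?_, hK⟩) k.2.2.2
    have := (px hF hN hS H _ k.2.2.1).2.2.2.2
    have c := hcm hF hN hS H
    rw [← B_eq, ← B_eq, map_one, mul_one, hK _ (H74.of_memL k.1), hK _ (H74.of_memL k.2.1)] at this
    rw [Bx, this, evb_xor (fun i hi => H.sq _ (c i hi i hi).1) fun i hi j hj => (c i hi j hj).2.2.2]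

def GEN : List (ℕ × ℕ × ℕ × W) := [(1,16,0,[36,37]),(2,32,0,[35,62,35,41]),(17,34,2,[63,63,34,35,37]),(4,16,2,[65,63,58,28,42]),(20,2,2,[42,67,
  74,34,35,37]),(4,34,2,[63,63,38,34]),(8,38,2,[38,59,58,34,42]),(8,17,2,[26]),(4,32,2,[65,63,58,35,37]),(4,
  17,2,[63,63,42]),(8,16,2,[]),(8,34,2,[85,52,6,37,33,41]),(16,42,2,[2,62,22,41,34]),(1,8,0,[]),(9,34,2,[86,
  43,60,36,40,37])]

/-- Special pairs are good. -/
theorem special (hB : LB) {O : Subgroup G} (hA : AB e t O) : GD e h (xx aw) (xx y0) := by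
  have la := ln (s := [25]) (t := aw) (1, [35,30]) (by decide +kernel)
  have lb := ln (s := [25]) (t := y0) (0, [36,37]) (by decide +kernel)
  refine (H.gd_or hF (hN _ Iz) la.2.1 lb.2.1 la.2.2.2 lb.2.2.2 la lb
    ((M.cj (x := H88.app [25] y0) (by decide +kernel)).symm.trans (x_app _ _))).resolve_right fun f4 => ?_
  have g1 := of_genB hF hN hS H GEN [51,22,16,46,25,8,36,21,24,58,42,43] [1,2,4,8,16,32]
    (fun m hm => by
      obtain ⟨i, hi, rfl⟩ : ∃ i < 6, m = 2 ^ i := by revert m; decide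
      rw [b_eq i hi]
      interval_cases i <;> simp [evb, Nat.testBit]) (by decide +kernel)
  have g2 : ∀ j ∈ [1, 2], ∀ i < 6, cjB LS bs (nw j) (nthD bw [] i) (mw bw 6 (Nm j i)) = true := by
    decide +kernel
  have g3 : ∀ i < 4, relB LS bs CB aw (nthD bw [] i) (nthD [(1,[33,62,35,35]), (3,[35,26,33]),
      (3,[74,60,26,39,35]), (4,[35,33])] (0, []) i) = true := by decide +kernel
  refine no_fake hA H.toHC (n := fun j => xx (nw j)) (hcm hF hN hS H)
    (fun j hj i hi => ⟨(M.cj (g2 j hj i hi)).symm.trans (B_eq _).symm, g1 _ (by revert j i; decide)⟩)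
    (fun i hi => cmm hF hN hS H _ (g3 i hi)) f4 ?_
    (px hF hN hS H (3, [74,60,26,39,35]) (by decide +kernel)) (sc hF hB) (fun k => not_I ?_) ?_
  · have := f4.conj H.toHC (xx [35,62,37,37,43])
    rwa [← M.cj (x := [27]) (by decide +kernel), ← M.cj (x := H88.app aw [25,32]) (by decide +kernel),
      ← M.cj (x := [26,29,30,33]) (by decide +kernel), x_app] at this
  · rw [B_eq, M.cj (g := [92,39,5]) (x₀ := [57]) (x := mw bw 6 5) (by decide +kernel)] at k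
    simpa [mul_assoc] using k.conj (xx [92,39,5])⁻¹
  · rw [B_eq]; exact iC (u := [6,32,6]) (by decide +kernel)

def dw : List W := [[25], [32,25,62,35,52], [45,1,52,39,3]]
def fl (w : W) : W := List.rec [] (fun i _ r => H88.app (nthD dw [] i) r) w
def GW : List (ℕ × W) := [(18,[2,1,0,1,2,1,0,1,2,1,0,2,0,2,0,1,2,0,1,2,1,0,2,0,2,0,1,0,1,0,2,0,2]),(20,[2,1,0,2,1,2,1,0,1,2,1,2,0,1,0,
  2,0,1,2,0,1,0,2,1,0,1,2,1,0,2,1,0,2,0]),(17,[2,0,2,1,2,0,2,1,0,2,1,0,2,0,2,1,2,0,1,0,2,0,2,1,2,0,1,0,2,1,2,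
  0,1,0,1]),(16,[2,0,2,1,2,0,2,1,0,2,1,0,1,0,2,1,0,1,0,2,1,0,2,1,0,2,0,1,0,1,2,0]),(19,[1,2,0,2,1,0,2,1,2,0,2,
  0,1,0,2,0,2,1,2,0,2,1,0,1,2,1,0,2,0,1,2,0,1,2]),(21,[1,2,1,0,2,0,2,1,0,2,1,2,0,2,1,2,0,1,0,1,2,1,0,2,0,2,1,
  0,1,0,2,0,1]),(22,[2,0,2,0,1,0,1,2,1,0,1,0,2,0,1,0,2,1,2,1,0,2,1,0,2,1,0,2,0,2,1,0,1]),(15,[1,2,0,1,2,1,0,2,
  1,0,2,1,0,1,0,2,0,1,2,0,2,0,1,2,0,2,1,2,0,1,0,2,0,1]),(23,[1,2,1,0,1,2,0,1,0,1,0,2,0,1,2,1,0,2,1,0,2,0,1,2,
  1,2,0,1,0,1]),(7,[0,1,2,1,0,2,1,0,1,0,2,0,1,0,2,1,2,1,0,2,1,2,1,0,1,0,2,1,0,2,0,2,0]),(8,[2,1,2,0,1,0,2,0,2,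
  1,0,1,2,0,1,0,2,1,0,2,1,0,1,0,2,1,0,1,2,0,2,0,1])]

omit hF hN hS H in
theorem gen_top : closure {xx [25], xx [32,25,62,35,52], xx [45,1,52,39,3]} = ⊤ := by
  set D := closure {xx [25], xx [32,25,62,35,52], xx [45,1,52,39,3]}
  have h1 : ∀ w : W, xx (fl w) ∈ D := fun w => by
    induction w with
    | nil => exact one_mem _
    | cons i w ih =>
      refine (x_app _ _).symm ▸ mul_mem ?_ ih
      rcases i with _ | _ | _ | i
      exacts [subset_closure (Or.inl rfl), subset_closure (Or.inr (Or.inl rfl)),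
        subset_closure (Or.inr (Or.inr rfl)), one_mem _]
  have h2 : ∀ l ∈ GW.map Prod.fst, vL LS l ∈ D.map H71.He.ρ := fun l hl => by
    obtain ⟨p, hp, rfl⟩ := List.mem_map.1 hl
    have k := H81.band_iff.1 (of_allM (by decide +kernel :
      allM (fun p => H81.band (Nat.blt p.1 LS.length) (eqI LS bs [p.1] (fl p.2))) GW = true) p hp)
    rw [← M.map_lv (Nat.blt_eq ▸ k.1), ← x_one, M.eq k.2]
    exact mem_map_of_mem _ (h1 _)
  have h3 : D.map H71.He.ρ = H71.He.ρ.range := eq_of_lb (map_le_range _ _)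
    (LOK.cons (hLS.wdK h2 (w := [18,20,17,16,19,21,22,15]) (by decide +kernel))
    (LOK.cons (hLS.wdK h2 (w := [20,18,21,19,22,23,7,8]) (by decide +kernel))
    (LOK.cons (hLS.wdK h2 (w := [21,22,23,7,8]) (by decide +kernel))
    (LOK.cons (hLS.wdK h2 (w := [7,8]) (by decide +kernel)) LOK.nil)))) lb0
    (by rw [cardB]; decide +kernel)
  exact map_injective H71.He.inj (h3.trans (MonoidHom.range_eq_map _))

omit H in
theorem ga (hB : LB) : GA2.{u} He := fun G _ _ e t O h _ hA H => by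
  have s0 := special hF hN hS H hB hA
  have sp : ∀ {s t : W} (c : ℕ × W), relB LS bs [(aw, y0), (y0, aw)] s t c = true → GD e h (xx s) (xx t) :=
    fun c k => M.rel (GD.conj H.toHC)
      (List.forall_mem_cons.2 ⟨s0, List.forall_mem_singleton.2 (s0.symm H.toHC)⟩) k
  have tr : ∀ {r s t : W} (g : W), GD e h (xx [25]) (xx r) → relB LS bs [([25], r)] s t (0, g) = true →
      GD e h (xx s) (xx t) := fun g k0 k => M.rel (GD.conj H.toHC) (List.forall_mem_singleton.2 k0) k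
  have r14 := (sp (s := [25]) (t := [58,14,27,23,57]) (0, [89,95,51,37,40]) (by decide +kernel)).close
    H.toHC (sp (t := [31,63,65,55]) (1, [63,65,26,34]) (by decide +kernel))
    (sp (0, [63,49,0,33]) (by decide +kernel))
  rw [← x_app, ← x_app] at r14
  have r13 := (tr (s := [25]) (t := [25,51,31]) [37,28,41] r14 (by decide +kernel)).close H.toHC
    (tr (t := [44,93,1,55]) [25,31] r14 (by decide +kernel)) (sp (1, [63,41,3,36,41]) (by decide +kernel))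
  rw [← x_app, ← x_app] at r13
  have a1 := tr (s := [25]) (t := [32,25,62,35,52]) [] r13 (by decide +kernel)
  have a2 := tr (s := [25]) (t := [45,1,52,39,3]) [41,35] r13 (by decide +kernel)
  have a3 := tr (s := [32,25,62,35,52]) (t := [45,1,52,39,3]) [10,60,13,37,33,26,38] r13
    (by decide +kernel)
  refine ⟨_, ?_, gen_top, ?_⟩
  · rintro a (rfl | rfl | rfl)
    exacts [Iz, a1.2.1, a2.2.1]
  · rintro a (rfl | rfl | rfl) b (rfl | rfl | rfl)
    exacts [H.toHC.gd_self Iz, a1.2.2, a2.2.2, (a1.symm H.toHC).2.2, H.toHC.gd_self a3.1, a3.2.2,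
      (a2.symm H.toHC).2.2, (a3.symm H.toHC).2.2, H.toHC.gd_self a3.2.1]

end H25.ST.HeG
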