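import Cfsg.Agent.H38.HeK5
import Cfsg.Agent.H79.STHeH
import Cfsg.Agent.H81.STHeF
import Cfsg.Agent.H25.STHeG
import Cfsg.Agent.H25.STAmb

/-! STS: the fact pack of the Held group (up to `FA`). -/

set_option autoImplicit false

namespace H25.ST.HeG

open Cfsg.Spor H64.SG H25.ST Subgroup H38.HeK

universe u

theorem lb : LB := fun _ _ a b c => lemB a b c

theorem sn : SN := fun z hz β hβ => by
  obtain ⟨g, rfl⟩ := isConj_iff.1 (one_cls I_z hz)
  have e : mp (MulAut.conj g) (Cfsg.pCoreOf 2 (Cz (j H38.He.xz))) =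
      Cfsg.pCoreOf 2 (Cz (g * j H38.He.xz * g⁻¹)) := by
    rw [mp_pCoreOf, mp_Cz]; rfl
  rw [← e, O2_z] at hβ
  rcases sc_Q (β := (MulAut.conj g)⁻¹ * β * (MulAut.conj g)⁻¹⁻¹) (by
    rw [← mp_le (MulAut.conj g), mp_fx]; simpa [mul_assoc] using hβ) with k | k
  · left
    have := congrArg (fun γ => MulAut.conj g * γ * (MulAut.conj g)⁻¹) k
    simpa [mul_assoc] using this
  · right
    have := congrArg (fun γ => MulAut.conj g * γ * (MulAut.conj g)⁻¹) k
    rw [map_mul, map_mul, map_inv, ← this]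
    group

theorem pk (hA : FA He) : Pk2.{u} He :=
  ⟨f0, hA, fw, H79.STHe.fh f0 lb, H81.HeE.fe f0 lb, ft, ga f0 fn sn lb⟩

end H25.ST.HeG
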