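import Cfsg.Agent.H25.STHc

/-! STD-S: the assembly. -/

set_option autoImplicit false

namespace H25.ST

open H64.SG Subgroup

universe u

/-- The ambient slots used for all three groups. -/
structure Jobs : Prop where
  a0 : Job0a.{u}
  b0 : Job0b.{u}
  ab : JobAB.{u}
  j1 : Job1.{u}
  b : JobB.{u}
  t1 : JobT1.{u}
  t2 : JobT2.{u}
  cu : JobCU.{u}
  w1 : JobW1.{u}
  w2 : JobW2.{u}
  w3 : JobW3.{u}
  we : JobWE.{u}

variable {X : Type} [Group X] {G : Type u} [Group G] [Finite G] {e : X →* G}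

theorem Jobs.start (J : Jobs.{u}) (h0 : F0 X) (hA : FA X) (hW : FW X) (hG : H99.Wr.AS G)
    (hi : Function.Injective e) (hs : Cfsg.IsStandardSubgroup e.range) :
    ∃ t O, CE e t ∧ AB e t O ∧ ∀ z, I z → Mv e t z := by
  obtain ⟨t, y, h1, h2, h3⟩ := J.b0 X G e 1 h0 hA hW hG hi hs (J.a0 X G e 1 h0 hA hi hs)
  obtain ⟨O, h4⟩ := J.ab X G e t h0 h1
  exact ⟨t, O, h1, h4, J.j1 X G e t h0 hA h1 O h4 y h2 h3⟩

theorem Jobs.finish (J : Jobs.{u}) (h0 : F0 X) (hE : FE X) (hT : FT X) (hG : H99.Wr.AS G) {t : G}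
    {O : Subgroup G} {h : X → G} (h1 : CE e t) (h2 : AB e t O) (h3 : HC e t h) (h4 : Gen e h) :
    False := by
  obtain ⟨z, S, U₁, U₂, hE⟩ := hE
  obtain ⟨B, c, k1⟩ := J.b X G e t h0 h1 O h2 h h3 h4
  have k2 := J.t2 X G e t h0 hT B c O k1 h2 (J.t1 X G e t h0 B c z S U₁ U₂ hE k1)
  have k3 := J.cu X G e t h0 B c z S U₁ U₂ hE k2
  exact k1.ne_top h0 hG (J.we J.w1 J.w2 X G e t h0 B c z S U₁ U₂ hE k2 k3
    (J.w3 X G e t h0 B c z S U₁ U₂ hE k2 k3))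

theorem exists_emb {A : Subgroup G} (h : Nonempty (A ≃* X)) :
    ∃ e : X →* G, Function.Injective e ∧ e.range = A := by
  obtain ⟨φ⟩ := h
  refine ⟨A.subtype.comp φ.symm.toMonoidHom, A.subtype_injective.comp φ.symm.injective, ?_⟩
  rw [MonoidHom.range_comp, MonoidHom.range_eq_top.2 φ.symm.surjective, ← MonoidHom.range_eq_map,
    range_subtype]

theorem not_pk2 (J : Jobs.{u}) (h2 : JobH2.{u}) (pf : JobPF.{u}) (P : Pk2.{u} X) (hG : H99.Wr.AS G)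
    {A : Subgroup G} (hA : Cfsg.IsStandardSubgroup A) : ¬ Nonempty (A ≃* X) := fun k => by
  obtain ⟨e, hi, rfl⟩ := exists_emb k
  obtain ⟨h0, hA', hW, hH, hE, hT, hg⟩ := P
  obtain ⟨t, O, k1, k2, k3⟩ := J.start h0 hA' hW hG hi hA
  obtain ⟨z, e₀, e₁, hH'⟩ := id hH
  have hz := hH'.l0.ln.1
  obtain ⟨w, hw⟩ := h2 X G e t h0 z e₀ e₁ hH' k1 O k2 (k3 z hz)
  obtain ⟨h, k4, -⟩ := mkHC h0 k1.toB1 k2 hz hw
  exact J.finish h0 hE hT hG k1 k2 k4 (hg G e t O h k1 k2 (pf X G e t h0 hH h k4))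

theorem not_pk3 (J : Jobs.{u}) (o1 : JobO1.{u}) (o2 : JobO2.{u}) (P : Pk3.{u} X) (hG : H99.Wr.AS G)
    {A : Subgroup G} (hA : Cfsg.IsStandardSubgroup A) : ¬ Nonempty (A ≃* X) := fun k => by
  obtain ⟨e, hi, rfl⟩ := exists_emb k
  obtain ⟨h0, hA', hW, ⟨z, ζ, s, j₁, j₂, a, E, L, hO⟩, hE, hT, hg⟩ := P
  obtain ⟨t, O, k1, k2, k3⟩ := J.start h0 hA' hW hG hi hA
  obtain ⟨P, hP⟩ := o1 X G e t h0 z ζ s j₁ j₂ a E L hO k1 O k2 (k3 z hO.zI)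
  obtain ⟨w, hw, hm⟩ := o2 X G e t h0 z ζ s j₁ j₂ a E L hO k1 O k2 P hP
  obtain ⟨h, k4⟩ := mkHP3 h0 k1.toB1 k2 hO hw hm
  exact J.finish h0 hE hT hG k1 k2 k4.toHC (hg G e t O h k1 k2 k4)

theorem main (J : Jobs.{u}) (h2 : JobH2.{u}) (pf : JobPF.{u}) (o1 : JobO1.{u}) (o2 : JobO2.{u})
    (p1 : Pk3.{u} Cfsg.Spor.ON) (p2 : Pk2.{u} Cfsg.Spor.He) (p3 : Pk2.{u} Cfsg.Spor.Suz)
    (hG : H99.Wr.AS G) {A : Subgroup G} (hA : Cfsg.IsStandardSubgroup A) :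
    ¬ (Cfsg.Spor.IsoON A ∨ Cfsg.Spor.IsoHe A ∨ Cfsg.Spor.IsoSuz A) := by
  rintro (k | k | k)
  exacts [not_pk3 J o1 o2 p1 hG hA k, not_pk2 J h2 pf p2 hG hA k, not_pk2 J h2 pf p3 hG hA k]

end H25.ST
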