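/- Numbers of Sylow subgroups. -/
import Cfsg.Agent.H4.Product
import Cfsg.Agent.H4.HallBasic
import Cfsg.Agent.H29.Burnside

set_option autoImplicit false

namespace H25.SylNum
open Subgroup MulAction

universe u
variable {G : Type u} [Group G] [Finite G]

theorem card_normal_dvd (r : ℕ) [Fact r.Prime] (N : Subgroup G) [N.Normal] :
    Nat.card (Sylow r N) ∣ Nat.card (Sylow r G) := by
  obtain ⟨Q⟩ : Nonempty (Sylow r N) := inferInstance
  obtain ⟨P, hP⟩ := Q.exists_comap_subtype_eq
  rw [Q.card_eq_index_normalizer, P.card_eq_index_normalizer]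
  refine Dvd.dvd.trans ?_ (H4.relIndex_dvd_index_of_normal_right _ N)
  refine index_dvd_of_le fun x hx => ?_
  rw [mem_set_normalizer_iff]
  intro y
  have := (mem_set_normalizer_iff.1 (mem_subgroupOf.1 hx)) (y : G)
  change y ∈ (Q : Subgroup N) ↔ x * y * x⁻¹ ∈ (Q : Subgroup N)
  rw [← hP]
  exact this

theorem card_map_dvd (r : ℕ) [Fact r.Prime] {H : Type*} [Group H] [Finite H] {f : G →* H}
    (hf : Function.Surjective f) : Nat.card (Sylow r H) ∣ Nat.card (Sylow r G) := by
  obtain ⟨P⟩ : Nonempty (Sylow r G) := inferInstance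
  rw [(P.mapSurjective hf).card_eq_index_normalizer, P.card_eq_index_normalizer,
    ← index_comap_of_surjective _ hf]
  refine index_dvd_of_le fun x hx => ?_
  exact le_normalizer_map f ⟨x, hx, rfl⟩

/-- if `s` does not divide the number of Sylow `r`-subgroups, every `s`-subgroup normalizes one -/
theorem exists_normalized {r s : ℕ} [Fact r.Prime] [Fact s.Prime]
    (h : ¬ s ∣ Nat.card (Sylow r G)) {T : Subgroup G} (hT : IsPGroup s T) :
    ∃ R : Sylow r G, T ≤ normalizer (R : Set G) := by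
  obtain ⟨R, hR⟩ := hT.nonempty_fixed_point_of_prime_not_dvd_card (Sylow r G) h
  exact ⟨R, (T.sylow_mem_fixedPoints_iff).1 hR⟩

/-- `T` normalizes `R`, and `G = N(T) N(R)`: then `T` normalizes all conjugates of `R` -/
theorem le_all {r : ℕ} [Fact r.Prime] {T : Subgroup G} {R : Sylow r G}
    (hT : T ≤ normalizer (R : Set G))
    (h : (normalizer (T : Set G)).index.Coprime (Nat.card (Sylow r G))) (R' : Sylow r G) :
    T ≤ normalizer (R' : Set G) := by
  obtain ⟨g, rfl⟩ := exists_smul_eq G R R'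
  rw [R.card_eq_index_normalizer] at h
  obtain ⟨x, hx, y, hy, rfl⟩ := H4.exists_mul_of_coprime_index h g
  intro t ht
  rw [mul_smul, Sylow.smul_eq_iff_mem_normalizer.2 hy, ← Sylow.smul_eq_iff_mem_normalizer,
    ← mul_smul, smul_eq_iff_eq_inv_smul, ← mul_smul, eq_comm, Sylow.smul_eq_iff_mem_normalizer]
  have : x⁻¹ * t⁻¹ * x⁻¹⁻¹ ∈ T := (mem_normalizer_iff.1 (inv_mem hx) _).1 (inv_mem ht)
  have h2 := hT this
  convert h2 using 1
  group

theorem normal_of_all [IsSimpleGroup G] {r s : ℕ} [Fact r.Prime] [Fact s.Prime]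
    (hs : s ∣ Nat.card G) (R : Sylow r G)
    (h : ∀ T : Sylow s G, (T : Subgroup G) ≤ normalizer (R : Set G)) :
    (R : Subgroup G).Normal := by
  rw [← normalizer_eq_top_iff, eq_top_iff, R.coe_coe]
  obtain ⟨T⟩ : Nonempty (Sylow s G) := inferInstance
  have h1 : (T : Subgroup G) ≤ (normalizer (R : Set G)).normalCore := by
    intro t ht g
    exact h (g • T) ⟨t, ht, rfl⟩
  rcases (normalCore_normal (normalizer (R : Set G))).eq_bot_or_eq_top with e | e
  · exact absurd (le_bot_iff.1 (e ▸ h1)) (T.ne_bot_of_dvd_card hs)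
  · exact e ▸ normalCore_le _

theorem simple_case [IsSimpleGroup G]
    (h : ∀ (r : ℕ) [Fact r.Prime], Nat.card (Sylow r G) = 1 ∨ IsPrimePow (Nat.card (Sylow r G))) :
    Group.IsSolvable G := by
  by_contra hns
  have nn : ∀ (r : ℕ) [Fact r.Prime], r ∣ Nat.card G → ∀ R : Sylow r G,
      ¬ (R : Subgroup G).Normal := by
    intro r _ hr R hR
    rcases hR.eq_bot_or_eq_top with e | e
    · exact R.ne_bot_of_dvd_card hr e
    · have h1 : IsPGroup r (⊤ : Subgroup G) := e ▸ R.isPGroup'
      have h2 : IsPGroup r G := h1.of_equiv topEquiv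
      have := h2.isNilpotent
      exact hns inferInstance
  -- every prime `r` has a partner
  have partner : ∀ r : ℕ, r.Prime → r ∣ Nat.card G → ∃ s k : ℕ, s.Prime ∧ s ∣ Nat.card G ∧ s ≠ r ∧
      0 < k ∧ Nat.card (Sylow r G) = s ^ k := by
    intro r hr hd
    have := Fact.mk hr
    obtain ⟨R⟩ : Nonempty (Sylow r G) := inferInstance
    rcases h r with h1 | h1
    · have := (Nat.card_eq_one_iff_unique.1 h1).1
      exact absurd R.normal_of_subsingleton (nn r hd R)
    · obtain ⟨s, k, hs, hk, e⟩ := (isPrimePow_nat_iff _).1 h1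
      have h2 : s ∣ Nat.card (Sylow r G) := e ▸ dvd_pow_self s hk.ne'
      refine ⟨s, k, hs, h2.trans (R.card_dvd_index.trans (R : Subgroup G).index_dvd_card), ?_, hk,
        e.symm⟩
      rintro rfl
      exact not_dvd_card_sylow s G h2
  have key : ∀ r s : ℕ, r.Prime → s.Prime → r ∣ Nat.card G → s ∣ Nat.card G →
      (Nat.card (Sylow r G)).Coprime (Nat.card (Sylow s G)) → s ∣ Nat.card (Sylow r G) := by
    intro r s hr hs dr ds hc
    have := Fact.mk hr
    have := Fact.mk hs
    by_contra hn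
    obtain ⟨R⟩ : Nonempty (Sylow r G) := inferInstance
    refine nn r dr R (normal_of_all ds R fun T => ?_)
    obtain ⟨R', hR'⟩ := exists_normalized hn T.isPGroup'
    exact le_all hR' (by rw [T.coe_coe, ← T.card_eq_index_normalizer]; exact hc.symm) R
  -- the partner of the partner
  have pp : ∀ r s k : ℕ, r.Prime → s.Prime → r ∣ Nat.card G → s ∣ Nat.card G → s ≠ r →
      Nat.card (Sylow r G) = s ^ k → r ∣ Nat.card (Sylow s G) := by
    intro r s k hr hs dr ds _ e
    have := Fact.mk hs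
    refine key s r hs hr ds dr ?_
    rw [e]
    exact Nat.Coprime.pow_right k
      ((Nat.Prime.coprime_iff_not_dvd hs).2 (not_dvd_card_sylow s G)).symm
  have : Nontrivial G := inferInstance
  have h1 : 1 < Nat.card G := Finite.one_lt_card
  obtain ⟨r, hr, dr⟩ := Nat.exists_prime_and_dvd h1.ne'
  obtain ⟨s, k, hs, ds, sr, hk, e⟩ := partner r hr dr
  refine hns (H29.isSolvable_of_prime_dvd_card hr hs fun t ht dt => ?_)
  by_contra hh
  push Not at hh
  obtain ⟨v, l, hv, dv, vt, hl, e'⟩ := partner t ht dt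
  have vs : v ≠ s := by
    rintro rfl
    obtain ⟨w, m, hw, -, -, -, e''⟩ := partner v hv dv
    have h2 := pp r v k hr hv dr dv sr e
    have h3 := pp t v l ht hv dt dv vt e'
    rw [e''] at h2 h3
    exact hh.1 (((Nat.prime_dvd_prime_iff_eq ht hw).1 (ht.dvd_of_dvd_pow h3)).trans
      ((Nat.prime_dvd_prime_iff_eq hr hw).1 (hr.dvd_of_dvd_pow h2)).symm)
  have := key r t hr ht dr dt (by
    rw [e, e']
    exact Nat.Coprime.pow _ _ ((Nat.coprime_primes hs hv).2 vs.symm))
  rw [e] at this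
  exact hh.2 ((Nat.prime_dvd_prime_iff_eq ht hs).1 (ht.dvd_of_dvd_pow this))

theorem s3933_aux (n : ℕ) : ∀ (G : Type u) [Group G] [Finite G], Nat.card G = n →
    (∀ (r : ℕ) [Fact r.Prime], Nat.card (Sylow r G) = 1 ∨ IsPrimePow (Nat.card (Sylow r G))) →
    Group.IsSolvable G := by
  induction n using Nat.strong_induction_on with
  | _ n ih =>
  intro G _ _ hn h
  have dv : ∀ a b : ℕ, a ∣ b → (b = 1 ∨ IsPrimePow b) → (a = 1 ∨ IsPrimePow a) := by
    intro a b hab hb
    rcases hb with rfl | hb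
    · exact Or.inl (Nat.dvd_one.1 hab)
    · obtain ⟨p, k, hp, -, rfl⟩ := (isPrimePow_nat_iff _).1 hb
      obtain ⟨j, -, rfl⟩ := (Nat.dvd_prime_pow hp).1 hab
      rcases Nat.eq_zero_or_pos j with rfl | hj
      · exact Or.inl rfl
      · exact Or.inr ((isPrimePow_nat_iff _).2 ⟨p, j, hp, hj, rfl⟩)
  rcases subsingleton_or_nontrivial G with hG | hG
  · infer_instance
  by_cases hs : ∃ N : Subgroup G, N.Normal ∧ N ≠ ⊥ ∧ N ≠ ⊤
  · obtain ⟨N, hN, h1, h2⟩ := hs
    have c1 : Nat.card N < n := hn ▸ lt_of_le_of_ne N.card_le_card_group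
      fun e => h2 (eq_top_of_card_eq N e)
    have c2 : Nat.card (G ⧸ N) < n := by
      rw [← hn, ← N.index_mul_card]
      exact lt_mul_of_one_lt_right (Nat.pos_of_ne_zero index_ne_zero_of_finite)
        ((one_lt_card_iff_ne_bot N).2 h1)
    have s1 := ih _ c1 N rfl fun r _ => dv _ _ (card_normal_dvd r N) (h r)
    have s2 := ih _ c2 (G ⧸ N) rfl fun r _ =>
      dv _ _ (card_map_dvd r (QuotientGroup.mk'_surjective N)) (h r)
    exact Group.isSolvable_of_ker_le_range N.subtype (QuotientGroup.mk' N) (by simp)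
  · push Not at hs
    have : IsSimpleGroup G := ⟨fun N hN => (em (N = ⊥)).imp_right (hs N hN)⟩
    exact simple_case h

end H25.SylNum
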