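/- Groups with Sylow numbers 18, 136, 153. -/
import Cfsg.Agent.H88.PrimeLine
import Cfsg.Agent.H88.Sharp3b
import Cfsg.Agent.H2.CoreFree
import Cfsg.Agent.H9.PBasic
import Cfsg.Agent.H87.Simple
import Cfsg.Agent.S0680
import Cfsg.Agent.H25.SylNum

set_option autoImplicit false

namespace H25.Syl17
open Subgroup MulAction Matrix H30 H88
open scoped MatrixGroups

variable {G : Type*} [Group G] [Finite G]

theorem ker_le_normalizer {p : ℕ} [Fact p.Prime] {H : Type*} [Group H] [Finite H] {f : G →* H}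
    (hf : Function.Surjective f) (h : Nat.card (Sylow p H) = Nat.card (Sylow p G))
    (P : Sylow p G) : f.ker ≤ normalizer (P : Set G) := by
  rw [(P.mapSurjective hf).card_eq_index_normalizer, P.card_eq_index_normalizer,
    ← index_comap_of_surjective _ hf] at h
  have hle : normalizer (P : Set G) ≤ (normalizer (P.mapSurjective hf : Set H)).comap f :=
    fun x hx => le_normalizer_map f ⟨x, hx, rfl⟩
  have e : normalizer (P : Set G) = (normalizer (P.mapSurjective hf : Set H)).comap f := by
    refine eq_of_le_of_card_ge hle (le_of_eq ?_)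
    have h1 := (normalizer (P : Set G)).index_mul_card
    rw [← ((normalizer (P.mapSurjective hf : Set H)).comap f).index_mul_card, h] at h1
    exact (Nat.eq_of_mul_eq_mul_left (Nat.pos_of_ne_zero index_ne_zero_of_finite) h1).symm
  rw [e]
  exact ker_le_comap _ _

theorem commute_of_norm {A B : Subgroup G} (hA : A ≤ normalizer (B : Set G))
    (hB : B ≤ normalizer (A : Set G)) (hd : A ⊓ B = ⊥) {a b : G} (ha : a ∈ A) (hb : b ∈ B) :
    a * b = b * a := by
  have h1 : a * b * a⁻¹ * b⁻¹ ∈ A ⊓ B := by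
    refine mem_inf.2 ⟨?_, B.mul_mem ((mem_normalizer_iff.1 (hA ha) b).1 hb) (B.inv_mem hb)⟩
    have := (mem_normalizer_iff.1 (hB hb) a⁻¹).1 (A.inv_mem ha)
    simpa only [mul_assoc] using A.mul_mem ha this
  rw [hd, mem_bot, mul_inv_eq_one, mul_inv_eq_iff_eq_mul] at h1
  exact h1

theorem ppart_modEq {p r : ℕ} [hp : Fact p.Prime] [hr : Fact r.Prime] (hpr : p ≠ r) (R : Sylow r G)
    (h : ∀ T : Sylow p G, (R : Subgroup G) ≤ normalizer (T : Set G)) :
    p ^ (Nat.card (Sylow r G)).factorization p ≡ 1 [MOD r] := by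
  obtain ⟨S⟩ : Nonempty (Sylow p (normalizer (R : Set G))) := inferInstance
  obtain ⟨T, hT⟩ := S.exists_comap_subtype_eq
  have h1 := H2.card_modEq_card_inf_centralizer R.isPGroup' (K := (T : Subgroup G)) (h T)
  have h2 : (T : Subgroup G) ⊓ centralizer (R : Set G) =
      (S : Subgroup (normalizer (R : Set G))).map (normalizer (R : Set G)).subtype := by
    rw [← hT, comap_subtype, subgroupOf_map_subtype]
    refine le_antisymm (inf_le_inf_left _ (centralizer_le_normalizer _)) (le_inf inf_le_left ?_)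
    intro t ht x hx
    refine commute_of_norm (A := R) (B := (T : Subgroup G) ⊓ normalizer (R : Set G)) ?_
      inf_le_right ?_ hx ht
    · refine le_trans (le_inf (h T) ?_) inf_normalizer_le_normalizer_inf
      exact le_normalizer.trans le_normalizer
    · exact IsPGroup.disjoint_of_ne r p hpr.symm _ _ R.isPGroup'
        (T.isPGroup'.to_le inf_le_left) |>.eq_bot
  have h2' : (T : Subgroup G) ⊓ centralizer ((R : Subgroup G) : Set G) = _ := h2
  rw [h2', card_map_of_injective (subtype_injective _), T.card_eq_multiplicity,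
    S.card_eq_multiplicity, ← (normalizer (R : Set G)).index_mul_card,
    ← R.card_eq_index_normalizer, Nat.factorization_mul Nat.card_pos.ne' Nat.card_pos.ne',
    Finsupp.add_apply, pow_add] at h1
  refine Nat.ModEq.cancel_right_of_coprime (c := p ^ (Nat.card (normalizer (R : Set G))).factorization p) ?_ (by rwa [one_mul])
  exact Nat.Coprime.pow_right _ ((Nat.coprime_primes hr.out hp.out).2 hpr.symm)

theorem eq_bot_of_norm_all (hZ : center G = ⊥) (K : Subgroup G) [K.Normal]
    (h : ∀ (r : ℕ) [Fact r.Prime], r ∣ Nat.card G → ∀ R : Sylow r G, K ≤ normalizer (R : Set G)) :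
    K = ⊥ := by
  by_contra hK
  obtain ⟨p, hp, hpK⟩ := Nat.exists_prime_and_dvd ((one_lt_card_iff_ne_bot K).2 hK).ne'
  have := Fact.mk hp
  obtain ⟨Q⟩ : Nonempty (Sylow p K) := inferInstance
  obtain ⟨P, hP⟩ := Q.exists_comap_subtype_eq
  have hne : K.subgroupOf P ≠ ⊥ := by
    intro e
    apply Q.ne_bot_of_dvd_card hpK
    rw [← hP, eq_bot_iff]
    intro x hx
    have : (⟨x, hx⟩ : (P : Subgroup G)) ∈ K.subgroupOf P := x.2
    rw [e, mem_bot] at this
    exact Subtype.ext (congrArg (fun y : (P : Subgroup G) => (y : G)) this)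
  obtain ⟨z, hzK, hzc, hzo⟩ := H9.exists_mem_center_orderOf_eq P.isPGroup' hne
  have hzK' : (z : G) ∈ K := hzK
  have htop : centralizer ({(z : G)} : Set G) = ⊤ := by
    rw [← index_eq_one]
    by_contra hi
    obtain ⟨r, hr, hri⟩ := Nat.exists_prime_and_dvd hi
    have := Fact.mk hr
    have key : ∀ R : Sylow r G, ¬ (R : Subgroup G) ≤ centralizer ({(z : G)} : Set G) :=
      fun R hR => R.not_dvd_index (hri.trans (index_dvd_of_le hR))
    by_cases e : r = p
    · subst e
      refine key P fun x hx => mem_centralizer_singleton_iff.2 ?_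
      exact congrArg Subtype.val (mem_center_iff.1 hzc ⟨x, hx⟩)
    · obtain ⟨R⟩ : Nonempty (Sylow r G) := inferInstance
      refine key R fun x hx => mem_centralizer_singleton_iff.2 ?_
      have hG : r ∣ Nat.card G := hri.trans (index_dvd_card _)
      have hG' : p ∣ Nat.card G := hpK.trans K.card_subgroup_dvd_card
      have hN : (K ⊓ P : Subgroup G).Normal := by
        refine ⟨fun y hy g => ⟨‹K.Normal›.conj_mem y hy.1 g, ?_⟩⟩
        have h1 : IsPGroup p ↥(zpowers (g * y * g⁻¹)) := by
          obtain ⟨k, hk⟩ := P.isPGroup' ⟨y, hy.2⟩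
          have hk' : y ^ p ^ k = 1 := congrArg Subtype.val hk
          obtain ⟨j, -, hj⟩ := (Nat.dvd_prime_pow hp).1
            (orderOf_dvd_of_pow_eq_one (x := g * y * g⁻¹) (n := p ^ k) (by rw [conj_pow, hk']; group))
          exact IsPGroup.of_card ((Nat.card_zpowers _).trans hj)
        have h2 : zpowers (g * y * g⁻¹) ≤ normalizer (P : Set G) :=
          (zpowers_le.2 (‹K.Normal›.conj_mem y hy.1 g)).trans (h p hG' P)
        have h3 := h1.inf_normalizer_sylow P
        rw [inf_eq_left.2 h2] at h3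
        exact (h3.le (mem_zpowers _)).2
      refine commute_of_norm (A := R) (B := K ⊓ P) ?_ (inf_le_left.trans (h r hG R)) ?_ hx
        ⟨hzK', z.2⟩
      · rw [normalizer_eq_top]
        exact le_top
      · exact IsPGroup.disjoint_of_ne r p e _ _ R.isPGroup'
          (P.isPGroup'.to_le inf_le_right) |>.eq_bot
  have : (z : G) ∈ center G := mem_center_iff.2 fun g =>
    mem_centralizer_singleton_iff.1 (htop ▸ mem_top g)
  rw [hZ, mem_bot] at this
  have h1 : z = 1 := Subtype.ext this
  rw [h1, orderOf_one] at hzo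
  exact hp.one_lt.ne hzo

theorem orderOf_mk_nine {X : Type*} [Group X] {x y : X} (h9 : x ^ 9 = 1)
    (h3 : x ^ 3 * y ≠ y * x ^ 3) : orderOf (QuotientGroup.mk x : X ⧸ center X) = 9 := by
  have : Fact (Nat.Prime 3) := ⟨by norm_num⟩
  refine orderOf_eq_prime_pow (p := 3) (n := 1) ?_ ?_
  · rw [← QuotientGroup.mk_pow, QuotientGroup.eq_one_iff, mem_center_iff]
    exact fun h => h3 (h y).symm
  · rw [← QuotientGroup.mk_pow]
    exact congrArg _ h9

instance fact17 : Fact (Nat.Prime 17) := ⟨by norm_num⟩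

/-- an element of order nine -/
def m9 : SL(2, ZMod 17) := ⟨!![0, -1; 1, 7], by decide⟩

/-- a transvection -/
def m1 : SL(2, ZMod 17) := ⟨!![1, 1; 0, 1], by decide⟩

theorem m9_pow : m9 ^ 9 = 1 := by decide +kernel

theorem m9_ne : m9 ^ 3 * m1 ≠ m1 * m9 ^ 3 := by decide +kernel

theorem psl_nine : ∃ x : PSL(2, ZMod 17), orderOf x = 9 := ⟨_, orderOf_mk_nine m9_pow m9_ne⟩

theorem pgl_nine : ∃ x : PGL(2, ZMod 17), orderOf x = 9 := by
  refine ⟨_, orderOf_mk_nine (x := SpecialLinearGroup.toGL m9) (y := SpecialLinearGroup.toGL m1)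
    ?_ ?_⟩
  · rw [← map_pow, m9_pow, map_one]
  · rw [← map_pow, ← map_mul, ← map_mul]
    exact fun e => m9_ne (SpecialLinearGroup.toGL_injective e)

section
variable {Ω : Type*} [MulAction G Ω] {P : Subgroup G} {a b : Ω}

theorem two_count (h : PrimeDeg G Ω 17 P a) (hab : a ≠ b) {k : ℕ}
    (hk : Nat.card ↥(stabilizer G a ⊓ stabilizer G b) = 2 ^ (k + 2)) :
    Nat.card (Sylow 2 G) = 153 := by
  have hG := h.card_group hab
  have hS := h.preZ.card_pairStab hab
  rw [hk] at hG hS
  have hf : (Nat.card G).factorization 2 = k + 3 := by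
    rw [hG, show (17 + 1) * (17 * 2 ^ (k + 2)) = 2 ^ (k + 3) * 153 by ring,
      Nat.factorization_mul (by positivity) (by norm_num), Nat.Prime.factorization_pow Nat.prime_two]
    simp [Nat.factorization_eq_zero_of_not_dvd]
  let S : Sylow 2 G := Sylow.ofCard (pairStab G a b) (by rw [hS, hf]; ring)
  have hN : normalizer (S : Set G) = pairStab G a b := by
    refine le_antisymm ?_ (le_normalizer (H := pairStab G a b))
    intro g hg
    have hg' : ∀ x ∈ stabilizer G a ⊓ stabilizer G b, g * x * g⁻¹ ∈ pairStab G a b :=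
      fun x hx => (mem_normalizer_iff.1 hg x).1 (stab2_le_pairStab a b hx)
    have := Fintype.ofFinite ↥(stabilizer G a ⊓ stabilizer G b)
    have h3 : 2 < Fintype.card ↥(stabilizer G a ⊓ stabilizer G b) := by
      rw [← Nat.card_eq_fintype_card, hk, pow_add]
      have : 0 < 2 ^ k := by positivity
      omega
    have key : ∀ x y : ↥(stabilizer G a ⊓ stabilizer G b), x ≠ y → x ≠ 1 → y ≠ 1 →
        g ∈ pairStab G a b := by
      intro x y hxy hx hy
      rcases hg' x x.2 with h1 | h1
      · exact h.preZ.mem_pairStab_of_conj hab x.2 (fun e => hx (Subtype.ext e)) h1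
      rcases hg' _ (y⁻¹).2 with h2 | h2
      · exact h.preZ.mem_pairStab_of_conj hab (y⁻¹).2
          (fun e => hy (inv_eq_one.1 (Subtype.ext e))) h2
      refine h.preZ.mem_pairStab_of_conj hab (x * y⁻¹).2
        (fun e => hxy (mul_inv_eq_one.1 (Subtype.ext e))) ?_
      have := swap_mul_swap h1.1 h1.2 h2.1 h2.2
      convert this using 1
      simp only [Subgroup.coe_mul]
      group
    obtain ⟨x, y, z, hxy, hxz, hyz⟩ := Fintype.two_lt_card_iff.1 h3
    by_cases hx : x = 1
    · exact key y z hyz (hx ▸ hxy.symm) (hx ▸ hxz.symm)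
    by_cases hy : y = 1
    · exact key x z hxz hx (hy ▸ hyz.symm)
    exact key x y hxy hx hy
  rw [S.card_eq_index_normalizer, hN]
  have h1 := (pairStab G a b).index_mul_card
  rw [hS, hG] at h1
  have : 0 < 2 ^ (k + 2) := by positivity
  nlinarith

theorem three_count (h : PrimeDeg G Ω 17 P a) (hab : a ≠ b)
    (hk : Nat.card ↥(stabilizer G a ⊓ stabilizer G b) = 8 ∨
      Nat.card ↥(stabilizer G a ⊓ stabilizer G b) = 16) (h9 : ∃ x : G, orderOf x = 9)
    [Fact (Nat.Prime 3)] (hd : Nat.card (Sylow 3 G) ∣ 136) : Nat.card (Sylow 3 G) = 136 := by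
  obtain ⟨x, hx⟩ := h9
  have hG := h.card_group hab
  have hZ := h.preZ
  have : Finite Ω := hZ.finite_Ω
  have hf : (Nat.card G).factorization 3 = 2 := by
    rcases hk with hk | hk <;> rw [hG, hk]
    · rw [show (17 + 1) * (17 * 8) = 3 ^ 2 * 272 by norm_num,
        Nat.factorization_mul (by positivity) (by norm_num),
        Nat.Prime.factorization_pow Nat.prime_three]
      simp [Nat.factorization_eq_zero_of_not_dvd]
    · rw [show (17 + 1) * (17 * 16) = 3 ^ 2 * 544 by norm_num,
        Nat.factorization_mul (by positivity) (by norm_num),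
        Nat.Prime.factorization_pow Nat.prime_three]
      simp [Nat.factorization_eq_zero_of_not_dvd]
  have hQ : Nat.card (zpowers x) = 9 := (Nat.card_zpowers x).trans hx
  let Q : Sylow 3 G := Sylow.ofCard (zpowers x) (by rw [hQ, hf]; norm_num)
  have hfree : ∀ n : ℕ, ¬ 3 ∣ n → ∀ z : Ω, x ^ n • z ≠ z := by
    intro n hn z hz
    have h1 : orderOf (x ^ n) ∣ Nat.card (stabilizer G z) :=
      Subgroup.orderOf_dvd_natCard _ hz
    have h2 := (stabilizer G z).index_mul_card
    rw [hZ.index_stab, h.card_Ω, hG] at h2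
    rw [Nat.Coprime.orderOf_pow, hx] at h1
    · rcases hk with hk | hk <;> rw [hk] at h2 <;> omega
    · rw [hx]
      exact Nat.Coprime.pow_left 2 ((Nat.Prime.coprime_iff_not_dvd Nat.prime_three).2 hn)
  have hC : Nat.card (centralizer (zpowers x : Set G)) ∣ 18 := by
    have hs : ∀ z : Ω, stabilizer (centralizer (zpowers x : Set G)) z = ⊥ := by
      intro z
      rw [eq_bot_iff]
      intro c hc
      have hc' : (c : G) • z = z := hc
      have hx1 : x * c = c * x := c.2 x (mem_zpowers x)
      have e1 := hfree 1 (by norm_num) z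
      have e2 := hfree 2 (by norm_num) z
      have e3 := hfree 1 (by norm_num) (x • z)
      rw [pow_one] at e1 e3
      rw [pow_two, mul_smul] at e2
      have f1 := smul_fix_of_comm hx1 hc'
      exact Subtype.ext (hZ.three e1.symm e3.symm e2.symm hc' f1 (smul_fix_of_comm hx1 f1))
    have := Nat.card_congr (selfEquivOrbitsQuotientProd hs)
    rw [h.card_Ω, Nat.card_prod] at this
    exact Dvd.intro_left _ this.symm
  have hA : Nat.card (MulAut (zpowers x)) = 6 := by
    rw [IsCyclic.card_mulAut, hQ]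
    decide
  have h1 := H87.relIndex_centralizer_dvd_card_mulAut (zpowers x)
  have h2 := ((centralizer (zpowers x : Set G)).subgroupOf
    (normalizer (zpowers x : Set G))).index_mul_card
  rw [Nat.card_congr (subgroupOfEquivOfLe (centralizer_le_normalizer _)).toEquiv] at h2
  have h3 : Nat.card (normalizer (zpowers x : Set G)) ∣ 6 * 18 := by
    rw [← h2]
    exact Nat.mul_dvd_mul (hA ▸ h1) hC
  have h4 := (normalizer (zpowers x : Set G)).index_mul_card
  have h5 : Nat.card (Sylow 3 G) = (normalizer (zpowers x : Set G)).index :=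
    Q.card_eq_index_normalizer
  have h6 := card_sylow_modEq_one 3 G
  rw [← h5, hG] at h4
  have h7 := Nat.le_of_dvd (by norm_num) hd
  have h8 : Nat.card (Sylow 3 G) ∈ Nat.divisors 136 := Nat.mem_divisors.2 ⟨hd, by norm_num⟩
  have h9 : Nat.divisors 136 = {1, 2, 4, 8, 17, 34, 68, 136} := by decide
  rw [h9] at h8
  simp only [Finset.mem_insert, Finset.mem_singleton] at h8
  unfold Nat.ModEq at h6
  have h10 := Nat.le_of_dvd (by norm_num) h3
  rcases hk with hk | hk <;> rw [hk] at h4 <;>
    rcases h8 with e | e | e | e | e | e | e | e <;> rw [e] at h4 h6 <;> try omega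
  have : Nat.card (normalizer (zpowers x : Set G)) = 72 := by omega
  rw [this] at h3
  omega

theorem classify (h : PrimeDeg G Ω 17 P a) (hab : a ≠ b)
    (h1 : Nat.card ↥(stabilizer G a ⊓ stabilizer G b) ≠ 1) :
    (Nat.card ↥(stabilizer G a ⊓ stabilizer G b) = 8 ∧ ∀ (K : Type*) [Field K] [Fintype K],
      Fintype.card K = 17 → Nonempty (G ≃* PSL(2, K))) ∨
    (Nat.card ↥(stabilizer G a ⊓ stabilizer G b) = 16 ∧ ∀ (K : Type*) [Field K] [Fintype K],
      Fintype.card K = 17 → Nonempty (G ≃* PGL(2, K))) := by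
  have hP := h.preZ
  have hd := hP.card_stab2_dvd hab
  have hk := hP.card_ker a
  rw [h.card_Ω] at hk
  rw [show Nat.card (hP.ker a) - 1 = 2 ^ 4 by omega] at hd
  obtain ⟨k, hk4, e⟩ := (Nat.dvd_prime_pow Nat.prime_two).1 hd
  have heven : Even (Nat.card ↥(stabilizer G a ⊓ stabilizer G b)) := by
    rw [e] at h1 ⊢
    rcases k with _ | k
    · simp at h1
    · exact Nat.even_pow.2 ⟨even_two, by omega⟩
  obtain ⟨t, ht, ht1, ht2⟩ := preZ_exists_invol hP heven
  have hlow : Nat.card Ω - 2 ≤ 2 * Nat.card ↥(stabilizer G a ⊓ stabilizer G b) := by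
    refine (preZ_card_swap_ge hP hab ht1 ht2 ht.1 ht.2).trans (Nat.mul_le_mul_left 2 ?_)
    rw [← preZ_card_pair hP hab hab.symm]
    exact Nat.card_le_card_of_injective (fun u => ⟨u.1, u.2.2,
      smul_eq_of_involution' u.2.1 u.2.2⟩) fun x y e => Subtype.ext (by simpa using e)
  have hΩ := h.card_Ω
  have h816 : Nat.card ↥(stabilizer G a ⊓ stabilizer G b) = 8 ∨
      Nat.card ↥(stabilizer G a ⊓ stabilizer G b) = 16 := by
    rw [hΩ, e] at hlow
    rw [e]
    interval_cases k <;> omega
  rcases h816 with h8 | h16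
  · refine Or.inl ⟨h8, fun K _ _ hK => ?_⟩
    obtain ⟨s, sa, sb⟩ := hP.exists_swap hab
    exact (preZ_pline hP hab h.ker_comm sa sb
      (preZ_inverts_of_even hP hab heven (by omega) sa sb)).nonempty_equiv_psl (by omega) K
      (by omega)
  · exact Or.inr ⟨h16, fun K _ _ hK =>
      preZ_nonempty_equiv_pgl_of_comm hP hab (by omega) (h.stab_comm hab) K (by omega)⟩

end

universe v

theorem main (hZ : center G = ⊥) (hNS : {c : ℕ | ∃ r : ℕ, r.Prime ∧ r ∣ Nat.card G ∧
    c = Nat.card (Sylow r G)} = ({18, 136, 153} : Set ℕ)) (F : Type v) [Field F] [Fintype F]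
    (hF : Fintype.card F = 17) : Nonempty (G ≃* PSL(2, F)) ∨ Nonempty (G ≃* PGL(2, F)) := by
  classical
  have hin : ∀ r : ℕ, r.Prime → r ∣ Nat.card G → Nat.card (Sylow r G) = 18 ∨
      Nat.card (Sylow r G) = 136 ∨ Nat.card (Sylow r G) = 153 := by
    intro r hr hd
    have : Nat.card (Sylow r G) ∈ ({18, 136, 153} : Set ℕ) := hNS ▸ ⟨r, hr, hd, rfl⟩
    simpa using this
  have hdv : ∀ c ∈ ({18, 136, 153} : Set ℕ), c ∣ Nat.card G := by
    intro c hc
    rw [← hNS] at hc
    obtain ⟨r, hr, -, rfl⟩ := hc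
    have := Fact.mk hr
    obtain ⟨R⟩ : Nonempty (Sylow r G) := inferInstance
    exact R.card_dvd_index.trans (index_dvd_card _)
  have f3 : Fact (Nat.Prime 3) := ⟨by norm_num⟩
  have d153 := hdv 153 (by simp)
  have d18 := hdv 18 (by simp)
  have n17 : Nat.card (Sylow 17 G) = 18 := by
    have h1 := card_sylow_modEq_one 17 G
    unfold Nat.ModEq at h1
    rcases hin 17 (by norm_num) (by omega) with e | e | e <;> omega
  have n2 : Nat.card (Sylow 2 G) = 153 := by
    have h1 := card_sylow_modEq_one 2 G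
    unfold Nat.ModEq at h1
    rcases hin 2 (by norm_num) (by omega) with e | e | e <;> omega
  have n3 : Nat.card (Sylow 3 G) = 136 := by
    have h1 := card_sylow_modEq_one 3 G
    unfold Nat.ModEq at h1
    rcases hin 3 (by norm_num) (by omega) with e | e | e <;> omega
  have := Fintype.ofFinite (Sylow 17 G)
  obtain ⟨P⟩ : Nonempty (Sylow 17 G) := inferInstance
  let φ := toPermHom G (Sylow 17 G)
  let f : G →* φ.range := φ.rangeRestrict
  have hf : Function.Surjective f := φ.rangeRestrict_surjective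
  have hact : ∀ (g : G) (x : Sylow 17 G), f g • x = g • x := fun _ _ => rfl
  have hker : ∀ R : Sylow 17 G, f.ker ≤ normalizer (R : Set G) := by
    intro R g hg
    rw [← Sylow.smul_eq_iff_mem_normalizer, ← hact, MonoidHom.mem_ker.1 hg, one_smul]
  have hcard : Nat.card ((P : Subgroup G).map f) = 17 := by
    obtain ⟨k, hk⟩ := IsPGroup.iff_card.1 (P.isPGroup'.map f)
    have h1 : 17 ^ k ∣ Nat.factorial 18 := by
      rw [← hk, ← n17, ← Nat.card_perm]
      exact (card_subgroup_dvd_card _).trans (card_subgroup_dvd_card _)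
    rcases k with _ | _ | k
    · exfalso
      rw [pow_zero, card_eq_one, Subgroup.map_eq_bot_iff] at hk
      have : Nontrivial (Sylow 17 G) := Finite.one_lt_card_iff_nontrivial.1 (by omega)
      obtain ⟨R, hR⟩ := exists_ne P
      have h2 := P.isPGroup'.inf_normalizer_sylow R
      rw [inf_eq_left.2 (hk.trans (hker R))] at h2
      exact hR (Sylow.ext (P.3 R.isPGroup' (h2.le.trans inf_le_right)))
    · simpa using hk
    · exfalso
      have h2 : 17 ^ 2 ∣ Nat.factorial 18 := (pow_dvd_pow 17 (by omega)).trans h1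
      norm_num [Nat.factorial] at h2
  have hPD : PrimeDeg φ.range (Sylow 17 G) 17 ((P : Subgroup G).map f) P := by
    refine ⟨hcard, ?_, ?_, ?_, ?_, n17⟩
    · rintro _ ⟨g, hg, rfl⟩
      rw [mem_stabilizer_iff, hact, Sylow.smul_eq_iff_mem_normalizer]
      exact le_normalizer hg
    · intro g hg
      obtain ⟨g, rfl⟩ := hf g
      rw [mem_stabilizer_iff, hact, Sylow.smul_eq_iff_mem_normalizer] at hg
      exact le_normalizer_map f ⟨g, hg, rfl⟩
    · intro g hg
      exact Subtype.ext (Equiv.ext hg)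
    · intro x
      obtain ⟨g, hg⟩ := exists_smul_eq G P x
      exact ⟨f g, hg⟩
  obtain ⟨b, hb, -⟩ := hPD.preZ.exists_third P P
  have hab := hb.symm
  have h1 : Nat.card ↥(stabilizer φ.range P ⊓ stabilizer φ.range b) ≠ 1 := by
    intro h1
    have := hPD.preZ.multiplyPretransitive
    obtain ⟨p, j, hp, hj, e, -⟩ := Cfsg.Agent.S0680.result φ.range (fun x => by
      have h2 := (hPD.preZ.card_stab2_eq (x.injective.ne (show (0 : Fin 2) ≠ 1 by decide)) hab).trans h1
      rw [card_eq_one] at h2
      rw [eq_bot_iff, ← h2]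
      intro g hg
      exact ⟨congrArg (fun y : Fin 2 ↪ _ => y 0) hg, congrArg (fun y : Fin 2 ↪ _ => y 1) hg⟩)
      (by rw [← Nat.card_eq_fintype_card, n17]; norm_num)
    rw [← Nat.card_eq_fintype_card, n17] at e
    have h2 : 2 ∣ p ^ j := e ▸ by norm_num
    have h3 : 3 ∣ p ^ j := e ▸ by norm_num
    have h4 := (Nat.prime_dvd_prime_iff_eq Nat.prime_two hp).1 (Nat.prime_two.dvd_of_dvd_pow h2)
    have h5 := (Nat.prime_dvd_prime_iff_eq Nat.prime_three hp).1
      (Nat.prime_three.dvd_of_dvd_pow h3)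
    omega
  have hc := classify.{_, _, 0, 0} hPD hab h1
  have h816 := hc.imp And.left And.left
  have h9 : ∃ x : φ.range, orderOf x = 9 := by
    rcases hc with ⟨-, h⟩ | ⟨-, h⟩
    · obtain ⟨e⟩ := h (ZMod 17) (by simp)
      obtain ⟨x, hx⟩ := psl_nine
      exact ⟨e.symm x, by rw [MulEquiv.orderOf_eq, hx]⟩
    · obtain ⟨e⟩ := h (ZMod 17) (by simp)
      obtain ⟨x, hx⟩ := pgl_nine
      exact ⟨e.symm x, by rw [MulEquiv.orderOf_eq, hx]⟩
  have m2 : Nat.card (Sylow 2 φ.range) = 153 := by
    rcases h816 with e | e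
    · exact two_count hPD hab (k := 1) e
    · exact two_count hPD hab (k := 2) e
  have m3 : Nat.card (Sylow 3 φ.range) = 136 :=
    three_count hPD hab h816 h9 (n3 ▸ H25.SylNum.card_map_dvd 3 hf)
  have k2 := ker_le_normalizer hf (m2.trans n2.symm)
  have k3 := ker_le_normalizer hf (m3.trans n3.symm)
  have hH := hPD.card_group hab
  have hsub : ∀ (r : ℕ) [Fact r.Prime], ¬ r ∣ Nat.card φ.range → ∀ R : Sylow r G,
      (R : Subgroup G) ≤ f.ker := by
    intro r _ hr R
    rw [← Subgroup.map_eq_bot_iff, ← card_eq_one]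
    obtain ⟨k, hk⟩ := IsPGroup.iff_card.1 (R.isPGroup'.map f)
    rcases k with _ | k
    · simpa using hk
    · exact absurd ((dvd_pow_self r (by omega)).trans (hk ▸ card_subgroup_dvd_card _)) hr
  have hK : f.ker = ⊥ := by
    refine eq_bot_of_norm_all hZ _ fun r hr hd R => ?_
    have h2 := card_sylow_modEq_one r G
    have hcases : r = 2 ∨ r = 3 ∨ r = 17 ∨ r = 5 ∨ r = 19 := by
      have hrp := hr.out
      rcases hin r hrp hd with e | e | e <;> rw [e] at h2 <;>
        have h3 := (Nat.modEq_iff_dvd' (by norm_num)).1 h2.symm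
      · have := (Nat.prime_dvd_prime_iff_eq hrp (by norm_num : Nat.Prime 17)).1 h3
        omega
      · rw [show 136 - 1 = 3 ^ 3 * 5 by norm_num, hrp.dvd_mul] at h3
        rcases h3 with h3 | h3
        · have := (Nat.prime_dvd_prime_iff_eq hrp Nat.prime_three).1 (hrp.dvd_of_dvd_pow h3)
          omega
        · have := (Nat.prime_dvd_prime_iff_eq hrp Nat.prime_five).1 h3
          omega
      · rw [show 153 - 1 = 2 ^ 3 * 19 by norm_num, hrp.dvd_mul] at h3
        rcases h3 with h3 | h3
        · have := (Nat.prime_dvd_prime_iff_eq hrp Nat.prime_two).1 (hrp.dvd_of_dvd_pow h3)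
          omega
        · have := (Nat.prime_dvd_prime_iff_eq hrp (by norm_num : Nat.Prime 19)).1 h3
          omega
    rcases hcases with rfl | rfl | rfl | rfl | rfl
    · exact k2 R
    · exact k3 R
    · exact hker R
    · exfalso
      have h3 := ppart_modEq (p := 2) (by norm_num) R fun T =>
        (hsub 5 (by rcases h816 with e | e <;> rw [hH, e] <;> norm_num) R).trans (k2 T)
      have n5 : Nat.card (Sylow 5 G) = 136 := by
        unfold Nat.ModEq at h2
        rcases hin 5 (by norm_num) hd with e | e | e <;> omega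
      rw [n5, show 136 = 2 ^ 3 * 17 by norm_num, Nat.factorization_mul (by norm_num) (by norm_num),
        Nat.Prime.factorization_pow Nat.prime_two] at h3
      simp [Nat.factorization_eq_zero_of_not_dvd, Nat.ModEq] at h3
    · exfalso
      have h3 := ppart_modEq (p := 3) (by norm_num) R fun T =>
        (hsub 19 (by rcases h816 with e | e <;> rw [hH, e] <;> norm_num) R).trans (k3 T)
      have n5 : Nat.card (Sylow 19 G) = 153 := by
        unfold Nat.ModEq at h2
        rcases hin 19 (by norm_num) hd with e | e | e <;> omega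
      rw [n5, show 153 = 3 ^ 2 * 17 by norm_num, Nat.factorization_mul (by norm_num) (by norm_num),
        Nat.Prime.factorization_pow Nat.prime_three] at h3
      simp [Nat.factorization_eq_zero_of_not_dvd, Nat.ModEq] at h3
  let e := MulEquiv.ofBijective f ⟨(MonoidHom.ker_eq_bot_iff f).1 hK, hf⟩
  rcases classify.{_, _, v, v} hPD hab h1 with ⟨-, h⟩ | ⟨-, h⟩
  · exact Or.inl ((h F hF).map e.trans)
  · exact Or.inr ((h F hF).map e.trans)

end H25.Syl17
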