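/- Excluding a Sylow number by reduction to simple groups. -/
import Cfsg.Agent.Base
import Cfsg.Agent.H25.SimpleSyl

set_option autoImplicit false

namespace H25

universe u

/-- If `n` is not a prime power, has no proper divisor `≡ 1 mod p` other than `1`, and is not the
Sylow number of a non-abelian simple group of order divisible by `p`, it is no Sylow number. -/
theorem card_sylow_ne_of_simple {p : ℕ} [hp : Fact p.Prime] {n : ℕ} (hn1 : n ≠ 1)
    (hpp : ¬ IsPrimePow n) (hdiv : ∀ a b, a * b = n → a % p = 1 → b % p = 1 → a = 1 ∨ b = 1)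
    (hs : ∀ (S : Type u) [Group S] [Finite S] [IsSimpleGroup S], ¬ IsMulCommutative S →
      p ∣ Nat.card S → Nat.card (Sylow p S) ≠ n)
    (G : Type u) [Group G] [Finite G] : Nat.card (Sylow p G) ≠ n := by
  have h1 : 1 % p = 1 := Nat.mod_eq_of_lt hp.out.one_lt
  refine (card_sylow_induction (p := p) (fun m => m ≠ n ∧ m % p = 1) ⟨hn1.symm, h1⟩ ?_ ?_
    (fun _ _ => True) (fun _ _ _ _ => trivial) (fun _ _ _ _ _ => trivial) ?_ G trivial).1
  · rintro a b ⟨ha, ha'⟩ ⟨hb, hb'⟩
    refine ⟨fun h => ?_, by rw [Nat.mul_mod, ha', hb', mul_one, h1]⟩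
    rcases hdiv a b h ha' hb' with rfl | rfl
    · exact hb (by simpa using h)
    · exact ha (by simpa using h)
  · rintro m hm hm'
    exact ⟨fun h => hpp (h ▸ hm), hm'⟩
  · intro S _ _ hS _
    refine ⟨?_, h1 ▸ card_sylow_modEq_one p S⟩
    by_cases hc : IsMulCommutative S
    · rw [card_sylow_eq_one_of_comm hc]; exact hn1.symm
    by_cases hd : p ∣ Nat.card S
    · exact hs S hc hd
    · rw [card_sylow_eq_one_of_not_dvd hd]; exact hn1.symm

theorem not_isPrimePow_mul {a b : ℕ} (ha : a.Prime) (hb : b.Prime) (hab : a ≠ b) :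
    ¬ IsPrimePow (a * b) := by
  intro h
  obtain ⟨q, -, hq⟩ := isPrimePow_iff_unique_prime_dvd.1 h
  exact hab ((hq a ⟨ha, Dvd.intro _ rfl⟩).trans (hq b ⟨hb, Dvd.intro_left _ rfl⟩).symm)

end H25
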