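import Cfsg.Agent.H78.TESpec
import Cfsg.Agent.H30.SfB

/-! STD-2E6: `JobF2a`, the centraliser of the lift of `W` normalises the big group. -/

set_option autoImplicit false
set_option linter.unusedSectionVars false
set_option maxHeartbeats 400000

namespace H25.TE2

open H98 Subgroup Cfsg.Lie H63 H65 H64 H64.SG H78.TE
open scoped commutatorElement

universe u

section up

variable {X : Type} [Group X] {G : Type u} [Group G] [Finite G] {L : Subgroup G} (c : Cov X L)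

theorem ns_up {S : Subgroup X} (hS : IsPGroup 2 S) {l : G} (hl : l ∈ L) (h : c.pi l ∈ Ns S) :
    l ∈ Ns (up c S) := mem_normalizer_of_cj_le (by
  rintro _ ⟨g, hg, rfl⟩
  obtain ⟨g1, g2, g3⟩ := (mem_up c hS).1 hg
  exact (mem_up c hS).2 ⟨mul_mem (mul_mem hl g1) (inv_mem hl), g2.conj l,
    c.pi_conj hl g1 ▸ conj_mem_of_mem_normalizer h g3⟩)

theorem lift_inv {g : X} (h : g * g = 1) : ∃ l ∈ L, l * l = 1 ∧ c.pi l = g := by
  obtain ⟨l, l1, l2, rfl⟩ := c.exists_lift2 (is2_of_sq h)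
  exact ⟨l, l1, c.sq_of_pi l1 l2 h, rfl⟩

theorem le_of_im (hp : L ≤ ⁅L, L⁆) {H : Subgroup G} (hH : H ≤ L) (h : c.im H = ⊤) : L ≤ H := by
  have h1 : ∀ a ∈ L, ∃ p ∈ H, ∃ k ∈ Cs L, k ∈ L ∧ a = p * k := fun a ha => by
    obtain ⟨p, p1, p2, p3⟩ := c.mem_im.1 (h ▸ mem_top (c.pi a))
    have h2 := mul_mem (inv_mem p2) ha
    exact ⟨p, p1, p⁻¹ * a, c.ker_cen _ h2 (by
      rw [c.pi_mul _ (inv_mem p2) _ ha, c.pi_inv p2, p3, inv_mul_cancel]), h2, by group⟩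
  refine hp.trans (commutator_le.2 fun a ha b hb => ?_)
  obtain ⟨p, p1, k, k1, -, rfl⟩ := h1 a ha
  obtain ⟨q, q1, m, m1, -, rfl⟩ := h1 b hb
  have e : ⁅p * k, q * m⁆ = p * q * p⁻¹ * q⁻¹ := by
    rw [commutatorElement_def]
    calc _ = p * (k * (q * m) * k⁻¹) * p⁻¹ * (q * m)⁻¹ := by group
      _ = p * q * (m * p⁻¹ * m⁻¹) * q⁻¹ := by rw [← k1 _ hb]; group
      _ = _ := by rw [← m1 _ (inv_mem (hH p1))]; group
  rw [e]
  exact mul_mem (mul_mem (mul_mem p1 q1) (inv_mem p1)) (inv_mem q1)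

end up

theorem cl_U : Cl SU := by decide +kernel
theorem cl_W : Cl SW := by decide +kernel
theorem cl_Q : Cl SQ := by decide +kernel
theorem W_Q : ∀ r : Rt E6, r ∈ SW → r ∈ SQ := by decide +kernel
theorem Q_U : ∀ r : Rt E6, r ∈ SQ → r ∈ SU := by decide +kernel
theorem ip_W : ∀ r ∈ SW, ∀ s ∈ SW, 0 ≤ ip r s := by decide +kernel
theorem nr_U : ∀ r ∈ SU, (∀ s ∈ SU, s ≠ ng r ∧ (ip r s = -1 → su r s ∈ SU)) ∧
    (∀ s ∈ SW, s ≠ ng r ∧ (ip r s = -1 → su r s ∈ SW)) ∧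
      ∀ s ∈ SQ, s ≠ ng r ∧ (ip r s = -1 → su r s ∈ SQ) := by decide +kernel
theorem nr_s : ∀ r : Rt E6, hN r = 1 ∨ hN r = -1 →
    (∀ s ∈ SW, s ≠ ng r ∧ (ip r s = -1 → su r s ∈ SW)) ∨
      ∀ s ∈ SQ, s ≠ ng r ∧ (ip r s = -1 → su r s ∈ SQ) := by decide +kernel
theorem ex_long : ∃ s : Rt E6, gm s = s ∧ ip (R6 71) s = -1 ∧ gm (su (R6 71) s) = su (R6 71) s := by
  decide +kernel
theorem ex_short : ∀ p : Rt E6, gm p ≠ p → ∃ r : Rt E6, gm r = r ∧ ∃ s : Rt E6, ip s r = -1 ∧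
    su s r = p ∧ ip (gm s) r = -1 ∧ su (gm s) r = gm p ∧ ip s (gm p) = -1 ∧
      gm (su s (gm p)) = su s (gm p) := by decide +kernel
theorem gm68 : gm (R6 68) ≠ R6 68 := by decide +kernel

variable {K : Type} [Field K] [CharP K 2]

theorem W_comm {a b : YY K} (ha : a ∈ gY K SW) (hb : b ∈ gY K SW) : a * b = b * a :=
  (mem_Cs_gen.2 fun r hr u => mem_Cz.1 ((SG.gen_le_iff.2 fun s hs v =>
    mem_Cz.2 (cY (ip_W r hr s hs) u v) : gY K SW ≤ Cz _) hb) : b ∈ Cs (gY K SW)) a ha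

theorem W_sq {a : YY K} (ha : a ∈ gY K SW) : a * a = 1 := by
  let A : Subgroup (YY K) :=
    { carrier := {g | g ∈ gY K SW ∧ g * g = 1}
      mul_mem' := fun {a b} ha hb => ⟨mul_mem ha.1 hb.1, by
        rw [mul_assoc, ← mul_assoc b, W_comm hb.1 ha.1, mul_assoc, hb.2, mul_one, ha.2]⟩
      one_mem' := ⟨one_mem _, one_mul _⟩
      inv_mem' := fun {a} ha => ⟨inv_mem ha.1, by rw [← mul_inv_rev, ha.2, inv_one]⟩ }
  exact ((SG.gen_le_iff.2 fun r hr u => ⟨x_mem_gen hr u, x_sq (stY K).toStN.toSt r u⟩ :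
    gY K SW ≤ A) ha).2

variable {F : Type} [Field F] [Finite F] [CharP F 2] [Finite K] {T : Qd F K} {G : Type u} [Group G]
  [Finite G] {F₀ L : Subgroup G} {t : G} {c : Cov T.X L} {y : ℕ → K → G} {C : Comp E6 y}
  (X : T.XF) (P : T.FF F₀ c t C)
include X P

theorem up_UU : up c T.U ≤ UU E6 y := fun g hg => by
  obtain ⟨g1, g2, g3⟩ := (mem_up c X.kb.isP).1 hg
  exact C.mem_gen C.isPGroup_UU (P.le g1) g2 (by
    rw [P.pp g g1]; exact (gY_SU K).le ((X.kb.gtY _ cl_U _).1 g3))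

theorem conj_t {v : G} (hv : v ∈ L) (h : v * v = 1) : IsConj t (t * v) := by
  have := c.finite_X
  obtain ⟨g, -, hg⟩ := (syl_iff.1 X.tb.syl).exists_cj_le (c.is2_pi hv (is2_of_sq h)).zpowers le_top
  obtain ⟨l, l1, rfl⟩ := c.surj g
  have h1 := mul_mem (mul_mem l1 hv) (inv_mem l1)
  obtain ⟨w, -, e⟩ := P.cob _ (up_UU X P ((mem_up c X.kb.isP).2 ⟨h1, (is2_of_sq h).conj l,
    c.pi_conj l1 hv ▸ hg (conj_mem_cj (mem_zpowers _))⟩)) (by
      rw [mul_assoc _ t, ← mul_assoc t, ← P.cfg.tL _ h1, mul_assoc _ t, P.cfg.inv.1, mul_one,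
        conj_mul, h]; simp)
  refine isConj_iff.2 ⟨l⁻¹ * w, ?_⟩
  calc _ = l⁻¹ * (w * t * w⁻¹) * l := by group
    _ = v * (l⁻¹ * (t * l)) := by rw [← e]; group
    _ = _ := by rw [← P.cfg.tL _ l1, inv_mul_cancel_left, P.cfg.tL _ hv]

theorem cen_W (ho : Odd (Nat.card (Cs (GG E6 y)))) (hU : UF (Ns (GG E6 y)) t) {m : G}
    (hm : m ∈ Ns (GG E6 y)) (h1 : m ∈ Cs (up c T.W)) :
    (Is2 (m * t * m⁻¹ * t⁻¹) → m * t * m⁻¹ * t⁻¹ ∈ up c T.W) ∧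
      (Odd (orderOf m) → m ∈ Cs (GG E6 y)) := by
  have pW : IsPGroup 2 T.W := X.kb.isP.to_le (T.gt_mono fun r hr => Q_U r (W_Q r hr))
  have t2 := is2_of_sq P.cfg.inv.1
  have wU : gen (XR E6 y) SW ≤ UU E6 y := gen_mono _ fun r hr => pos_iff.2 (cl_W.1.1 r hr)
  have tW := P.tU SW cl_W.2
  obtain ⟨ζ, z1, z4⟩ := X.cy (C.ac m) fun g hg => by
    obtain ⟨l, l1, l2, rfl⟩ := c.exists_lift2 (isPGroup_iff_is2.1 pW g hg)
    rw [← P.pp l l1]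
    exact C.ac_of_comm hm (P.le l1) (h1 l ((mem_up c pW).2 ⟨l1, l2, hg⟩)).symm
  obtain ⟨l, l1, rfl⟩ := C.exists_lift_gen z1
  have l2 := gen_le_GG _ l1
  obtain ⟨s, s1, s2, s3, h2⟩ : ∃ s, s ∈ Ns (GG E6 y) ∧ s ∈ zpowers t ∧ s * t = t * s ∧
      C.ac m = C.ac (l * s) := by
    rcases z4 with e | e
    exacts [⟨1, one_mem _, one_mem _, by simp, by rw [mul_one, C.ac_of_mem l2, e]⟩,
      ⟨t, hU.mem, mem_zpowers t, rfl, by
        rw [C.ac_mul _ (le_normalizer l2) _ hU.mem, C.ac_of_mem l2, P.ac, e]⟩]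
  have h3 := mul_mem (le_normalizer l2) s1
  have h4 : (l * s)⁻¹ * m ∈ Cs (GG E6 y) := C.ac_ker _ (mul_mem (inv_mem h3) hm) (by
    rw [C.ac_mul _ (inv_mem h3) _ hm, C.ac_inv h3, h2, inv_mul_cancel])
  refine ⟨fun h5 => ?_, fun h5 => C.ac_ker m hm (Is2.eq_one (h2 ▸ C.is2_ac h3 (isPGroup_iff_is2.1
    (isPGroup_sup_zpowers C.isPGroup_UU (P.tU _ fun _ h => pos_gm.2 h) t2) _ (mul_mem (mem_sup_left
      (wU l1)) (mem_sup_right s2)))) (odd_orderOf_of_pow h5 (by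
        rw [← C.ac_pow hm, pow_orderOf_eq_one, C.ac_one])))⟩
  generalize hk : (l * s)⁻¹ * m = k at h4
  obtain rfl : m = l * s * k := by rw [← hk]; group
  have hN := normalizer_le_normalizer_centralizer (GG E6 y)
  have k1 : s * (k * (t * k⁻¹ * t⁻¹)) * s⁻¹ ∈ Cs (GG E6 y) := conj_mem_of_mem_normalizer (hN s1)
    (mul_mem h4 (conj_mem_of_mem_normalizer (hN hU.mem) (inv_mem h4)))
  have w0 := conj_mem_of_mem_normalizer tW (inv_mem l1)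
  have w1 : l * (t * l⁻¹ * t⁻¹) ∈ gen (XR E6 y) SW := mul_mem l1 w0
  have w2 := isPGroup_iff_is2.1 C.isPGroup_UU _ (wU w1)
  have e : l * s * k * t * (l * s * k)⁻¹ * t⁻¹ =
      l * (t * l⁻¹ * t⁻¹) * (s * (k * (t * k⁻¹ * t⁻¹)) * s⁻¹) := by
    rw [k1 _ (gen_le_GG _ w1), ← mul_assoc _ l, ← k1 l l2]
    calc _ = l * s * k * t * k⁻¹ * (t⁻¹ * (t * s⁻¹)) * l⁻¹ * t⁻¹ := by group
      _ = _ := by rw [show t * s⁻¹ = s⁻¹ * t from (Commute.inv_left s3).eq.symm]; group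
  rw [e] at h5 ⊢
  have k2 := H30.Sf.eq_one_of_cen ho k1 (by
    have := w2.inv.mul h5 (by rw [inv_mul_cancel_left, k1 _ (gen_le_GG _ w1), mul_inv_cancel_right])
    rwa [inv_mul_cancel_left] at this)
  rw [k2, mul_one]
  have w3 := C.pi_mem_gen w1
  have w4 : T.ph (C.pi (l * (t * l⁻¹ * t⁻¹))) = C.pi (l * (t * l⁻¹ * t⁻¹)) := by
    refine Eq.trans ?_ (inv_eq_of_mul_eq_one_right (W_sq w3))
    rw [C.pi_mul _ l2 _ (gen_le_GG _ w0), C.ac_pi _ hU.mem _ (inv_mem l2), P.ac, C.pi_inv l2, map_mul,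
      T.ph_ph, map_inv, mul_inv_rev, inv_inv]
  have w5 := (X.kb.gtY _ cl_W ⟨_, mem_fx.2 w4⟩).2 w3
  obtain ⟨p, p1, p2, p3⟩ := c.exists_lift2 (isPGroup_iff_is2.1 pW _ w5)
  rw [← C.eq_of_pi_eq (P.le p1) (gen_le_GG _ w1) p2 w2 (by rw [P.pp p p1, p3])]
  exact (mem_up c pW).2 ⟨p1, p2, p3 ▸ w5⟩

theorem to_hi {r : Rt E6} (hr : gm r = r) : ∃ n ∈ L, ∀ a, n * y r a * n⁻¹ = y (R6 71) a := by
  obtain ⟨n, w, h, e⟩ := X.kb.tr1 r
  obtain ⟨l, l1, rfl⟩ := c.surj n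
  refine ⟨l, l1, fun a => (C.ac_x (le_normalizer (P.le l1))).1 ?_⟩
  rw [C.ac_of_mem (P.le l1), MulAut.conj_apply, P.pp l l1, h.2,
    e.resolve_right fun e => gm68 (by rw [← e, ← h.1, hr])]

theorem last {o : G} (o1 : o ∈ Cs L)
    (o2 : ∀ ζ ∈ Ns (GG E6 y), ζ ∈ Cs (up c T.U) → ζ * o * ζ⁻¹ ∈ Cs L) : o ∈ Cs (GG E6 y) := by
  obtain ⟨w, hw⟩ := X.kb.half
  have cl : ∀ {l}, l ∈ L → Commute l o := fun h => o1 _ h
  have lg : ∀ r : Rt E6, gm r = r → ∀ b, Commute (y r b) o := fun r hr b => by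
    obtain ⟨s, s1, s2, s3⟩ := ex_long
    have h0 : y s 1 ∈ L := by
      have := P.mem s w
      rwa [s1, P.st.add s s.2, hw] at this
    have h1 := o2 (y (hi E6) b)⁻¹ (inv_mem (le_normalizer (x_mem_GG _ b))) (inv_mem
      (centralizer_anti ((up_UU X P).trans (UU_le_P0 e6))
        (XR_le_Cs_P0 e6 P.st _ (x_mem_XR E6 y _ b)))) _ h0
    have h2 := e6.conj_add P.st (su_add s2) b 1
    rw [mul_one] at h2
    have h3 : Commute (y s 1 * y (su (R6 71) s) b) o := by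
      rw [← h2]
      calc _ = y (hi E6) b * (y s 1 * ((y (hi E6) b)⁻¹ * o * (y (hi E6) b)⁻¹⁻¹)) * (y (hi E6) b)⁻¹ := by
            rw [hi6]; group
        _ = _ := by rw [h1, hi6]; group
    have h4 := (cl h0).inv_left.mul_left h3
    rw [inv_mul_cancel_left] at h4
    obtain ⟨n, n1, n2⟩ := to_hi X P s3
    obtain ⟨p, p1, p2⟩ := to_hi X P hr
    have h5 := ((cl p1).inv_left.mul_left (((cl n1).mul_left h4).mul_left (cl n1).inv_left)).mul_left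
      (cl p1)
    rwa [n2, ← p2, show p⁻¹ * (p * y r b * p⁻¹) * p = y r b by group] at h5
  refine mem_Cs_gen.2 fun p _ b => ?_
  by_cases hp : gm p = p
  · exact lg p hp b
  obtain ⟨r, r1, s, s1, s2, s3, s4, s5, s6⟩ := ex_short p hp
  have h1 : ∀ u b, Commute (y p (u * b) * y (gm p) (T.σ u * b)) o := fun u b => by
    have h2 := ((cl (P.mem s u)).mul_left (lg r r1 b)).mul_left (cl (P.mem s u)).inv_left
    rw [show y s u * y (gm s) (T.σ u) * y r b * (y s u * y (gm s) (T.σ u))⁻¹ =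
      y s u * (y (gm s) (T.σ u) * y r b * (y (gm s) (T.σ u))⁻¹) * (y s u)⁻¹ by group,
      e6.conj_add P.st (su_add s3), ← conj_mul, e6.conj_add P.st (su_add s1), s2, s4,
      e6.conj_add P.st (su_add s5)] at h2
    have h3 := ((lg r r1 b).inv_left.mul_left h2).mul_left (lg _ s6 (u * (T.σ u * b))).inv_left
    rwa [mul_assoc (y r b), inv_mul_cancel_left, ← mul_assoc, mul_inv_cancel_right] at h3
  have h2 := (h1 1 (T.σ w * b)).mul_left (h1 w b)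
  rw [map_one, one_mul, mul_assoc, ← mul_assoc (y (gm p) _),
    ← e6.comm_of_nonneg P.st (ip_eq p _ ▸ ip_gm_nonneg p), mul_assoc, x_sq P.st, mul_one,
    P.st.add p p.2, ← add_mul, add_comm, hw, one_mul] at h2
  exact h2

end H25.TE2

namespace H25.TE2

open H98 Subgroup Cfsg.Lie H63 H65 H64 H64.SG H78.TE

universe u

theorem jobF2a : JobF2a.{u} := by
  intro F K _ _ _ _ _ _ T X G _ _ F₀ L t c y C P ho hU
  let R : Option Bool → Set (Rt E6) := fun j => j.elim SU fun b => cond b SW SQ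
  have hW : ∀ j, SW ⊆ R j := by
    rintro (_ | _ | _)
    exacts [fun r h => Q_U r (W_Q r h), W_Q, fun _ h => h]
  have hR : ∀ j, R j ⊆ SU := by
    rintro (_ | _ | _)
    exacts [fun _ h => h, Q_U, fun r h => Q_U r (W_Q r h)]
  have pR : ∀ j, IsPGroup 2 (T.gt (R j)) := fun j => X.kb.isP.to_le (T.gt_mono (hR j))
  have hL := P.le
  have lf : ∀ j r u, T.xs r u ∈ Ns (T.gt (R j)) → ∃ l, (l ∈ L ∧ l * l = 1 ∧
      l ∈ Ns (up c (T.gt (R j)))) ∧ c.pi l = T.xs r u := fun j r u h => by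
    obtain ⟨l, l1, l2, l3⟩ := lift_inv c (T.xs_sq r u)
    exact ⟨l, ⟨l1, l2, ns_up c (pR j) l1 (l3 ▸ h)⟩, l3⟩
  refine jobK9 hU (Cs (GG E6 y)) L none (fun j => up c (T.gt (R j)))
    (fun j => {v | v ∈ L ∧ v * v = 1 ∧ v ∈ Ns (up c (T.gt (R j)))}) ho (Cs_le_Ns _)
    (hL.trans le_normalizer) (fun l hl => mem_Cz.2 (P.cfg.tL l hl).symm)
    (fun l hl k hk => (hk l (hL hl)).symm) (fun j => up_mono c (T.gt_mono (hR j)))
    (up_le c _) (up_spec c X.kb.isP).1 (fun j v h => ⟨h.1, h.2.1, h.2.2, conj_t X P h.1 h.2.1⟩)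
    (fun j g hg => ?_) ?_ (fun j m hm h1 => ?_) (fun o o1 o2 => Cs_le_Ns _ (last X P o1 o2)) (some true)
  · obtain ⟨g1, g2, g3⟩ := (mem_up c X.kb.isP).1 hg
    refine (c.mem_of_pi_mem_im (B := closure _ ⊓ up c T.U) ((up_spec c X.kb.isP).1.to_le inf_le_right)
      g1 g2 (T.gt_le.2 (fun r hr u => ?_) g3)).1
    obtain ⟨l, l1, l2⟩ := lf j r u (by
      rcases j with _ | _ | _
      exacts [X.kb.nrm _ cl_U r (nr_U r hr).1 u, X.kb.nrm _ cl_Q r (nr_U r hr).2.2 u,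
        X.kb.nrm _ cl_W r (nr_U r hr).2.1 u])
    exact l2 ▸ c.pi_mem_im ⟨subset_closure l1, (mem_up c X.kb.isP).2
      ⟨l1.1, is2_of_sq l1.2.1, l2 ▸ T.xs_mem hr u⟩⟩ l1.1
  · refine le_of_im c P.cfg.perf ((closure_le _).2 fun v hv => (Set.mem_iUnion.1 hv).elim fun _ h => h.1)
      (top_le_iff.1 (X.tb.gen.ge.trans (T.gt_le.2 fun r hr u => ?_)))
    obtain ⟨j, hj⟩ : ∃ j, T.xs r u ∈ Ns (T.gt (R j)) := (nr_s r hr).elim
      (fun h => ⟨some true, X.kb.nrm _ cl_W r h u⟩) fun h => ⟨some false, X.kb.nrm _ cl_Q r h u⟩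
    obtain ⟨l, l1, l2⟩ := lf j r u hj
    exact l2 ▸ c.pi_mem_im (subset_closure (Set.mem_iUnion.2 ⟨j, l1⟩)) l1.1
  · have h2 := up_mono c (T.gt_mono (hW j))
    exact (cen_W X P ho hU hm (centralizer_anti h2 h1)).imp_left fun h k => h2 (h k)

end H25.TE2
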