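import Cfsg.Agent.H28.TESpec

/-! # S1308, chapter TE part 1: the job `Fu` (one full line makes all lines full). -/

set_option autoImplicit false

open Cfsg Subgroup H14 H98 H1.Gold H31.S2 H14.GC H14.FE H14.NF H28.TE
open scoped commutatorElement

namespace H25.Te1Fu

universe u

variable {G : Type u} [Group G]

/-- `y ↦ [t, y]`. -/
def ph {P E : Subgroup G} (t : G) (hc : P ≤ cen E) (hm : ∀ y ∈ P, ⁅t, y⁆ ∈ E) : P →* E :=
  MonoidHom.mk' (fun y => ⟨⁅t, (y : G)⁆, hm y y.2⟩) fun y y' => Subtype.ext (by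
    have e : ⁅t, (y' : G)⁆ * y = y * ⁅t, (y' : G)⁆ := mem_centralizer_iff.1 (hc y.2) _ (hm y' y'.2)
    show ⁅t, (y : G) * y'⁆ = ⁅t, (y : G)⁆ * ⁅t, (y' : G)⁆
    calc ⁅t, (y : G) * y'⁆ = ⁅t, (y : G)⁆ * ((y : G) * ⁅t, (y' : G)⁆) * (y : G)⁻¹ := by
          simp only [commutatorElement_def]; group
      _ = _ := by rw [← e]; group)

theorem card_ph [Finite G] {P E : Subgroup G} (f : P →* E) :
    Nat.card f.range * Nat.card f.ker = Nat.card P := by
  rw [← index_ker, index_mul_card]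

theorem el_comm {E : Subgroup G} (h : El E) : E ≤ cen E := fun a ha =>
  mem_centralizer_iff.2 fun b hb => by
    have hi : ∀ v ∈ E, v⁻¹ = v := fun v hv => inv_eq_of_mul_eq_one_right (h v hv)
    have e := hi _ (E.mul_mem ha hb)
    rw [mul_inv_rev, hi _ ha, hi _ hb] at e
    exact e

theorem jobFu : JobFu.{u} := by
  intro _ kp g1 G _ _ Q E pt cl fu Q₁ E₁ Q₂ E₂ R col ar
  have ln := cl _ _ _ _ col
  have K := kp G _ _ _ _ _ ln R ar
  by_cases hPR : PP E₁ E₂ R = R
  swap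
  · obtain ⟨x, hx, hxP, -, hxc⟩ := K.up hPR
    refine (g1 G _ _ _ _ _ ln R ar x hxc ?_).2.2.1
    by_contra hh
    push Not at hh
    exact hxP ((K.mem x hx).2 hh)
  obtain ⟨Q₁', E₁', Q₂', E₂', P, col', pg, hf⟩ := fu
  have ln' := cl _ _ _ _ col'
  have c1 := (pt _ _ col.p1).2.1
  have c1' := (pt _ _ col'.p1).2.1
  have h1 : Nat.card E * Nat.card E ≤ Nat.card P := by
    obtain ⟨d, hd, hd2⟩ := four_exists_inv ln'.fT
    have hd1 : d ≠ 1 := fun e => by
      have := inv_iff.1 hd2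
      rw [e, orderOf_one] at this
      omega
    let f := ph d (pg.le.trans inf_le_right) fun y hy => pg.cm d hd y hy
    have hr : f.range = ⊤ := eq_top_iff.2 fun r _ => by
      obtain ⟨y, hy, e⟩ := hf d hd hd1 r r.2
      exact ⟨⟨y, hy⟩, Subtype.ext e⟩
    have hk : E₁'.subgroupOf P ≤ f.ker := fun y hy => Subtype.ext
      (commutatorElement_eq_one_iff_mul_comm.2
        (mem_centralizer_iff.1 (col'.comm hd) _ hy).symm)
    have h2 := card_le_of_le hk
    rw [Nat.card_congr (subgroupOfEquivOfLe pg.lt.le).toEquiv, c1'] at h2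
    rw [← card_ph f, hr, card_top, c1']
    exact Nat.mul_le_mul_left _ h2
  have h2 : Nat.card P ≤ Nat.card R := by
    obtain ⟨g, hg⟩ := ln.v1.exists_cj ln'.v1
    obtain ⟨k, -, hk⟩ := (hg ▸ ar.syl.cj g).exists_cj_le pg.two (pg.le.trans inf_le_left)
    have := card_le_of_le hk
    rwa [card_cj, card_cj] at this
  intro t ht ht1 r hr
  have hc : PP E₁ E₂ R ≤ cen E₁ := fun y hy => by
    by_cases hyE : y ∈ E₁
    · exact el_comm ln.elE hyE
    · exact (K.tr y hy hyE).ce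
  let f := ph t hc fun y hy => (K.mem y hy.1).1 hy t ht
  have hk : f.ker ≤ E₁.subgroupOf (PP E₁ E₂ R) := fun y hy =>
    K.ct t ht ht1 y y.2.1
      (commutatorElement_eq_one_iff_mul_comm.1 (congrArg Subtype.val hy :)).symm
  have h3 := card_le_of_le hk
  rw [Nat.card_congr (subgroupOfEquivOfLe K.lt.le).toEquiv, c1] at h3
  have h4 := card_ph f
  have h5 : Nat.card ↥(PP E₁ E₂ R) = Nat.card R := by rw [hPR]
  have h6 : Nat.card E ≤ Nat.card f.range :=
    Nat.le_of_mul_le_mul_right (c := Nat.card E)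
      (h1.trans (h2.trans (by rw [← h5, ← h4]; exact Nat.mul_le_mul_left _ h3))) Nat.card_pos
  have h7 : f.range = ⊤ := eq_of_le_of_card_ge le_top (by rw [card_top, c1]; exact h6)
  obtain ⟨y, hy⟩ : (⟨r, hr⟩ : E₁) ∈ f.range := h7 ▸ mem_top _
  exact ⟨y, y.2, congrArg Subtype.val hy⟩

end H25.Te1Fu
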