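import Cfsg.Agent.H96.U2ISpec

/-! S3275, chapter U2I, slot B0: commutators in `R` lie in `D₀`. -/

set_option autoImplicit false

namespace H25.U2IB0

open Subgroup Cfsg H98 H48.DP H57.DPC H48.DP2 H96.U2I
open scoped commutatorElement

universe u

variable {G : Type u} [Group G] {M Q T R : Subgroup G} {y : G}

theorem yy (c : Cx M Q T R y) : y * y = y⁻¹ := by
  have h := pow_orderOf_eq_one y
  rw [c.y3, pow_succ, pow_two] at h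
  exact eq_inv_of_mul_eq_one_left h

theorem up (c : Cx M Q T R y) {r : G} (hr : r ∈ R) : y * r * y⁻¹ ∈ R :=
  conj_mem_of_mem_normalizer c.yR hr

theorem dn (c : Cx M Q T R y) {r : G} (hr : r ∈ R) : y⁻¹ * r * y ∈ R :=
  conj_mem_of_mem_normalizer' c.yR hr

theorem cA (c : Cx M Q T R y) {t a : G} (ht : t ∈ T) (ha : a ∈ Q ⊓ R) : t * a * t⁻¹ ∈ Q ⊓ R :=
  ⟨conj_mem_of_mem_normalizer (c.MQ (c.TM ht)) ha.1, conj_mem_of_mem_normalizer (c.TR ht) ha.2⟩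

theorem qc (c : Cx M Q T R y) {q w : G} (hq : q ∈ Q) (hw : w ∈ R) : ⁅q, w⁆ ∈ Q ⊓ R := by
  refine ⟨?_, ?_⟩
  · have e : ⁅q, w⁆ = q * (w * q⁻¹ * w⁻¹) := by rw [commutatorElement_def]; group
    rw [e]
    exact mul_mem hq (conj_mem_of_mem_normalizer (c.MQ (c.TM (c.RT hw))) (inv_mem hq))
  · exact R.mul_mem (conj_mem_of_mem_normalizer (c.TR (c.QT hq)) hw) (R.inv_mem hw)

theorem rho (c : Cx M Q T R y) {q q' : G} (hq : q ∈ T) (hq' : q' ∈ T) (nq : q ∉ R) (nq' : q' ∉ R) :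
    ∃ ρ ∈ R, q * (y * q' * y⁻¹) = ρ * y := by
  refine ⟨(q * y * q⁻¹ * y) * (y⁻¹ * (q * q') * y),
    mul_mem (c.inv q hq nq) (dn c (c.mul q hq q' hq' nq nq')), ?_⟩
  calc q * (y * q' * y⁻¹) = q * y * q' * (y * y) := by rw [yy c]; group
    _ = _ := by group

theorem mem_D0 {d : G} : d ∈ D0 Q R y ↔ d ∈ Q ⊓ R ∧ y⁻¹ * d * y ∈ Q ⊓ R := by
  rw [← mem_cj]; rfl

theorem gen (c : Cx M Q T R y) :
    ∀ r ∈ R, ∃ a ∈ Q ⊓ R, ∃ b ∈ Q ⊓ R, r = a * (y * b * y⁻¹) := by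
  intro r hr
  obtain ⟨q, hq, nq⟩ := c.nQ
  obtain ⟨ρ, hρ, e⟩ := rho c (c.QT hq) (c.QT hq) nq nq
  obtain ⟨w, hw, h⟩ := c.fp.surj ρ hρ r hr
  have hb := qc c hq (dn c hw)
  refine ⟨_, qc c hq (mul_mem (up c hb.2) hw), _, hb, ?_⟩
  rw [h, ← e]
  simp only [commutatorElement_def]
  group

theorem dy (c : Cx M Q T R y) : ∀ d ∈ D0 Q R y, y * d * y⁻¹ ∈ D0 Q R y := by
  intro d hd
  rw [mem_D0] at hd ⊢
  refine ⟨?_, ?_⟩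
  · have h := c.fp.f1 d hd.1.2
    have e : y * d * y⁻¹ = d⁻¹ * (d * (y * d * y⁻¹) * (y⁻¹ * d * y)) * (y⁻¹ * d * y)⁻¹ := by group
    rw [e, h, mul_one]
    exact mul_mem (inv_mem hd.1) (inv_mem hd.2)
  · have e : y⁻¹ * (y * d * y⁻¹) * y = d := by group
    rw [e]
    exact hd.1

theorem star (c : Cx M Q T R y) {d : G} (hd : d ∈ Q ⊓ R) (hd' : y * d * y⁻¹ ∈ Q ⊓ R) :
    d ∈ D0 Q R y := by
  rw [mem_D0]
  refine ⟨hd, ?_⟩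
  have h := c.fp.f1 d hd.2
  rw [eq_inv_of_mul_eq_one_right h]
  exact inv_mem (mul_mem hd hd')

theorem cD (c : Cx M Q T R y) {r d : G} (hr : r ∈ R) (hd : d ∈ D0 Q R y) :
    r * d * r⁻¹ ∈ D0 Q R y := by
  rw [mem_D0] at hd ⊢
  refine ⟨cA c (c.RT hr) hd.1, ?_⟩
  have e : y⁻¹ * (r * d * r⁻¹) * y = (y⁻¹ * r * y) * (y⁻¹ * d * y) * (y⁻¹ * r * y)⁻¹ := by group
  rw [e]
  exact cA c (c.RT (dn c hr)) hd.2

theorem flip {a b : G} (h : ⁅a, b⁆ ∈ D0 Q R y) : ⁅b, a⁆ ∈ D0 Q R y := by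
  rw [← commutatorElement_inv]
  exact inv_mem h

theorem c01 (c : Cx M Q T R y) {a b : G} (ha : a ∈ Q ⊓ R) (hb : b ∈ Q ⊓ R) :
    ⁅a, y * b * y⁻¹⁆ ∈ D0 Q R y := by
  rw [mem_D0]
  refine ⟨qc c ha.1 (up c hb.2), ?_⟩
  have e : y⁻¹ * ⁅a, y * b * y⁻¹⁆ * y = ⁅b, y⁻¹ * a * y⁆⁻¹ := by
    simp only [commutatorElement_def]
    group
  rw [e]
  exact inv_mem (qc c hb.1 (dn c ha.2))

theorem c00 (c : Cx M Q T R y) {a b : G} (ha : a ∈ Q ⊓ R) (hb : b ∈ Q ⊓ R) :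
    ⁅a, b⁆ ∈ D0 Q R y := by
  have h := dy c _ (c01 c ha hb)
  rw [c.fp.f2 a ha.2 b hb.2] at h
  have e : y * (y⁻¹ * ⁅a, b⁆ * y) * y⁻¹ = ⁅a, b⁆ := by group
  rwa [e] at h

theorem c11 (c : Cx M Q T R y) {a b : G} (ha : a ∈ Q ⊓ R) (hb : b ∈ Q ⊓ R) :
    ⁅y * a * y⁻¹, y * b * y⁻¹⁆ ∈ D0 Q R y := by
  have e : ⁅y * a * y⁻¹, y * b * y⁻¹⁆ = y * ⁅a, b⁆ * y⁻¹ := by
    simp only [commutatorElement_def]
    group
  rw [e]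
  exact dy c _ (c00 c ha hb)

theorem expand (c : Cx M Q T R y) {z : G} (h0 : ∀ a ∈ Q ⊓ R, ⁅a, z⁆ ∈ D0 Q R y)
    (h1 : ∀ a ∈ Q ⊓ R, ⁅y * a * y⁻¹, z⁆ ∈ D0 Q R y) : ∀ r ∈ R, ⁅r, z⁆ ∈ D0 Q R y := by
  intro r hr
  obtain ⟨a, ha, b, hb, rfl⟩ := gen c r hr
  have e : ⁅a * (y * b * y⁻¹), z⁆ = a * ⁅y * b * y⁻¹, z⁆ * a⁻¹ * ⁅a, z⁆ := by
    simp only [commutatorElement_def]
    group
  rw [e]
  exact mul_mem (cD c ha.2 (h1 b hb)) (h0 a ha)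

theorem com (c : Cx M Q T R y) : ∀ a ∈ R, ∀ b ∈ R, ⁅a, b⁆ ∈ D0 Q R y := by
  intro a ha b hb
  refine expand c (fun x hx => flip ?_) (fun x hx => flip ?_) a ha
  · exact expand c (fun w hw => c00 c hw hx) (fun w hw => flip (c01 c hx hw)) b hb
  · exact expand c (fun w hw => c01 c hw hx) (fun w hw => c11 c hw hx) b hb

theorem sur (c : Cx M Q T R y) :
    ∀ a ∈ Q ⊓ R, ∀ q ∈ Q, q ∉ R → ⁅q, y * a * y⁻¹⁆ * a⁻¹ ∈ D0 Q R y := by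
  intro a ha q hq nq
  refine star c (mul_mem (qc c hq (up c ha.2)) (inv_mem ha)) ?_
  have hρ := up c (c.inv q (c.QT hq) nq)
  have h1 := cA c (c.RT hρ) (cA c (c.QT hq) ha)
  have h := c.fp.f1 a ha.2
  have e : y * (⁅q, y * a * y⁻¹⁆ * a⁻¹) * y⁻¹ =
      (y * (q * y * q⁻¹ * y) * y⁻¹) * (q * a * q⁻¹) * (y * (q * y * q⁻¹ * y) * y⁻¹)⁻¹ *
        (a * (y * a * y⁻¹) * ((y * y) * a * (y * y)⁻¹))⁻¹ * a := by
    simp only [commutatorElement_def]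
    group
  rw [e, yy c, inv_inv, h, inv_one, mul_one]
  exact mul_mem h1 ha

theorem jobB0 : JobB0.{u} := by
  intro G _ _ M Q T R y c
  refine ⟨gen c, dy c, com c, sur c, ?_⟩
  intro w hw q hq q' hq' nq nq' h1 h2
  obtain ⟨ρ, hρ, e⟩ := rho c hq hq' nq nq'
  exact c.fp.fpf ρ hρ w hw (e ▸ h1.mul_left h2)

end H25.U2IB0
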